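import Mathlib
import Cfsg.Agent.Lib.Helper13.PGroup

/-!
# The Baer–Suzuki theorem (helper21), following Alperin–Lyons

* `baer_suzuki_set`: a conjugation-invariant subset `K` of a finite group, any two elements of
  which generate a `p`-group, generates a (normal) `p`-subgroup.
* `baer_suzuki_subgroup`: the subgroup form.
* `baer_suzuki_element`: the element form.
-/

set_option autoImplicit false

namespace Cfsg.Agent.Lib.Helper21

open scoped Pointwise

variable {G : Type*} [Group G]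

/-- If conjugation by `g` and by `g⁻¹` both map `E` into `E`, then `g` normalizes `E`. -/
theorem mem_normalizer_of_conj_mem {E : Subgroup G} {g : G}
    (h1 : ∀ e ∈ E, g * e * g⁻¹ ∈ E) (h2 : ∀ e ∈ E, g⁻¹ * e * g ∈ E) :
    g ∈ Subgroup.normalizer (E : Set G) := by
  rw [Subgroup.mem_normalizer_iff]
  intro e
  constructor
  · exact h1 e
  · intro h
    have := h2 _ h
    convert this using 1; group

/-- Conjugation by `g` maps `closure D` into `E` when it maps `D` into `E`. -/
theorem conj_closure_mem {D : Set G} {E : Subgroup G} {g : G}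
    (h : ∀ d ∈ D, g * d * g⁻¹ ∈ E) : ∀ e ∈ Subgroup.closure D, g * e * g⁻¹ ∈ E := by
  intro e he
  induction he using Subgroup.closure_induction with
  | mem x hx => exact h x hx
  | one => simp
  | mul x y _ _ hx hy =>
    have : g * (x * y) * g⁻¹ = (g * x * g⁻¹) * (g * y * g⁻¹) := by group
    rw [this]; exact E.mul_mem hx hy
  | inv x _ hx =>
    have : g * x⁻¹ * g⁻¹ = (g * x * g⁻¹)⁻¹ := by group
    rw [this]; exact E.inv_mem hx

variable [Finite G] {p : ℕ} [Fact p.Prime]

/-- Key lemma: `P` a `p`-subgroup, `S ⊆ P` a `P`-invariant subset, `E ≤ P` generated by `S ∩ E`,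
and `S ⊄ E`.  Then some element of `S` outside `E` normalizes `E`. -/
theorem exists_mem_normalizer_of_not_subset (P : Subgroup G) (hP : IsPGroup p P) (S : Set G)
    (hSP : S ⊆ (P : Set G)) (hinv : ∀ g ∈ P, ∀ s ∈ S, g * s * g⁻¹ ∈ S) (E : Subgroup G) (hEP : E ≤ P)
    (hE : E = Subgroup.closure (S ∩ (E : Set G))) (hne : ∃ s ∈ S, s ∉ E) :
    ∃ x ∈ S, x ∉ E ∧ x ∈ Subgroup.normalizer (E : Set G) := by
  by_contra hcon
  push Not at hcon
  -- hcon : ∀ x ∈ S, x ∉ E → x ∉ normalizer E
  set N1 : Subgroup G := P ⊓ Subgroup.normalizer (E : Set G) with hN1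
  have hEN1 : E ≤ N1 := le_inf hEP Subgroup.le_normalizer
  have key : ∀ g ∈ P ⊓ Subgroup.normalizer (N1 : Set G), ∀ e ∈ E, g * e * g⁻¹ ∈ E := by
    intro g hg
    have hgP : g ∈ P := hg.1
    have hgN : g ∈ Subgroup.normalizer (N1 : Set G) := hg.2
    intro e he
    rw [hE] at he
    refine conj_closure_mem ?_ e he
    intro d hd
    have hdS : d ∈ S := hd.1
    have hdE : d ∈ E := hd.2
    have h1 : g * d * g⁻¹ ∈ S := hinv g hgP d hdS
    have h2 : g * d * g⁻¹ ∈ N1 := by
      rw [Subgroup.mem_normalizer_iff] at hgN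
      exact (hgN d).mp (hEN1 hdE)
    by_contra h3
    exact hcon _ h1 h3 h2.2
  have hle : P ⊓ Subgroup.normalizer (N1 : Set G) ≤ N1 := by
    intro g hg
    refine ⟨hg.1, ?_⟩
    apply mem_normalizer_of_conj_mem (key g hg)
    have hg' : g⁻¹ ∈ P ⊓ Subgroup.normalizer (N1 : Set G) := Subgroup.inv_mem _ hg
    intro e he
    have := key g⁻¹ hg' e he
    simpa using this
  have hN1P : N1 = P := by
    by_contra hne'
    have hlt : N1 < P := lt_of_le_of_ne inf_le_left hne'
    have := Cfsg.Agent.Lib.Helper13.lt_inf_normalizer_of_lt P N1 hP hlt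
    exact absurd (lt_of_lt_of_le this hle) (lt_irrefl _)
  obtain ⟨s, hsS, hsE⟩ := hne
  have hsN : s ∈ N1 := by rw [hN1P]; exact hSP hsS
  exact hcon s hsS hsE hsN.2

/-- The number of elements of a conjugation-invariant set lying in a Sylow subgroup does not
depend on the Sylow subgroup. -/
theorem ncard_inter_sylow_eq (K : Set G) (hK : ∀ g : G, ∀ k ∈ K, g * k * g⁻¹ ∈ K)
    (P Q : Sylow p G) :
    (K ∩ ((P : Subgroup G) : Set G)).ncard = (K ∩ ((Q : Subgroup G) : Set G)).ncard := by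
  obtain ⟨g, rfl⟩ := MulAction.exists_smul_eq G P Q
  have : K ∩ (((g • P : Sylow p G) : Subgroup G) : Set G) =
      (fun x => g * x * g⁻¹) '' (K ∩ ((P : Subgroup G) : Set G)) := by
    ext y
    simp only [Set.mem_inter_iff, SetLike.mem_coe, Set.mem_image]
    constructor
    · rintro ⟨hyK, hyP⟩
      rw [Sylow.coe_subgroup_smul, Subgroup.mem_pointwise_smul_iff_inv_smul_mem] at hyP
      simp only [MulAut.smul_def, MulAut.conj_inv_apply] at hyP
      refine ⟨g⁻¹ * y * g, ⟨?_, hyP⟩, by group⟩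
      have := hK g⁻¹ y hyK
      simpa using this
    · rintro ⟨x, ⟨hxK, hxP⟩, rfl⟩
      refine ⟨hK g x hxK, ?_⟩
      rw [Sylow.coe_subgroup_smul, Subgroup.mem_pointwise_smul_iff_inv_smul_mem]
      simp only [MulAut.smul_def, MulAut.conj_inv_apply]
      convert hxP using 1; group
  rw [this]
  symm
  apply Set.ncard_image_of_injective
  intro a b hab
  simpa using hab

/-- **Baer–Suzuki**, set form. -/
theorem baer_suzuki_set (K : Set G) (hK : ∀ g : G, ∀ k ∈ K, g * k * g⁻¹ ∈ K)
    (h2 : ∀ a ∈ K, ∀ b ∈ K, IsPGroup p (Subgroup.closure ({a, b} : Set G))) :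
    IsPGroup p (Subgroup.closure K) := by
  classical
  by_cases hall : ∀ P Q : Sylow p G,
      K ∩ ((P : Subgroup G) : Set G) = K ∩ ((Q : Subgroup G) : Set G)
  · obtain ⟨P⟩ : Nonempty (Sylow p G) := inferInstance
    have hKP : K ⊆ ((P : Subgroup G) : Set G) := by
      intro k hk
      have h1 := h2 k hk k hk
      rw [Set.pair_eq_singleton, ← Subgroup.zpowers_eq_closure] at h1
      obtain ⟨Q, hQ⟩ := h1.exists_le_sylow
      have : k ∈ K ∩ ((Q : Subgroup G) : Set G) := ⟨hk, hQ (Subgroup.mem_zpowers k)⟩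
      rw [← hall P Q] at this
      exact this.2
    exact P.2.to_le ((Subgroup.closure_le _).mpr hKP)
  · exfalso
    push Not at hall
    let s : Set (Sylow p G × Sylow p G) :=
      {PQ | K ∩ ((PQ.1 : Subgroup G) : Set G) ≠ K ∩ ((PQ.2 : Subgroup G) : Set G)}
    have hsne : s.Nonempty := by
      obtain ⟨P, Q, h⟩ := hall
      exact ⟨(P, Q), h⟩
    obtain ⟨⟨P, Q⟩, hPQ, hmax⟩ := Set.exists_max_image s
      (fun PQ => (K ∩ ((PQ.1 : Subgroup G) : Set G) ∩ ((PQ.2 : Subgroup G) : Set G)).ncard)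
      (Set.toFinite s) hsne
    simp only [s, Set.mem_ofPred_eq] at hPQ
    simp only at hmax
    set D : Set G := K ∩ ((P : Subgroup G) : Set G) ∩ ((Q : Subgroup G) : Set G) with hD
    set E : Subgroup G := Subgroup.closure D with hE
    have hDE : D ⊆ (E : Set G) := Subgroup.subset_closure
    have hEP : E ≤ (P : Subgroup G) := (Subgroup.closure_le _).mpr fun d hd => hd.1.2
    have hEQ : E ≤ (Q : Subgroup G) := (Subgroup.closure_le _).mpr fun d hd => hd.2
    have hcard := ncard_inter_sylow_eq K hK P Q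
    -- generic step
    have step : ∀ (P' Q' : Sylow p G), E ≤ (P' : Subgroup G) → E ≤ (Q' : Subgroup G) →
        D = K ∩ ((P' : Subgroup G) : Set G) ∩ ((Q' : Subgroup G) : Set G) →
        K ∩ ((P' : Subgroup G) : Set G) ≠ K ∩ ((Q' : Subgroup G) : Set G) →
        ∃ x ∈ K ∩ ((P' : Subgroup G) : Set G), x ∉ E ∧ x ∈ Subgroup.normalizer (E : Set G) := by
      intro P' Q' hEP' hEQ' hD' hne
      have hsub : D ⊆ K ∩ ((P' : Subgroup G) : Set G) := by
        rw [hD']; exact Set.inter_subset_left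
      have hinterE : (K ∩ ((P' : Subgroup G) : Set G)) ∩ (E : Set G) = D := by
        apply Set.Subset.antisymm
        · rintro z ⟨⟨hzK, hzP⟩, hzE⟩
          rw [hD']
          exact ⟨⟨hzK, hzP⟩, hEQ' hzE⟩
        · intro z hz
          exact ⟨hsub hz, hDE hz⟩
      apply exists_mem_normalizer_of_not_subset (P' : Subgroup G) P'.2 _ Set.inter_subset_right
      · rintro g hg z ⟨hzK, hzP⟩
        exact ⟨hK g z hzK, (P' : Subgroup G).mul_mem ((P' : Subgroup G).mul_mem hg hzP)
          ((P' : Subgroup G).inv_mem hg)⟩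
      · exact hEP'
      · rw [hinterE]
      · by_contra hcon
        push Not at hcon
        -- K ∩ P' ⊆ E so K ∩ P' = D ⊆ K ∩ Q'
        have h1 : K ∩ ((P' : Subgroup G) : Set G) ⊆ K ∩ ((Q' : Subgroup G) : Set G) := by
          intro z hz
          exact ⟨hz.1, hEQ' (hcon z hz)⟩
        have h3 : (K ∩ ((Q' : Subgroup G) : Set G)).ncard ≤ (K ∩ ((P' : Subgroup G) : Set G)).ncard :=
          (ncard_inter_sylow_eq K hK P' Q').ge
        exact hne (Set.eq_of_subset_of_ncard_le h1 h3 (Set.toFinite _))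
    obtain ⟨x, hxKP, hxE, hxN⟩ := step P Q hEP hEQ rfl hPQ
    obtain ⟨y, hyKQ, hyE, hyN⟩ := step Q P hEQ hEP (by rw [hD]; ext z; simp only [Set.mem_inter_iff]; tauto) (Ne.symm hPQ)
    -- the p-group generated by E, x, y
    have hxy : IsPGroup p (Subgroup.closure ({x, y} : Set G)) := h2 x hxKP.1 y hyKQ.1
    have hle : Subgroup.closure ({x, y} : Set G) ≤ Subgroup.normalizer (E : Set G) := by
      rw [Subgroup.closure_le]
      intro z hz
      rcases hz with rfl | rfl
      · exact hxN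
      · exact hyN
    have hEp : IsPGroup p E := P.2.to_le hEP
    have hsup : IsPGroup p (Subgroup.closure ({x, y} : Set G) ⊔ E : Subgroup G) :=
      IsPGroup.to_sup_of_normal_right' hxy hEp hle
    obtain ⟨R, hR⟩ := hsup.exists_le_sylow
    have hxR : x ∈ (R : Subgroup G) := hR (Subgroup.mem_sup_left (Subgroup.subset_closure (by simp)))
    have hyR : y ∈ (R : Subgroup G) := hR (Subgroup.mem_sup_left (Subgroup.subset_closure (by simp)))
    have hER : E ≤ (R : Subgroup G) := le_sup_right.trans hR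
    have hfin : ∀ A : Set G, A.Finite := fun A => Set.toFinite A
    -- K ∩ P = K ∩ R
    have hPR : K ∩ ((P : Subgroup G) : Set G) = K ∩ ((R : Subgroup G) : Set G) := by
      by_contra hne
      have h1 := hmax (P, R) hne
      simp only at h1
      have hss : D ⊂ K ∩ ((P : Subgroup G) : Set G) ∩ ((R : Subgroup G) : Set G) := by
        refine ⟨fun z hz => ⟨hz.1, hER (hDE hz)⟩, ?_⟩
        intro hcon
        exact hxE (hDE (hcon ⟨hxKP, hxR⟩))
      have := Set.ncard_lt_ncard hss (hfin _)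
      omega
    have hQR : K ∩ ((Q : Subgroup G) : Set G) = K ∩ ((R : Subgroup G) : Set G) := by
      by_contra hne
      have h1 := hmax (Q, R) hne
      simp only at h1
      have hss : D ⊂ K ∩ ((Q : Subgroup G) : Set G) ∩ ((R : Subgroup G) : Set G) := by
        refine ⟨fun z hz => ⟨⟨hz.1.1, hz.2⟩, hER (hDE hz)⟩, ?_⟩
        intro hcon
        exact hyE (hDE (hcon ⟨hyKQ, hyR⟩))
      have := Set.ncard_lt_ncard hss (hfin _)
      omega
    exact hPQ (hPR.trans hQR.symm)

omit [Finite G] in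
/-- The closure of a conjugation-invariant set is normal. -/
theorem closure_normal_of_conj_invariant (K : Set G) (hK : ∀ g : G, ∀ k ∈ K, g * k * g⁻¹ ∈ K) :
    (Subgroup.closure K).Normal := by
  constructor
  intro n hn g
  exact conj_closure_mem (E := Subgroup.closure K) (fun d hd => Subgroup.subset_closure (hK g d hd)) n hn

/-- **Baer–Suzuki**, subgroup form: a `p`-subgroup `X` generating a `p`-group with each of its
conjugates lies in a normal `p`-subgroup. -/
theorem baer_suzuki_subgroup (X : Subgroup G)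
    (h : ∀ g : G, IsPGroup p ↥(X ⊔ X.map (MulAut.conj g).toMonoidHom)) :
    ∃ N : Subgroup G, N.Normal ∧ IsPGroup p N ∧ X ≤ N := by
  let K : Set G := {k | ∃ g : G, ∃ x ∈ X, k = g * x * g⁻¹}
  have hK : ∀ g : G, ∀ k ∈ K, g * k * g⁻¹ ∈ K := by
    rintro g k ⟨a, x, hx, rfl⟩
    exact ⟨g * a, x, hx, by group⟩
  have h2 : ∀ a ∈ K, ∀ b ∈ K, IsPGroup p (Subgroup.closure ({a, b} : Set G)) := by
    rintro a ⟨g, x, hx, rfl⟩ b ⟨k, y, hy, rfl⟩
    -- closure ≤ conj_g (X ⊔ X^(g⁻¹k))
    have hle : Subgroup.closure ({g * x * g⁻¹, k * y * k⁻¹} : Set G) ≤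
        (X ⊔ X.map (MulAut.conj (g⁻¹ * k)).toMonoidHom).map (MulAut.conj g).toMonoidHom := by
      rw [Subgroup.closure_le]
      intro z hz
      rcases hz with rfl | rfl
      · exact ⟨x, Subgroup.mem_sup_left hx, by simp⟩
      · refine ⟨g⁻¹ * k * y * (g⁻¹ * k)⁻¹, Subgroup.mem_sup_right ⟨y, hy, rfl⟩, ?_⟩
        simp only [MulEquiv.coe_toMonoidHom, MulAut.conj_apply]
        group
    exact ((h (g⁻¹ * k)).map _).to_le hle
  refine ⟨Subgroup.closure K, closure_normal_of_conj_invariant K hK, baer_suzuki_set K hK h2, ?_⟩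
  intro x hx
  exact Subgroup.subset_closure ⟨1, x, hx, by simp⟩

/-- **Baer–Suzuki**, element form. -/
theorem baer_suzuki_element (x : G)
    (h : ∀ g : G, IsPGroup p (Subgroup.closure ({x, g * x * g⁻¹} : Set G))) :
    ∃ N : Subgroup G, N.Normal ∧ IsPGroup p N ∧ x ∈ N := by
  let K : Set G := {k | ∃ g : G, k = g * x * g⁻¹}
  have hK : ∀ g : G, ∀ k ∈ K, g * k * g⁻¹ ∈ K := by
    rintro g k ⟨a, rfl⟩
    exact ⟨g * a, by group⟩
  have h2 : ∀ a ∈ K, ∀ b ∈ K, IsPGroup p (Subgroup.closure ({a, b} : Set G)) := by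
    rintro a ⟨g, rfl⟩ b ⟨k, rfl⟩
    have hle : Subgroup.closure ({g * x * g⁻¹, k * x * k⁻¹} : Set G) ≤
        (Subgroup.closure ({x, (g⁻¹ * k) * x * (g⁻¹ * k)⁻¹} : Set G)).map (MulAut.conj g).toMonoidHom := by
      rw [Subgroup.closure_le]
      intro z hz
      rcases hz with rfl | rfl
      · exact ⟨x, Subgroup.subset_closure (by simp), by simp⟩
      · refine ⟨g⁻¹ * k * x * (g⁻¹ * k)⁻¹, Subgroup.subset_closure (by simp), ?_⟩
        simp only [MulEquiv.coe_toMonoidHom, MulAut.conj_apply]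
        group
    exact ((h (g⁻¹ * k)).map _).to_le hle
  refine ⟨Subgroup.closure K, closure_normal_of_conj_invariant K hK, baer_suzuki_set K hK h2, ?_⟩
  exact Subgroup.subset_closure ⟨1, by simp⟩

end Cfsg.Agent.Lib.Helper21
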