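import Mathlib

set_option autoImplicit false

namespace Cfsg.Agent.Lib.Helper21

open Finset

section
variable {G : Type*} [Group G] [Fintype G] [DecidableEq G]

/-- the size of a conjugacy class is the index of the centralizer -/
theorem card_isConj_eq_index (y0 : G) :
    #{y : G | ConjClasses.mk y = ConjClasses.mk y0} = (Subgroup.centralizer ({y0} : Set G)).index := by
  classical
  have h1 := MulAction.card_orbit_mul_card_stabilizer_eq_card_group (ConjAct G) y0
  have h2 := Subgroup.index_mul_card (Subgroup.centralizer ({y0} : Set G))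
  rw [Subgroup.nat_card_centralizer_nat_card_stabilizer, Nat.card_eq_fintype_card,
    Nat.card_eq_fintype_card] at h2
  have h3 : Fintype.card (MulAction.orbit (ConjAct G) y0) =
      #{y : G | ConjClasses.mk y = ConjClasses.mk y0} := by
    rw [← Set.toFinset_card]
    congr 1
    ext y
    simp only [Set.mem_toFinset, mem_filter, mem_univ, true_and]
    rw [ConjAct.orbit_eq_carrier_conjClasses, ConjClasses.mem_carrier_iff_mk_eq]
  rw [h3] at h1
  have h4 : Fintype.card (ConjAct G) = Fintype.card G := rfl
  rw [h4, ← h2] at h1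
  have hpos : 0 < Fintype.card (MulAction.stabilizer (ConjAct G) y0) := Fintype.card_pos
  exact Nat.eq_of_mul_eq_mul_right hpos h1

/-- class-partition divisibility -/
theorem dvd_sum_of_conj_invariant (T : G → Prop) [DecidablePred T] (g : G → ℕ) (m : ℕ)
    (hT : ∀ h y : G, T y → T (h * y * h⁻¹)) (hg : ∀ h y : G, g (h * y * h⁻¹) = g y)
    (hm : ∀ y : G, T y → m ∣ (Subgroup.centralizer ({y} : Set G)).index * g y) :
    m ∣ ∑ y ∈ univ.filter T, g y := by
  classical
  rw [← Finset.sum_fiberwise (univ.filter T) (ConjClasses.mk) g]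
  apply Finset.dvd_sum
  intro c _
  induction c using Quotient.inductionOn with
  | _ y0 =>
  change _ ∣ ∑ y ∈ (univ.filter T).filter (fun y => ConjClasses.mk y = ConjClasses.mk y0), g y
  by_cases hy0 : T y0
  · have h1 : ∀ y ∈ (univ.filter T).filter (fun y => ConjClasses.mk y = ConjClasses.mk y0), g y = g y0 := by
      intro y hy
      rw [mem_filter] at hy
      obtain ⟨h, hh⟩ := isConj_iff.mp (ConjClasses.mk_eq_mk_iff_isConj.mp hy.2.symm)
      rw [← hg h y0, hh]
    rw [Finset.sum_congr rfl h1, Finset.sum_const, smul_eq_mul]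
    have h2 : (univ.filter T).filter (fun y => ConjClasses.mk y = ConjClasses.mk y0) =
        univ.filter (fun y : G => ConjClasses.mk y = ConjClasses.mk y0) := by
      ext y
      simp only [mem_filter, mem_univ, true_and, and_iff_right_iff_imp]
      intro hy
      obtain ⟨h, hh⟩ := isConj_iff.mp (ConjClasses.mk_eq_mk_iff_isConj.mp hy.symm)
      have := hT h y0 hy0
      rwa [hh] at this
    rw [h2, card_isConj_eq_index]
    exact hm y0 hy0
  · have h2 : (univ.filter T).filter (fun y => ConjClasses.mk y = ConjClasses.mk y0) = ∅ := by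
      ext y
      simp only [mem_filter, mem_univ, true_and, notMem_empty, iff_false, not_and]
      intro hy hyc
      apply hy0
      obtain ⟨h, hh⟩ := isConj_iff.mp (ConjClasses.mk_eq_mk_iff_isConj.mp hyc)
      have := hT h y hy
      rwa [hh] at this
    rw [h2, Finset.sum_empty]
    exact dvd_zero m

/-- fibre of the "`e`-part" map -/
theorem card_split_fiber (e k u : ℕ) (hu1 : u ≡ 1 [MOD e]) (hu0 : k ∣ u) (y : G) (hy : y ^ e = 1) :
    #{x : G | x ^ (e * k) = 1 ∧ x ^ u = y} = #{z : G | z ^ k = 1 ∧ z * y = y * z} := by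
  apply Finset.card_nbij' (fun x => x * y⁻¹) (fun z => z * y)
  · intro x hx
    simp only [coe_filter, mem_univ, true_and, Set.mem_ofPred_eq] at hx ⊢
    obtain ⟨hx1, hx2⟩ := hx
    have hc : Commute x y := by rw [← hx2]; exact Commute.pow_right (Commute.refl x) u
    refine ⟨?_, ?_⟩
    · rw [(hc.inv_right).mul_pow, ← hx2, inv_pow, ← pow_mul, mul_inv_eq_one]
      rw [pow_eq_pow_iff_modEq]
      have h1 : orderOf x ∣ e * k := orderOf_dvd_of_pow_eq_one hx1
      have h2 : u * k ≡ 1 * k [MOD e * k] := Nat.ModEq.mul_right' k hu1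
      rw [one_mul] at h2
      exact (h2.of_dvd h1).symm
    · exact (hc.mul_left ((Commute.refl y).inv_left)).eq
  · intro z hz
    simp only [coe_filter, mem_univ, true_and, Set.mem_ofPred_eq] at hz ⊢
    obtain ⟨hz1, hz2'⟩ := hz
    have hz2 : Commute z y := hz2'
    refine ⟨?_, ?_⟩
    · rw [hz2.mul_pow, mul_comm e k, pow_mul, hz1, one_pow, one_mul, mul_comm k e, pow_mul, hy, one_pow]
    · obtain ⟨c, rfl⟩ := hu0
      rw [hz2.mul_pow, pow_mul z, hz1, one_pow, one_mul]
      nth_rewrite 2 [← pow_one y]
      rw [pow_eq_pow_iff_modEq]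
      exact hu1.of_dvd (orderOf_dvd_of_pow_eq_one hy)
  · intro x _
    simp
  · intro z _
    simp

/-- the main counting lemma: elements split as (`e`-part in `T`) times (`k`-part) -/
theorem dvd_card_of_split (e k u m : ℕ) (hu1 : u ≡ 1 [MOD e]) (hu0 : k ∣ u)
    (T : G → Prop) [DecidablePred T] (hTe : ∀ y, T y → y ^ e = 1)
    (hT : ∀ h y : G, T y → T (h * y * h⁻¹))
    (hm : ∀ y : G, T y → m ∣ (Subgroup.centralizer ({y} : Set G)).index *
      #{z : G | z ^ k = 1 ∧ z * y = y * z}) :
    m ∣ #{x : G | x ^ (e * k) = 1 ∧ T (x ^ u)} := by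
  rw [Finset.card_eq_sum_card_fiberwise (f := fun x : G => x ^ u) (t := univ.filter T)]
  · have h1 : ∀ y ∈ univ.filter T,
        #{x ∈ ({x : G | x ^ (e * k) = 1 ∧ T (x ^ u)} : Finset G) | x ^ u = y} =
          #{z : G | z ^ k = 1 ∧ z * y = y * z} := by
      intro y hy
      rw [mem_filter] at hy
      rw [← card_split_fiber e k u hu1 hu0 y (hTe y hy.2)]
      congr 1
      ext x
      simp only [mem_filter, mem_univ, true_and]
      constructor
      · rintro ⟨⟨h1, _⟩, h3⟩
        exact ⟨h1, h3⟩
      · rintro ⟨h1, h3⟩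
        exact ⟨⟨h1, by rw [h3]; exact hy.2⟩, h3⟩
    rw [Finset.sum_congr rfl h1]
    apply dvd_sum_of_conj_invariant T _ m hT _ hm
    intro h y
    apply Finset.card_nbij' (fun z => h⁻¹ * z * h) (fun z => h * z * h⁻¹)
    · intro z hz
      simp only [coe_filter, mem_univ, true_and, Set.mem_ofPred_eq] at hz ⊢
      obtain ⟨hz1, hz2⟩ := hz
      refine ⟨?_, ?_⟩
      · have : h⁻¹ * z * h = h⁻¹ * z * h⁻¹⁻¹ := by rw [inv_inv]
        rw [this, conj_pow, hz1]; group
      · have := hz2
        have e1 : h⁻¹ * z * h * y = h⁻¹ * (z * (h * y * h⁻¹)) * h := by group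
        have e2 : y * (h⁻¹ * z * h) = h⁻¹ * ((h * y * h⁻¹) * z) * h := by group
        rw [e1, e2, this]
    · intro z hz
      simp only [coe_filter, mem_univ, true_and, Set.mem_ofPred_eq] at hz ⊢
      obtain ⟨hz1, hz2⟩ := hz
      refine ⟨?_, ?_⟩
      · rw [conj_pow, hz1]; group
      · have := hz2
        have e1 : h * z * h⁻¹ * (h * y * h⁻¹) = h * (z * y) * h⁻¹ := by group
        have e2 : h * y * h⁻¹ * (h * z * h⁻¹) = h * (y * z) * h⁻¹ := by group
        rw [e1, e2, this]
    · intro z _; simp only; group
    · intro z _; simp only; group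
  · intro x hx
    simp only [coe_filter, mem_univ, true_and, Set.mem_ofPred_eq] at hx ⊢
    exact hx.2

end

/-- Factoring out a central subgroup of order prime to `k` does not change the number of
solutions of `z ^ k = 1`. -/
theorem card_pow_eq_one_quotient {C : Type*} [Group C] [Finite C] (y : C)
    (hy : y ∈ Subgroup.center C) (e k : ℕ) (hcop : e.Coprime k) (hye : y ^ e = 1)
    [hn : (Subgroup.zpowers y).Normal] :
    Nat.card {c : C // c ^ k = 1} = Nat.card {q : C ⧸ Subgroup.zpowers y // q ^ k = 1} := by
  have hcomm : ∀ (i : ℤ) (c : C), Commute c (y ^ i) := by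
    intro i c
    exact (show Commute c y from Subgroup.mem_center_iff.mp hy c).zpow_right i
  have hcopZ : IsCoprime (e : ℤ) (k : ℤ) := Nat.isCoprime_iff_coprime.mpr hcop
  refine Nat.card_congr (Equiv.ofBijective
    (fun c => ⟨QuotientGroup.mk c.1, by rw [← QuotientGroup.mk_pow, c.2]; rfl⟩) ⟨?_, ?_⟩)
  · rintro ⟨c1, h1⟩ ⟨c2, h2⟩ h
    simp only [Subtype.mk.injEq] at h
    rw [QuotientGroup.eq, Subgroup.mem_zpowers_iff] at h
    obtain ⟨i, hi⟩ := h
    have hc2 : c2 = c1 * y ^ i := by rw [hi]; group
    have h3 : (y ^ i) ^ k = 1 := by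
      have := h2
      rw [hc2, (hcomm i c1).mul_pow, h1, one_mul] at this
      exact this
    rw [← zpow_natCast, ← zpow_mul, ← orderOf_dvd_iff_zpow_eq_one] at h3
    have h4 : (orderOf y : ℤ) ∣ (e : ℤ) := by
      exact_mod_cast orderOf_dvd_of_pow_eq_one hye
    have h5 : IsCoprime (orderOf y : ℤ) (k : ℤ) := hcopZ.of_isCoprime_of_dvd_left h4
    have h6 : (orderOf y : ℤ) ∣ i := h5.dvd_of_dvd_mul_right h3
    have h7 : y ^ i = 1 := orderOf_dvd_iff_zpow_eq_one.mp h6
    apply Subtype.ext
    simp only
    rw [hc2, h7, mul_one]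
  · rintro ⟨q, hq⟩
    obtain ⟨c, rfl⟩ := QuotientGroup.mk_surjective q
    have h1 : c ^ k ∈ Subgroup.zpowers y := by
      rw [← QuotientGroup.eq_one_iff, QuotientGroup.mk_pow]; exact hq
    obtain ⟨j, hj⟩ := Subgroup.mem_zpowers_iff.mp h1
    obtain ⟨a, b, hab⟩ := hcopZ
    refine ⟨⟨c ^ (a * e), ?_⟩, ?_⟩
    · have e1 : (c ^ (a * (e : ℤ))) ^ k = (c ^ k) ^ (a * (e : ℤ)) := by
        rw [← zpow_natCast, ← zpow_mul, ← zpow_natCast c k, ← zpow_mul, mul_comm]
      have e2 : (y ^ j) ^ (a * (e : ℤ)) = (y ^ e) ^ (j * a) := by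
        rw [← zpow_mul, ← zpow_natCast y e, ← zpow_mul]; congr 1; ring
      rw [e1, ← hj, e2, hye, one_zpow]
    · apply Subtype.ext
      simp only
      have h2 : a * (e : ℤ) = 1 - b * k := by linarith
      rw [QuotientGroup.mk_zpow, h2, zpow_sub, zpow_one, mul_comm b, zpow_mul, zpow_natCast, hq,
        one_zpow, inv_one, mul_one]

section
variable {G : Type*} [Group G] [Fintype G] [DecidableEq G]

omit [DecidableEq G] in
/-- number of generators of a cyclic subgroup -/
theorem card_zpowers_eq_totient (x0 : G) [DecidablePred fun x : G => Subgroup.zpowers x = Subgroup.zpowers x0] :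
    #{x : G | Subgroup.zpowers x = Subgroup.zpowers x0} = Nat.totient (orderOf x0) := by
  classical
  have h1 := IsCyclic.card_orderOf_eq_totient (α := Subgroup.zpowers x0)
    (d := Fintype.card (Subgroup.zpowers x0)) dvd_rfl
  rw [Fintype.card_zpowers] at h1
  rw [← h1]
  symm
  apply Finset.card_bij (fun a _ => a.1)
  · intro a ha
    simp only [mem_filter, mem_univ, true_and] at ha ⊢
    apply Subgroup.eq_of_le_of_card_ge
    · rw [Subgroup.zpowers_le]; exact a.2
    · rw [Nat.card_zpowers, Nat.card_zpowers, ← ha, Subgroup.orderOf_coe]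
  · intro a _ b _ h
    exact Subtype.ext h
  · intro x hx
    simp only [mem_filter, mem_univ, true_and] at hx
    have hxm : x ∈ Subgroup.zpowers x0 := by rw [← hx]; exact Subgroup.mem_zpowers x
    refine ⟨⟨x, hxm⟩, ?_, rfl⟩
    simp only [mem_filter, mem_univ, true_and]
    rw [← Subgroup.orderOf_coe, ← Nat.card_zpowers, hx, Nat.card_zpowers]

/-- a set of elements closed under "same cyclic subgroup" has cardinality divisible by any common
divisor of the totients of the orders -/
theorem dvd_card_of_zpowers_invariant (S : G → Prop) [DecidablePred S]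
    (hS : ∀ x x' : G, Subgroup.zpowers x = Subgroup.zpowers x' → S x → S x') (m : ℕ)
    (hm : ∀ x, S x → m ∣ Nat.totient (orderOf x)) : m ∣ #{x : G | S x} := by
  classical
  rw [Finset.card_eq_sum_card_fiberwise (f := fun x : G => Subgroup.zpowers x)
    (t := (univ.filter S).image (fun x : G => Subgroup.zpowers x))]
  · apply Finset.dvd_sum
    intro C hC
    rw [mem_image] at hC
    obtain ⟨x0, hx0, rfl⟩ := hC
    rw [mem_filter] at hx0
    have : (univ.filter S).filter (fun x => Subgroup.zpowers x = Subgroup.zpowers x0) =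
        univ.filter (fun x : G => Subgroup.zpowers x = Subgroup.zpowers x0) := by
      ext x
      simp only [mem_filter, mem_univ, true_and, and_iff_right_iff_imp]
      intro hx
      exact hS x0 x hx.symm hx0.2
    rw [this, card_zpowers_eq_totient]
    exact hm x0 hx0.2
  · intro x hx
    exact mem_image_of_mem _ hx

end

theorem pow_gcd_card_eq_one_iff' {G : Type*} [Group G] [Finite G] (k : ℕ) (x : G) :
    x ^ (Nat.gcd k (Nat.card G)) = 1 ↔ x ^ k = 1 := by
  rw [← orderOf_dvd_iff_pow_eq_one, ← orderOf_dvd_iff_pow_eq_one, Nat.dvd_gcd_iff]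
  exact ⟨fun h => h.1, fun h => ⟨h, orderOf_dvd_natCard x⟩⟩

universe u

/-- **Frobenius' theorem**, inductive form. -/
theorem frobenius_dvd_aux (N : ℕ) : ∀ (G : Type u) [Group G] [Finite G], Nat.card G = N →
    ∀ d n : ℕ, n * d = N → n ∣ Nat.card {g : G // g ^ n = 1} := by
  induction N using Nat.strong_induction_on with
  | _ N ihN =>
  intro G _ _ hG d
  induction d using Nat.strong_induction_on with
  | _ d ihd =>
  intro n hnd
  classical
  haveI : Fintype G := Fintype.ofFinite G
  have hNpos : 0 < N := hG ▸ Nat.card_pos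
  have hn0 : n ≠ 0 := by rintro rfl; omega
  have hd0 : d ≠ 0 := by rintro rfl; omega
  rcases eq_or_ne d 1 with rfl | hd1
  · rw [mul_one] at hnd
    subst hnd
    have : ∀ g : G, g ^ n = 1 := fun g => hG ▸ pow_card_eq_one'
    rw [Nat.card_congr (Equiv.subtypeUnivEquiv this), hG]
  · -- pick a prime `p ∣ d`
    have hp : (Nat.minFac d).Prime := Nat.minFac_prime hd1
    set p := Nat.minFac d with hpdef
    obtain ⟨d', hd'⟩ := Nat.minFac_dvd d
    rw [← hpdef] at hd'
    have hd'lt : d' < d := by
      have : d' ≠ 0 := by rintro rfl; omega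
      rw [hd']; nlinarith [hp.two_le, Nat.pos_of_ne_zero this]
    have hnp : n * p ∣ Nat.card {g : G // g ^ (n * p) = 1} :=
      ihd d' hd'lt (n * p) (by rw [mul_assoc, ← hd']; exact hnd)
    obtain ⟨a, k, hpk, hnk⟩ := Nat.exists_eq_pow_mul_and_not_dvd hn0 p hp.ne_one
    set e := p ^ (a + 1) with hedef
    have hek : n * p = e * k := by rw [hnk, hedef, pow_succ]; ring
    have hcop : e.Coprime k := Nat.Coprime.pow_left _ ((Nat.Prime.coprime_iff_not_dvd hp).mpr hpk)
    have he2 : 2 ≤ e := by
      rw [hedef]
      calc 2 ≤ p := hp.two_le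
        _ = p ^ 1 := (pow_one p).symm
        _ ≤ p ^ (a + 1) := Nat.pow_le_pow_right hp.pos (by omega)
    -- the CRT exponent
    obtain ⟨u, hu1, hu0⟩ := Nat.chineseRemainder hcop 1 0
    have hu0' : k ∣ u := (Nat.modEq_zero_iff_dvd).mp hu0
    -- the set `B`
    have hsplit : Nat.card {g : G // g ^ (n * p) = 1} =
        Nat.card {g : G // g ^ n = 1} + #{x : G | x ^ (e * k) = 1 ∧ ¬ x ^ n = 1} := by
      rw [Nat.card_eq_fintype_card, Nat.card_eq_fintype_card, Fintype.card_subtype,
        Fintype.card_subtype, hek]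
      rw [← Finset.card_filter_add_card_filter_not (s := univ.filter (fun x : G => x ^ (e * k) = 1))
        (fun x => x ^ n = 1)]
      congr 1
      · congr 1
        ext x
        simp only [mem_filter, mem_univ, true_and, and_iff_right_iff_imp]
        intro hx
        rw [← hek, pow_mul, hx, one_pow]
      · rw [Finset.filter_filter]
    have hB1 : p ^ a ∣ #{x : G | x ^ (e * k) = 1 ∧ ¬ x ^ n = 1} := by
      apply dvd_card_of_zpowers_invariant
      · intro x x' hxx' hx
        have h1 : x' ∈ Subgroup.zpowers x := by rw [hxx']; exact Subgroup.mem_zpowers x'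
        have h2 : x ∈ Subgroup.zpowers x' := by rw [← hxx']; exact Subgroup.mem_zpowers x
        obtain ⟨i, rfl⟩ := Subgroup.mem_zpowers_iff.mp h1
        obtain ⟨j, hj⟩ := Subgroup.mem_zpowers_iff.mp h2
        refine ⟨?_, ?_⟩
        · rw [← zpow_natCast, ← zpow_mul, mul_comm, zpow_mul, zpow_natCast, hx.1, one_zpow]
        · intro h3
          apply hx.2
          rw [← hj, ← zpow_natCast, ← zpow_mul, mul_comm, zpow_mul, zpow_natCast, h3, one_zpow]
      · intro x hx
        have h1 : orderOf x ∣ e * k := orderOf_dvd_of_pow_eq_one hx.1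
        have h2 : ¬ orderOf x ∣ n := fun h => hx.2 (orderOf_dvd_iff_pow_eq_one.mp h)
        obtain ⟨o1, o2, ho1, ho2, ho⟩ := (Nat.dvd_mul).mp h1
        obtain ⟨j, hj, rfl⟩ := (Nat.dvd_prime_pow hp).mp ho1
        have hja : j = a + 1 := by
          by_contra hne
          apply h2
          rw [← ho, hnk]
          exact Nat.mul_dvd_mul (pow_dvd_pow p (by omega)) ho2
        subst hja
        have h3 : p ^ (a + 1) ∣ orderOf x := by rw [← ho]; exact dvd_mul_right _ _
        have h4 := Nat.totient_dvd_of_dvd h3
        rw [Nat.totient_prime_pow_succ hp] at h4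
        exact (dvd_mul_right _ _).trans h4
    have hB2 : k ∣ #{x : G | x ^ (e * k) = 1 ∧ ¬ x ^ n = 1} := by
      have hset : (univ.filter (fun x : G => x ^ (e * k) = 1 ∧ ¬ x ^ n = 1)) =
          univ.filter (fun x : G => x ^ (e * k) = 1 ∧
            ((x ^ u) ^ e = 1 ∧ ¬ (x ^ u) ^ (p ^ a) = 1)) := by
        ext x
        simp only [mem_filter, mem_univ, true_and]
        constructor
        · rintro ⟨h1, h2⟩
          refine ⟨h1, ?_, ?_⟩
          · obtain ⟨c, rfl⟩ := hu0'
            rw [← pow_mul, mul_comm k c, mul_assoc, mul_comm k e, mul_comm c, pow_mul, h1, one_pow]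
          · intro h3
            apply h2
            have h4 : x ^ (u * (p ^ a * k)) = 1 := by
              rw [← mul_assoc, pow_mul, pow_mul, h3, one_pow]
            have h5 : x ^ (u * (p ^ a * k)) = x ^ (1 * (p ^ a * k)) := by
              rw [pow_eq_pow_iff_modEq]
              have h6 : u * (p ^ a * k) ≡ 1 * (p ^ a * k) [MOD e * (p ^ a * k)] :=
                Nat.ModEq.mul_right' _ hu1
              refine h6.of_dvd ((orderOf_dvd_of_pow_eq_one h1).trans ?_)
              exact Nat.mul_dvd_mul_left e (dvd_mul_left k (p ^ a))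
            rw [one_mul] at h5
            rw [hnk, ← h5, h4]
        · rintro ⟨h1, _, h3⟩
          refine ⟨h1, ?_⟩
          intro h2
          apply h3
          obtain ⟨c, rfl⟩ := hu0'
          rw [← pow_mul, mul_comm k c, mul_assoc, mul_comm k, ← hnk, mul_comm, pow_mul, h2, one_pow]
      rw [hset]
      apply dvd_card_of_split e k u k hu1 hu0' (fun y => y ^ e = 1 ∧ ¬ y ^ (p ^ a) = 1)
      · intro y hy; exact hy.1
      · intro h y hy
        refine ⟨?_, ?_⟩
        · rw [conj_pow, hy.1]; group
        · intro h3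
          apply hy.2
          rw [conj_pow] at h3
          have : y ^ p ^ a = h⁻¹ * (h * y ^ p ^ a * h⁻¹) * h := by group
          rw [this, h3]; group
      · intro y hy
        haveI : Fact p.Prime := ⟨hp⟩
        have hoy : orderOf y = e := orderOf_eq_prime_pow hy.2 hy.1
        -- the centralizer and its quotient
        obtain ⟨C, hC⟩ : ∃ C : Subgroup G, C = Subgroup.centralizer ({y} : Set G) := ⟨_, rfl⟩
        have hmemC : ∀ z : G, z ∈ C ↔ z * y = y * z := by
          intro z
          rw [hC, Subgroup.mem_centralizer_iff]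
          constructor
          · intro h; exact (h y rfl).symm
          · intro h w hw
            rw [Set.mem_singleton_iff] at hw
            rw [hw]; exact h.symm
        have hyC : y ∈ C := (hmemC y).mpr rfl
        obtain ⟨y', hy'⟩ : ∃ y' : C, y' = ⟨y, hyC⟩ := ⟨_, rfl⟩
        have hy'v : (y' : G) = y := by rw [hy']
        have hy'c : y' ∈ Subgroup.center C := by
          rw [Subgroup.mem_center_iff]
          intro c
          apply Subtype.ext
          simp only [Subgroup.coe_mul]
          rw [hy'v]
          exact (hmemC c.1).mp c.2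
        haveI hZn : (Subgroup.zpowers y').Normal := by
          constructor
          intro z hz c
          have h1 : Subgroup.zpowers y' ≤ Subgroup.center C := by
            rw [Subgroup.zpowers_le]; exact hy'c
          have h2 := Subgroup.mem_center_iff.mp (h1 hz) c
          rw [h2, mul_inv_cancel_right]
          exact hz
        have hy'e : y' ^ e = 1 := by
          apply Subtype.ext
          simp only [SubgroupClass.coe_pow, Subgroup.coe_one]
          rw [hy'v]
          exact hy.1
        have hQ := card_pow_eq_one_quotient y' hy'c e k hcop hy'e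
        -- the count as a count in `C`
        have hcount : #{z : G | z ^ k = 1 ∧ z * y = y * z} = Nat.card {c : C // c ^ k = 1} := by
          rw [Nat.card_eq_fintype_card, Fintype.card_subtype]
          symm
          apply Finset.card_bij (fun c _ => c.1)
          · intro c hc
            simp only [mem_filter, mem_univ, true_and] at hc ⊢
            refine ⟨?_, ?_⟩
            · have := congrArg Subtype.val hc
              simpa using this
            · exact (hmemC c.1).mp c.2
          · intro c1 _ c2 _ h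
            exact Subtype.ext h
          · intro z hz
            simp only [mem_filter, mem_univ, true_and] at hz
            have hzC : z ∈ C := (hmemC z).mpr hz.2
            refine ⟨⟨z, hzC⟩, ?_, rfl⟩
            simp only [mem_filter, mem_univ, true_and]
            apply Subtype.ext
            simp only [SubgroupClass.coe_pow, Subgroup.coe_one]
            exact hz.1
        rw [hcount, hQ]
        -- sizes
        have hZcard : Nat.card (Subgroup.zpowers y') = e := by
          rw [Nat.card_zpowers, ← hoy, ← hy'v, Subgroup.orderOf_coe]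
        have hCQ : Nat.card C = Nat.card (C ⧸ Subgroup.zpowers y') * e := by
          rw [← hZcard]; exact Subgroup.card_eq_card_quotient_mul_card_subgroup _
        have hGC : C.index * Nat.card C = N := by rw [← hG]; exact Subgroup.index_mul_card C
        have hQlt : Nat.card (C ⧸ Subgroup.zpowers y') < N := by
          have h1 : 0 < Nat.card (C ⧸ Subgroup.zpowers y') := Nat.card_pos
          have h2 : 0 < C.index := Nat.pos_of_ne_zero (Subgroup.index_ne_zero_of_finite)
          have h3 : Nat.card C ≤ N := by rw [← hGC]; exact Nat.le_mul_of_pos_left _ h2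
          nlinarith
        set q := Nat.card (C ⧸ Subgroup.zpowers y') with hq
        have hkq : k ∣ C.index * q := by
          have h1 : C.index * q * e = e * k * d' := by
            rw [mul_assoc, ← hCQ, hGC, ← hek, mul_assoc, ← hd', hnd]
          have h2 : C.index * q = k * d' := by
            have he0 : 0 < e := by omega
            apply Nat.eq_of_mul_eq_mul_right he0
            rw [h1]; ring
          rw [h2]; exact dvd_mul_right _ _
        have hIH := ihN q hQlt (C ⧸ Subgroup.zpowers y') rfl (q / Nat.gcd k q) (Nat.gcd k q)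
          (Nat.mul_div_cancel' (Nat.gcd_dvd_right k q))
        have hequiv : Nat.card {g : C ⧸ Subgroup.zpowers y' // g ^ Nat.gcd k q = 1} =
            Nat.card {g : C ⧸ Subgroup.zpowers y' // g ^ k = 1} := by
          apply Nat.card_congr
          apply Equiv.subtypeEquivRight
          intro g
          exact pow_gcd_card_eq_one_iff' k g
        rw [hequiv] at hIH
        have h1 : k ∣ C.index * Nat.gcd k q := by
          rw [← Nat.gcd_mul_left]
          exact Nat.dvd_gcd (dvd_mul_left _ _) hkq
        rw [← hC]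
        exact h1.trans (Nat.mul_dvd_mul_left _ hIH)
    -- conclusion
    have hnB : n ∣ #{x : G | x ^ (e * k) = 1 ∧ ¬ x ^ n = 1} := by
      have h0 : (p ^ a * k) ∣ #{x : G | x ^ (e * k) = 1 ∧ ¬ x ^ n = 1} :=
        Nat.Coprime.mul_dvd_of_dvd_of_dvd
          (Nat.Coprime.pow_left _ ((Nat.Prime.coprime_iff_not_dvd hp).mpr hpk)) hB1 hB2
      rw [hnk]
      rw [hnk] at h0
      exact h0
    have hn1 : n ∣ Nat.card {g : G // g ^ (n * p) = 1} := (dvd_mul_right n p).trans hnp
    rw [hsplit] at hn1
    exact (Nat.dvd_add_left hnB).mp hn1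

/-- **Frobenius' theorem**: if `m ∣ |G|` then `m` divides the number of solutions of `g ^ m = 1`. -/
theorem frobenius_dvd_card_pow_eq_one {G : Type u} [Group G] [Finite G] (m : ℕ) (hm : m ∣ Nat.card G) :
    m ∣ Nat.card {g : G // g ^ m = 1} := by
  obtain ⟨d, hd⟩ := hm
  exact frobenius_dvd_aux (Nat.card G) G rfl d m hd.symm

end Cfsg.Agent.Lib.Helper21
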