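import Mathlib
import Cfsg.Prelude.Def_GeometricClasses
import Cfsg.Agent.Lib.Helper15.SLNormal
import Cfsg.Agent.Lib.Helper15.MonoA
import Cfsg.Agent.Lib.Helper15.BlkA

/-!
# BlkMax FO-TV (helper21, for architect helper15): transvection API on a general index type
(port of `Helper13.TransvSL` / `GSpMax`)
-/

set_option autoImplicit false
set_option linter.unusedSectionVars false
set_option linter.unusedVariables false

namespace Cfsg.Agent.Lib.Helper21.BlkTV

open Matrix Cfsg Cfsg.Geo Cfsg.Agent.Lib.Helper15.MonoMax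

section tvapi
variable {ι : Type} [Fintype ι] [DecidableEq ι] {F : Type*} [Field F] {M : Subgroup (GL ι F)}

theorem exists_dual_vec (P : Submodule F (ι → F)) (a : ι → F) (ha : a ∉ P) :
    ∃ φ : ι → F, φ ⬝ᵥ a = 1 ∧ ∀ x ∈ P, φ ⬝ᵥ x = 0 := by
  obtain ⟨f0, hf0a, hf0P⟩ := Submodule.exists_le_ker_of_notMem ha
  have hdot : ∀ x : ι → F,
      (fun i => (f0 a)⁻¹ * f0 (Pi.single i 1)) ⬝ᵥ x = (f0 a)⁻¹ * f0 x := by
    intro x
    rw [LinearMap.pi_apply_eq_sum_univ f0 x, Finset.mul_sum]
    simp only [dotProduct, smul_eq_mul]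
    apply Finset.sum_congr rfl
    intro i _
    have e : (fun j => if i = j then (1 : F) else 0) = Pi.single i 1 := by
      ext j
      by_cases h : i = j
      · subst h; simp
      · simp [h, Ne.symm h]
    rw [e]
    ring
  refine ⟨fun i => (f0 a)⁻¹ * f0 (Pi.single i 1), ?_, ?_⟩
  · rw [hdot, inv_mul_cancel₀ hf0a]
  · intro x hx
    rw [hdot, LinearMap.mem_ker.mp (hf0P hx), mul_zero]

theorem tvIn_map {a : ι → F} (ha : TvIn M a) {k : GL ι F} (hk : k ∈ M) :
    TvIn M ((k : Matrix ι ι F) *ᵥ a) := by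
  intro φ hφ g hg
  have hφ' : (φ ᵥ* (k : Matrix ι ι F)) ⬝ᵥ a = 0 := by
    rw [← dotProduct_mulVec]; exact hφ
  have : g = k * tvGL a _ hφ' * k⁻¹ :=
    Units.ext (by rw [Units.val_mul, Units.val_mul, tvGL_val, conj_tv, hg])
  rw [this]
  exact M.mul_mem (M.mul_mem hk (ha _ hφ' _ rfl)) (M.inv_mem hk)

theorem tvIn_smul {a : ι → F} (ha : TvIn M a) (c : F) : TvIn M (c • a) := by
  intro φ hφ g hg
  apply ha (c • φ) _ g
  · rw [hg, tv, tv, smul_vecMulVec, vecMulVec_smul]
  · rw [smul_dotProduct, ← dotProduct_smul]; exact hφ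

theorem tvIn_add {a b : ι → F} (ha : TvIn M a) (hb : TvIn M b) : TvIn M (a + b) := by
  by_cases hab : a ∈ Submodule.span F {b}
  · obtain ⟨c, rfl⟩ := Submodule.mem_span_singleton.mp hab
    have : c • b + b = (c + 1) • b := by rw [add_smul, one_smul]
    rw [this]
    exact tvIn_smul hb _
  · obtain ⟨ψ, hψa, hψb⟩ := exists_dual_vec (Submodule.span F {b}) a hab
    have hψb' : ψ ⬝ᵥ b = 0 := hψb b (Submodule.mem_span_singleton_self b)
    have hkM : tvGL b ψ hψb' ∈ M := hb ψ hψb' _ rfl
    have := tvIn_map ha hkM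
    rwa [tvGL_val, tv_mulVec, hψa, one_smul] at this

theorem tvIn_zero : TvIn M (0 : ι → F) := by
  intro φ hφ g hg
  have : g = 1 := by
    apply Units.ext
    rw [hg, Units.val_one, tv]
    ext i j
    simp
  rw [this]
  exact M.one_mem

/-- a subgroup containing all transvections contains `SL` -/
theorem sl_le_of_forall_tvIn [Nontrivial ι] (M : Subgroup (GL ι F)) (hall : ∀ x, TvIn M x) :
    specialLinear ι F ≤ M := by
  intro s hs
  have hdet : (s : Matrix ι ι F).det = 1 := mem_SL_iff.mp hs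
  have key : ∀ A : Matrix.SpecialLinearGroup ι F, ∀ g : GL ι F,
      (g : Matrix ι ι F) = (A : Matrix ι ι F) → g ∈ M := by
    intro A
    refine Cfsg.Agent.Lib.Helper15.SLn_transvection_induction
      (fun A : Matrix.SpecialLinearGroup ι F => ∀ g : GL ι F,
        (g : Matrix ι ι F) = (A : Matrix ι ι F) → g ∈ M) ?_ ?_ A
    · intro i j hij c g hg
      apply hall (Pi.single i c) (Pi.single j 1) _ g
      · rw [hg, Matrix.SpecialLinearGroup.transvection_coe, tv]
        congr 1
        ext x y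
        simp only [Matrix.single_apply, vecMulVec_apply, Pi.single_apply]
        by_cases hx : i = x
        · subst hx
          by_cases hy : j = y
          · subst hy; simp
          · simp [hy, Ne.symm hy]
        · simp [hx, Ne.symm hx]
      · rw [single_dotProduct, one_mul, Pi.single_apply, if_neg (Ne.symm hij)]
    · intro A B hA hB g hg
      have : g = Matrix.SpecialLinearGroup.toGL A * Matrix.SpecialLinearGroup.toGL B :=
        Units.ext (by rw [Units.val_mul, hg, Matrix.SpecialLinearGroup.coe_mul]; rfl)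
      rw [this]
      exact M.mul_mem (hA _ rfl) (hB _ rfl)
  exact key ⟨(s : Matrix ι ι F), hdet⟩ s rfl

end tvapi

end Cfsg.Agent.Lib.Helper21.BlkTV
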