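import Cfsg.Prelude.Def_KGroupFacts
import Mathlib

/-!
Shared lemmas on finite stem extensions (used for the Schur multiplier statements of helper21):
the commutator map of an abelian normal subgroup with cyclic supplement, a counting lemma for
preimages, and a counting lemma comparing centralizers upstairs and downstairs.
-/

set_option autoImplicit false

namespace Cfsg.Agent.Lib.Helper21

universe u v

section CommHom

variable {G : Type*} [Group G]

/-- the commutator map `a ↦ x a x⁻¹ a⁻¹` as a homomorphism from an abelian normal subgroup -/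
def commHom (A : Subgroup G) [A.Normal] (hA : IsMulCommutative A) (x : G) : A →* G where
  toFun a := x * a * x⁻¹ * (a : G)⁻¹
  map_one' := by simp
  map_mul' := by
    intro a b
    have hxb : x * b * x⁻¹ ∈ A := ‹A.Normal›.conj_mem b b.2 x
    have hc : ∀ u v : G, u ∈ A → v ∈ A → u * v = v * u := by
      intro u v hu hv
      have := hA.is_comm.comm (⟨u, hu⟩ : A) ⟨v, hv⟩
      exact congrArg Subtype.val this
    simp only [Subgroup.coe_mul]
    calc x * (↑a * ↑b) * x⁻¹ * (↑a * ↑b)⁻¹
        = (x * a * x⁻¹) * ((x * b * x⁻¹) * (b : G)⁻¹) * (a : G)⁻¹ := by group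
      _ = (x * a * x⁻¹) * ((a : G)⁻¹ * ((x * b * x⁻¹) * (b : G)⁻¹)) := by
          rw [mul_assoc, hc _ _ (A.mul_mem hxb (A.inv_mem b.2)) (A.inv_mem a.2)]
      _ = x * ↑a * x⁻¹ * (↑a)⁻¹ * (x * ↑b * x⁻¹ * (↑b)⁻¹) := by group

theorem commHom_apply (A : Subgroup G) [A.Normal] (hA : IsMulCommutative A) (x : G) (a : A) :
    commHom A hA x a = x * a * x⁻¹ * (a : G)⁻¹ := rfl

theorem commHom_range_le (A : Subgroup G) [A.Normal] (hA : IsMulCommutative A) (x : G) :
    (commHom A hA x).range ≤ A := by
  rintro _ ⟨a, rfl⟩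
  rw [commHom_apply]
  exact A.mul_mem (‹A.Normal›.conj_mem a a.2 x) (A.inv_mem a.2)

theorem commHom_range_normal (A : Subgroup G) [A.Normal] (hA : IsMulCommutative A) (x : G)
    (hgen : A ⊔ Subgroup.zpowers x = ⊤) : (commHom A hA x).range.Normal := by
  have hc : ∀ u v : G, u ∈ A → v ∈ A → u * v = v * u := by
    intro u v hu hv
    have := hA.is_comm.comm (⟨u, hu⟩ : A) ⟨v, hv⟩
    exact congrArg Subtype.val this
  rw [← Subgroup.normalizer_eq_top_iff, eq_top_iff, ← hgen, sup_le_iff]
  constructor
  · intro b hb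
    rw [Subgroup.mem_normalizer_iff]
    intro k
    have key : ∀ k ∈ (commHom A hA x).range, b * k * b⁻¹ = k := by
      intro k hk
      have hkA := commHom_range_le A hA x hk
      rw [hc b k hb hkA]; group
    constructor
    · intro hk; rw [key k hk]; exact hk
    · intro hk
      have hbk : b * k * b⁻¹ ∈ A := commHom_range_le A hA x hk
      have hkA : k ∈ A := by
        have : k = b⁻¹ * (b * k * b⁻¹) * b := by group
        rw [this]; exact A.mul_mem (A.mul_mem (A.inv_mem hb) hbk) hb
      have : b * k * b⁻¹ = k := by rw [hc b k hb hkA]; group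
      rw [← this]; exact hk
  · rw [Subgroup.zpowers_le]
    rw [Subgroup.mem_normalizer_iff]
    have key : ∀ (y : G) (k : G), (∀ a : A, y * a * y⁻¹ ∈ A) → k ∈ (commHom A hA x).range →
        y * x = x * y → y * k * y⁻¹ ∈ (commHom A hA x).range := by
      rintro y _ hy ⟨a, rfl⟩ hyx
      refine ⟨⟨y * a * y⁻¹, hy a⟩, ?_⟩
      rw [commHom_apply, commHom_apply]
      simp only
      have hyx' : y⁻¹ * x⁻¹ = x⁻¹ * y⁻¹ := by
        rw [← mul_inv_rev, ← mul_inv_rev, hyx]
      calc x * (y * ↑a * y⁻¹) * x⁻¹ * (y * ↑a * y⁻¹)⁻¹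
          = (x * y) * a * (y⁻¹ * x⁻¹) * y * (a : G)⁻¹ * y⁻¹ := by group
        _ = (y * x) * a * (x⁻¹ * y⁻¹) * y * (a : G)⁻¹ * y⁻¹ := by rw [hyx, hyx']
        _ = y * (x * ↑a * x⁻¹ * (↑a)⁻¹) * y⁻¹ := by group
    intro k
    constructor
    · intro hk
      exact key x k (fun a => ‹A.Normal›.conj_mem a a.2 x) hk rfl
    · intro hk
      have := key x⁻¹ _ (fun a => ‹A.Normal›.conj_mem a a.2 x⁻¹) hk (by group)
      have h2 : x⁻¹ * (x * k * x⁻¹) * x⁻¹⁻¹ = k := by group
      rwa [h2] at this

theorem commutator_le_commHom_range (A : Subgroup G) [A.Normal] (hA : IsMulCommutative A) (x : G)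
    (hgen : A ⊔ Subgroup.zpowers x = ⊤) : commutator G ≤ (commHom A hA x).range := by
  have hK : (commHom A hA x).range.Normal := commHom_range_normal A hA x hgen
  set K := (commHom A hA x).range with hKdef
  have hc : ∀ u v : G, u ∈ A → v ∈ A → u * v = v * u := by
    intro u v hu hv
    have := hA.is_comm.comm (⟨u, hu⟩ : A) ⟨v, hv⟩
    exact congrArg Subtype.val this
  let q := QuotientGroup.mk' K
  let S : Set G := (A : Set G) ∪ {x}
  have hclo : Subgroup.closure (q '' S) = ⊤ := by
    rw [← MonoidHom.map_closure, Subgroup.closure_union, Subgroup.closure_eq,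
      ← Subgroup.zpowers_eq_closure, hgen,
      Subgroup.map_top_of_surjective _ (QuotientGroup.mk'_surjective K)]
  have hxa : ∀ a ∈ A, q x * q a = q a * q x := by
    intro a ha
    rw [← map_mul, ← map_mul]
    show ((x * a : G) : G ⧸ K) = ((a * x : G) : G ⧸ K)
    rw [QuotientGroup.eq]
    have : (x * a)⁻¹ * (a * x) = (x * a)⁻¹ * (x * a * x⁻¹ * a⁻¹)⁻¹ * ((x * a)⁻¹)⁻¹ := by group
    rw [this]
    apply hK.conj_mem
    apply K.inv_mem
    exact ⟨⟨a, ha⟩, rfl⟩
  have hcomm : ∀ u ∈ q '' S, ∀ v ∈ q '' S, u * v = v * u := by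
    rintro _ ⟨u, hu, rfl⟩ _ ⟨v, hv, rfl⟩
    rcases hu with hu | hu <;> rcases hv with hv | hv
    · rw [← map_mul, ← map_mul, hc u v hu hv]
    · rw [Set.mem_singleton_iff.mp hv]; exact (hxa u hu).symm
    · rw [Set.mem_singleton_iff.mp hu]; exact hxa v hv
    · rw [Set.mem_singleton_iff.mp hu, Set.mem_singleton_iff.mp hv]
  have hcl := Subgroup.isMulCommutative_closure hcomm
  rw [hclo] at hcl
  have hall : ∀ u v : G ⧸ K, u * v = v * u := by
    intro u v
    have := hcl.is_comm.comm (⟨u, Subgroup.mem_top u⟩ : (⊤ : Subgroup (G ⧸ K)))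
      ⟨v, Subgroup.mem_top v⟩
    exact congrArg Subtype.val this
  rw [commutator_def, Subgroup.commutator_le]
  intro g _ h _
  rw [← QuotientGroup.eq_one_iff, commutatorElement_def]
  show q (g * h * g⁻¹ * h⁻¹) = 1
  rw [map_mul, map_mul, map_mul, map_inv, map_inv, hall (q g) (q h)]
  group

theorem commHom_range_eq (A : Subgroup G) [A.Normal] (hA : IsMulCommutative A) (x : G)
    (hgen : A ⊔ Subgroup.zpowers x = ⊤) : (commHom A hA x).range = commutator G := by
  apply le_antisymm
  · rintro _ ⟨a, rfl⟩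
    rw [commutator_def]
    exact Subgroup.commutator_mem_commutator (Subgroup.mem_top x) (Subgroup.mem_top (a : G))
  · exact commutator_le_commHom_range A hA x hgen

/-- `|G'| · |C_A(x)| = |A|` when `A` is an abelian normal subgroup and `G = A⟨x⟩`. -/
theorem card_commutator_mul_card_centralizer [Finite G] (A : Subgroup G) [A.Normal]
    (hA : IsMulCommutative A) (x : G) (hgen : A ⊔ Subgroup.zpowers x = ⊤) :
    Nat.card (commutator G) * Nat.card ↥(A ⊓ Subgroup.centralizer ({x} : Set G)) = Nat.card A := by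
  have hrange := commHom_range_eq A hA x hgen
  have hker : (commHom A hA x).ker = (A ⊓ Subgroup.centralizer ({x} : Set G)).subgroupOf A := by
    ext a
    rw [MonoidHom.mem_ker, commHom_apply, Subgroup.mem_subgroupOf, Subgroup.mem_inf,
      Subgroup.mem_centralizer_iff]
    simp only [Set.mem_singleton_iff, forall_eq, SetLike.coe_mem, true_and]
    constructor
    · intro h
      have : x * a * x⁻¹ = a := by
        calc x * a * x⁻¹ = (x * a * x⁻¹ * (a : G)⁻¹) * a := by group
          _ = a := by rw [h, one_mul]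
      calc x * (a : G) = (x * a * x⁻¹) * x := by group
        _ = a * x := by rw [this]
    · intro h
      rw [h]; group
  have hcard := Subgroup.card_eq_card_quotient_mul_card_subgroup (commHom A hA x).ker
  rw [Nat.card_congr (QuotientGroup.quotientKerEquivRange (commHom A hA x)).toEquiv, hrange, hker,
    Nat.card_congr (Subgroup.subgroupOfEquivOfLe
      (inf_le_left : A ⊓ Subgroup.centralizer ({x} : Set G) ≤ A)).toEquiv] at hcard
  exact hcard.symm

end CommHom

/-- `|K| = |ker f| · |f(K)|` for a subgroup `K` containing the kernel. -/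
theorem card_eq_card_ker_mul_card_map {G : Type*} {H : Type*} [Group G] [Group H] [Finite G]
    (f : G →* H) (K : Subgroup G) (hK : f.ker ≤ K) :
    Nat.card K = Nat.card f.ker * Nat.card (K.map f) := by
  have hcard := Subgroup.card_eq_card_quotient_mul_card_subgroup (f.subgroupMap K).ker
  have hsurj : Function.Surjective (f.subgroupMap K) := f.subgroupMap_surjective K
  rw [Nat.card_congr (QuotientGroup.quotientKerEquivOfSurjective _ hsurj).toEquiv] at hcard
  have hker : (f.subgroupMap K).ker = f.ker.subgroupOf K := by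
    ext a
    rw [MonoidHom.mem_ker, Subgroup.mem_subgroupOf, MonoidHom.mem_ker]
    constructor
    · intro h
      have := congrArg Subtype.val h
      simpa using this
    · intro h
      apply Subtype.ext
      simpa using h
  rw [hker, Nat.card_congr (Subgroup.subgroupOfEquivOfLe hK).toEquiv] at hcard
  rw [hcard, mul_comm]

/-- trivial multiplier from: every finite stem extension has trivial kernel -/
theorem hasCyclicSchurMultiplier_one_of {G : Type u} [Group G] [Finite G]
    (h : ∀ (Γ : Type u) [Group Γ] [Finite Γ] (σ : Γ →* G), IsStemExtension σ → σ.ker = ⊥) :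
    Cfsg.HasCyclicSchurMultiplier G 1 := by
  constructor
  · refine ⟨G, inferInstance, inferInstance, MonoidHom.id G, ⟨Function.surjective_id, ?_, ?_⟩, ?_⟩
    · rw [MonoidHom.ker_id]; exact bot_le
    · rw [MonoidHom.ker_id]; exact bot_le
    · rw [MonoidHom.ker_id]
      have : Unique (Multiplicative (ZMod 1)) := by
        unfold Multiplicative; infer_instance
      exact ⟨MulEquiv.ofUnique⟩
  · intro Γ _ _ σ hσ
    refine ⟨1, ?_⟩
    intro x
    refine ⟨1, ?_⟩
    have := h Γ σ hσ
    apply Subtype.ext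
    obtain ⟨x, hx⟩ := x
    have hx' : x ∈ (⊥ : Subgroup Γ) := this ▸ hx
    rw [Subgroup.mem_bot] at hx'
    simp [hx']

/-- For a finite stem extension `σ : Γ → Q`, a cyclic normal subgroup `R` of `Q` with
`Q = R⟨s⟩`, and a lift `t` of `s`: the centralizer of `t` in the preimage of `R` has the same
order as the centralizer of `s` in `R`. -/
theorem stem_card_centralizer {Γ : Type u} {Q : Type v} [Group Γ] [Finite Γ] [Group Q]
    (σ : Γ →* Q) (hσ : IsStemExtension σ) (R : Subgroup Q) [R.Normal] (hR : IsCyclic R)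
    (s : Q) (hgen : R ⊔ Subgroup.zpowers s = ⊤) (t : Γ) (ht : σ t = s) :
    Nat.card ↥(R.comap σ ⊓ Subgroup.centralizer ({t} : Set Γ)) =
      Nat.card ↥(R ⊓ Subgroup.centralizer ({s} : Set Q)) := by
  obtain ⟨hsurj, hcen, hcomm⟩ := hσ
  have : Finite Q := Finite.of_surjective σ hsurj
  set N := R.comap σ with hN
  have hNn : N.Normal := inferInstance
  -- N is abelian
  have hNab : IsMulCommutative N := by
    apply (σ.subgroupComap R).isMulCommutative_of_isCyclic_of_ker_le_center
    intro a ha
    rw [Subgroup.mem_center_iff]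
    intro b
    apply Subtype.ext
    have hamem : (a : Γ) ∈ σ.ker := by
      rw [MonoidHom.mem_ker] at ha ⊢
      have := congrArg Subtype.val ha
      exact this
    have := (Subgroup.mem_center_iff.mp (hcen hamem)) (b : Γ)
    simpa using this
  have hRab : IsMulCommutative R := by
    obtain ⟨g, hg⟩ := hR
    refine ⟨⟨fun a b => ?_⟩⟩
    obtain ⟨i, rfl⟩ := Subgroup.mem_zpowers_iff.mp (hg a)
    obtain ⟨j, rfl⟩ := Subgroup.mem_zpowers_iff.mp (hg b)
    rw [← zpow_add, ← zpow_add, add_comm]
  -- generation upstairs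
  have hgenΓ : N ⊔ Subgroup.zpowers t = ⊤ := by
    rw [eq_top_iff]
    intro g _
    have hg : σ g ∈ R ⊔ Subgroup.zpowers s := hgen ▸ Subgroup.mem_top _
    rw [Subgroup.mem_sup_of_normal_left] at hg
    obtain ⟨y, hy, z, hz, hyz⟩ := hg
    obtain ⟨k, rfl⟩ := Subgroup.mem_zpowers_iff.mp hz
    have h1 : g * (t ^ k)⁻¹ ∈ N := by
      rw [hN, Subgroup.mem_comap, map_mul, map_inv, map_zpow, ht, ← hyz]
      simpa using hy
    have : g = (g * (t ^ k)⁻¹) * t ^ k := by group
    rw [this]
    exact Subgroup.mul_mem_sup h1 (Subgroup.zpow_mem_zpowers t k)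
  have E1 := card_commutator_mul_card_centralizer N hNab t hgenΓ
  have E2 := card_commutator_mul_card_centralizer R hRab s hgen
  have hkerN : σ.ker ≤ N := by
    intro a ha
    rw [hN, Subgroup.mem_comap, MonoidHom.mem_ker.mp ha]
    exact R.one_mem
  have E3 := card_eq_card_ker_mul_card_map σ N hkerN
  rw [hN, Subgroup.map_comap_eq_self_of_surjective hsurj, ← hN] at E3
  have E4 := card_eq_card_ker_mul_card_map σ (commutator Γ) hcomm
  have hmapc : (commutator Γ).map σ = commutator Q := by
    rw [commutator_def, Subgroup.map_commutator, Subgroup.map_top_of_surjective _ hsurj,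
      commutator_def]
  rw [hmapc] at E4
  -- combine
  have hApos : 0 < Nat.card σ.ker := Nat.card_pos
  have hQpos : 0 < Nat.card (commutator Q) := Nat.card_pos
  have : Nat.card σ.ker * Nat.card (commutator Q) *
      Nat.card ↥(N ⊓ Subgroup.centralizer ({t} : Set Γ)) =
      Nat.card σ.ker * Nat.card (commutator Q) *
      Nat.card ↥(R ⊓ Subgroup.centralizer ({s} : Set Q)) := by
    calc Nat.card σ.ker * Nat.card (commutator Q) *
          Nat.card ↥(N ⊓ Subgroup.centralizer ({t} : Set Γ))
        = Nat.card (commutator Γ) * Nat.card ↥(N ⊓ Subgroup.centralizer ({t} : Set Γ)) := by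
          rw [E4]
      _ = Nat.card N := E1
      _ = Nat.card σ.ker * Nat.card R := E3
      _ = Nat.card σ.ker * (Nat.card (commutator Q) *
          Nat.card ↥(R ⊓ Subgroup.centralizer ({s} : Set Q))) := by rw [E2]
      _ = _ := by ring
  exact Nat.eq_of_mul_eq_mul_left (Nat.mul_pos hApos hQpos) this

/-- the kernel of a stem extension lies in the centralizer of `t` inside any preimage -/
theorem ker_le_comap_inf_centralizer {Γ : Type u} {Q : Type v} [Group Γ] [Group Q]
    (σ : Γ →* Q) (hσ : IsStemExtension σ) (R : Subgroup Q) (t : Γ) :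
    σ.ker ≤ R.comap σ ⊓ Subgroup.centralizer ({t} : Set Γ) := by
  intro a ha
  rw [Subgroup.mem_inf]
  refine ⟨?_, ?_⟩
  · rw [Subgroup.mem_comap, MonoidHom.mem_ker.mp ha]; exact R.one_mem
  · rw [Subgroup.mem_centralizer_iff]
    intro y hy
    rw [Set.mem_singleton_iff] at hy
    subst hy
    exact (Subgroup.mem_center_iff.mp (hσ.2.1 ha) y)

end Cfsg.Agent.Lib.Helper21
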