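import Mathlib
import Cfsg.Agent.Lib.Helper17.ExtFDefs

/-!
# S5886 FO-Eb (helper21, for architect helper17): functionals `V → F` through `L`
-/

set_option autoImplicit false
set_option linter.unusedSectionVars false
set_option linter.style.haveILetI false
set_option linter.unusedVariables false

namespace Cfsg.Agent.Lib.Helper21.S5886Eb

open Matrix Module Cfsg.Agent.Lib.Helper17.ExtF

variable {F : Type*} [Field F] [Fintype F] {L : Type*} [Field L] [Algebra F L] {n : ℕ}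
  (ρ : L →ₐ[F] Matrix (Fin n) (Fin n) F) {r : ℕ}

/-- `c ↦ τ (c * ·)` -/
noncomputable def theta (τ : L →ₗ[F] F) : L →ₗ[F] (L →ₗ[F] F) where
  toFun c := τ ∘ₗ LinearMap.mulLeft F c
  map_add' a b := by
    ext x
    simp [add_mul]
  map_smul' k a := by
    ext x
    simp

theorem theta_apply (τ : L →ₗ[F] F) (c x : L) : theta τ c x = τ (c * x) := rfl

theorem theta_injective (τ : L →ₗ[F] F) (hτ : τ ≠ 0) : Function.Injective (theta τ) := by
  rw [← LinearMap.ker_eq_bot, LinearMap.ker_eq_bot']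
  intro c hc
  by_contra hne
  apply hτ
  ext x
  have h := LinearMap.congr_fun hc (c⁻¹ * x)
  rw [theta_apply, ← mul_assoc, mul_inv_cancel₀ hne, one_mul] at h
  simpa using h

theorem theta_surjective (hrk : finrank F L = r) (hr : 0 < r) (τ : L →ₗ[F] F) (hτ : τ ≠ 0) :
    Function.Surjective (theta τ) := by
  haveI : Module.Finite F L := Module.finite_of_finrank_pos (by omega)
  have hd : finrank F L = finrank F (L →ₗ[F] F) := (Subspace.dual_finrank_eq).symm
  exact (LinearMap.injective_iff_surjective_of_finrank_eq_finrank hd).mp (theta_injective τ hτ)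

/-- HOM1 -/
theorem exists_mul_functional (hrk : finrank F L = r) (hr : 0 < r) (τ τ' : L →ₗ[F] F)
    (hτ : τ ≠ 0) : ∃ c : L, ∀ x, τ' x = τ (c * x) := by
  obtain ⟨c, hc⟩ := theta_surjective hrk hr τ hτ τ'
  exact ⟨c, fun x => by rw [← hc, theta_apply]⟩

theorem exists_ne_zero_functional (hrk : finrank F L = r) (hr : 0 < r) :
    ∃ τ : L →ₗ[F] F, τ ≠ 0 := by
  haveI : Module.Finite F L := Module.finite_of_finrank_pos (by omega)
  have hd : 0 < finrank F (L →ₗ[F] F) := by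
    rw [show finrank F (L →ₗ[F] F) = finrank F L from Subspace.dual_finrank_eq]; omega
  exact (Module.finrank_pos_iff_exists_ne_zero).mp hd

/-- `v ↦ (a ↦ φ (ρ a v))` -/
noncomputable def bigPhi (φ : (Fin n → F) →ₗ[F] F) : (Fin n → F) →ₗ[F] (L →ₗ[F] F) where
  toFun v := φ ∘ₗ orb ρ v
  map_add' v w := by
    ext a
    simp [Matrix.mulVec_add]
  map_smul' k v := by
    ext a
    simp [Matrix.mulVec_smul]

theorem bigPhi_apply (φ : (Fin n → F) →ₗ[F] F) (v : Fin n → F) (a : L) :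
    bigPhi ρ φ v a = φ (ρ a *ᵥ v) := rfl

/-- REP -/
theorem exists_rep (hrk : finrank F L = r) (hr : 0 < r) (φ : (Fin n → F) →ₗ[F] F) (hφ : φ ≠ 0) :
    ∃ (ψ : (Fin n → F) →ₗ[F] L) (τ : L →ₗ[F] F), Lin ρ ψ ∧ (∃ e, ψ e = 1) ∧ φ = τ ∘ₗ ψ ∧
      ∀ u, (∀ a : L, φ (ρ a *ᵥ u) = 0) → ψ u = 0 := by
  obtain ⟨τ, hτ⟩ := exists_ne_zero_functional (F := F) (L := L) hrk hr
  have hinj := theta_injective τ hτ
  have hsurj := theta_surjective hrk hr τ hτ
  let Θ : L ≃ₗ[F] (L →ₗ[F] F) := LinearEquiv.ofBijective (theta τ) ⟨hinj, hsurj⟩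
  let ψ : (Fin n → F) →ₗ[F] L := Θ.symm.toLinearMap ∘ₗ bigPhi ρ φ
  have hΘ : ∀ v, theta τ (ψ v) = bigPhi ρ φ v := by
    intro v
    change Θ (Θ.symm (bigPhi ρ φ v)) = _
    rw [LinearEquiv.apply_symm_apply]
  have key : ∀ v a, τ (ψ v * a) = φ (ρ a *ᵥ v) := by
    intro v a
    rw [← theta_apply, hΘ, bigPhi_apply]
  have hlin : Lin ρ ψ := by
    intro b v
    apply hinj
    ext a
    rw [theta_apply, theta_apply, key, ← rho_mul_mulVec ρ a b v, mul_comm b (ψ v), mul_assoc, key, mul_comm b a]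
  have hφψ : ∀ v, φ v = τ (ψ v) := by
    intro v
    have := key v 1
    rw [mul_one, map_one, Matrix.one_mulVec] at this
    exact this.symm
  refine ⟨ψ, τ, hlin, ?_, ?_, ?_⟩
  · obtain ⟨v, hv⟩ : ∃ v, φ v ≠ 0 := by
      by_contra hcon
      apply hφ
      ext v
      by_contra h2
      exact hcon ⟨_, h2⟩
    have hne : ψ v ≠ 0 := by
      intro h0
      apply hv
      rw [hφψ, h0, map_zero]
    refine ⟨ρ (ψ v)⁻¹ *ᵥ v, ?_⟩
    rw [hlin, inv_mul_cancel₀ hne]
  · apply LinearMap.ext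
    intro v
    rw [LinearMap.comp_apply, hφψ]
  · intro u hu
    have h0 : bigPhi ρ φ u = 0 := by
      ext a
      rw [bigPhi_apply, hu a, LinearMap.zero_apply]
    change Θ.symm (bigPhi ρ φ u) = 0
    rw [h0, map_zero]

end Cfsg.Agent.Lib.Helper21.S5886Eb
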