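import Mathlib
import Cfsg.Agent.Lib.Helper7.SpExtDefs
import Cfsg.Agent.Lib.Helper21.S5886FOEb

/-!
# S5664 FO-BASb (helper21, for architect helper7): `finrank_pt`, `finrank_Img`, `exists_tau_rep`
-/

set_option autoImplicit false
set_option linter.unusedSectionVars false
set_option linter.unusedVariables false

namespace Cfsg.Agent.Lib.Helper21.S5664BASb

open Matrix Module Cfsg.Agent.Lib.Helper7.SpExt

variable {F : Type*} [Field F] [Fintype F] {L : Type*} [Field L] [Algebra F L] {ι : Type} [Fintype ι]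
  [DecidableEq ι] {ρ : L →ₐ[F] Matrix ι ι F} {f : (ι → F) →ₗ[F] (ι → F) →ₗ[F] F} {τ : L →ₗ[F] F}
  {B : (ι → F) →ₗ[F] (ι → F) →ₗ[F] L} {r : ℕ}

theorem orb_injective (ρ : L →ₐ[F] Matrix ι ι F) {v : ι → F} (hv : v ≠ 0) :
    Function.Injective (orb ρ v) := by
  rw [← LinearMap.ker_eq_bot, LinearMap.ker_eq_bot']
  intro a ha
  by_contra hne
  apply hv
  have h1 : v = ρ a⁻¹ *ᵥ (ρ a *ᵥ v) := by
    rw [← rho_mul_mulVec, inv_mul_cancel₀ hne, rho_one_mulVec]
  have h2 : ρ a *ᵥ v = 0 := ha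
  rw [h1, h2, Matrix.mulVec_zero]

theorem finrank_pt (ρ : L →ₐ[F] Matrix ι ι F) (hrk : finrank F L = r) (hr : 0 < r) {v : ι → F}
    (hv : v ≠ 0) : finrank F ↥(pt ρ v) = r := by
  rw [← hrk]
  exact LinearMap.finrank_range_of_inj (orb_injective ρ hv)

theorem actL_injective (g : GL ι F) : Function.Injective (actL g) := by
  intro v w h
  exact act_injective g h

theorem finrank_Img (ρ : L →ₐ[F] Matrix ι ι F) (hrk : finrank F L = r) (hr : 0 < r) (g : GL ι F)
    {v : ι → F} (hv : v ≠ 0) : finrank F ↥(Img ρ g v) = r := by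
  rw [← finrank_pt ρ hrk hr hv]
  exact (Submodule.equivMapOfInjective (actL g) (actL_injective g) (pt ρ v)).finrank_eq.symm

theorem exists_tau_rep (hrk : finrank F L = r) (hr : 0 < r) {τ : L →ₗ[F] F} (hτ : τ ≠ 0)
    (κ : L →ₗ[F] F) : ∃ z : L, ∀ x, κ x = τ (z * x) :=
  Cfsg.Agent.Lib.Helper21.S5886Eb.exists_mul_functional hrk hr τ κ hτ

end Cfsg.Agent.Lib.Helper21.S5664BASb
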