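import Mathlib
import Cfsg.Agent.Lib.Helper2.BG13Main
import Cfsg.Agent.Lib.Helper22.BG139
import Cfsg.Agent.Lib.Helper29.BG13K2
import Cfsg.Agent.Lib.Helper3.BG13NE

/-!
# S1430, Case II: the Frobenius lemma (FB)

`K` of prime order `k`, `R` of prime order `r`, both `σ(M)'`, `R` normalizing `K` fixed-point-freely,
`K ≤ M'`, `K` not centralizing `M_σ`.  Then `C_{M_β}(R) ≠ 1` and `C_{M_σ}(R) ⊄ C(K)`.
-/

open Cfsg
open Cfsg.Agent.Lib.Helper10.BG Cfsg.Agent.Lib.Helper10 Cfsg.Agent.Lib.Helper9.BGExc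
open Cfsg.Agent.Lib.Helper1 (CoprimeAct)

namespace Cfsg.Agent.Lib.Helper21.BG1430

variable {G : Type*} [Group G] [Finite G]

/-- an element commuting with a nonidentity element of a group of prime order centralizes it. -/
theorem mem_centralizer_of_commute_prime {R : Subgroup G} {r : ℕ} [Fact r.Prime]
    (hR : Nat.card R = r) {ρ κ : G} (hρ : ρ ∈ R) (hρ1 : ρ ≠ 1) (hc : ρ * κ = κ * ρ) :
    κ ∈ Subgroup.centralizer (R : Set G) := by
  have hz : Subgroup.zpowers ρ = R := by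
    apply Subgroup.eq_of_le_of_card_ge (Subgroup.zpowers_le.mpr hρ)
    rw [hR, Nat.card_zpowers]
    have h1 : orderOf ρ ∣ r := by
      rw [← hR]
      have := Subgroup.orderOf_dvd_natCard R hρ
      exact this
    rcases (Nat.dvd_prime (Fact.out : r.Prime)).mp h1 with h | h
    · exact absurd (orderOf_eq_one_iff.mp h) hρ1
    · exact h.ge
  rw [Subgroup.mem_centralizer_iff]
  intro x hx
  rw [← hz] at hx
  obtain ⟨n, rfl⟩ := Subgroup.mem_zpowers_iff.mp hx
  have : Commute ρ κ := hc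
  exact (this.zpow_left n).eq

/-- **Lemma FB.** -/
theorem frob_fixed (hG : IsMinSimpleOddOrder G) {M K R : Subgroup G} (hM : IsCoatom M)
    {k r : ℕ} [Fact k.Prime] [Fact r.Prime] (hK : Nat.card K = k) (hR : Nat.card R = r)
    (hKM' : K ≤ ⁅M, M⁆) (hRM : R ≤ M) (hkσ : k ∉ sigma M) (hrσ : r ∉ sigma M)
    (hRK : R ≤ Subgroup.normalizer (K : Set G))
    (hfpf : K ⊓ Subgroup.centralizer (R : Set G) = ⊥)
    (hnc : ¬ sigmaCore M ≤ Subgroup.centralizer (K : Set G)) :
    piCoreOf (beta M) M ⊓ Subgroup.centralizer (R : Set G) ≠ ⊥ ∧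
      ¬ sigmaCore M ⊓ Subgroup.centralizer (R : Set G) ≤ Subgroup.centralizer (K : Set G) := by
  have hkp : k.Prime := Fact.out
  have hrp : r.Prime := Fact.out
  have hKM : K ≤ M := hKM'.trans (Cfsg.Agent.Lib.Helper7.BG13.commutator_self_le M)
  have hJM : K ⊔ R ≤ M := sup_le hKM hRM
  have hJcard : Nat.card (K ⊔ R : Subgroup G) ∣ k * r := by
    have := Cfsg.Agent.Lib.Helper9.card_sup_dvd_of_le_normalizer hRK
    rwa [hK, hR] at this
  have hJσ : ∀ q : ℕ, q.Prime → q ∣ Nat.card (K ⊔ R : Subgroup G) → q ∉ sigma M := by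
    intro q hq hd
    rcases (Nat.Prime.dvd_mul hq).mp (hd.trans hJcard) with h | h
    · rwa [(Nat.prime_dvd_prime_iff_eq hq hkp).mp h]
    · rwa [(Nat.prime_dvd_prime_iff_eq hq hrp).mp h]
  have hact : CoprimeAct (K ⊔ R) (sigmaCore M) :=
    ⟨hJM.trans (le_normalizer_sigmaCore M),
      Cfsg.Agent.Lib.Helper19.BGCompl.coprime_card_sigmaCore_of hG hM hJσ,
      Or.inl (isSolvable_of_ne_top hG (ne_top_of_le_isCoatom hM hJM))⟩
  -- an invariant `q`-subgroup not centralized by `K`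
  obtain ⟨q, hq, Y, hYσ, hYq, hJY, hYK⟩ : ∃ q : ℕ, q.Prime ∧ ∃ Y : Subgroup G, Y ≤ sigmaCore M ∧
      IsPGroup q Y ∧ K ⊔ R ≤ Subgroup.normalizer (Y : Set G) ∧
      ¬ Y ≤ Subgroup.centralizer (K : Set G) := by
    by_contra hcon
    apply hnc
    apply le_of_invariant_pgroups_le hact
    intro q hq Y hY1 hY2 hY3
    by_contra hY4
    exact hcon ⟨q, hq, Y, hY1, hY2, hY3, hY4⟩
  have : Fact q.Prime := ⟨hq⟩
  have hKY : K ≤ Subgroup.normalizer (Y : Set G) := le_sup_left.trans hJY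
  have hRY : R ≤ Subgroup.normalizer (Y : Set G) := le_sup_right.trans hJY
  have hY1 : Y ≠ ⊥ := by
    intro h
    apply hYK
    rw [h]
    exact bot_le
  have hqY : q ∣ Nat.card Y := Cfsg.Agent.Lib.Helper3.BG13NE.dvd_card_of_pgroup_ne_bot le_rfl hYq hY1
  have hqσ : q ∈ sigma M :=
    mem_sigma_of_dvd_card_sigmaCore hG hM hq (hqY.trans (Subgroup.card_dvd_of_le hYσ))
  have hYM : Y ≤ M := hYσ.trans (sigmaCore_le M)
  have hkq : k ≠ q := fun h => hkσ (h ▸ hqσ)
  have hrq : r ≠ q := fun h => hrσ (h ▸ hqσ)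
  obtain ⟨n, hn⟩ := IsPGroup.iff_card.mp hYq
  have hcopK : (Nat.card K).Coprime (Nat.card Y) := by
    rw [hK, hn]
    exact Nat.Coprime.pow_right n ((Nat.coprime_primes hkp hq).mpr hkq)
  have hcopR : (Nat.card R).Coprime (Nat.card Y) := by
    rw [hR, hn]
    exact Nat.Coprime.pow_right n ((Nat.coprime_primes hrp hq).mpr hrq)
  -- `q ∈ β(M)`
  have hqβ : q ∈ beta M := by
    by_contra hqβ
    apply hYK
    have h1 := Cfsg.Agent.Lib.Helper22.BG139.commutator_eq_bot_of_not_beta hG hM hKM'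
      (hYσ.trans (sigmaCore_le_commutator hG hM)) hKY hcopK
      (fun t ht hd hβ => by
        rw [hK] at hd
        rw [(Nat.prime_dvd_prime_iff_eq ht hkp).mp hd] at hβ
        exact hkσ (alpha_subset_sigma hG hM hβ.1))
      (fun t ht hd hβ => by
        rw [hn] at hd
        rw [(Nat.prime_dvd_prime_iff_eq ht hq).mp (ht.dvd_of_dvd_pow hd)] at hβ
        exact hqβ hβ)
    exact Subgroup.commutator_eq_bot_iff_le_centralizer.mp h1
  -- the generation lemma
  have hgen : ¬ Y ⊓ Subgroup.centralizer (R : Set G) ≤ Subgroup.centralizer (K : Set G) := by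
    intro hle
    apply hYK
    have hKC : K ≤ Subgroup.normalizer (Subgroup.centralizer (K : Set G) : Set G) :=
      le_normalizer_centralizer Subgroup.le_normalizer
    have hRC : R ≤ Subgroup.normalizer (Subgroup.centralizer (K : Set G) : Set G) :=
      le_normalizer_centralizer hRK
    have := Cfsg.Agent.Lib.Helper2.BG13.le_of_centralizers_le (S := K) (P := R) (V := Y)
      (H := Y ⊓ Subgroup.centralizer (K : Set G)) hRK
      (isSolvable_of_ne_top hG (ne_top_of_le_isCoatom hM hKM)) hKY hRY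
      (hYq.isNilpotent)
      (Nat.Coprime.mul_left hcopK hcopR)
      (fun ρ hρ hρ1 κ hκ hc => by
        have h1 : κ ∈ K ⊓ Subgroup.centralizer (R : Set G) :=
          ⟨hκ, mem_centralizer_of_commute_prime hR hρ hρ1 hc⟩
        rw [hfpf] at h1
        exact Subgroup.mem_bot.mp h1)
      (le_normalizer_inf hKY hKC) (le_normalizer_inf hRY hRC)
      le_rfl (le_inf inf_le_left hle)
    exact this.trans inf_le_right
  obtain ⟨x, hx, hxK⟩ := SetLike.not_le_iff_exists.mp hgen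
  have hxβ : x ∈ piCoreOf (beta M) M :=
    Cfsg.Agent.Lib.Helper2.BG13.pgroup_le_betaCore hG hM hqβ hYq hYM hx.1
  constructor
  · intro hbot
    apply hxK
    have : x ∈ piCoreOf (beta M) M ⊓ Subgroup.centralizer (R : Set G) := ⟨hxβ, hx.2⟩
    rw [hbot, Subgroup.mem_bot] at this
    rw [this]
    exact Subgroup.one_mem _
  · intro hle
    exact hxK (hle ⟨hYσ hx.1, hx.2⟩)

end Cfsg.Agent.Lib.Helper21.BG1430
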