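import Mathlib

/-!
# S2041-[L1],[L2] (helper10's front): lifts of `p'`-order through a (central) `p`-group kernel
-/

set_option autoImplicit false

namespace Cfsg.Agent.Lib.Helper10.Weak

universe u v

/-- [L1] an element of order prime to `p` lifts to an element of the same order when the kernel is a `p`-group
(no centrality needed: take a suitable power of any lift) -/
theorem exists_lift_pow_eq_one {Γ : Type u} {G : Type v} [Group Γ] [Finite Γ] [Group G] (σ : Γ →* G)
    (hs : Function.Surjective σ) {p : ℕ} (hk : IsPGroup p σ.ker) (x : G) {n : ℕ} (hn : n.Coprime p)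
    (hx : x ^ n = 1) : ∃ y : Γ, σ y = x ∧ y ^ n = 1 := by
  obtain ⟨y0, rfl⟩ := hs x
  have hker : y0 ^ n ∈ σ.ker := by rw [MonoidHom.mem_ker, map_pow, hx]
  obtain ⟨k, hk1⟩ := hk ⟨y0 ^ n, hker⟩
  have hk' : (y0 ^ n) ^ (p ^ k) = 1 := by
    have := congrArg Subtype.val hk1
    simpa using this
  have hcop : Nat.Coprime (p ^ k) n := Nat.Coprime.pow_left k hn.symm
  have hb := Nat.gcd_eq_gcd_ab (p ^ k) n
  rw [hcop.gcd_eq_one] at hb
  generalize Nat.gcdA (p ^ k) n = A at hb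
  generalize Nat.gcdB (p ^ k) n = B at hb
  generalize hm : p ^ k = m at hb hk'
  refine ⟨y0 ^ ((m : ℤ) * A), ?_, ?_⟩
  · rw [map_zpow]
    have h1 : (m : ℤ) * A = 1 - (n : ℤ) * B := by
      have : ((1 : ℕ) : ℤ) = 1 := Nat.cast_one
      rw [this] at hb
      linarith
    rw [h1, zpow_sub, zpow_one, zpow_mul, zpow_natCast, hx, one_zpow, inv_one, mul_one]
  · rw [← zpow_natCast, ← zpow_mul]
    have h1 : (m : ℤ) * A * (n : ℤ) = (n : ℤ) * (m : ℤ) * A := by ring
    rw [h1, zpow_mul, zpow_mul, zpow_natCast, zpow_natCast, hk', one_zpow]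

/-- [L2] ... uniquely, when the kernel is central (two possibly different exponents) -/
theorem lift_unique {Γ : Type u} {G : Type v} [Group Γ] [Group G] (σ : Γ →* G)
    (hc : σ.ker ≤ Subgroup.center Γ) {p : ℕ} (hk : IsPGroup p σ.ker) {n m : ℕ} (hn : n.Coprime p)
    (hm : m.Coprime p) {y y' : Γ} (hy : y ^ n = 1) (hy' : y' ^ m = 1) (h : σ y = σ y') : y = y' := by
  have hzker : y⁻¹ * y' ∈ σ.ker := by
    rw [MonoidHom.mem_ker, map_mul, map_inv, h, inv_mul_cancel]
  have hzc : ∀ g : Γ, g * (y⁻¹ * y') = (y⁻¹ * y') * g := Subgroup.mem_center_iff.mp (hc hzker)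
  obtain ⟨k, hk1⟩ := hk ⟨y⁻¹ * y', hzker⟩
  have hk' : (y⁻¹ * y') ^ (p ^ k) = 1 := by
    have := congrArg Subtype.val hk1
    simpa using this
  have hznm : (y⁻¹ * y') ^ (n * m) = 1 := by
    have hcomm : Commute y (y⁻¹ * y') := hzc y
    have h1 : y' = y * (y⁻¹ * y') := by group
    have h2' : y' ^ (n * m) = y ^ (n * m) * (y⁻¹ * y') ^ (n * m) := by
      conv_lhs => rw [h1]
      exact hcomm.mul_pow (n * m)
    have h3 : y' ^ (n * m) = 1 := by rw [mul_comm, pow_mul, hy', one_pow]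
    have h4 : y ^ (n * m) = 1 := by rw [pow_mul, hy, one_pow]
    rw [h3, h4, one_mul] at h2'
    exact h2'.symm
  have hcop : Nat.Coprime (p ^ k) (n * m) :=
    Nat.Coprime.pow_left k (Nat.Coprime.mul_left hn hm).symm
  have hord : orderOf (y⁻¹ * y') ∣ Nat.gcd (p ^ k) (n * m) :=
    Nat.dvd_gcd (orderOf_dvd_of_pow_eq_one hk') (orderOf_dvd_of_pow_eq_one hznm)
  rw [hcop.gcd_eq_one, Nat.dvd_one, orderOf_eq_one_iff] at hord
  exact (inv_mul_eq_one.mp hord)

end Cfsg.Agent.Lib.Helper10.Weak
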