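import Mathlib
import Cfsg.Agent.H5.TCkSound
import Cfsg.Agent.H5.StemTC
import Cfsg.Agent.Lib.Helper21.WeakL12
import Cfsg.Agent.Lib.Helper1.Co2MData

/-!
S2044-[B] (architect helper1): an amalgam relator `l w₁ l⁻¹ w₂` with `w₁` of odd order lifts exactly to a
central extension with `2`-group kernel.
-/

set_option autoImplicit false

namespace Cfsg.Agent.Lib.Helper1.Co2M

open Cfsg Cfsg.H5.TCk
open Cfsg.H5.StemTC (cword cwords)

universe u

namespace Helper21

theorem ev_wpow {Γ : Type u} [Group Γ] (γ : ℕ → Γ) (w : List ℕ) (n : ℕ) :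
    ev γ (wpow w n) = ev γ w ^ n := by
  induction n with
  | zero => simp [wpow, ev]
  | succ k ih => rw [wpow, ev_append, ih, pow_succ']

theorem all_wpow (w : List ℕ) (n : ℕ) (p : ℕ → Bool) (h : w.all p = true) :
    (wpow w n).all p = true := by
  induction n with
  | zero => simp [wpow]
  | succ k ih => rw [wpow, List.all_append, h, ih]; rfl

theorem ev_congr_all {Γ : Type u} [Group Γ] (g g' : ℕ → Γ) (t : ℕ) (h : ∀ i < t, g i = g' i)
    (w : List ℕ) (hw : w.all (fun l => decide (l < 2 * t)) = true) : ev g w = ev g' w := by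
  induction w with
  | nil => rfl
  | cons l w ih =>
    rw [List.all_cons, Bool.and_eq_true] at hw
    have hl : l < 2 * t := of_decide_eq_true hw.1
    have hl2 : l / 2 < t := by omega
    simp only [ev]
    rw [ih hw.2]
    congr 1
    unfold gl
    rw [h _ hl2]

theorem all_mono (w : List ℕ) (a b : ℕ) (hab : a ≤ b) (h : w.all (fun l => decide (l < a)) = true) :
    w.all (fun l => decide (l < b)) = true := by
  rw [List.all_eq_true] at h ⊢
  intro x hx
  have := of_decide_eq_true (h x hx)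
  exact decide_eq_true (by omega)

end Helper21

/-- [B] -/
theorem ev_amal_eq_one {G : Type u} [Group G] {Δ : Type u} [Group Δ]
    (τ : Δ →* G) (hc : τ.ker ≤ Subgroup.center Δ) (hk : IsPGroup 2 τ.ker) (g : ℕ → G) (γ : ℕ → Δ)
    (hγ : ∀ i < 6, τ (γ i) = g i)
    (hinj : ∀ w : List ℕ, w.all (fun l => decide (l < 10)) = true → ev g w = 1 → ev γ w = 1)
    (q : ℕ × List ℕ × List ℕ × ℕ) (hl : q.1 < 12)
    (h1 : q.2.1.all (fun l => decide (l < 10)) = true) (h2 : q.2.2.1.all (fun l => decide (l < 10)) = true)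
    (hn : q.2.2.2 % 2 = 1) (hord : ev g (ordWord q) = 1) (hrel : ev g (amalRel q) = 1) :
    ev γ (amalRel q) = 1 := by
  obtain ⟨l, w1, w2, n⟩ := q
  simp only at hl h1 h2 hn
  simp only [ordWord] at hord
  simp only [amalRel, ev_append, ev, mul_one, gl_linv] at hrel ⊢
  -- images
  have hτev : ∀ w : List ℕ, w.all (fun l => decide (l < 2 * 6)) = true → τ (ev γ w) = ev g w := by
    intro w hw
    rw [Cfsg.H5.StemTC.map_ev]
    exact Helper21.ev_congr_all _ _ 6 hγ w hw
  have hτl : τ (gl γ l) = gl g l := by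
    have := hτev [l] (by simp only [List.all_cons, List.all_nil, Bool.and_true]; exact decide_eq_true hl)
    simpa [ev] using this
  have hτ1 : τ (ev γ w1) = ev g w1 := hτev w1 (Helper21.all_mono w1 10 (2 * 6) (by norm_num) h1)
  have hτ2 : τ (ev γ w2) = ev g w2 := hτev w2 (Helper21.all_mono w2 10 (2 * 6) (by norm_num) h2)
  -- orders
  have ha : ev γ w1 ^ n = 1 := by
    rw [← Helper21.ev_wpow]
    exact hinj _ (Helper21.all_wpow w1 n _ h1) hord
  have hgw1 : ev g w1 ^ n = 1 := by rw [← Helper21.ev_wpow]; exact hord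
  have hg2 : ev g w2 = (gl g l * ev g w1 * (gl g l)⁻¹)⁻¹ := eq_inv_of_mul_eq_one_right hrel
  have hgw2 : ev g (wpow w2 n) = 1 := by
    rw [Helper21.ev_wpow, hg2, inv_pow, conj_pow, hgw1, mul_one, mul_inv_cancel, inv_one]
  have hb : ev γ w2 ^ n = 1 := by
    rw [← Helper21.ev_wpow]
    exact hinj _ (Helper21.all_wpow w2 n _ h2) hgw2
  have hcop : n.Coprime 2 := by
    exact (Nat.coprime_two_right).mpr (Nat.odd_iff.mpr hn)
  have hy : (gl γ l * ev γ w1 * (gl γ l)⁻¹) ^ n = 1 := by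
    rw [conj_pow, ha, mul_one, mul_inv_cancel]
  have hy' : ((ev γ w2)⁻¹) ^ n = 1 := by rw [inv_pow, hb, inv_one]
  have himg : τ (gl γ l * ev γ w1 * (gl γ l)⁻¹) = τ ((ev γ w2)⁻¹) := by
    rw [map_mul, map_mul, map_inv, map_inv, hτl, hτ1, hτ2, hg2, inv_inv]
  have huniq := Cfsg.Agent.Lib.Helper10.Weak.lift_unique τ hc hk hcop hcop hy hy' himg
  rw [huniq, inv_mul_cancel]

end Cfsg.Agent.Lib.Helper1.Co2M
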