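import Mathlib
import Cfsg.Agent.H5.TCkSound
import Cfsg.Agent.Lib.Helper5.Sp62Data

/-!
# S2093 piece [P] (helper21): a group generated by three elements satisfying `relsK` is perfect
-/

set_option autoImplicit false

namespace Cfsg.Agent.Lib.Helper5.Sp62

open Cfsg.H5.TCk
open scoped commutatorElement

universe u

namespace Helper21P

theorem ev_replicate {G : Type u} [Group G] (g : ℕ → G) (m c : ℕ) :
    ev g (List.replicate m c) = gl g c ^ m := by
  induction m with
  | zero => simp [ev]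
  | succ k ih => rw [List.replicate_succ, ev, ih, pow_succ']

theorem ev_cr {G : Type u} [Group G] (g : ℕ → G) (u : List ℕ) (i c m : ℕ) :
    ev g (cr u i c m) = ev g u * g i * (ev g u)⁻¹ * gl g c ^ m := by
  unfold cr
  rw [ev_append, ev_append, ev_append, ev_winv, ev_replicate]
  have h : ev g [2 * i] = g i := by
    rw [ev, ev, gl_even, mul_one]
  rw [h]

theorem mul_pow_mem_commutator {G : Type u} [Group G] (g : ℕ → G) (u : List ℕ) (i c m : ℕ)
    (h : ev g (cr u i c m) = 1) : g i * gl g c ^ m ∈ commutator G := by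
  rw [ev_cr] at h
  have h2 : gl g c ^ m = (ev g u * g i * (ev g u)⁻¹)⁻¹ := eq_inv_of_mul_eq_one_right h
  rw [h2]
  have h3 : g i * (ev g u * g i * (ev g u)⁻¹)⁻¹ = ⁅g i, ev g u⁆ := by
    rw [commutatorElement_def]; group
  rw [h3, commutator_def]
  exact Subgroup.commutator_mem_commutator (Subgroup.mem_top _) (Subgroup.mem_top _)

end Helper21P

open Helper21P in
/-- [P] a group generated by three elements satisfying `relsK` is perfect -/
theorem commutator_eq_top_of_relsK {G : Type u} [Group G] (g : ℕ → G)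
    (hgen : Subgroup.closure (Set.range fun i : Fin 3 => g i.val) = ⊤)
    (hrel : ∀ r ∈ relsK, ev g r = 1) : commutator G = ⊤ := by
  have h1 := mul_pow_mem_commutator g [1, 1, 3, 1] 1 3 2 (hrel _ (by decide))
  have h2 := mul_pow_mem_commutator g [1, 3, 1, 3, 1, 2] 0 3 2 (hrel _ (by decide))
  have h3 := mul_pow_mem_commutator g [2, 5] 1 4 2 (hrel _ (by decide))
  have h7 : ev g (List.replicate 7 4) = 1 := hrel _ (by decide)
  rw [ev_replicate] at h7
  have e3 : gl g 3 = (g 1)⁻¹ := gl_odd g 1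
  have e4 : gl g 4 = g 2 := gl_even g 2
  rw [e3] at h1 h2
  rw [e4] at h3 h7
  have hb : g 1 ∈ commutator G := by
    have : g 1 * (g 1)⁻¹ ^ 2 = (g 1)⁻¹ := by group
    rw [this] at h1
    exact (Subgroup.inv_mem_iff _).mp h1
  have ha : g 0 ∈ commutator G := by
    have : g 0 = (g 0 * (g 1)⁻¹ ^ 2) * (g 1) ^ 2 := by group
    rw [this]
    exact Subgroup.mul_mem _ h2 (Subgroup.pow_mem _ hb 2)
  have hw2 : g 2 ^ 2 ∈ commutator G := by
    have : g 2 ^ 2 = (g 1)⁻¹ * (g 1 * g 2 ^ 2) := by group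
    rw [this]
    exact Subgroup.mul_mem _ (Subgroup.inv_mem _ hb) h3
  have hw : g 2 ∈ commutator G := by
    have : g 2 = (g 2 ^ 2) ^ 4 * (g 2 ^ 7)⁻¹ := by group
    rw [this, h7, inv_one, mul_one]
    exact Subgroup.pow_mem _ hw2 4
  rw [eq_top_iff, ← hgen, Subgroup.closure_le]
  rintro x ⟨i, rfl⟩
  fin_cases i
  · exact ha
  · exact hb
  · exact hw

end Cfsg.Agent.Lib.Helper5.Sp62
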