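import Mathlib
import Cfsg.Agent.H5.TCkSound
import Cfsg.Agent.Lib.Helper5.Sp62Data
import Cfsg.Agent.Lib.Helper21.Sp62P

/-!
# S2101 piece [P] (helper21): generators in the commutator subgroup from conjugation relators

Port of `Helper21P.check` (`Lib/Helper21/O8pP.lean`) from `7` to a prime parameter `p`: a verified checker
propagates "generator lies in the commutator subgroup" along the conjugation relators `u xᵢ u⁻¹ = c ^ (-m)`
(each gives `xᵢ * c ^ m ∈ Γ'`), using only `xᵢ ^ p = 1`.
-/

set_option autoImplicit false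

namespace Cfsg.Agent.Lib.Helper16.G23M

open Cfsg.H5.TCk
open Cfsg.Agent.Lib.Helper5.Sp62 (cr crOf)

universe u

namespace Helper21

/-- insert without repetition -/
def ins (a : ℕ) (l : List ℕ) : List ℕ := if a ∈ l then l else a :: l

/-- the exponent of the letter `c`: `gl g c = g (c / 2) ^ ex p c` when `g (c / 2) ^ p = 1` -/
def ex (p c : ℕ) : ℕ := if c % 2 = 0 then 1 else p - 1

/-- the contribution of one conjugation relator `(u, i, c, m)` to the list of generators known to lie in the
commutator subgroup -/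
def stepDead (p n : ℕ) (dead : List ℕ) (q : List ℕ × ℕ × ℕ × ℕ) : List ℕ :=
  if q.2.2.1 / 2 ∈ dead then ins q.2.1 dead
  else if q.2.2.1 / 2 = q.2.1 ∧ q.2.1 < n ∧
      (ex p q.2.2.1 * q.2.2.2 + 1) % p ≠ 0 then ins q.2.1 dead
  else if q.2.1 ∈ dead ∧ q.2.2.1 / 2 < n ∧ q.2.2.2 % p ≠ 0 then ins (q.2.2.1 / 2) dead
  else dead

/-- one pass over the list of relators -/
def passDead (p n : ℕ) : List (List ℕ × ℕ × ℕ × ℕ) → List ℕ → List ℕ
  | [], d => d
  | q :: qs, d =>
    match stepDead p n d q with
    | [] => passDead p n qs []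
    | a :: l => passDead p n qs (a :: l)

theorem passDead_cons (p n : ℕ) (q : List ℕ × ℕ × ℕ × ℕ) (qs : List (List ℕ × ℕ × ℕ × ℕ))
    (d : List ℕ) : passDead p n (q :: qs) d = passDead p n qs (stepDead p n d q) := by
  rw [passDead]
  cases stepDead p n d q <;> rfl

/-- `k` passes -/
def iterDead (p n : ℕ) (conj : List (List ℕ × ℕ × ℕ × ℕ)) : ℕ → List ℕ → List ℕ
  | 0, d => d
  | k + 1, d =>
    match passDead p n conj d with
    | [] => iterDead p n conj k []
    | a :: l => iterDead p n conj k (a :: l)

theorem iterDead_succ (p n : ℕ) (conj : List (List ℕ × ℕ × ℕ × ℕ)) (k : ℕ) (d : List ℕ) :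
    iterDead p n conj (k + 1) d = iterDead p n conj k (passDead p n conj d) := by
  rw [iterDead]
  cases passDead p n conj d <;> rfl

/-- after `n` passes all `n` generators are known to lie in the commutator subgroup -/
def check (p n : ℕ) (conj : List (List ℕ × ℕ × ℕ × ℕ)) : Bool :=
  (List.range n).all (fun i => decide (i ∈ iterDead p n conj n []))

section Sound

variable {G : Type u} [Group G] (g : ℕ → G) (p n : ℕ)

/-- all listed generators lie in the commutator subgroup -/
def Good (d : List ℕ) : Prop := ∀ i ∈ d, g i ∈ commutator G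

theorem good_ins {d : List ℕ} (hd : Good g d) {a : ℕ} (ha : g a ∈ commutator G) :
    Good g (ins a d) := by
  intro i hi
  unfold ins at hi
  split_ifs at hi with h
  · exact hd i hi
  · rcases List.mem_cons.mp hi with h' | h'
    · rw [h']; exact ha
    · exact hd i h'

theorem mem_of_pow_mem (hp : p.Prime) {y : G} (h7 : y ^ p = 1) {a : ℕ} (ha : a % p ≠ 0)
    (hy : y ^ a ∈ commutator G) : y ∈ commutator G := by
  have hcop : Nat.Coprime a p := by
    rw [Nat.coprime_comm]
    apply (Nat.Prime.coprime_iff_not_dvd hp).mpr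
    intro hdvd
    exact ha (Nat.mod_eq_zero_of_dvd hdvd)
  have hg := Nat.gcd_eq_gcd_ab a p
  rw [Nat.Coprime.gcd_eq_one hcop] at hg
  have h1 : y = (y ^ a) ^ (Nat.gcdA a p) := by
    rw [← zpow_natCast, ← zpow_mul]
    have h2 : (a : ℤ) * Nat.gcdA a p = 1 - (p : ℤ) * Nat.gcdB a p := by
      push_cast at hg ⊢
      linarith
    rw [h2, zpow_sub, zpow_one, zpow_mul, zpow_natCast, h7, one_zpow, inv_one, mul_one]
  rw [h1]
  exact Subgroup.zpow_mem _ hy _

theorem good_step (hp : p.Prime) (h7 : ∀ i < n, g i ^ p = 1) {d : List ℕ} (hd : Good g d)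
    (q : List ℕ × ℕ × ℕ × ℕ) (hq : ev g (crOf q) = 1) : Good g (stepDead p n d q) := by
  obtain ⟨u, i, c, m⟩ := q
  have hrel : g i * gl g c ^ m ∈ commutator G :=
    Cfsg.Agent.Lib.Helper5.Sp62.Helper21P.mul_pow_mem_commutator g u i c m hq
  have hgl : gl g c = g (c / 2) ∨ gl g c = (g (c / 2))⁻¹ := by
    unfold gl
    split_ifs
    · left; rfl
    · right; rfl
  unfold stepDead
  simp only
  split_ifs with hA hB hC
  · apply good_ins g hd
    have hc : g (c / 2) ∈ commutator G := hd _ hA
    have hglm : gl g c ∈ commutator G := by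
      rcases hgl with h | h <;> rw [h]
      · exact hc
      · exact Subgroup.inv_mem _ hc
    have h1 : g i = (g i * gl g c ^ m) * (gl g c ^ m)⁻¹ := by group
    rw [h1]
    exact Subgroup.mul_mem _ hrel (Subgroup.inv_mem _ (Subgroup.pow_mem _ hglm m))
  · obtain ⟨hci, hin, hne⟩ := hB
    apply good_ins g hd
    have hy7 := h7 i hin
    have hgle : gl g c = g i ^ ex p c := by
      unfold gl ex
      rw [hci]
      split_ifs with h
      · rw [pow_one]
      · have h6 : g i ^ (p - 1) * g i = 1 := by
          rw [← pow_succ, Nat.sub_add_cancel hp.one_lt.le]; exact hy7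
        exact (eq_inv_of_mul_eq_one_left h6).symm
    rw [hgle, ← pow_mul, ← pow_succ'] at hrel
    exact mem_of_pow_mem p hp hy7 hne hrel
  · obtain ⟨hid, hcn, hm⟩ := hC
    apply good_ins g hd
    have hgi : g i ∈ commutator G := hd _ hid
    have hglm : gl g c ^ m ∈ commutator G := by
      have h1 : gl g c ^ m = (g i)⁻¹ * (g i * gl g c ^ m) := by group
      rw [h1]; exact Subgroup.mul_mem _ (Subgroup.inv_mem _ hgi) hrel
    have hy7 := h7 _ hcn
    have hym : g (c / 2) ^ m ∈ commutator G := by
      rcases hgl with h | h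
      · rw [h] at hglm; exact hglm
      · rw [h, inv_pow] at hglm; exact (Subgroup.inv_mem_iff _).mp hglm
    exact mem_of_pow_mem p hp hy7 hm hym
  · exact hd

theorem good_pass (hp : p.Prime) (h7 : ∀ i < n, g i ^ p = 1) (conj : List (List ℕ × ℕ × ℕ × ℕ))
    (hconj : ∀ q ∈ conj, ev g (crOf q) = 1) {d : List ℕ} (hd : Good g d) :
    Good g (passDead p n conj d) := by
  induction conj generalizing d with
  | nil => rw [passDead]; exact hd
  | cons q qs ih =>
    rw [passDead_cons]
    exact ih (fun q' hq' => hconj q' (List.mem_cons_of_mem _ hq'))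
      (good_step g p n hp h7 hd q (hconj q List.mem_cons_self))

theorem good_iter (hp : p.Prime) (h7 : ∀ i < n, g i ^ p = 1) (conj : List (List ℕ × ℕ × ℕ × ℕ))
    (hconj : ∀ q ∈ conj, ev g (crOf q) = 1) (k : ℕ) {d : List ℕ} (hd : Good g d) :
    Good g (iterDead p n conj k d) := by
  induction k generalizing d with
  | zero => rw [iterDead]; exact hd
  | succ k ih => rw [iterDead_succ]; exact ih (good_pass g p n hp h7 conj hconj hd)

end Sound

end Helper21

/-- **[P]** generators in the commutator subgroup from conjugation relators: `Helper21.check p n conj` is a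
verified checker with the prime as a parameter (propagation along the relators `u xᵢ u⁻¹ = c ^ (-m)` using only
`xᵢ ^ p = 1`) -/
theorem gens_mem_commutator_of_conj {Γ : Type*} [Group Γ] (γ : ℕ → Γ) (p n : ℕ) (hp : p.Prime)
    (conj : List (List ℕ × ℕ × ℕ × ℕ)) (hpow : ∀ i < n, γ i ^ p = 1)
    (hconj : ∀ q ∈ conj, ev γ (crOf q) = 1)
    (hchk : Helper21.check p n conj = true)
    : ∀ i < n, γ i ∈ commutator Γ := by
  intro i hi
  unfold Helper21.check at hchk
  rw [List.all_eq_true] at hchk
  have h1 := hchk i (List.mem_range.mpr hi)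
  have hmem : i ∈ Helper21.iterDead p n conj n [] := of_decide_eq_true h1
  exact Helper21.good_iter γ p n hp hpow conj hconj n (d := [])
    (fun j hj => absurd hj List.not_mem_nil) i hmem

end Cfsg.Agent.Lib.Helper16.G23M
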