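import Mathlib
import Cfsg.Prelude.Def_KGroupFacts
import Cfsg.Agent.H5.TCkSound
import Cfsg.Agent.H5.StemTC
import Cfsg.Agent.H5.StemLift
import Cfsg.Agent.Lib.Helper5.Sp62Data
import Cfsg.Agent.Lib.Helper1.Sp62L
import Cfsg.Agent.Lib.Helper1.WeakL4
import Cfsg.Agent.Lib.Helper17.WeakL5
import Cfsg.Agent.Lib.Helper12.McLWData

/-!
# S2047 piece [ODD] (helper21): the kernel of a finite stem extension of `McL` has odd order

Reduce to a `2`-group kernel (`exists_pker`), restrict to `U = ⟨u 0, u 1⟩` of odd index `22275`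
(`stem_restrict_p`), lift `u 0, u 1` to elements of order `7`; the conjugation relators `relsU` lift, so the
preimage of `U` has order `≤ 40320 = |U|`, and the kernel is trivial.
-/

set_option autoImplicit false

namespace Cfsg.Agent.Lib.Helper12.McLW

open Cfsg Cfsg.H5.TCk
open Cfsg.Agent.Lib.Helper5.Sp62 (cr crOf)

universe u v

namespace Helper21

theorem ev_replicate {Γ : Type u} [Group Γ] (γ : ℕ → Γ) (l x : ℕ) :
    ev γ (List.replicate l x) = gl γ x ^ l := by
  induction l with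
  | zero => simp [ev]
  | succ k ih => rw [List.replicate_succ, ev, ih, pow_succ']

theorem ev_pow7 {Γ : Type u} [Group Γ] (γ : ℕ → Γ) (i : ℕ) :
    ev γ (List.replicate 7 (2 * i)) = γ i ^ 7 := by
  rw [ev_replicate, gl_even]

theorem conjU_idx : ∀ q ∈ conjU, q.2.1 < 2 ∧ q.2.2.1 / 2 < 2 := by decide

theorem relsU_all : ∀ r ∈ relsU, ∀ l ∈ r, l < 2 * 2 := by decide

theorem mem_relsU {r : List ℕ} (h : r ∈ relsU) :
    (∃ i, i < 2 ∧ r = List.replicate 7 (2 * i)) ∨ ∃ q ∈ conjU, r = crOf q := by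
  unfold relsU powW at h
  rcases List.mem_append.mp h with h | h
  · obtain ⟨i, hi, rfl⟩ := List.mem_map.mp h
    exact Or.inl ⟨i, List.mem_range.mp hi, rfl⟩
  · obtain ⟨q, hq, rfl⟩ := List.mem_map.mp h
    exact Or.inr ⟨q, hq, rfl⟩

theorem pow7_mem_relsU {i : ℕ} (hi : i < 2) : List.replicate 7 (2 * i) ∈ relsU := by
  unfold relsU powW
  exact List.mem_append_left _ (List.mem_map.mpr ⟨i, List.mem_range.mpr hi, rfl⟩)

theorem ev_congr_mem {Γ : Type*} [Group Γ] (g g' : ℕ → Γ) (t : ℕ) (h : ∀ i < t, g i = g' i)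
    (w : List ℕ) (hw : ∀ l ∈ w, l < 2 * t) : ev g w = ev g' w := by
  induction w with
  | nil => rfl
  | cons l w ih =>
    have hl : l < 2 * t := hw l List.mem_cons_self
    have hl2 : l / 2 < t := by omega
    simp only [ev]
    rw [ih (fun l' hl' => hw l' (List.mem_cons_of_mem _ hl'))]
    congr 1
    unfold gl
    rw [h _ hl2]

end Helper21

/-- [ODD] the kernel of a finite stem extension has odd order ([CU] as hypothesis) -/
theorem odd_card_ker_of
    (hCU : ∀ {Δ : Type u} [Group Δ] (δ : ℕ → Δ), (∀ r ∈ relsU, ev δ r = 1) →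
      Subgroup.closure (Set.range fun i : Fin 2 => δ i.val) = ⊤ → Finite Δ ∧ Nat.card Δ ≤ 40320)
    {G : Type u} [Group G] (g u : ℕ → G) (hg : IsMcLTuple g u)
    {Γ : Type u} [Group Γ] [Finite Γ] (σ : Γ →* G) (hσ : IsStemExtension σ) :
    Odd (Nat.card σ.ker) := by
  classical
  obtain ⟨hcard, _, _, _, hrelU, h40320⟩ := hg
  have : Finite G := Nat.finite_of_card_ne_zero (by rw [hcard]; norm_num)
  have : Fact (Nat.Prime 2) := ⟨Nat.prime_two⟩
  rw [← Nat.not_even_iff_odd]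
  intro heven
  have h2dvd : 2 ∣ Nat.card σ.ker := even_iff_two_dvd.mp heven
  -- a `2`-group kernel
  obtain ⟨Δ, instΔ, finΔ, τ, hτ, hpk, hcardk⟩ := Cfsg.Agent.Lib.Helper10.Weak.exists_pker σ hσ 2
  have hkpos : Nat.card σ.ker ≠ 0 := Nat.card_pos.ne'
  have hfac : 1 ≤ (Nat.card σ.ker).factorization 2 :=
    (Nat.Prime.dvd_iff_one_le_factorization Nat.prime_two hkpos).mp h2dvd
  have hk2 : 2 ≤ Nat.card τ.ker := by
    rw [hcardk]
    calc 2 = 2 ^ 1 := (pow_one 2).symm
      _ ≤ 2 ^ (Nat.card σ.ker).factorization 2 := Nat.pow_le_pow_right (by norm_num) hfac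
  -- the subgroup `U`
  set U : Subgroup G := Subgroup.closure (Set.range fun i : Fin 2 => u i.val) with hUdef
  have huU : ∀ i (hi : i < 2), u i ∈ U := fun i hi => Subgroup.subset_closure ⟨⟨i, hi⟩, rfl⟩
  let δ : ℕ → ↥U := fun i => if h : i < 2 then ⟨u i, huU i h⟩ else 1
  have hδ : ∀ i < 2, ((δ i : ↥U) : G) = u i := by
    intro i hi
    simp only [δ, dif_pos hi]
  have hδrel : ∀ r ∈ relsU, ev δ r = 1 := by
    intro r hr
    apply Subtype.ext
    have h1 : U.subtype (ev δ r) = ev (fun i => U.subtype (δ i)) r := Cfsg.H5.StemTC.map_ev U.subtype δ r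
    have h2 : ev (fun i => U.subtype (δ i)) r = ev u r :=
      Helper21.ev_congr_mem _ _ 2 (fun i hi => hδ i hi) r (Helper21.relsU_all r hr)
    show U.subtype (ev δ r) = 1
    rw [h1, h2]
    exact hrelU r hr
  have hδgen : Subgroup.closure (Set.range fun i : Fin 2 => δ i.val) = ⊤ := by
    apply Subgroup.map_injective U.subtype_injective
    rw [MonoidHom.map_closure, ← Set.range_comp, ← MonoidHom.range_eq_map, Subgroup.range_subtype]
    have h3 : (⇑U.subtype ∘ fun i : Fin 2 => δ i.val) = fun i : Fin 2 => u i.val := by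
      funext i
      exact hδ i.val i.isLt
    rw [h3]
  obtain ⟨_, hUle⟩ := hCU δ hδrel hδgen
  have hUcard : Nat.card U = 40320 := le_antisymm hUle h40320
  have hidx : U.index = 22275 := by
    have h3 := Subgroup.card_mul_index U
    rw [hUcard, hcard] at h3
    omega
  have hnd : ¬ 2 ∣ U.index := by rw [hidx]; norm_num
  -- restriction to the preimage of `U`
  have hstem := Cfsg.Agent.Lib.Helper10.Weak.stem_restrict_p τ hτ hpk U hnd
  have hLcard := Cfsg.Agent.Lib.Helper10.Weak.card_comap τ hτ.1 U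
  have hpkU : IsPGroup 2 (τ.subgroupComap U).ker := by
    intro x
    obtain ⟨k, hk⟩ := hpk ⟨(x.1 : Δ), by
      have h3 := x.2
      rw [MonoidHom.mem_ker] at h3 ⊢
      exact congrArg Subtype.val h3⟩
    refine ⟨k, ?_⟩
    apply Subtype.ext
    apply Subtype.ext
    have h4 := congrArg Subtype.val hk
    simpa using h4
  obtain ⟨kk, hkk⟩ := IsPGroup.iff_card.mp hpkU
  have hcop : (7 : ℕ).Coprime (Nat.card (τ.subgroupComap U).ker) := by
    rw [hkk]
    exact Nat.Coprime.pow_right kk (by norm_num)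
  have hu7 : ∀ i < 2, δ i ^ 7 = 1 := by
    intro i hi
    rw [← Helper21.ev_pow7]
    exact hδrel _ (Helper21.pow7_mem_relsU hi)
  have hex : ∀ k : ℕ, ∃ y : ↥(U.comap τ), (τ.subgroupComap U) y = δ k ∧ (k < 2 → y ^ 7 = 1) := by
    intro k
    by_cases hk : k < 2
    · obtain ⟨y, hy1, hy2⟩ := Cfsg.Agent.Lib.Helper5.Sp62.exists_lift_pow_eq_one (τ.subgroupComap U)
        hstem.1 hstem.2.1 hcop (δ k) (hu7 k hk)
      exact ⟨y, hy1, fun _ => hy2⟩
    · obtain ⟨y, hy⟩ := hstem.1 (δ k)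
      exact ⟨y, hy, fun h => absurd h hk⟩
  choose υ hυσ hυ7 using hex
  have hσυ : (fun k => (τ.subgroupComap U) (υ k)) = δ := funext hυσ
  have hrelL : ∀ r ∈ relsU, ev υ r = 1 := by
    intro r hr
    rcases Helper21.mem_relsU hr with ⟨i, hi, rfl⟩ | ⟨q, hq, rfl⟩
    · rw [Helper21.ev_pow7]; exact hυ7 i hi
    · have hidx' := Helper21.conjU_idx q hq
      have hqrel : crOf q ∈ relsU := hr
      unfold Cfsg.Agent.Lib.Helper5.Sp62.crOf at hqrel ⊢
      apply Cfsg.Agent.Lib.Helper5.Sp62.ev_cr_eq_one (τ.subgroupComap U) hstem.2.1 hcop υ _ _ _ _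
        (hυ7 _ hidx'.1) (hυ7 _ hidx'.2)
      rw [hσυ]
      exact hδrel _ hqrel
  have hgenL : Subgroup.closure (Set.range fun i : Fin 2 => υ i.val) = ⊤ := by
    apply Cfsg.H5.StemLift.eq_top_of_map_eq_top (τ.subgroupComap U) hstem
    rw [MonoidHom.map_closure, ← Set.range_comp]
    have h3 : (⇑(τ.subgroupComap U) ∘ fun i : Fin 2 => υ i.val) = fun i : Fin 2 => δ i.val := by
      funext i; exact hυσ i.val
    rw [h3, hδgen]
  obtain ⟨_, hLle⟩ := hCU υ hrelL hgenL
  rw [hLcard, hUcard] at hLle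
  nlinarith

end Cfsg.Agent.Lib.Helper12.McLW
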