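import Mathlib
import Cfsg.Agent.Lib.Helper6.OrtP1

/-!
# The minus type quadratic form: nondegeneracy, sign, elements of odd prime order
-/

set_option autoImplicit false

namespace Cfsg.Agent.Lib.Helper21.OrtM

open Module Submodule QuadraticMap Polynomial Cfsg.Agent.Lib.Helper15.PSpI
  Cfsg.Agent.Lib.Helper14.OrthEven
  Cfsg.Agent.Lib.Helper15.PSpJ Cfsg.Agent.Lib.Helper15.PDec Cfsg.Agent.Lib.Helper15.PSub
  Cfsg.Agent.Lib.Helper15 Cfsg.Agent.Lib.Helper6.OrtS

universe u

section basic

variable {F : Type u} [Field F]

theorem coe_QMinus (k : ℕ) (a b : F) : ⇑(QMinus F k a b) = Cfsg.quadFormMinus k F a b :=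
  funext (QMinus_apply F k a b)

theorem nondegenerate_QMinus [Fintype F] (k : ℕ) (a b : F)
    (hab : ∀ x y : F, x ^ 2 + a * x * y + b * y ^ 2 = 0 → x = 0 ∧ y = 0) :
    (polarBilin (QMinus F k a b)).Nondegenerate := by
  classical
  have key : ∀ u : (Fin k ⊕ Fin k) ⊕ Fin 2 → F, (∀ v, polar (QMinus F k a b) u v = 0) → u = 0 := by
    intro u hu
    have h1 : ∀ i, u (Sum.inl (Sum.inl i)) = 0 := by
      intro i
      have h := hu (Pi.single (Sum.inl (Sum.inr i)) 1)
      rw [polar_QMinus] at h
      simpa [Pi.single_apply] using h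
    have h2 : ∀ i, u (Sum.inl (Sum.inr i)) = 0 := by
      intro i
      have h := hu (Pi.single (Sum.inl (Sum.inl i)) 1)
      rw [polar_QMinus] at h
      simpa [Pi.single_apply] using h
    have h3 : 2 * u (Sum.inr 0) + a * u (Sum.inr 1) = 0 := by
      have h := hu (Pi.single (Sum.inr 0) 1)
      rw [polar_QMinus] at h
      simpa [Pi.single_apply] using h
    have h4 : a * u (Sum.inr 0) + 2 * b * u (Sum.inr 1) = 0 := by
      have h := hu (Pi.single (Sum.inr 1) 1)
      rw [polar_QMinus] at h
      simpa [Pi.single_apply] using h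
    have h5 : u (Sum.inr 0) = 0 ∧ u (Sum.inr 1) = 0 := by
      by_cases h2F : (2 : F) = 0
      · by_cases ha : a = 0
        · exfalso
          have hchar : ringChar F = 2 := by
            have : ((2 : ℕ) : F) = 0 := by exact_mod_cast h2F
            have hdvd := ringChar.dvd this
            rcases (Nat.dvd_prime Nat.prime_two).mp hdvd with h | h
            · exfalso
              have := CharP.ringChar_ne_one (R := F)
              exact this h
            · exact h
          obtain ⟨c, hc⟩ := FiniteField.isSquare_of_char_two hchar b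
          have := hab c 1 (by rw [ha, hc]; linear_combination (c * c) * h2F)
          exact one_ne_zero this.2
        · rw [h2F, zero_mul, zero_add] at h3
          rw [h2F, zero_mul, zero_mul, add_zero] at h4
          exact ⟨(mul_eq_zero.mp h4).resolve_left ha, (mul_eq_zero.mp h3).resolve_left ha⟩
      · apply hab
        have : (2 : F) * (u (Sum.inr 0) ^ 2 + a * u (Sum.inr 0) * u (Sum.inr 1) +
            b * u (Sum.inr 1) ^ 2) = 0 := by
          linear_combination u (Sum.inr 0) * h3 + u (Sum.inr 1) * h4
        exact (mul_eq_zero.mp this).resolve_left h2F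
    funext j
    rcases j with (i | i) | j
    · exact h1 i
    · exact h2 i
    · fin_cases j
      · exact h5.1
      · exact h5.2
  constructor
  · intro x hx
    exact key x hx
  · intro y hy
    apply key y
    intro x
    rw [polar_comm]
    exact hy x

theorem sgnOn_top_QMinus [Fintype F] (k : ℕ) (a b : F)
    (hab : ∀ x y : F, x ^ 2 + a * x * y + b * y ^ 2 = 0 → x = 0 ∧ y = 0) :
    SgnOn (QMinus F k a b) ⊤ (-1) := by
  apply sgnOn_top_of_hasSign (QMinus F k a b) (k + 1) (by simp; ring) (-1)
  rw [coe_QMinus]
  exact hasSign_minus k a b hab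

end basic

end Cfsg.Agent.Lib.Helper21.OrtM
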