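import Mathlib
import Cfsg.Prelude.Def_GeometricClasses
import Cfsg.Agent.Lib.Helper13.OrthNondeg
import Cfsg.Agent.Lib.Helper13.OrthMax
import Cfsg.Agent.Lib.Helper29.S5814PFLD

/-!
# Even orthogonal front, properness piece P-IRR: `Ω(Q)` is irreducible (helper21)

`Q` a quadratic form on `ι → F` with non-degenerate polar form, `5 ≤ |ι|`, `F` finite, any characteristic, any
parity of `|ι|`: `Ω(Q)` stabilises no proper non-zero subspace.  (From helper13's `irred_big` and helper6's
`siegIso_mem_Omega`.)  Covers the totally singular, non-degenerate and non-singular-vector subspace members.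
-/

set_option autoImplicit false
set_option linter.unusedSectionVars false
set_option linter.unusedVariables false

namespace Cfsg.Agent.Lib.Helper21.OEPIrr

open Matrix Cfsg.Geo Module QuadraticMap
open Cfsg.Agent.Lib.Helper6 Cfsg.Agent.Lib.Helper13 Cfsg.Agent.Lib.Helper13.OND Cfsg.Agent.Lib.Helper29.S5814

universe u
variable {F : Type u} [Field F] [Fintype F] {ι : Type} [Fintype ι] [DecidableEq ι]
variable (Q : QuadraticForm F (ι → F))

/-- the Siegel transformation `ρ_{s,w}` as an element of `omegaGL` -/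
theorem siegIso_mem_omegaGL (hQ : (polarBilin Q).Nondegenerate) (h5 : 5 ≤ Fintype.card ι)
    (s w : ι → F) (hs : Q s = 0) (hsw : polar (⇑Q) s w = 0) :
    ((siegIso Q s w hs hsw : ↥(Cfsg.isometryGroup F ⇑Q)) : GL ι F) ∈ omegaGL ⇑Q :=
  (mem_omegaGL_iff Q _).mpr ⟨_, siegIso_mem_Omega Q hQ h5 s w hs hsw, rfl⟩

/-- a subspace invariant under all Siegel transformations is `⊥` or `⊤` -/
theorem eq_top_of_siegel_invariant (hQ : (polarBilin Q).Nondegenerate) (h3 : 3 ≤ Fintype.card ι)
    (W : Submodule F (ι → F)) (hW0 : W ≠ ⊥)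
    (hinv : ∀ (s w : ι → F) (hs : Q s = 0) (hsw : polar (⇑Q) s w = 0), ∀ y ∈ W,
      gact Q (siegIso Q s w hs hsw) y ∈ W) : W = ⊤ := by
  obtain ⟨p, hpW, hp0⟩ := Submodule.exists_mem_ne_zero_of_ne_bot hW0
  have hfin : finrank F (⊤ : Submodule F (ι → F)) = Fintype.card ι := by
    rw [finrank_top, Module.finrank_fintype_fun_eq_card]
  have hall := irred_big Q ⊤ (ndOn_top Q hQ) (by omega) (fun v => v ∈ W)
    (fun a b ha hb => W.add_mem ha hb) (fun c a ha => W.smul_mem c ha)
    (fun s _ w _ hs hsw y _ hy => hinv s w hs hsw y hy) p Submodule.mem_top hp0 hpW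
  exact eq_top_iff.mpr (fun v _ => hall v Submodule.mem_top)

/-- **P-IRR** `Ω(Q)` is irreducible -/
theorem not_omega_le_subspaceStabilizer (hQ : (polarBilin Q).Nondegenerate) (h5 : 5 ≤ Fintype.card ι)
    (W : Submodule F (ι → F)) (hW0 : W ≠ ⊥) (hW1 : W ≠ ⊤) :
    ¬ omegaGL ⇑Q ≤ subspaceStabilizer W := by
  intro hle
  apply hW1
  apply eq_top_of_siegel_invariant Q hQ (by omega) W hW0
  intro s w hs hsw y hy
  have hg := hle (siegIso_mem_omegaGL Q hQ h5 s w hs hsw)
  rw [gact_def]
  exact (hg y).mp hy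

end Cfsg.Agent.Lib.Helper21.OEPIrr
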