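import Mathlib
import Cfsg.Prelude.Def_GeometricClasses
import Cfsg.Agent.Lib.Helper21.OEPIrr
import Cfsg.Agent.Lib.Helper6.S5814PDEC
import Cfsg.Agent.Lib.Helper9.HubCorA1

/-!
# Even orthogonal front, properness piece P-DEC: `Ω(Q)` preserves no orthogonal decomposition (helper21)

`Q` a quadratic form on `ι → F` with non-degenerate polar form, `F` finite, ANY characteristic.
* `not_omega_le_decomp_big` : no `m`-decomposition at all with `3 ≤ m` (`5 ≤ |ι|`; a Siegel transformation moves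
  a subspace of dimension at most 2);
* `not_omega_le_decomp_nondeg` : no decomposition into pairwise orthogonal non-degenerate subspaces of dimension
  `2 ≤ m` (`5 ≤ |ι|`);
* `not_omega_le_decompositionStabilizer` : no `IsOrthogonalMDecomposition Q k D`, any `k` (`7 ≤ |ι|`; `k = 1` is
  helper6's `S5814PDEC.not_omega_le_decomp`).
-/

set_option autoImplicit false
set_option linter.unusedSectionVars false
set_option linter.unusedVariables false

namespace Cfsg.Agent.Lib.Helper21.OEPDec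

open Matrix Cfsg.Geo Module QuadraticMap
open Cfsg.Agent.Lib.Helper6 Cfsg.Agent.Lib.Helper13 Cfsg.Agent.Lib.Helper13.OND Cfsg.Agent.Lib.Helper29.S5814
open Cfsg.Agent.Lib.Helper21.OEPIrr

universe u
variable {F : Type u} [Field F] [Fintype F] {ι : Type} [Fintype ι] [DecidableEq ι]
variable (Q : QuadraticForm F (ι → F))

/-- an element of a decomposition stabiliser, on a vector of the block `D i` whose image is written as
(part in `D i`) + (part in the other blocks): the image lies in one block -/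
theorem core {t : ℕ} (D : Fin t → Submodule F (ι → F)) (hind : iSupIndep D) (g : GL ι F)
    (hg : g ∈ decompositionStabilizer D) (i : Fin t) (x y z : ι → F) (hx : x ∈ D i)
    (hgx : (g : Matrix ι ι F) *ᵥ x = y + z) (hy : y ∈ D i)
    (hz : z ∈ ⨆ (l) (_ : l ≠ i), D l) :
    z = 0 ∨ (y = 0 ∧ ∃ k, k ≠ i ∧ z ∈ D k) := by
  obtain ⟨σ, hσ⟩ := hg
  have himg : y + z ∈ D (σ i) := by
    rw [← hσ i, ← hgx]
    exact ⟨x, hx, by rw [Matrix.toLin'_apply]⟩
  have hdisj := hind i
  by_cases hj : σ i = i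
  · left
    rw [hj] at himg
    have hz' : z ∈ D i := by
      have : z = (y + z) - y := by abel
      rw [this]
      exact (D i).sub_mem himg hy
    have : z ∈ D i ⊓ ⨆ (l) (_ : l ≠ i), D l := ⟨hz', hz⟩
    rw [hdisj.eq_bot] at this
    exact (Submodule.mem_bot F).mp this
  · right
    have hyz_sup : y + z ∈ ⨆ (l) (_ : l ≠ i), D l :=
      (le_iSup₂ (f := fun l (_ : l ≠ i) => D l) (σ i) hj) himg
    have hy_sup : y ∈ ⨆ (l) (_ : l ≠ i), D l := by
      have : y = (y + z) - z := by abel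
      rw [this]
      exact Submodule.sub_mem _ hyz_sup hz
    have : y ∈ D i ⊓ ⨆ (l) (_ : l ≠ i), D l := ⟨hy, hy_sup⟩
    rw [hdisj.eq_bot] at this
    have hy0 : y = 0 := (Submodule.mem_bot F).mp this
    refine ⟨hy0, σ i, hj, ?_⟩
    rwa [hy0, zero_add] at himg

/-- two non-zero vectors from two different blocks: their sum lies in no block -/
theorem sum_two_not_mem {t : ℕ} (D : Fin t → Submodule F (ι → F)) (hind : iSupIndep D)
    (a b : Fin t) (hab : a ≠ b) (ua ub : ι → F)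
    (hua : ua ∈ D a) (hub : ub ∈ D b) (hua0 : ua ≠ 0) (hub0 : ub ≠ 0) (k : Fin t) :
    ua + ub ∉ D k := by
  intro hr
  by_cases hka : k = a
  · have hkb : k ≠ b := by rw [hka]; exact hab
    have hsup : ub ∈ ⨆ (l) (_ : l ≠ b), D l := by
      have : ub = (ua + ub) - ua := by abel
      rw [this]
      refine Submodule.sub_mem _ ?_ ?_
      · exact (le_iSup₂ (f := fun l (_ : l ≠ b) => D l) k hkb) hr
      · exact (le_iSup₂ (f := fun l (_ : l ≠ b) => D l) a hab) hua
    have : ub ∈ D b ⊓ ⨆ (l) (_ : l ≠ b), D l := ⟨hub, hsup⟩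
    rw [(hind b).eq_bot] at this
    exact hub0 ((Submodule.mem_bot F).mp this)
  · have hsup : ua ∈ ⨆ (l) (_ : l ≠ a), D l := by
      have : ua = (ua + ub) - ub := by abel
      rw [this]
      refine Submodule.sub_mem _ ?_ ?_
      · exact (le_iSup₂ (f := fun l (_ : l ≠ a) => D l) k hka) hr
      · exact (le_iSup₂ (f := fun l (_ : l ≠ a) => D l) b hab.symm) hub
    have : ua ∈ D a ⊓ ⨆ (l) (_ : l ≠ a), D l := ⟨hua, hsup⟩
    rw [(hind a).eq_bot] at this
    exact hua0 ((Submodule.mem_bot F).mp this)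

/-- every block of an `m`-decomposition is non-zero -/
theorem block_ne_bot {t m : ℕ} (D : Fin t → Submodule F (ι → F)) (hD : IsMDecomposition m D) (i : Fin t) :
    D i ≠ ⊥ := by
  intro h
  have h1 := hD.finrank_eq i
  rw [h, finrank_bot] at h1
  have := hD.pos
  omega

/-- a Siegel transformation in the stabiliser of an `m`-decomposition, `3 ≤ m`, fixes every block -/
theorem siegel_fixes_block {t m : ℕ} (D : Fin t → Submodule F (ι → F)) (hD : IsMDecomposition m D)
    (hm : 3 ≤ m) (s w : ι → F) (hs : Q s = 0) (hsw : polar (⇑Q) s w = 0)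
    (hg : ((siegIso Q s w hs hsw : ↥(Cfsg.isometryGroup F ⇑Q)) : GL ι F) ∈ decompositionStabilizer D)
    (i : Fin t) : ∀ y ∈ D i, gact Q (siegIso Q s w hs hsw) y ∈ D i := by
  obtain ⟨σ, hσ⟩ := hg
  have hmem : ∀ y ∈ D i, gact Q (siegIso Q s w hs hsw) y ∈ D (σ i) := by
    intro y hy
    rw [← hσ i]
    exact ⟨y, hy, by rw [Matrix.toLin'_apply, gact_def]⟩
  have hfix : σ i = i := by
    by_contra hne
    let ψ : D i →ₗ[F] F × F := ((polarBilin Q w).prod (polarBilin Q s)).domRestrict (D i)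
    have hker : LinearMap.ker ψ ≠ ⊥ := by
      apply LinearMap.ker_ne_bot_of_finrank_lt
      rw [Module.finrank_prod, finrank_self, hD.finrank_eq i]
      omega
    obtain ⟨⟨x, hxD⟩, hxker, hxne⟩ := Submodule.exists_mem_ne_zero_of_ne_bot hker
    have hx0 : x ≠ 0 := fun h => hxne (Subtype.ext h)
    have hψ := LinearMap.mem_ker.mp hxker
    have hψ' : (polar (⇑Q) w x, polar (⇑Q) s x) = ((0 : F), (0 : F)) := hψ
    have h1' : polar (⇑Q) w x = 0 := (Prod.mk.inj hψ').1
    have h2' : polar (⇑Q) s x = 0 := (Prod.mk.inj hψ').2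
    have hgx : gact Q (siegIso Q s w hs hsw) x = x := by
      rw [gact_siegIso, h1', h2']
      simp
    have hx2 := hmem x hxD
    rw [hgx] at hx2
    have hsup : x ∈ ⨆ (l) (_ : l ≠ i), D l :=
      (le_iSup₂ (f := fun l (_ : l ≠ i) => D l) (σ i) hne) hx2
    have : x ∈ D i ⊓ ⨆ (l) (_ : l ≠ i), D l := ⟨hxD, hsup⟩
    rw [(hD.indep i).eq_bot] at this
    exact hx0 ((Submodule.mem_bot F).mp this)
  intro y hy
  have := hmem y hy
  rwa [hfix] at this

/-- **P-DEC, big blocks**: `Ω(Q)` preserves no `m`-decomposition with `3 ≤ m` -/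
theorem not_omega_le_decomp_big (hQ : (polarBilin Q).Nondegenerate) (h5 : 5 ≤ Fintype.card ι)
    {t m : ℕ} (hm : 3 ≤ m) (D : Fin t → Submodule F (ι → F)) (hD : IsMDecomposition m D) :
    ¬ omegaGL ⇑Q ≤ decompositionStabilizer D := by
  intro hle
  have ht2 := hD.two_le
  let i₀ : Fin t := ⟨0, by omega⟩
  let i₁ : Fin t := ⟨1, by omega⟩
  have h01 : i₀ ≠ i₁ := by
    intro h
    have := congrArg Fin.val h
    simp [i₀, i₁] at this
  have htop : D i₀ = ⊤ := by
    apply eq_top_of_siegel_invariant Q hQ (by omega) (D i₀) (block_ne_bot D hD i₀)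
    intro s w hs hsw y hy
    exact siegel_fixes_block Q D hD hm s w hs hsw (hle (siegIso_mem_omegaGL Q hQ h5 s w hs hsw)) i₀ y hy
  obtain ⟨x, hx, hx0⟩ := Submodule.exists_mem_ne_zero_of_ne_bot (block_ne_bot D hD i₁)
  have hsup : x ∈ ⨆ (l) (_ : l ≠ i₀), D l :=
    (le_iSup₂ (f := fun l (_ : l ≠ i₀) => D l) i₁ h01.symm) hx
  have : x ∈ D i₀ ⊓ ⨆ (l) (_ : l ≠ i₀), D l := ⟨by rw [htop]; exact Submodule.mem_top, hsup⟩
  rw [(hD.indep i₀).eq_bot] at this
  exact hx0 ((Submodule.mem_bot F).mp this)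

/-- `NdOn` from the frozen `IsNondegenerateOn` -/
theorem ndOn_of_isNondegenerateOn (X : Submodule F (ι → F)) (hX : IsNondegenerateOn (polar ⇑Q) X) :
    NdOn Q X := fun x hx hx0 => (hX x hx hx0).2

/-- a subspace with a non-zero singular vector, non-degenerate: every value is represented -/
theorem exists_value_of_singular (X : Submodule F (ι → F)) (hX : NdOn Q X) (e : ι → F) (heX : e ∈ X)
    (he0 : e ≠ 0) (he : Q e = 0) (c : F) : ∃ a ∈ X, Q a = c := by
  obtain ⟨e', he'X, he', hee'⟩ := exists_partner Q X hX heX he0 he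
  refine ⟨c • e + e', X.add_mem (X.smul_mem c heX) he'X, ?_⟩
  rw [Q_add, Q_smul, he, he', polar_smul_left, hee', smul_eq_mul]
  ring

/-- two orthogonal non-degenerate blocks of dimension at least two: non-zero vectors with opposite values -/
theorem exists_opposite_pair {t m : ℕ} (hm : 2 ≤ m) (D : Fin t → Submodule F (ι → F))
    (hD : IsNondegenerateMDecomposition (polar ⇑Q) m D) (i j : Fin t) (hij : i ≠ j) :
    ∃ a ∈ D i, ∃ b ∈ D j, a ≠ 0 ∧ b ≠ 0 ∧ Q a + Q b = 0 := by
  have hdec := hD.decomp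
  have hNi := ndOn_of_isNondegenerateOn Q (D i) (hD.nondegenerate i)
  have hNj := ndOn_of_isNondegenerateOn Q (D j) (hD.nondegenerate j)
  have hnz : ∀ v : ι → F, Q v ≠ 0 → v ≠ 0 := by
    rintro v hv rfl
    exact hv (map_zero Q)
  by_cases hi : ∃ e ∈ D i, e ≠ 0 ∧ Q e = 0
  · obtain ⟨e, heD, he0, he⟩ := hi
    obtain ⟨b, hbD, hb⟩ := Cfsg.Agent.Lib.Helper6.S5814PDEC.exists_nonsing Q (D j) (hD.nondegenerate j)
      (block_ne_bot D hdec j)
    obtain ⟨a, haD, ha⟩ := exists_value_of_singular Q (D i) hNi e heD he0 he (-(Q b))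
    refine ⟨a, haD, b, hbD, hnz a (by rw [ha]; exact neg_ne_zero.mpr hb), hnz b hb, ?_⟩
    rw [ha]
    ring
  by_cases hj : ∃ e ∈ D j, e ≠ 0 ∧ Q e = 0
  · obtain ⟨e, heD, he0, he⟩ := hj
    obtain ⟨a, haD, ha⟩ := Cfsg.Agent.Lib.Helper6.S5814PDEC.exists_nonsing Q (D i) (hD.nondegenerate i)
      (block_ne_bot D hdec i)
    obtain ⟨b, hbD, hb⟩ := exists_value_of_singular Q (D j) hNj e heD he0 he (-(Q a))
    refine ⟨a, haD, b, hbD, hnz a ha, hnz b (by rw [hb]; exact neg_ne_zero.mpr ha), ?_⟩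
    rw [hb]
    ring
  -- both anisotropic: a singular vector of the sum
  have hlt : D i < D i ⊔ D j := by
    refine lt_of_le_of_ne le_sup_left ?_
    intro h
    have hle : D j ≤ D i := by
      rw [h]
      exact le_sup_right
    obtain ⟨x, hx, hx0⟩ := Submodule.exists_mem_ne_zero_of_ne_bot (block_ne_bot D hdec j)
    have hsup : x ∈ ⨆ (l) (_ : l ≠ i), D l :=
      (le_iSup₂ (f := fun l (_ : l ≠ i) => D l) j hij.symm) hx
    have : x ∈ D i ⊓ ⨆ (l) (_ : l ≠ i), D l := ⟨hle hx, hsup⟩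
    rw [(hdec.indep i).eq_bot] at this
    exact hx0 ((Submodule.mem_bot F).mp this)
  have h3 : 3 ≤ finrank F ↥(D i ⊔ D j) := by
    have := Submodule.finrank_lt_finrank_of_lt hlt
    rw [hdec.finrank_eq i] at this
    omega
  obtain ⟨z, hzS, hz0, hz⟩ := exists_singular_sub Q (D i ⊔ D j) h3
  obtain ⟨a, haD, b, hbD, hab⟩ := Submodule.mem_sup.mp hzS
  have hsum : Q a + Q b = 0 := by
    rw [← hab, Q_add, hD.orthogonal i j hij a haD b hbD, add_zero] at hz
    exact hz
  refine ⟨a, haD, b, hbD, ?_, ?_, hsum⟩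
  · rintro rfl
    rw [zero_add] at hab
    rw [map_zero, zero_add] at hsum
    exact hj ⟨b, hbD, by rw [hab]; exact hz0, hsum⟩
  · rintro rfl
    rw [add_zero] at hab
    rw [map_zero, add_zero] at hsum
    exact hi ⟨a, haD, by rw [hab]; exact hz0, hsum⟩

/-- **P-DEC, at least three blocks** of dimension at least two, pairwise orthogonal and non-degenerate -/
theorem not_omega_le_decomp_three (hQ : (polarBilin Q).Nondegenerate) (h5 : 5 ≤ Fintype.card ι)
    {t m : ℕ} (hm : 2 ≤ m) (ht : 3 ≤ t) (D : Fin t → Submodule F (ι → F))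
    (hD : IsNondegenerateMDecomposition (polar ⇑Q) m D) :
    ¬ omegaGL ⇑Q ≤ decompositionStabilizer D := by
  intro hle
  have hdec := hD.decomp
  have hind := hdec.indep
  have ho := hD.orthogonal
  let i₀ : Fin t := ⟨0, by omega⟩
  let i₁ : Fin t := ⟨1, by omega⟩
  let i₂ : Fin t := ⟨2, by omega⟩
  have h01 : i₀ ≠ i₁ := by
    intro h
    have := congrArg Fin.val h
    simp [i₀, i₁] at this
  have h02 : i₀ ≠ i₂ := by
    intro h
    have := congrArg Fin.val h
    simp [i₀, i₂] at this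
  have h12 : i₁ ≠ i₂ := by
    intro h
    have := congrArg Fin.val h
    simp [i₁, i₂] at this
  obtain ⟨a, haD, b, hbD, ha0, hb0, hab⟩ := exists_opposite_pair Q hm D hD i₀ i₁ h01
  obtain ⟨w, hwD, hw⟩ := Cfsg.Agent.Lib.Helper6.S5814PDEC.exists_nonsing Q (D i₂) (hD.nondegenerate i₂)
    (block_ne_bot D hdec i₂)
  have hw0 : w ≠ 0 := by
    rintro rfl
    exact hw (map_zero Q)
  obtain ⟨x, hxD, hx⟩ := (hD.nondegenerate i₀ a haD ha0).2
  -- the singular vector `s = a + b` and the Siegel transformation `ρ_{s,w}`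
  have hs : Q (a + b) = 0 := by
    rw [Q_add, ho i₀ i₁ h01 a haD b hbD, add_zero]
    exact hab
  have hsw : polar (⇑Q) (a + b) w = 0 := by
    rw [polar_add_left, ho i₀ i₂ h02 a haD w hwD, ho i₁ i₂ h12 b hbD w hwD, add_zero]
  have hg := hle (siegIso_mem_omegaGL Q hQ h5 (a + b) w hs hsw)
  have hwx : polar (⇑Q) w x = 0 := ho i₂ i₀ h02.symm w hwD x hxD
  have hsx : polar (⇑Q) (a + b) x = polar (⇑Q) a x := by
    rw [polar_add_left, ho i₁ i₀ h01.symm b hbD x hxD, add_zero]
  have hgx : ((siegIso Q (a + b) w hs hsw : ↥(Cfsg.isometryGroup F ⇑Q)) : GL ι F).1 *ᵥ x =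
      (x + (-(Q w * polar (⇑Q) a x)) • a) +
        ((-(Q w * polar (⇑Q) a x)) • b + (-(polar (⇑Q) a x)) • w) := by
    have h := gact_siegIso Q (a + b) w hs hsw x
    rw [gact_def] at h
    rw [h, hwx, hsx, zero_sub, smul_add]
    abel
  have hy : x + (-(Q w * polar (⇑Q) a x)) • a ∈ D i₀ := (D i₀).add_mem hxD ((D i₀).smul_mem _ haD)
  have hzb : (-(Q w * polar (⇑Q) a x)) • b ∈ D i₁ := (D i₁).smul_mem _ hbD
  have hzw : (-(polar (⇑Q) a x)) • w ∈ D i₂ := (D i₂).smul_mem _ hwD
  have hzb0 : (-(Q w * polar (⇑Q) a x)) • b ≠ 0 :=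
    smul_ne_zero (neg_ne_zero.mpr (mul_ne_zero hw hx)) hb0
  have hzw0 : (-(polar (⇑Q) a x)) • w ≠ 0 := smul_ne_zero (neg_ne_zero.mpr hx) hw0
  have hz : (-(Q w * polar (⇑Q) a x)) • b + (-(polar (⇑Q) a x)) • w ∈ ⨆ (l) (_ : l ≠ i₀), D l := by
    refine Submodule.add_mem _ ?_ ?_
    · exact (le_iSup₂ (f := fun l (_ : l ≠ i₀) => D l) i₁ h01.symm) hzb
    · exact (le_iSup₂ (f := fun l (_ : l ≠ i₀) => D l) i₂ h02.symm) hzw
  have hno := sum_two_not_mem D hind i₁ i₂ h12 _ _ hzb hzw hzb0 hzw0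
  rcases core D hind _ hg i₀ x _ _ hxD hgx hy hz with h | ⟨-, k, -, h⟩
  · apply hno i₀
    rw [h]
    exact (D i₀).zero_mem
  · exact hno k h

/-- **P-DEC, non-degenerate blocks of dimension at least two** -/
theorem not_omega_le_decomp_nondeg (hQ : (polarBilin Q).Nondegenerate) (h5 : 5 ≤ Fintype.card ι)
    {t m : ℕ} (hm : 2 ≤ m) (D : Fin t → Submodule F (ι → F))
    (hD : IsNondegenerateMDecomposition (polar ⇑Q) m D) :
    ¬ omegaGL ⇑Q ≤ decompositionStabilizer D := by
  by_cases ht : 3 ≤ t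
  · exact not_omega_le_decomp_three Q hQ h5 hm ht D hD
  · have ht2 := hD.decomp.two_le
    have hcard := Cfsg.Agent.Lib.Helper9.HubCor.mul_eq_card_of_isMDecomposition D hD.decomp
    have ht' : t = 2 := by omega
    rw [ht'] at hcard
    exact not_omega_le_decomp_big Q hQ h5 (by omega) D hD.decomp

/-- **P-DEC** `Ω(Q)` preserves no `IsOrthogonalMDecomposition`, any block dimension, any characteristic -/
theorem not_omega_le_decompositionStabilizer (hQ : (polarBilin Q).Nondegenerate) (h7 : 7 ≤ Fintype.card ι)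
    {t k : ℕ} (D : Fin t → Submodule F (ι → F)) (hD : IsOrthogonalMDecomposition ⇑Q k D) :
    ¬ omegaGL ⇑Q ≤ decompositionStabilizer D := by
  by_cases hk : 2 ≤ k
  · exact not_omega_le_decomp_nondeg Q hQ (by omega) hk D hD.decomp
  · have hdec := hD.decomp.decomp
    have hk1 : k = 1 := by
      have := hdec.pos
      omega
    have ht2 := hdec.two_le
    let i₀ : Fin t := ⟨0, by omega⟩
    have h2 : (2 : F) ≠ 0 := by
      intro h2
      obtain ⟨e, heD, he0⟩ := Submodule.exists_mem_ne_zero_of_ne_bot (block_ne_bot D hdec i₀)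
      obtain ⟨x, hxD, hx⟩ := (hD.decomp.nondegenerate i₀ e heD he0).2
      have h1 : finrank F ↥(D i₀) = 1 := by rw [hdec.finrank_eq i₀, hk1]
      obtain ⟨c, hc⟩ := (finrank_eq_one_iff_of_nonzero' (⟨e, heD⟩ : D i₀)
        (fun h => he0 (congrArg Subtype.val h))).mp h1 ⟨x, hxD⟩
      have hxe : x = c • e := by
        have := congrArg Subtype.val hc
        simpa using this.symm
      apply hx
      rw [hxe, polar_smul_right, polar_self, two_smul, ← two_mul, h2, zero_mul, smul_zero]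
    exact Cfsg.Agent.Lib.Helper6.S5814PDEC.not_omega_le_decomp Q hQ h7 h2 (by omega) D hD

end Cfsg.Agent.Lib.Helper21.OEPDec
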