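import Mathlib
import Cfsg.Prelude.Def_GeometricClasses
import Cfsg.Agent.Lib.Helper13.OrthMax
import Cfsg.Agent.Lib.Helper21.OEPIrr
import Cfsg.Agent.Lib.Helper21.OEPDec

/-!
# Even orthogonal rows (helper1's `OECorSkel`): piece P-IRR with the exact skeleton signature, and the
`k ≥ 2` part of P-DEC in the frozen vocabulary (helper21)
-/

set_option autoImplicit false
set_option linter.unusedSectionVars false
set_option linter.unusedVariables false

namespace Cfsg.Agent.Lib.Helper21.OECorPIRR

open Matrix Cfsg Cfsg.Geo Module QuadraticMap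
open Cfsg.Agent.Lib.Helper13 (toQF toQF_nondegenerate)

variable {F : Type*} [Field F] [Fintype F] {n : ℕ}

/-- **P-IRR** : `Ω` is irreducible.  Covers (1a), (1b), (1c). -/
theorem not_omega_le_stab {Q : (Fin n → F) → F} (hQ : IsNondegenerateQuadraticForm Q) (h5 : 5 ≤ n)
    (W : Submodule F (Fin n → F)) (hW0 : W ≠ ⊥) (hW1 : W ≠ ⊤) : ¬ omegaGL Q ≤ subspaceStabilizer W :=
  Cfsg.Agent.Lib.Helper21.OEPIrr.not_omega_le_subspaceStabilizer (toQF Q hQ) (toQF_nondegenerate Q hQ)
    (by rw [Fintype.card_fin]; exact h5) W hW0 hW1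

/-- **P-DEC** for blocks of dimension at least two (all `q`, isometric or not) -/
theorem not_omega_le_decomp_of_two_le {Q : (Fin n → F) → F} (hQ : IsNondegenerateQuadraticForm Q) (h5 : 5 ≤ n)
    {t k : ℕ} (hk : 2 ≤ k) (D : Fin t → Submodule F (Fin n → F))
    (hD : IsNondegenerateMDecomposition (polar Q) k D) : ¬ omegaGL Q ≤ decompositionStabilizer D :=
  Cfsg.Agent.Lib.Helper21.OEPDec.not_omega_le_decomp_nondeg (toQF Q hQ) (toQF_nondegenerate Q hQ)
    (by rw [Fintype.card_fin]; exact h5) hk D hD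

/-- **P-TSP** : pairs of totally singular halves (indeed any pair of complementary halves). -/
theorem not_omega_le_tsPair {Q : (Fin n → F) → F} (hQ : IsNondegenerateQuadraticForm Q) (h5 : 5 ≤ n)
    (k : ℕ) (D : Fin 2 → Submodule F (Fin n → F)) (hD : IsMDecomposition k D)
    (hts : ∀ i, IsTotallySingularQuad Q (D i)) : ¬ omegaGL Q ≤ decompositionStabilizer D := by
  have hcard := Cfsg.Agent.Lib.Helper9.HubCor.mul_eq_card_of_isMDecomposition D hD
  rw [Fintype.card_fin] at hcard
  exact Cfsg.Agent.Lib.Helper21.OEPDec.not_omega_le_decomp_big (toQF Q hQ) (toQF_nondegenerate Q hQ)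
    (by rw [Fintype.card_fin]; exact h5) (by omega) D hD

end Cfsg.Agent.Lib.Helper21.OECorPIRR
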