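import Mathlib
import Cfsg.Agent.Lib.Helper14.OrthEven1

/-!
# Signs of nondegenerate subspaces of a quadratic space over a finite field

Generic calculus (all characteristics) for a quadratic form `Q` on a finite-dimensional space `V`
over a finite field: nondegenerate subspaces, orthogonal complements inside a subspace, the sign
of an even-dimensional nondegenerate subspace (through helper14's `HasSign`), multiplicativity
on orthogonal sums.
-/

set_option autoImplicit false

namespace Cfsg.Agent.Lib.Helper21.OrtG

open Module QuadraticMap Submodule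
open Cfsg.Agent.Lib.Helper14.OrthEven

universe u v

section basic

variable {F : Type v} [Field F] {V : Type u} [AddCommGroup V] [Module F V]
variable (Q : QuadraticForm F V)

/-- the polar form of `Q` is nondegenerate on `W` -/
def Nd (W : Submodule F V) : Prop := ∀ u ∈ W, (∀ w ∈ W, polar Q u w = 0) → u = 0

/-- `W` and `W'` are orthogonal for the polar form -/
def Orth (W W' : Submodule F V) : Prop := ∀ u ∈ W, ∀ w ∈ W', polar Q u w = 0

/-- the orthogonal complement of `H` inside `W` -/
def perpIn (W H : Submodule F V) : Submodule F V :=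
  W ⊓ LinearMap.BilinForm.orthogonal (polarBilin Q) H

variable {Q}

theorem mem_perpIn {W H : Submodule F V} {x : V} :
    x ∈ perpIn Q W H ↔ x ∈ W ∧ ∀ h ∈ H, polar Q h x = 0 := by
  unfold perpIn
  rw [Submodule.mem_inf, LinearMap.BilinForm.mem_orthogonal_iff]
  rfl

theorem perpIn_le (W H : Submodule F V) : perpIn Q W H ≤ W := inf_le_left

theorem Orth.symm {W W' : Submodule F V} (h : Orth Q W W') : Orth Q W' W :=
  fun u hu w hw => by rw [polar_comm]; exact h w hw u hu

theorem orth_perpIn (W H : Submodule F V) : Orth Q H (perpIn Q W H) :=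
  fun u hu _ hw => (mem_perpIn.mp hw).2 u hu

theorem polarBilin_isRefl : (polarBilin Q).IsRefl := fun x y h => by
  rw [polarBilin_apply_apply] at h ⊢
  rw [polar_comm]
  exact h

theorem restrict_nondegenerate {H : Submodule F V} (hH : Nd Q H) :
    (LinearMap.BilinForm.restrict (polarBilin Q) H).Nondegenerate := by
  constructor
  · intro x hx
    apply Subtype.ext
    apply hH x.1 x.2
    intro w hw
    exact hx ⟨w, hw⟩
  · intro y hy
    apply Subtype.ext
    apply hH y.1 y.2
    intro w hw
    rw [polar_comm]
    exact hy ⟨w, hw⟩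

theorem Orth.disjoint {W W' : Submodule F V} (h : Orth Q W W') (hW : Nd Q W) : W ⊓ W' = ⊥ := by
  rw [eq_bot_iff]
  intro x hx
  rw [Submodule.mem_inf] at hx
  rw [Submodule.mem_bot]
  apply hW x hx.1
  intro w hw
  rw [polar_comm]
  exact h w hw x hx.2

theorem nd_sup {W W' : Submodule F V} (h : Orth Q W W') (hW : Nd Q W) (hW' : Nd Q W') :
    Nd Q (W ⊔ W') := by
  intro x hx hx0
  obtain ⟨a, ha, b, hb, rfl⟩ := Submodule.mem_sup.mp hx
  have ha0 : a = 0 := by
    apply hW a ha
    intro w hw
    have := hx0 w (Submodule.mem_sup_left hw)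
    rw [polar_add_left, h.symm b hb w hw, add_zero] at this
    exact this
  have hb0 : b = 0 := by
    apply hW' b hb
    intro w hw
    have := hx0 w (Submodule.mem_sup_right hw)
    rw [polar_add_left, h a ha w hw, zero_add] at this
    exact this
  rw [ha0, hb0, add_zero]

end basic

section fd

variable {F : Type v} [Field F] {V : Type u} [AddCommGroup V] [Module F V] [FiniteDimensional F V]
variable {Q : QuadraticForm F V}

theorem sup_perpIn {W H : Submodule F V} (hHW : H ≤ W) (hH : Nd Q H) :
    H ⊔ perpIn Q W H = W := by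
  have hc := LinearMap.BilinForm.isCompl_orthogonal_of_restrict_nondegenerate
    (polarBilin_isRefl (Q := Q)) (restrict_nondegenerate hH)
  unfold perpIn
  rw [inf_comm, ← sup_inf_assoc_of_le _ hHW, hc.sup_eq_top, top_inf_eq]

omit [FiniteDimensional F V] in
theorem inf_perpIn {W H : Submodule F V} (hH : Nd Q H) : H ⊓ perpIn Q W H = ⊥ :=
  (orth_perpIn W H).disjoint hH

theorem finrank_perpIn {W H : Submodule F V} (hHW : H ≤ W) (hH : Nd Q H) :
    finrank F H + finrank F (perpIn Q W H) = finrank F W := by
  have := Submodule.finrank_sup_add_finrank_inf_eq H (perpIn Q W H)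
  rw [sup_perpIn hHW hH, inf_perpIn hH, finrank_bot, add_zero] at this
  exact this.symm

theorem nd_perpIn {W H : Submodule F V} (hHW : H ≤ W) (hH : Nd Q H) (hW : Nd Q W) :
    Nd Q (perpIn Q W H) := by
  intro x hx hx0
  apply hW x (perpIn_le W H hx)
  intro w hw
  rw [← sup_perpIn hHW hH] at hw
  obtain ⟨a, ha, b, hb, rfl⟩ := Submodule.mem_sup.mp hw
  rw [polar_add_right, hx0 b hb, add_zero, polar_comm]
  exact (mem_perpIn.mp hx).2 a ha

end fd

end Cfsg.Agent.Lib.Helper21.OrtG
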