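import Mathlib
import Cfsg.Agent.Lib.Helper21.OrtG1

/-!
# Signs of nondegenerate subspaces: `SignOn`, multiplicativity, complements
-/

set_option autoImplicit false

namespace Cfsg.Agent.Lib.Helper21.OrtG

open Module QuadraticMap Submodule
open Cfsg.Agent.Lib.Helper14.OrthEven

universe u v

section sign

variable {F : Type v} [Field F] [Fintype F] {V : Type u} [AddCommGroup V] [Module F V]
  [FiniteDimensional F V]
variable (Q : QuadraticForm F V)

/-- the restriction of `Q` to a subspace -/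
noncomputable def resQ (W : Submodule F V) : QuadraticForm F W := Q.comp W.subtype

omit [Fintype F] [FiniteDimensional F V] in
theorem resQ_apply (W : Submodule F V) (w : W) : resQ Q W w = Q (w : V) := rfl

omit [Fintype F] [FiniteDimensional F V] in
theorem polar_resQ (W : Submodule F V) (x y : W) :
    polar (resQ Q W) x y = polar Q (x : V) (y : V) := by
  unfold polar
  rw [resQ_apply, resQ_apply, resQ_apply, Submodule.coe_add]

omit [Fintype F] [FiniteDimensional F V] in
theorem nondegenerate_resQ {W : Submodule F V} (hW : Nd Q W) :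
    (polarBilin (resQ Q W)).Nondegenerate := by
  constructor
  · intro x hx
    apply Subtype.ext
    apply hW x.1 x.2
    intro w hw
    have := hx ⟨w, hw⟩
    rw [polarBilin_apply_apply, polar_resQ] at this
    exact this
  · intro y hy
    apply Subtype.ext
    apply hW y.1 y.2
    intro w hw
    have := hy ⟨w, hw⟩
    rw [polarBilin_apply_apply, polar_resQ, polar_comm] at this
    exact this

/-- `W` is even-dimensional with value distribution of sign `ε` -/
def SignOn (W : Submodule F V) (ε : ℤ) : Prop :=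
  ∃ a : ℕ, finrank F W = 2 * a ∧ HasSign (fun w : W => Q (w : V)) a ε

variable {Q}

omit [FiniteDimensional F V] in
theorem SignOn.unique {W : Submodule F V} {ε ε' : ℤ} (h : SignOn Q W ε) (h' : SignOn Q W ε') :
    ε = ε' := by
  obtain ⟨a, ha, hs⟩ := h
  obtain ⟨a', ha', hs'⟩ := h'
  obtain rfl : a = a' := by omega
  exact hs.unique hs'

theorem signOn_of_finrank_zero {W : Submodule F V} (h : finrank F W = 0) : SignOn Q W 1 := by
  classical
  refine ⟨0, by omega, ?_⟩
  have hbot : W = ⊥ := Submodule.finrank_eq_zero.mp h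
  subst hbot
  intro c
  have hsub : ∀ w : (⊥ : Submodule F V), (w : V) = 0 := fun w => (Submodule.mem_bot F).mp w.2
  unfold cnt
  by_cases hc : c = 0
  · subst hc
    have : Nat.card {w : (⊥ : Submodule F V) // Q (w : V) = 0} = 1 := by
      rw [Nat.card_eq_one_iff_unique]
      refine ⟨⟨fun a b => ?_⟩, ⟨⟨0, by simp⟩⟩⟩
      apply Subtype.ext
      apply Subtype.ext
      rw [hsub a.1, hsub b.1]
    rw [this, if_pos rfl]
    push_cast
    ring
  · have : Nat.card {w : (⊥ : Submodule F V) // Q (w : V) = c} = 0 := by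
      rw [Nat.card_eq_zero]
      left
      refine ⟨fun w => hc ?_⟩
      rw [← w.2, hsub w.1, map_zero]
    rw [this, if_neg hc]
    push_cast
    ring

theorem signOn_cases {W : Submodule F V} (hW : Nd Q W) (hev : Even (finrank F W)) :
    SignOn Q W 1 ∨ SignOn Q W (-1) := by
  obtain ⟨a, ha⟩ := hev
  rcases Nat.eq_zero_or_pos a with rfl | hpos
  · left
    exact signOn_of_finrank_zero (by omega)
  · have h2 : finrank F W = 2 * a := by omega
    rcases sign_cases (resQ Q W) (nondegenerate_resQ Q hW) a hpos h2 with ⟨hs, -⟩ | ⟨hs, -⟩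
    · left
      exact ⟨a, h2, hs⟩
    · right
      exact ⟨a, h2, hs⟩

theorem signOn_sup {W₁ W₂ : Submodule F V} {ε₁ ε₂ : ℤ} (horth : Orth Q W₁ W₂)
    (hdisj : W₁ ⊓ W₂ = ⊥) (h₁ : SignOn Q W₁ ε₁) (h₂ : SignOn Q W₂ ε₂) :
    SignOn Q (W₁ ⊔ W₂) (ε₁ * ε₂) := by
  obtain ⟨a₁, ha₁, hs₁⟩ := h₁
  obtain ⟨a₂, ha₂, hs₂⟩ := h₂
  have hfin := Submodule.finrank_sup_add_finrank_inf_eq W₁ W₂
  rw [hdisj, finrank_bot, add_zero] at hfin
  refine ⟨a₁ + a₂, by omega, ?_⟩
  have : Finite V := Module.finite_of_finite F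
  let f : W₁ × W₂ → ↥(W₁ ⊔ W₂) := fun p =>
    ⟨(p.1 : V) + (p.2 : V), Submodule.add_mem _ (Submodule.mem_sup_left p.1.2)
      (Submodule.mem_sup_right p.2.2)⟩
  have hf : Function.Bijective f := by
    constructor
    · rintro ⟨a, b⟩ ⟨a', b'⟩ h
      have h1 : (a : V) + b = a' + b' := congrArg Subtype.val h
      have h2 : (a : V) - a' = b' - b := by
        rw [sub_eq_sub_iff_add_eq_add, h1, add_comm]
      have h3 : (a : V) - a' ∈ W₁ ⊓ W₂ := by
        refine Submodule.mem_inf.mpr ⟨W₁.sub_mem a.2 a'.2, ?_⟩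
        rw [h2]
        exact W₂.sub_mem b'.2 b.2
      rw [hdisj, Submodule.mem_bot] at h3
      have h4 : (b' : V) - b = 0 := by rw [← h2, h3]
      apply Prod.ext
      · exact Subtype.ext (sub_eq_zero.mp h3)
      · exact Subtype.ext (sub_eq_zero.mp h4).symm
    · rintro ⟨x, hx⟩
      obtain ⟨a, ha, b, hb, rfl⟩ := Submodule.mem_sup.mp hx
      exact ⟨(⟨a, ha⟩, ⟨b, hb⟩), rfl⟩
  have hprod := hs₁.prod hs₂
  refine hprod.of_equiv (Equiv.ofBijective f hf) _ _ ?_
  rintro ⟨a, b⟩
  show Q ((a : V) + (b : V)) = Q (a : V) + Q (b : V)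
  have := horth a a.2 b b.2
  unfold polar at this
  linear_combination this

end sign

end Cfsg.Agent.Lib.Helper21.OrtG
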