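import Mathlib
import Cfsg.Agent.Lib.Helper21.OrtG2

/-!
# Signs: complements, singular vectors, plus type
-/

set_option autoImplicit false

namespace Cfsg.Agent.Lib.Helper21.OrtG

open Module QuadraticMap Submodule
open Cfsg.Agent.Lib.Helper14.OrthEven

universe u v

section sign

variable {F : Type v} [Field F] [Fintype F] {V : Type u} [AddCommGroup V] [Module F V]
  [FiniteDimensional F V]
variable {Q : QuadraticForm F V}

theorem SignOn.sq_eq_one {W : Submodule F V} {ε : ℤ} (hW : Nd Q W) (h : SignOn Q W ε) :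
    ε = 1 ∨ ε = -1 := by
  obtain ⟨a, ha, -⟩ := id h
  rcases signOn_cases hW ⟨a, by omega⟩ with h1 | h1
  · exact Or.inl (h.unique h1)
  · exact Or.inr (h.unique h1)

omit [FiniteDimensional F V] in
theorem SignOn.even {W : Submodule F V} {ε : ℤ} (h : SignOn Q W ε) : Even (finrank F W) := by
  obtain ⟨a, ha, -⟩ := h
  exact ⟨a, by omega⟩

/-- sign of the orthogonal complement inside `W` -/
theorem signOn_perpIn {W H : Submodule F V} {εW εH : ℤ} (hHW : H ≤ W) (hH : Nd Q H)
    (hW : Nd Q W) (hsW : SignOn Q W εW) (hsH : SignOn Q H εH) :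
    SignOn Q (perpIn Q W H) (εW * εH) := by
  have hfin := finrank_perpIn (W := W) hHW hH
  obtain ⟨aW, haW, -⟩ := id hsW
  obtain ⟨aH, haH, -⟩ := id hsH
  have hev : Even (finrank F (perpIn Q W H)) := ⟨aW - aH, by omega⟩
  have hndP := nd_perpIn hHW hH hW
  have key : ∀ ε' : ℤ, SignOn Q (perpIn Q W H) ε' → SignOn Q (perpIn Q W H) (εW * εH) := by
    intro ε' h'
    have hsup := signOn_sup (orth_perpIn W H) (inf_perpIn hH) hsH h'
    rw [sup_perpIn hHW hH] at hsup
    have h1 := hsW.unique hsup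
    have h2 : εW * εH = ε' := by
      rcases hsH.sq_eq_one hH with h3 | h3 <;> rw [h1, h3] <;> ring
    rw [h2]
    exact h'
  rcases signOn_cases hndP hev with h' | h'
  · exact key _ h'
  · exact key _ h'

/-- a nondegenerate subspace of dimension `2a` with many singular vectors -/
theorem exists_singular {W : Submodule F V} {ε : ℤ} {a : ℕ} (ha : finrank F W = 2 * a)
    (hs : HasSign (fun w : W => Q (w : V)) a ε) (hcase : (ε = 1 ∧ 1 ≤ a) ∨ (ε = -1 ∧ 2 ≤ a)) :
    ∃ x ∈ W, x ≠ 0 ∧ Q x = 0 := by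
  classical
  have : Finite V := Module.finite_of_finite F
  by_contra hcon
  push Not at hcon
  have hcard : Nat.card {w : W // Q (w : V) = 0} = 1 := by
    rw [Nat.card_eq_one_iff_unique]
    refine ⟨⟨fun x y => ?_⟩, ⟨⟨0, by simp⟩⟩⟩
    have hx : (x.1 : V) = 0 := by
      by_contra h
      exact hcon x.1.1 x.1.2 h x.2
    have hy : (y.1 : V) = 0 := by
      by_contra h
      exact hcon y.1.1 y.1.2 h y.2
    apply Subtype.ext
    apply Subtype.ext
    rw [hx, hy]
  have h0 := hs 0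
  unfold cnt at h0
  rw [hcard, if_pos rfl, Nat.cast_one] at h0
  have hq2 : (2 : ℤ) ≤ (Fintype.card F : ℤ) := by
    exact_mod_cast Fintype.one_lt_card
  set q : ℤ := (Fintype.card F : ℤ) with hq
  rcases hcase with ⟨rfl, h1⟩ | ⟨rfl, h2⟩
  · obtain ⟨a', rfl⟩ : ∃ a', a = a' + 1 := ⟨a - 1, by omega⟩
    have hp : (1 : ℤ) ≤ q ^ a' := one_le_pow₀ (by linarith)
    have e1 : q ^ (2 * (a' + 1)) = q ^ a' * q ^ a' * q * q := by ring
    have e2 : q ^ (a' + 1) = q ^ a' * q := by ring
    rw [e1, e2] at h0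
    have hq0 : (0 : ℤ) ≤ q := by linarith
    have ht2 : (1 : ℤ) ≤ q ^ a' * q ^ a' := by nlinarith
    have hA : q * q ≤ q ^ a' * q ^ a' * q * q := by
      nlinarith [mul_nonneg (sub_nonneg.2 ht2) (mul_nonneg hq0 hq0)]
    have hB : q * (q - 1) ≤ q ^ a' * q * (q - 1) := by
      nlinarith [mul_nonneg (sub_nonneg.2 hp) (mul_nonneg hq0 (by linarith : (0 : ℤ) ≤ q - 1))]
    nlinarith
  · obtain ⟨a', rfl⟩ : ∃ a', a = a' + 2 := ⟨a - 2, by omega⟩
    have hp : (1 : ℤ) ≤ q ^ a' := one_le_pow₀ (by linarith)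
    have e1 : q ^ (2 * (a' + 2)) = q ^ a' * q ^ a' * q * q * q * q := by ring
    have e2 : q ^ (a' + 2) = q ^ a' * q * q := by ring
    rw [e1, e2] at h0
    have hq0 : (0 : ℤ) ≤ q := by linarith
    have hX : q * q ≤ q ^ a' * q * q := by
      nlinarith [mul_nonneg (sub_nonneg.2 hp) (mul_nonneg hq0 hq0)]
    have hX2 : 2 * q ≤ q ^ a' * q * q := by nlinarith
    have h4 : q = (q ^ a' * q * q) * ((q ^ a' * q * q) - q + 1) := by linear_combination h0
    have h5 : (3 : ℤ) ≤ (q ^ a' * q * q) - q + 1 := by linarith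
    nlinarith [mul_le_mul hX2 h5 (by norm_num) (by linarith : (0 : ℤ) ≤ q ^ a' * q * q)]

/-- a nondegenerate plane with a nonzero singular vector has sign `1` -/
theorem signOn_one_of_singular_plane {W : Submodule F V} (hW : Nd Q W) (h2 : finrank F W = 2)
    {x : V} (hxW : x ∈ W) (hx0 : x ≠ 0) (hx : Q x = 0) : SignOn Q W 1 := by
  classical
  have : Finite V := Module.finite_of_finite F
  rcases signOn_cases hW ⟨1, by omega⟩ with h | h
  · exact h
  · exfalso
    obtain ⟨a, ha, hs⟩ := h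
    obtain rfl : a = 1 := by omega
    have h0 := hs 0
    unfold cnt at h0
    rw [if_pos rfl] at h0
    have hq2 : (2 : ℤ) ≤ (Fintype.card F : ℤ) := by
      exact_mod_cast Fintype.one_lt_card
    have hcard : (Nat.card {w : W // Q (w : V) = 0} : ℤ) = 1 := by
      have hq0 : (Fintype.card F : ℤ) ≠ 0 := by linarith
      apply mul_left_cancel₀ hq0
      rw [h0]
      ring
    have hcard' : Nat.card {w : W // Q (w : V) = 0} = 1 := by exact_mod_cast hcard
    rw [Nat.card_eq_one_iff_unique] at hcard'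
    obtain ⟨hsub, -⟩ := hcard'
    have := hsub.elim ⟨⟨x, hxW⟩, hx⟩ ⟨0, by simp⟩
    exact hx0 (congrArg (fun t => (t.1 : V)) this)

end sign

end Cfsg.Agent.Lib.Helper21.OrtG
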