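import Mathlib
import Cfsg.Agent.Lib.Helper21.OrtG3

/-!
# Plus type (a totally singular subspace of half the dimension) is sign `1`
-/

set_option autoImplicit false

namespace Cfsg.Agent.Lib.Helper21.OrtG

open Module QuadraticMap Submodule
open Cfsg.Agent.Lib.Helper14.OrthEven

universe u v

section plane

variable {F : Type v} [Field F] {V : Type u} [AddCommGroup V] [Module F V]
variable {Q : QuadraticForm F V}

theorem coeff_zero_of_polar {u v₀ : V} (hu : Q u = 0) (hb : polar Q u v₀ ≠ 0) (α β : F)
    (h1 : polar Q (α • u + β • v₀) u = 0) (h2 : polar Q (α • u + β • v₀) v₀ = 0) :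
    α = 0 ∧ β = 0 := by
  rw [polar_add_left, polar_smul_left, polar_smul_left, polar_self, hu, smul_zero, smul_zero,
    zero_add, smul_eq_mul, polar_comm] at h1
  have hβ : β = 0 := (mul_eq_zero.mp h1).resolve_right hb
  rw [hβ, zero_smul, add_zero, polar_smul_left, smul_eq_mul] at h2
  exact ⟨(mul_eq_zero.mp h2).resolve_right hb, hβ⟩

theorem plane_nd {u v₀ : V} (hu : Q u = 0) (hb : polar Q u v₀ ≠ 0) :
    Nd Q (span F {u, v₀}) := by
  intro x hx hx0
  obtain ⟨α, β, rfl⟩ := Submodule.mem_span_pair.mp hx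
  have h1 := hx0 u (Submodule.subset_span (by simp))
  have h2 := hx0 v₀ (Submodule.subset_span (by simp))
  obtain ⟨hα, hβ⟩ := coeff_zero_of_polar hu hb α β h1 h2
  rw [hα, hβ, zero_smul, zero_smul, add_zero]

theorem plane_finrank {u v₀ : V} (hu : Q u = 0) (hb : polar Q u v₀ ≠ 0) :
    finrank F (span F {u, v₀}) = 2 := by
  have hli : LinearIndependent F ![u, v₀] := by
    rw [LinearIndependent.pair_iff]
    intro s t hst
    apply coeff_zero_of_polar hu hb s t
    · rw [hst, polar_zero_left]
    · rw [hst, polar_zero_left]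
  have := finrank_span_eq_card hli
  rw [Matrix.range_cons_cons_empty, Fintype.card_fin] at this
  exact this

theorem exists_hyp_partner {W : Submodule F V} (hW : Nd Q W) {u : V} (huW : u ∈ W)
    (hu0 : u ≠ 0) (hu : Q u = 0) : ∃ f ∈ W, Q f = 0 ∧ polar Q u f = 1 := by
  obtain ⟨v₀, hv₀W, hb⟩ : ∃ v₀ ∈ W, polar Q u v₀ ≠ 0 := by
    by_contra hcon
    push Not at hcon
    exact hu0 (hW u huW hcon)
  obtain ⟨b, hbdef⟩ : ∃ b : F, b = polar Q u v₀ := ⟨_, rfl⟩
  rw [← hbdef] at hb
  obtain ⟨v₁, hv₁⟩ : ∃ v₁ : V, v₁ = b⁻¹ • v₀ := ⟨_, rfl⟩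
  have hv₁W : v₁ ∈ W := by rw [hv₁]; exact W.smul_mem _ hv₀W
  have hp1 : polar Q u v₁ = 1 := by
    rw [hv₁, polar_smul_right, smul_eq_mul, ← hbdef, inv_mul_cancel₀ hb]
  refine ⟨v₁ - Q v₁ • u, W.sub_mem hv₁W (W.smul_mem _ huW), ?_, ?_⟩
  · rw [sub_eq_add_neg, QuadraticMap.map_add Q, QuadraticMap.map_neg, QuadraticMap.map_smul, hu,
      smul_zero, add_zero, polar_neg_right, polar_smul_right, polar_comm, hp1, smul_eq_mul,
      mul_one, add_neg_cancel]
  · rw [polar_sub_right, polar_smul_right, polar_self, hu, smul_zero, smul_zero, sub_zero, hp1]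

end plane

section plus

variable {F : Type v} [Field F] [Fintype F] {V : Type u} [AddCommGroup V] [Module F V]
  [FiniteDimensional F V]
variable {Q : QuadraticForm F V}

/-- a nondegenerate `2a`-dimensional subspace with a totally singular subspace of dimension
at least `a` has sign `1` -/
theorem plus_imp_signOn : ∀ (a : ℕ) (W : Submodule F V), Nd Q W → finrank F W = 2 * a →
    (∃ U : Submodule F V, U ≤ W ∧ (∀ x ∈ U, Q x = 0) ∧ a ≤ finrank F U) → SignOn Q W 1 := by
  intro a
  induction a with
  | zero =>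
    intro W _ h _
    exact signOn_of_finrank_zero (by omega)
  | succ a ih =>
    intro W hW hfin ⟨U, hUW, hUs, hUd⟩
    have hU0 : U ≠ ⊥ := by
      intro h
      rw [h, finrank_bot] at hUd
      omega
    obtain ⟨u, huU, hu0⟩ := Submodule.exists_mem_ne_zero_of_ne_bot hU0
    have hu : Q u = 0 := hUs u huU
    obtain ⟨v₀, hv₀W, hb⟩ : ∃ v₀ ∈ W, polar Q u v₀ ≠ 0 := by
      by_contra hcon
      push Not at hcon
      exact hu0 (hW u (hUW huU) hcon)
    set H := span F {u, v₀} with hH
    have hHW : H ≤ W := by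
      rw [hH, Submodule.span_le]
      intro x hx
      rcases hx with rfl | rfl
      · exact hUW huU
      · exact hv₀W
    have hHnd : Nd Q H := plane_nd hu hb
    have hH2 : finrank F H = 2 := plane_finrank hu hb
    have hHs : SignOn Q H 1 :=
      signOn_one_of_singular_plane hHnd hH2 (Submodule.subset_span (by simp)) hu0 hu
    have hP := finrank_perpIn (W := W) hHW hHnd
    have hPnd := nd_perpIn hHW hHnd hW
    -- the totally singular subspace of the complement
    obtain ⟨K, hKdef⟩ : ∃ K : Submodule F V, K = LinearMap.ker (polarBilin Q v₀) := ⟨_, rfl⟩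
    have hK : ∀ x, x ∈ K ↔ polar Q v₀ x = 0 := fun x => by
      rw [hKdef, LinearMap.mem_ker, polarBilin_apply_apply]
    have hUK : U ⊓ K ≤ perpIn Q W H := by
      intro x hx
      rw [Submodule.mem_inf] at hx
      refine mem_perpIn.mpr ⟨hUW hx.1, ?_⟩
      intro h hh
      obtain ⟨α, β, rfl⟩ := Submodule.mem_span_pair.mp hh
      have h1 : polar Q u x = 0 := by
        unfold polar
        rw [hUs _ (U.add_mem huU hx.1), hu, hUs x hx.1]
        simp
      rw [polar_add_left, polar_smul_left, polar_smul_left, h1, (hK x).mp hx.2, smul_zero,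
        smul_zero, add_zero]
    have hKdim : finrank F V ≤ finrank F K + 1 := by
      have h1 := LinearMap.finrank_range_add_finrank_ker (polarBilin Q v₀)
      rw [← hKdef] at h1
      have h2 : finrank F (LinearMap.range (polarBilin Q v₀)) ≤ 1 := by
        have := Submodule.finrank_le (LinearMap.range (polarBilin Q v₀))
        rwa [finrank_self] at this
      omega
    have hUKdim : a ≤ finrank F ↥(U ⊓ K) := by
      have h1 := Submodule.finrank_sup_add_finrank_inf_eq U K
      have h2 := Submodule.finrank_le (U ⊔ K)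
      omega
    have hrec := ih (perpIn Q W H) hPnd (by omega)
      ⟨U ⊓ K, hUK, fun x hx => hUs x (Submodule.mem_inf.mp hx).1, hUKdim⟩
    have hsup := signOn_sup (orth_perpIn W H) (inf_perpIn hHnd) hHs hrec
    rw [sup_perpIn hHW hHnd, one_mul] at hsup
    exact hsup

/-- a nondegenerate subspace of sign `1` is of plus type -/
theorem signOn_imp_plus {W : Submodule F V} (hW : Nd Q W) (hs : SignOn Q W 1) :
    ∃ U : Submodule F V, U ≤ W ∧ (∀ x ∈ U, Q x = 0) ∧ 2 * finrank F U = finrank F W := by
  obtain ⟨a, ha, hsa⟩ := hs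
  rcases Nat.eq_zero_or_pos a with rfl | hpos
  · exact ⟨⊥, bot_le, fun x hx => by rw [(Submodule.mem_bot F).mp hx, map_zero],
      by rw [finrank_bot, ha]⟩
  · rcases sign_cases (resQ Q W) (nondegenerate_resQ Q hW) a hpos ha with ⟨-, g, hg⟩ | ⟨hs2, -⟩
    · let ι : (Fin a → F) →ₗ[F] (Fin a ⊕ Fin a → F) :=
        (LinearEquiv.sumArrowLequivProdArrow (Fin a) (Fin a) F F).symm.toLinearMap ∘ₗ
          LinearMap.inl F (Fin a → F) (Fin a → F)
      have hι1 : ∀ y i, ι y (Sum.inr i) = 0 := by
        intro y i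
        simp [ι, LinearEquiv.sumArrowLequivProdArrow]
      have hιinj : Function.Injective ι := by
        intro y y' h
        have := (LinearEquiv.sumArrowLequivProdArrow (Fin a) (Fin a) F F).symm.injective h
        exact (Prod.ext_iff.mp this).1
      let φ : (Fin a → F) →ₗ[F] V := W.subtype ∘ₗ g.symm.toLinearMap ∘ₗ ι
      have hφinj : Function.Injective φ := by
        intro y y' h
        apply hιinj
        apply g.symm.injective
        exact Subtype.ext h
      refine ⟨LinearMap.range φ, ?_, ?_, ?_⟩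
      · rintro _ ⟨y, rfl⟩
        exact (g.symm (ι y)).2
      · rintro _ ⟨y, rfl⟩
        have h1 : Q (φ y) = resQ Q W (g.symm (ι y)) := rfl
        rw [h1, hg, LinearEquiv.apply_symm_apply]
        unfold Cfsg.quadFormPlus
        apply Finset.sum_eq_zero
        intro i _
        rw [hι1, mul_zero]
      · rw [LinearMap.finrank_range_of_inj hφinj, Module.finrank_fintype_fun_eq_card,
          Fintype.card_fin, ha]
    · exfalso
      have := hsa.unique hs2
      omega

end plus

end Cfsg.Agent.Lib.Helper21.OrtG
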