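import Mathlib
import Cfsg.Agent.Lib.Helper21.OrtG4

/-!
# Existence of nondegenerate subspaces of prescribed dimension and sign
-/

set_option autoImplicit false

namespace Cfsg.Agent.Lib.Helper21.OrtG

open Module QuadraticMap Submodule
open Cfsg.Agent.Lib.Helper14.OrthEven

universe u v

theorem exists_irred_zeta (F : Type v) [Field F] [Finite F] : ∃ ζ : F, ∀ t : F, t ^ 2 + t + ζ ≠ 0 := by
  let f : F → F := fun t => t ^ 2 + t
  have hni : ¬ Function.Injective f := by
    intro h
    have h1 : f 0 = f (-1) := by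
      show (0 : F) ^ 2 + 0 = (-1) ^ 2 + (-1)
      ring
    have h2 : (0 : F) = -1 := h h1
    have h3 : (1 : F) = 0 := by linear_combination h2
    exact one_ne_zero h3
  have hns : ¬ Function.Surjective f := fun h => hni (Finite.injective_iff_surjective.mpr h)
  unfold Function.Surjective at hns
  push Not at hns
  obtain ⟨c, hc⟩ := hns
  refine ⟨-c, fun t h => hc t ?_⟩
  show t ^ 2 + t = c
  linear_combination h

section elliptic

variable {F : Type v} [Field F] {V : Type u} [AddCommGroup V] [Module F V]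
variable {Q : QuadraticForm F V}

/-- the anisotropic plane inside the sum of two hyperbolic planes -/
theorem elliptic_plane {e₁ f₁ e₂ f₂ : V} (he₁ : Q e₁ = 0) (hf₁ : Q f₁ = 0)
    (h₁ : polar Q e₁ f₁ = 1) (he₂ : Q e₂ = 0) (hf₂ : Q f₂ = 0) (h₂ : polar Q e₂ f₂ = 1)
    (o1 : polar Q e₁ e₂ = 0) (o2 : polar Q e₁ f₂ = 0) (o3 : polar Q f₁ e₂ = 0)
    (o4 : polar Q f₁ f₂ = 0) (ζ : F) (hζ : ∀ t : F, t ^ 2 + t + ζ ≠ 0) :
    Nd Q (span F {e₁ + ζ • f₁, e₂ + f₂ + f₁}) ∧
      finrank F (span F {e₁ + ζ • f₁, e₂ + f₂ + f₁}) = 2 ∧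
      ∀ x ∈ span F {e₁ + ζ • f₁, e₂ + f₂ + f₁}, Q x = 0 → x = 0 := by
  obtain ⟨v, hv⟩ : ∃ v : V, v = e₁ + ζ • f₁ := ⟨_, rfl⟩
  obtain ⟨w, hw⟩ : ∃ w : V, w = e₂ + f₂ + f₁ := ⟨_, rfl⟩
  rw [← hv, ← hw]
  have hff : polar Q f₁ f₁ = 0 := by rw [polar_self, hf₁, smul_zero]
  have Qv : Q v = ζ := by
    rw [hv, QuadraticMap.map_add Q, QuadraticMap.map_smul, he₁, hf₁, polar_smul_right, h₁]
    simp
  have Qw : Q w = 1 := by
    rw [hw, QuadraticMap.map_add Q, QuadraticMap.map_add Q, he₂, hf₂, hf₁, h₂, polar_add_left,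
      polar_comm _ e₂ f₁, polar_comm _ f₂ f₁, o3, o4]
    simp
  have Pvw : polar Q v w = 1 := by
    rw [hv, hw, polar_add_left, polar_smul_left, polar_add_right, polar_add_right,
      polar_add_right, polar_add_right, o1, o2, h₁, o3, o4, hff]
    simp
  have Pvv : polar Q v v = 2 * ζ := by
    rw [polar_self, Qv]
    simp
  have Pww : polar Q w w = 2 := by
    rw [polar_self, Qw]
    simp
  have h4 : (1 : F) - 4 * ζ ≠ 0 := by
    intro h
    apply hζ (-2 * ζ)
    linear_combination (-ζ) * h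
  have coeff : ∀ s t : F, polar Q (s • v + t • w) v = 0 → polar Q (s • v + t • w) w = 0 →
      s = 0 ∧ t = 0 := by
    intro s t h1 h2
    rw [polar_add_left, polar_smul_left, polar_smul_left, Pvv, polar_comm _ w v, Pvw,
      smul_eq_mul, smul_eq_mul] at h1
    rw [polar_add_left, polar_smul_left, polar_smul_left, Pvw, Pww, smul_eq_mul,
      smul_eq_mul] at h2
    have hs : s * (1 - 4 * ζ) = 0 := by linear_combination h2 - 2 * h1
    have hs0 : s = 0 := (mul_eq_zero.mp hs).resolve_right h4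
    refine ⟨hs0, ?_⟩
    rw [hs0] at h1
    linear_combination h1
  refine ⟨?_, ?_, ?_⟩
  · intro x hx hx0
    obtain ⟨s, t, rfl⟩ := Submodule.mem_span_pair.mp hx
    obtain ⟨hs, ht⟩ := coeff s t (hx0 v (Submodule.subset_span (by simp)))
      (hx0 w (Submodule.subset_span (by simp)))
    rw [hs, ht, zero_smul, zero_smul, add_zero]
  · have hli : LinearIndependent F ![v, w] := by
      rw [LinearIndependent.pair_iff]
      intro s t hst
      apply coeff s t
      · rw [hst, polar_zero_left]
      · rw [hst, polar_zero_left]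
    have := finrank_span_eq_card hli
    rw [Matrix.range_cons_cons_empty, Fintype.card_fin] at this
    exact this
  · intro x hx hQx
    obtain ⟨s, t, rfl⟩ := Submodule.mem_span_pair.mp hx
    have hQ : Q (s • v + t • w) = ζ * s ^ 2 + s * t + t ^ 2 := by
      rw [QuadraticMap.map_add Q, QuadraticMap.map_smul, QuadraticMap.map_smul, Qv, Qw,
        polar_smul_left, polar_smul_right, Pvw]
      simp only [smul_eq_mul]
      ring
    rw [hQ] at hQx
    by_cases hs : s = 0
    · rw [hs] at hQx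
      have ht : t = 0 := by
        have : t ^ 2 = 0 := by linear_combination hQx
        exact pow_eq_zero_iff (two_ne_zero) |>.mp this
      rw [hs, ht, zero_smul, zero_smul, add_zero]
    · exfalso
      apply hζ (t / s)
      field_simp
      linear_combination hQx

end elliptic

end Cfsg.Agent.Lib.Helper21.OrtG
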