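import Mathlib
import Cfsg.Agent.Lib.Helper21.OrtG5

/-!
# Existence of nondegenerate subspaces of prescribed dimension and sign (continued)
-/

set_option autoImplicit false

namespace Cfsg.Agent.Lib.Helper21.OrtG

open Module QuadraticMap Submodule
open Cfsg.Agent.Lib.Helper14.OrthEven

universe u v

section exist

variable {F : Type v} [Field F] [Fintype F] {V : Type u} [AddCommGroup V] [Module F V]
  [FiniteDimensional F V]
variable {Q : QuadraticForm F V}

omit [Fintype F] [FiniteDimensional F V] in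
theorem Orth.mono {W₁ W₂ W₁' W₂' : Submodule F V} (h : Orth Q W₁ W₂) (h1 : W₁' ≤ W₁)
    (h2 : W₂' ≤ W₂) : Orth Q W₁' W₂' := fun u hu w hw => h u (h1 hu) w (h2 hw)

/-- a plus plane through a given singular vector -/
theorem exists_plus_plane {C : Submodule F V} (hC : Nd Q C) {u : V} (huC : u ∈ C) (hu0 : u ≠ 0)
    (hu : Q u = 0) : ∃ f ∈ C, Q f = 0 ∧ polar Q u f = 1 ∧ span F {u, f} ≤ C ∧
      Nd Q (span F {u, f}) ∧ finrank F (span F {u, f}) = 2 ∧ SignOn Q (span F {u, f}) 1 := by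
  obtain ⟨f, hfC, hf, huf⟩ := exists_hyp_partner hC huC hu0 hu
  have hb : polar Q u f ≠ 0 := by rw [huf]; exact one_ne_zero
  have hle : span F {u, f} ≤ C := by
    rw [Submodule.span_le]
    intro x hx
    rcases hx with rfl | rfl
    · exact huC
    · exact hfC
  exact ⟨f, hfC, hf, huf, hle, plane_nd hu hb, plane_finrank hu hb,
    signOn_one_of_singular_plane (plane_nd hu hb) (plane_finrank hu hb)
      (Submodule.subset_span (by simp)) hu0 hu⟩

theorem exists_singular' {C : Submodule F V} (hC : Nd Q C) {a : ℕ} (ha : finrank F C = 2 * a)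
    (h2 : 2 ≤ a) : ∃ x ∈ C, x ≠ 0 ∧ Q x = 0 := by
  rcases signOn_cases hC ⟨a, by omega⟩ with ⟨a', ha', hs⟩ | ⟨a', ha', hs⟩
  · obtain rfl : a' = a := by omega
    exact exists_singular ha hs (Or.inl ⟨rfl, by omega⟩)
  · obtain rfl : a' = a := by omega
    exact exists_singular ha hs (Or.inr ⟨rfl, h2⟩)

/-- planes of both signs inside a nondegenerate space of dimension at least `4` -/
theorem exists_plane_sign {C : Submodule F V} (hC : Nd Q C) {a : ℕ} (ha : finrank F C = 2 * a)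
    (h2 : 2 ≤ a) (ε : ℤ) (hε : ε = 1 ∨ ε = -1) :
    ∃ P : Submodule F V, P ≤ C ∧ Nd Q P ∧ finrank F P = 2 ∧ SignOn Q P ε := by
  obtain ⟨e₁, he₁C, he₁0, he₁⟩ := exists_singular' hC ha h2
  obtain ⟨f₁, hf₁C, hf₁, h₁, hP₁C, hP₁nd, hP₁2, hP₁s⟩ := exists_plus_plane hC he₁C he₁0 he₁
  rcases hε with rfl | rfl
  · exact ⟨_, hP₁C, hP₁nd, hP₁2, hP₁s⟩
  · have hC₁nd := nd_perpIn hP₁C hP₁nd hC
    have hC₁fin := finrank_perpIn (W := C) hP₁C hP₁nd
    have hC₁le : perpIn Q C (span F {e₁, f₁}) ≤ C := perpIn_le _ _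
    by_cases hsing : ∃ u₂ ∈ perpIn Q C (span F {e₁, f₁}), u₂ ≠ 0 ∧ Q u₂ = 0
    · obtain ⟨e₂, he₂C₁, he₂0, he₂⟩ := hsing
      obtain ⟨f₂, hf₂C₁, hf₂, h₂⟩ := exists_hyp_partner hC₁nd he₂C₁ he₂0 he₂
      have he₁P : e₁ ∈ span F {e₁, f₁} := Submodule.subset_span (by simp)
      have hf₁P : f₁ ∈ span F {e₁, f₁} := Submodule.subset_span (by simp)
      have o1 := (mem_perpIn.mp he₂C₁).2 e₁ he₁P
      have o2 := (mem_perpIn.mp hf₂C₁).2 e₁ he₁P
      have o3 := (mem_perpIn.mp he₂C₁).2 f₁ hf₁P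
      have o4 := (mem_perpIn.mp hf₂C₁).2 f₁ hf₁P
      obtain ⟨ζ, hζ⟩ := exists_irred_zeta F
      obtain ⟨hPnd, hP2, hPan⟩ := elliptic_plane he₁ hf₁ h₁ he₂ hf₂ h₂ o1 o2 o3 o4 ζ hζ
      refine ⟨_, ?_, hPnd, hP2, ?_⟩
      · rw [Submodule.span_le]
        intro x hx
        rcases hx with rfl | rfl
        · exact C.add_mem he₁C (C.smul_mem _ hf₁C)
        · exact C.add_mem (C.add_mem (hC₁le he₂C₁) (hC₁le hf₂C₁)) hf₁C
      · rcases signOn_cases hPnd ⟨1, by omega⟩ with h | h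
        · exfalso
          obtain ⟨U, hUP, hUs, hUd⟩ := signOn_imp_plus hPnd h
          have hU0 : U ≠ ⊥ := by
            intro hb
            rw [hb, finrank_bot] at hUd
            omega
          obtain ⟨x, hxU, hx0⟩ := Submodule.exists_mem_ne_zero_of_ne_bot hU0
          exact hx0 (hPan x (hUP hxU) (hUs x hxU))
        · exact h
    · push Not at hsing
      rcases signOn_cases hC₁nd ⟨a - 1, by omega⟩ with ⟨a', ha', hs⟩ | ⟨a', ha', hs⟩
      · exfalso
        obtain ⟨x, hx, hx0, hQx⟩ := exists_singular ha' hs (Or.inl ⟨rfl, by omega⟩)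
        exact hsing x hx hx0 hQx
      · by_cases ha2 : 2 ≤ a'
        · exfalso
          obtain ⟨x, hx, hx0, hQx⟩ := exists_singular ha' hs (Or.inr ⟨rfl, ha2⟩)
          exact hsing x hx hx0 hQx
        · exact ⟨_, hC₁le, hC₁nd, by omega, ⟨a', ha', hs⟩⟩

/-- nondegenerate subspaces of every intermediate even dimension and both signs -/
theorem exists_sub_sign : ∀ (b : ℕ) (C : Submodule F V) (a : ℕ), Nd Q C → finrank F C = 2 * a →
    1 ≤ b → b < a → ∀ ε : ℤ, (ε = 1 ∨ ε = -1) →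
    ∃ W : Submodule F V, W ≤ C ∧ Nd Q W ∧ finrank F W = 2 * b ∧ SignOn Q W ε := by
  intro b
  induction b with
  | zero =>
    intro C a _ _ h1
    omega
  | succ b ih =>
    intro C a hC ha _ hba ε hε
    rcases Nat.eq_zero_or_pos b with rfl | hb
    · obtain ⟨P, hPC, hPnd, hP2, hPs⟩ := exists_plane_sign hC ha (by omega) ε hε
      exact ⟨P, hPC, hPnd, by omega, hPs⟩
    · obtain ⟨P, hPC, hPnd, hP2, hPs⟩ := exists_plane_sign hC ha (by omega) 1 (Or.inl rfl)
      have hC₁nd := nd_perpIn hPC hPnd hC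
      have hC₁fin := finrank_perpIn (W := C) hPC hPnd
      obtain ⟨W', hW'C₁, hW'nd, hW'fin, hW's⟩ :=
        ih (perpIn Q C P) (a - 1) hC₁nd (by omega) hb (by omega) ε hε
      have horth : Orth Q P W' := (orth_perpIn C P).mono le_rfl hW'C₁
      have hdisj : P ⊓ W' = ⊥ := horth.disjoint hPnd
      refine ⟨P ⊔ W', sup_le hPC (hW'C₁.trans (perpIn_le _ _)), nd_sup horth hPnd hW'nd, ?_, ?_⟩
      · have := Submodule.finrank_sup_add_finrank_inf_eq P W'
        rw [hdisj, finrank_bot, add_zero] at this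
        omega
      · have := signOn_sup horth hdisj hPs hW's
        rwa [one_mul] at this

end exist

end Cfsg.Agent.Lib.Helper21.OrtG
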