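import Mathlib
import Cfsg.Agent.Lib.Helper21.OrtG6

/-!
# Isometries of finite order prime to the characteristic: fixed and moved parts
-/

set_option autoImplicit false

namespace Cfsg.Agent.Lib.Helper21.OrtG

open Module QuadraticMap Submodule

universe u v

section semis

variable {F : Type v} [Field F] {U : Type u} [AddCommGroup U] [Module F U]

theorem pow_fixed' (y : Module.End F U) {v : U} (hv : y v = v) (k : ℕ) : (y ^ k) v = v := by
  induction k with
  | zero => simp
  | succ k ih => rw [pow_succ, Module.End.mul_apply, hv, ih]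

theorem ker_inf_range_eq_bot (y : Module.End F U) (r : ℕ) (hr0 : (r : F) ≠ 0) (hyr : y ^ r = 1) :
    LinearMap.ker (y - 1) ⊓ LinearMap.range (y - 1) = ⊥ := by
  rw [eq_bot_iff]
  intro v hv
  rw [Submodule.mem_inf, LinearMap.mem_ker, LinearMap.mem_range] at hv
  obtain ⟨hfix, t, rfl⟩ := hv
  rw [Submodule.mem_bot]
  have hfix' : y ((y - 1) t) = (y - 1) t := by
    have := hfix
    rw [LinearMap.sub_apply, Module.End.one_apply, sub_eq_zero] at this
    exact this
  have h1 : (∑ j ∈ Finset.range r, y ^ j) ((y - 1) t) = 0 := by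
    rw [← Module.End.mul_apply, geom_sum_mul, hyr, sub_self, LinearMap.zero_apply]
  have h2 : (∑ j ∈ Finset.range r, y ^ j) ((y - 1) t) = (r : F) • (y - 1) t := by
    rw [LinearMap.sum_apply]
    simp only [pow_fixed' y hfix']
    rw [Finset.sum_const, Finset.card_range, Nat.cast_smul_eq_nsmul]
  rw [h1] at h2
  exact (smul_eq_zero.mp h2.symm).resolve_left hr0

theorem isCompl_ker_range [FiniteDimensional F U] (y : Module.End F U) (r : ℕ)
    (hr0 : (r : F) ≠ 0) (hyr : y ^ r = 1) :
    IsCompl (LinearMap.ker (y - 1)) (LinearMap.range (y - 1)) := by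
  have hd := ker_inf_range_eq_bot y r hr0 hyr
  refine IsCompl.of_eq hd ?_
  apply Submodule.eq_top_of_finrank_eq
  have h1 := Submodule.finrank_sup_add_finrank_inf_eq (LinearMap.ker (y - 1))
    (LinearMap.range (y - 1))
  rw [hd, finrank_bot, add_zero] at h1
  have h2 := LinearMap.finrank_range_add_finrank_ker (y - 1)
  omega

end semis

section iso

variable {F : Type v} [Field F] {V : Type u} [AddCommGroup V] [Module F V]
variable {Q : QuadraticForm F V}

theorem polar_iso {x : Module.End F V} (hiso : ∀ v, Q (x v) = Q v) (a b : V) :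
    polar Q (x a) (x b) = polar Q a b := by
  unfold polar
  rw [← map_add, hiso, hiso, hiso]

/-- the fixed space is orthogonal to the moved space -/
theorem orth_ker_range {x : Module.End F V} (hiso : ∀ v, Q (x v) = Q v) :
    Orth Q (LinearMap.ker (x - 1)) (LinearMap.range (x - 1)) := by
  intro a ha w hw
  rw [LinearMap.mem_ker, LinearMap.sub_apply, Module.End.one_apply, sub_eq_zero] at ha
  obtain ⟨t, rfl⟩ := hw
  rw [LinearMap.sub_apply, Module.End.one_apply, polar_sub_right]
  nth_rewrite 1 [← ha]
  rw [polar_iso hiso, sub_self]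

theorem nd_of_orth_sup {A B : Submodule F V} (h : Orth Q A B) (hnd : Nd Q (A ⊔ B)) : Nd Q A := by
  intro a ha ha0
  apply hnd a (Submodule.mem_sup_left ha)
  intro w hw
  obtain ⟨a', ha', b', hb', rfl⟩ := Submodule.mem_sup.mp hw
  rw [polar_add_right, ha0 a' ha', h a ha b' hb', add_zero]

theorem nd_of_orth_sup' {A B : Submodule F V} (h : Orth Q A B) (hnd : Nd Q (A ⊔ B)) :
    Nd Q B := by
  rw [sup_comm] at hnd
  exact nd_of_orth_sup h.symm hnd

/-- decomposition of an invariant subspace into fixed and moved parts -/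
theorem inv_decomp [FiniteDimensional F V] {x : Module.End F V} (r : ℕ) (hr0 : (r : F) ≠ 0)
    (hxr : x ^ r = 1) {W : Submodule F V} (hW : ∀ v ∈ W, x v ∈ W) :
    (W ⊓ LinearMap.ker (x - 1)) ⊔ W.map (x - 1) = W := by
  apply le_antisymm
  · apply sup_le inf_le_left
    rintro _ ⟨t, ht, rfl⟩
    rw [LinearMap.sub_apply, Module.End.one_apply]
    exact W.sub_mem (hW t ht) ht
  · intro w hw
    let y : Module.End F W := x.restrict hW
    have hyr : y ^ r = 1 := by
      apply LinearMap.ext
      intro v
      apply Subtype.ext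
      rw [Module.End.pow_restrict, LinearMap.restrict_apply]
      simp [hxr]
    have hc := isCompl_ker_range y r hr0 hyr
    have hmem : (⟨w, hw⟩ : W) ∈ LinearMap.ker (y - 1) ⊔ LinearMap.range (y - 1) := by
      rw [hc.sup_eq_top]
      exact Submodule.mem_top
    obtain ⟨c, hcK, m, hmR, hcm⟩ := Submodule.mem_sup.mp hmem
    obtain ⟨t, rfl⟩ := hmR
    have hw' : w = (c : V) + (x (t : V) - (t : V)) := by
      have := congrArg Subtype.val hcm
      simp only [Submodule.coe_add] at this
      rw [← this]
      rfl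
    rw [hw']
    apply Submodule.add_mem
    · apply Submodule.mem_sup_left
      refine Submodule.mem_inf.mpr ⟨c.2, ?_⟩
      rw [LinearMap.mem_ker, LinearMap.sub_apply, Module.End.one_apply, sub_eq_zero]
      rw [LinearMap.mem_ker, LinearMap.sub_apply, Module.End.one_apply, sub_eq_zero] at hcK
      exact congrArg Subtype.val hcK
    · apply Submodule.mem_sup_right
      exact ⟨t, t.2, by rw [LinearMap.sub_apply, Module.End.one_apply]⟩

end iso

end Cfsg.Agent.Lib.Helper21.OrtG
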