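import Mathlib
import Cfsg.Agent.Lib.Helper21.OrtG7
import Cfsg.Agent.Lib.Helper15.PSpJ2

/-!
# Invariant nondegenerate subspaces without fixed vectors: blocks and signs
-/

set_option autoImplicit false

namespace Cfsg.Agent.Lib.Helper21.OrtG

open Module QuadraticMap Submodule
open Cfsg.Agent.Lib.Helper14.OrthEven
open Cfsg.Agent.Lib.Helper15.PSpJ (cOf)

universe u v

/-- the sign of a `c`-block: `-1` for `i` even, `1` for `i` odd -/
def tauOf (i : ℕ) : ℤ := if Even i then -1 else 1

theorem tauOf_sq (i : ℕ) : tauOf i * tauOf i = 1 := by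
  unfold tauOf
  split_ifs <;> norm_num

theorem tauOf_cases (i : ℕ) : tauOf i = 1 ∨ tauOf i = -1 := by
  unfold tauOf
  split_ifs
  · exact Or.inr rfl
  · exact Or.inl rfl

theorem tauOf_pow_cases (i s : ℕ) : tauOf i ^ s = 1 ∨ tauOf i ^ s = -1 := by
  rcases tauOf_cases i with h | h <;> rw [h]
  · left; simp
  · rcases Nat.even_or_odd s with hs | hs
    · left; exact hs.neg_one_pow
    · right; exact hs.neg_one_pow

/-- arithmetic: `q ^ a = ε` modulo `r` determines the number of blocks and the sign -/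
theorem blocks_of_pow_eq (r : ℕ) [hr : Fact r.Prime] (hr2 : r ≠ 2) (q a : ℕ) (ε : ℤ)
    (hε : ε = 1 ∨ ε = -1)
    (h : ((q : ℕ) : ZMod r) ^ a = ((ε : ℤ) : ZMod r)) :
    ∃ s : ℕ, 2 * a = cOf (orderOf ((q : ℕ) : ZMod r)) * s ∧
      ε = tauOf (orderOf ((q : ℕ) : ZMod r)) ^ s := by
  obtain ⟨i, hi⟩ : ∃ i, i = orderOf ((q : ℕ) : ZMod r) := ⟨_, rfl⟩
  rw [← hi]
  have hne : (1 : ZMod r) ≠ -1 := by
    intro h1
    have h2 : ((2 : ℕ) : ZMod r) = 0 := by
      push_cast
      linear_combination h1
    have h3 : r ∣ 2 := (ZMod.natCast_eq_zero_iff 2 r).1 h2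
    have h4 := (Nat.prime_dvd_prime_iff_eq hr.out Nat.prime_two).mp h3
    exact hr2 h4
  rcases hε with rfl | rfl
  · have h1 : ((q : ℕ) : ZMod r) ^ a = 1 := by rw [h]; simp
    have hdvd : i ∣ a := by rw [hi]; exact orderOf_dvd_of_pow_eq_one h1
    obtain ⟨k, rfl⟩ := hdvd
    unfold cOf tauOf
    by_cases hie : Even i
    · rw [if_pos hie, if_pos hie]
      refine ⟨2 * k, by ring, ?_⟩
      rw [pow_mul]
      simp
    · rw [if_neg hie, if_neg hie]
      exact ⟨k, by ring, by simp⟩
  · have h1 : ((q : ℕ) : ZMod r) ^ a = -1 := by rw [h]; simp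
    have h2 : ((q : ℕ) : ZMod r) ^ (2 * a) = 1 := by
      rw [mul_comm, pow_mul, h1]
      simp
    have hdvd : i ∣ 2 * a := by rw [hi]; exact orderOf_dvd_of_pow_eq_one h2
    have hnd : ¬ i ∣ a := by
      intro hd
      apply hne
      rw [← h1]
      obtain ⟨k, rfl⟩ := hd
      rw [pow_mul, hi, pow_orderOf_eq_one, one_pow]
    have hie : Even i := by
      by_contra hodd
      rw [Nat.not_even_iff_odd] at hodd
      apply hnd
      have hcop : Nat.Coprime i 2 := hodd.coprime_two_right
      exact hcop.dvd_of_dvd_mul_left hdvd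
    unfold cOf tauOf
    rw [if_pos hie, if_pos hie]
    obtain ⟨k, hk⟩ := hdvd
    refine ⟨k, hk, ?_⟩
    have hkodd : Odd k := by
      by_contra hev
      rw [Nat.not_odd_iff_even] at hev
      obtain ⟨k', rfl⟩ := hev
      apply hnd
      refine ⟨k', ?_⟩
      have h3 : 2 * a = 2 * (i * k') := by rw [hk]; ring
      omega
    rw [hkodd.neg_one_pow]

section blocks

variable {F : Type v} [Field F] [Fintype F] {V : Type u} [AddCommGroup V] [Module F V]
  [FiniteDimensional F V]
variable {Q : QuadraticForm F V}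

/-- the invariant alternating form `(u, v) ↦ B ((x - 1) u, (x + 1) v)` -/
noncomputable def altF (Q : QuadraticForm F V) (x : Module.End F V) : V →ₗ[F] V →ₗ[F] F :=
  (polarBilin Q).compl₁₂ (x - 1) (x + 1)

omit [Fintype F] [FiniteDimensional F V] in
theorem altF_apply (x : Module.End F V) (a b : V) :
    altF Q x a b = polar Q (x a - a) (x b + b) := by
  unfold altF
  rw [LinearMap.compl₁₂_apply, polarBilin_apply_apply]
  rfl

omit [Fintype F] [FiniteDimensional F V] in
theorem altF_self {x : Module.End F V} (hiso : ∀ v, Q (x v) = Q v) (a : V) :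
    altF Q x a a = 0 := by
  rw [altF_apply, polar_sub_left, polar_add_right, polar_add_right, polar_self, polar_self,
    hiso, polar_comm _ a (x a)]
  abel

omit [Fintype F] [FiniteDimensional F V] in
theorem altF_iso {x : Module.End F V} (hiso : ∀ v, Q (x v) = Q v) (a b : V) :
    altF Q x (x a) (x b) = altF Q x a b := by
  rw [altF_apply, altF_apply, ← map_sub, ← map_add, polar_iso hiso]

omit [Fintype F] in
/-- an injective endomorphism of an invariant subspace is surjective on it -/
theorem surj_on_of_inj_on (g : Module.End F V) (Z : Submodule F V) (hZ : ∀ z ∈ Z, g z ∈ Z)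
    (hinj : ∀ z ∈ Z, g z = 0 → z = 0) : ∀ w ∈ Z, ∃ z ∈ Z, g z = w := by
  let g' : Module.End F Z := g.restrict hZ
  have hinj' : Function.Injective g' := by
    rw [← LinearMap.ker_eq_bot, LinearMap.ker_eq_bot']
    intro z hz
    apply Subtype.ext
    apply hinj z.1 z.2
    exact congrArg Subtype.val hz
  have hsurj := LinearMap.injective_iff_surjective.mp hinj'
  intro w hw
  obtain ⟨z, hz⟩ := hsurj ⟨w, hw⟩
  exact ⟨z.1, z.2, congrArg Subtype.val hz⟩

omit [Fintype F] [FiniteDimensional F V] in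
theorem pow_neg_apply (x : Module.End F V) {z : V} (hz : x z = -z) (k : ℕ) :
    (x ^ k) z = (-1 : F) ^ k • z := by
  induction k with
  | zero => simp
  | succ k ih =>
    rw [pow_succ, Module.End.mul_apply, hz, map_neg, ih, pow_succ]
    simp

omit [Fintype F] [FiniteDimensional F V] in
theorem sub_one_inj_on {x : Module.End F V} {Z : Submodule F V}
    (hfpf : Z ⊓ LinearMap.ker (x - 1) = ⊥) : ∀ z ∈ Z, (x - 1) z = 0 → z = 0 := by
  intro z hz h
  have : z ∈ Z ⊓ LinearMap.ker (x - 1) := Submodule.mem_inf.mpr ⟨hz, LinearMap.mem_ker.mpr h⟩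
  rw [hfpf] at this
  exact (Submodule.mem_bot F).mp this

omit [Fintype F] [FiniteDimensional F V] in
theorem add_one_inj_on {x : Module.End F V} (r : ℕ) (hodd : Odd r) (hxr : x ^ r = 1)
    {Z : Submodule F V} (hfpf : Z ⊓ LinearMap.ker (x - 1) = ⊥) :
    ∀ z ∈ Z, (x + 1) z = 0 → z = 0 := by
  intro z hz h
  have hxz : x z = -z := by
    rw [LinearMap.add_apply, Module.End.one_apply] at h
    exact eq_neg_of_add_eq_zero_left h
  have h1 := pow_neg_apply x hxz r
  rw [hxr, Module.End.one_apply, hodd.neg_one_pow, neg_one_smul] at h1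
  by_cases h2 : (2 : F) = 0
  · apply sub_one_inj_on hfpf z hz
    rw [LinearMap.sub_apply, Module.End.one_apply, hxz, ← h1, sub_self]
  · have h3 : (2 : F) • z = 0 := by
      rw [two_smul]
      nth_rewrite 1 [h1]
      exact neg_add_cancel z
    exact (smul_eq_zero.mp h3).resolve_left h2

end blocks

end Cfsg.Agent.Lib.Helper21.OrtG
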