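import Mathlib
import Cfsg.Agent.Lib.Helper21.OrtG8

/-!
# Block extraction and the sign of invariant subspaces without fixed vectors
-/

set_option autoImplicit false

namespace Cfsg.Agent.Lib.Helper21.OrtG

open Module QuadraticMap Submodule
open Cfsg.Agent.Lib.Helper14.OrthEven
open Cfsg.Agent.Lib.Helper15.PSpJ (cOf)

universe u v

section main

variable {F : Type v} [Field F] [Fintype F] {V : Type u} [AddCommGroup V] [Module F V]
  [FiniteDimensional F V]
variable {Q : QuadraticForm F V}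

omit [Fintype F] [FiniteDimensional F V] in
theorem eigenspace_one (x : Module.End F V) :
    Module.End.eigenspace x 1 = LinearMap.ker (x - 1) := by
  ext v
  rw [Module.End.mem_eigenspace_iff, one_smul, LinearMap.mem_ker, LinearMap.sub_apply,
    Module.End.one_apply, sub_eq_zero]

omit [Fintype F] in
theorem nondegOn_altF {x : Module.End F V} (r : ℕ) (hodd : Odd r)
    (hxr : x ^ r = 1) {Z : Submodule F V} (hZ : ∀ z ∈ Z, x z ∈ Z)
    (hfpf : Z ⊓ LinearMap.ker (x - 1) = ⊥) (hnd : Nd Q Z) :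
    Cfsg.Agent.Lib.Helper15.PSpI.NondegOn (altF Q x) Z := by
  intro a ha h0
  have hZ1 : ∀ z ∈ Z, (x + 1) z ∈ Z := fun z hz => by
    rw [LinearMap.add_apply, Module.End.one_apply]
    exact Z.add_mem (hZ z hz) hz
  have hsurj := surj_on_of_inj_on (x + 1) Z hZ1 (add_one_inj_on r hodd hxr hfpf)
  have h1 : x a - a = 0 := by
    apply hnd (x a - a) (Z.sub_mem (hZ a ha) ha)
    intro w hw
    obtain ⟨z, hz, rfl⟩ := hsurj w hw
    have := h0 z hz
    rw [altF_apply] at this
    rw [LinearMap.add_apply, Module.End.one_apply]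
    exact this
  apply sub_one_inj_on hfpf a ha
  rw [LinearMap.sub_apply, Module.End.one_apply]
  exact h1

omit [Fintype F] in
theorem nd_of_nondegOn_altF {x : Module.End F V} {Z : Submodule F V} (hZ : ∀ z ∈ Z, x z ∈ Z)
    (hfpf : Z ⊓ LinearMap.ker (x - 1) = ⊥)
    (hA : Cfsg.Agent.Lib.Helper15.PSpI.NondegOn (altF Q x) Z) : Nd Q Z := by
  intro a ha h0
  have hZ1 : ∀ z ∈ Z, (x - 1) z ∈ Z := fun z hz => by
    rw [LinearMap.sub_apply, Module.End.one_apply]
    exact Z.sub_mem (hZ z hz) hz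
  obtain ⟨a', ha', rfl⟩ := surj_on_of_inj_on (x - 1) Z hZ1 (sub_one_inj_on hfpf) a ha
  have : a' = 0 := by
    apply hA a' ha'
    intro w hw
    rw [altF_apply]
    have := h0 (x w + w) (Z.add_mem (hZ w hw) hw)
    rw [LinearMap.sub_apply, Module.End.one_apply] at this
    exact this
  rw [this, map_zero]

variable (p : ℕ) [Fact p.Prime] [CharP F p] (r : ℕ) [hr : Fact r.Prime]

omit [Fact (Nat.Prime p)] in
include p in
theorem not_dvd_card (hrp : r ≠ p) : ¬ r ∣ Fintype.card F := by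
  obtain ⟨⟨f, _⟩, hp, hf⟩ := FiniteField.card F p
  rw [hf]
  intro h
  have := hr.out.dvd_of_dvd_pow h
  exact hrp ((Nat.prime_dvd_prime_iff_eq hr.out hp).mp this)

omit [Fintype F] in
include p in
theorem cast_ne_zero (hrp : r ≠ p) : (r : F) ≠ 0 := by
  intro h
  rw [CharP.cast_eq_zero_iff F p r] at h
  have hp : p.Prime := Fact.out
  exact hrp ((Nat.prime_dvd_prime_iff_eq hp hr.out).mp h).symm

/-- **Block extraction** for quadratic forms in every characteristic. -/
theorem exists_block (hrp : r ≠ p) (hr2 : r ≠ 2) {x : Module.End F V}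
    (hiso : ∀ v, Q (x v) = Q v) (hxr : x ^ r = 1) (N' : Submodule F V)
    (hN' : ∀ z ∈ N', x z ∈ N') (hnd : Nd Q N') (hfpf : N' ⊓ LinearMap.ker (x - 1) = ⊥)
    (hne : N' ≠ ⊥) :
    ∃ Z : Submodule F V, Z ≤ N' ∧ (∀ z ∈ Z, x z ∈ Z) ∧ Nd Q Z ∧
      finrank F Z = cOf (orderOf ((Fintype.card F : ℕ) : ZMod r)) := by
  have hodd : Odd r := hr.out.odd_of_ne_two hr2
  have hinj : Function.Injective x :=
    Cfsg.Agent.Lib.Helper15.PDec.injective_of_pow_eq_smul x r 1 one_ne_zero
      (by rw [hxr, one_smul]) hr.out.ne_zero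
  have hN'x : N'.map x = N' :=
    Cfsg.Agent.Lib.Helper15.PDec.map_eq_of_invt x hinj N'
      ((Module.End.mem_invtSubmodule_iff_forall_mem_of_mem x).mpr hN')
  obtain ⟨Z, hZN, hZx, hZA, hZd⟩ := Cfsg.Agent.Lib.Helper15.PSpJ.exists_cblock p r hrp hr2
    (altF_self hiso) x (altF_iso hiso) hxr N' hN'x
    (nondegOn_altF r hodd hxr hN' hfpf hnd) (by rw [eigenspace_one]; exact hfpf) hne
  have hZ : ∀ z ∈ Z, x z ∈ Z := fun z hz => by
    rw [← hZx]
    exact ⟨z, hz, rfl⟩
  have hZf : Z ⊓ LinearMap.ker (x - 1) = ⊥ := by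
    rw [eq_bot_iff, ← hfpf]
    exact inf_le_inf_right _ hZN
  exact ⟨Z, hZN, hZ, nd_of_nondegOn_altF hZ hZf hZA, hZd⟩

omit [Fintype F] hr in
theorem even_finrank_fpf {x : Module.End F V} (hiso : ∀ v, Q (x v) = Q v) (hodd : Odd r)
    (hxr : x ^ r = 1) {Z : Submodule F V} (hZ : ∀ z ∈ Z, x z ∈ Z)
    (hfpf : Z ⊓ LinearMap.ker (x - 1) = ⊥) (hnd : Nd Q Z) : Even (finrank F Z) :=
  Cfsg.Agent.Lib.Helper15.PSpJ.even_finrank_of_nondegOn (altF_self hiso) Z
    (nondegOn_altF r hodd hxr hZ hfpf hnd)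

omit [Fact (Nat.Prime p)] in
/-- the dimension and sign of an invariant nondegenerate subspace without fixed vectors -/
theorem sign_fpf (hrp : r ≠ p) (hr2 : r ≠ 2) {x : Module.End F V}
    (hiso : ∀ v, Q (x v) = Q v) (hxr : x ^ r = 1) {Z : Submodule F V}
    (hZ : ∀ z ∈ Z, x z ∈ Z) (hfpf : Z ⊓ LinearMap.ker (x - 1) = ⊥) (hnd : Nd Q Z) :
    ∃ s : ℕ, finrank F Z = cOf (orderOf ((Fintype.card F : ℕ) : ZMod r)) * s ∧
      SignOn Q Z (tauOf (orderOf ((Fintype.card F : ℕ) : ZMod r)) ^ s) := by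
  have hodd : Odd r := hr.out.odd_of_ne_two hr2
  have hev := even_finrank_fpf r hiso hodd hxr hZ hfpf hnd
  have key : ∀ ε : ℤ, (ε = 1 ∨ ε = -1) → SignOn Q Z ε →
      ∃ s : ℕ, finrank F Z = cOf (orderOf ((Fintype.card F : ℕ) : ZMod r)) * s ∧
        SignOn Q Z (tauOf (orderOf ((Fintype.card F : ℕ) : ZMod r)) ^ s) := by
    intro ε hε hs
    obtain ⟨a, ha, hsa⟩ := id hs
    have : Finite V := Module.finite_of_finite F
    have hyr : (x.restrict hZ) ^ r = 1 := by
      apply LinearMap.ext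
      intro v
      apply Subtype.ext
      rw [Module.End.pow_restrict, LinearMap.restrict_apply]
      simp [hxr]
    have hfix : ∀ v : Z, (x.restrict hZ) v = v → v = 0 := by
      intro v hv
      apply Subtype.ext
      apply sub_one_inj_on hfpf v.1 v.2
      rw [LinearMap.sub_apply, Module.End.one_apply, sub_eq_zero]
      exact congrArg Subtype.val hv
    have hpow := pow_eq_sign (resQ Q Z) hsa (x.restrict hZ) (fun v => hiso v.1) r hyr hfix
      (not_dvd_card p r hrp)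
    obtain ⟨s, hs1, hs2⟩ := blocks_of_pow_eq r hr2 (Fintype.card F) a ε hε hpow
    refine ⟨s, by omega, ?_⟩
    rw [← hs2]
    exact hs
  rcases signOn_cases hnd hev with h | h
  · exact key 1 (Or.inl rfl) h
  · exact key (-1) (Or.inr rfl) h

end main

end Cfsg.Agent.Lib.Helper21.OrtG
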