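import Mathlib
import Cfsg.Agent.Lib.Helper21.OrtG9

/-!
# Invariant nondegenerate subspaces of the moved part of every admissible dimension
-/

set_option autoImplicit false

namespace Cfsg.Agent.Lib.Helper21.OrtG

open Module QuadraticMap Submodule
open Cfsg.Agent.Lib.Helper14.OrthEven
open Cfsg.Agent.Lib.Helper15.PSpJ (cOf)

universe u v

section chain

variable {F : Type v} [Field F] [Fintype F] {V : Type u} [AddCommGroup V] [Module F V]
  [FiniteDimensional F V]
variable {Q : QuadraticForm F V}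

omit [Fintype F] in
/-- the orthogonal complement of an invariant subspace inside an invariant subspace is
invariant -/
theorem perpIn_invariant {x : Module.End F V} (hiso : ∀ v, Q (x v) = Q v)
    (hinj : Function.Injective x) {W H : Submodule F V} (hW : ∀ z ∈ W, x z ∈ W)
    (hH : ∀ z ∈ H, x z ∈ H) : ∀ z ∈ perpIn Q W H, x z ∈ perpIn Q W H := by
  intro z hz
  obtain ⟨hzW, hzH⟩ := mem_perpIn.mp hz
  refine mem_perpIn.mpr ⟨hW z hzW, ?_⟩
  intro h hh
  obtain ⟨h', hh', rfl⟩ := surj_on_of_inj_on x H hH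
    (fun z _ hz0 => hinj (by rw [hz0, map_zero])) h hh
  rw [polar_iso hiso]
  exact hzH h' hh'

variable (p : ℕ) [Fact p.Prime] [CharP F p] (r : ℕ) [hr : Fact r.Prime]

/-- invariant nondegenerate subspaces of dimension `c s'` inside an invariant nondegenerate
subspace without fixed vectors -/
theorem exists_inv_sub (hrp : r ≠ p) (hr2 : r ≠ 2) {x : Module.End F V}
    (hiso : ∀ v, Q (x v) = Q v) (hxr : x ^ r = 1) : ∀ (s' : ℕ) (M' : Submodule F V),
    (∀ z ∈ M', x z ∈ M') → Nd Q M' → M' ⊓ LinearMap.ker (x - 1) = ⊥ →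
    cOf (orderOf ((Fintype.card F : ℕ) : ZMod r)) * s' ≤ finrank F M' →
    ∃ Z : Submodule F V, Z ≤ M' ∧ (∀ z ∈ Z, x z ∈ Z) ∧ Nd Q Z ∧
      finrank F Z = cOf (orderOf ((Fintype.card F : ℕ) : ZMod r)) * s' := by
  have hinj : Function.Injective x :=
    Cfsg.Agent.Lib.Helper15.PDec.injective_of_pow_eq_smul x r 1 one_ne_zero
      (by rw [hxr, one_smul]) hr.out.ne_zero
  have hcpos : 0 < cOf (orderOf ((Fintype.card F : ℕ) : ZMod r)) :=
    Cfsg.Agent.Lib.Helper15.PSpJ.cOf_pos (Cfsg.Agent.Lib.Helper15.PSub.orderOf_pos_of_ne p r hrp)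
  intro s'
  induction s' with
  | zero =>
    intro M' _ _ _ _
    exact ⟨⊥, bot_le, fun z hz => by rw [(Submodule.mem_bot F).mp hz, map_zero]; exact zero_mem _,
      fun a ha _ => (Submodule.mem_bot F).mp ha, by rw [finrank_bot, mul_zero]⟩
  | succ s' ih =>
    intro M' hM' hnd hfpf hdim
    have hne : M' ≠ ⊥ := by
      intro h
      rw [h, finrank_bot] at hdim
      have : 0 < cOf (orderOf ((Fintype.card F : ℕ) : ZMod r)) * (s' + 1) :=
        Nat.mul_pos hcpos (Nat.succ_pos _)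
      omega
    obtain ⟨Z₁, hZ₁M, hZ₁x, hZ₁nd, hZ₁d⟩ := exists_block p r hrp hr2 hiso hxr M' hM' hnd hfpf hne
    have hPx := perpIn_invariant hiso hinj hM' hZ₁x
    have hPnd := nd_perpIn hZ₁M hZ₁nd hnd
    have hPfin := finrank_perpIn (W := M') hZ₁M hZ₁nd
    have hPf : perpIn Q M' Z₁ ⊓ LinearMap.ker (x - 1) = ⊥ := by
      rw [eq_bot_iff, ← hfpf]
      exact inf_le_inf_right _ (perpIn_le _ _)
    have hPdim : cOf (orderOf ((Fintype.card F : ℕ) : ZMod r)) * s' ≤
        finrank F (perpIn Q M' Z₁) := by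
      rw [Nat.mul_succ] at hdim
      omega
    obtain ⟨Z₂, hZ₂P, hZ₂x, hZ₂nd, hZ₂d⟩ := ih (perpIn Q M' Z₁) hPx hPnd hPf hPdim
    have horth : Orth Q Z₁ Z₂ := (orth_perpIn M' Z₁).mono le_rfl hZ₂P
    have hdisj : Z₁ ⊓ Z₂ = ⊥ := horth.disjoint hZ₁nd
    refine ⟨Z₁ ⊔ Z₂, sup_le hZ₁M (hZ₂P.trans (perpIn_le _ _)), ?_, nd_sup horth hZ₁nd hZ₂nd, ?_⟩
    · intro z hz
      obtain ⟨a, ha, b, hb, rfl⟩ := Submodule.mem_sup.mp hz
      rw [map_add]
      exact Submodule.add_mem _ (Submodule.mem_sup_left (hZ₁x a ha))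
        (Submodule.mem_sup_right (hZ₂x b hb))
    · have := Submodule.finrank_sup_add_finrank_inf_eq Z₁ Z₂
      rw [hdisj, finrank_bot, add_zero] at this
      rw [this, hZ₁d, hZ₂d, Nat.mul_succ]
      ring

end chain

end Cfsg.Agent.Lib.Helper21.OrtG
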