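import Mathlib
import Cfsg.Agent.Lib.Helper21.OrtG10

/-!
# The per-element criterion: which nondegenerate subspaces of given dimension and sign are fixed
by an isometry of odd prime order `r ≠ p`
-/

set_option autoImplicit false

namespace Cfsg.Agent.Lib.Helper21.OrtG

open Module QuadraticMap Submodule
open Cfsg.Agent.Lib.Helper14.OrthEven
open Cfsg.Agent.Lib.Helper15.PSpJ (cOf)

universe u v

theorem tauOf_pow_sq (i s : ℕ) : tauOf i ^ s * tauOf i ^ s = 1 := by
  rcases tauOf_pow_cases i s with h | h <;> rw [h] <;> norm_num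

section crit

variable {F : Type v} [Field F] [Fintype F] {V : Type u} [AddCommGroup V] [Module F V]
  [FiniteDimensional F V]
variable {Q : QuadraticForm F V}
variable (p : ℕ) [Fact p.Prime] [CharP F p] (r : ℕ) [hr : Fact r.Prime]

omit [Fintype F] [FiniteDimensional F V] in
theorem range_invariant (x : Module.End F V) : ∀ z ∈ LinearMap.range (x - 1),
    x z ∈ LinearMap.range (x - 1) := by
  rintro _ ⟨t, rfl⟩
  refine ⟨x t, ?_⟩
  rw [LinearMap.sub_apply, LinearMap.sub_apply, Module.End.one_apply, Module.End.one_apply,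
    map_sub]

/-- fixed and moved parts of an isometry of odd prime order `r ≠ p` -/
theorem fixed_moved (hrp : r ≠ p) (hr2 : r ≠ 2) {x : Module.End F V}
    (hiso : ∀ v, Q (x v) = Q v) (hxr : x ^ r = 1) (hV : Nd Q ⊤) {εV : ℤ}
    (hsV : SignOn Q ⊤ εV) :
    Nd Q (LinearMap.ker (x - 1)) ∧ Nd Q (LinearMap.range (x - 1)) ∧
    LinearMap.range (x - 1) ⊓ LinearMap.ker (x - 1) = ⊥ ∧
    ∃ s : ℕ, finrank F (LinearMap.range (x - 1)) =
        cOf (orderOf ((Fintype.card F : ℕ) : ZMod r)) * s ∧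
      SignOn Q (LinearMap.range (x - 1)) (tauOf (orderOf ((Fintype.card F : ℕ) : ZMod r)) ^ s) ∧
      SignOn Q (LinearMap.ker (x - 1))
        (εV * tauOf (orderOf ((Fintype.card F : ℕ) : ZMod r)) ^ s) := by
  have hr0 : (r : F) ≠ 0 := cast_ne_zero p r hrp
  have hc := isCompl_ker_range x r hr0 hxr
  have horth : Orth Q (LinearMap.ker (x - 1)) (LinearMap.range (x - 1)) := orth_ker_range hiso
  have hsup := hc.sup_eq_top
  have hndsup : Nd Q (LinearMap.ker (x - 1) ⊔ LinearMap.range (x - 1)) := by rw [hsup]; exact hV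
  have hndC := nd_of_orth_sup horth hndsup
  have hndM := nd_of_orth_sup' horth hndsup
  have hMf : LinearMap.range (x - 1) ⊓ LinearMap.ker (x - 1) = ⊥ := by
    rw [inf_comm]; exact hc.inf_eq_bot
  obtain ⟨s, hs1, hs2⟩ := sign_fpf p r hrp hr2 hiso hxr (range_invariant x) hMf hndM
  refine ⟨hndC, hndM, hMf, s, hs1, hs2, ?_⟩
  have hrn := LinearMap.finrank_range_add_finrank_ker (x - 1)
  have hVev := hsV.even
  rw [finrank_top] at hVev
  have hMev := hs2.even
  have hCev : Even (finrank F (LinearMap.ker (x - 1))) := by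
    rw [← hrn] at hVev
    exact (Nat.even_add.mp hVev).mp hMev
  have key : ∀ ε' : ℤ, SignOn Q (LinearMap.ker (x - 1)) ε' → SignOn Q (LinearMap.ker (x - 1))
      (εV * tauOf (orderOf ((Fintype.card F : ℕ) : ZMod r)) ^ s) := by
    intro ε' h'
    have h1 := signOn_sup horth hc.inf_eq_bot h' hs2
    rw [hsup] at h1
    have h2 := hsV.unique h1
    have h3 : εV * tauOf (orderOf ((Fintype.card F : ℕ) : ZMod r)) ^ s = ε' := by
      rw [h2, mul_assoc, tauOf_pow_sq, mul_one]
    rw [h3]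
    exact h'
  rcases signOn_cases hndC hCev with h' | h'
  · exact key _ h'
  · exact key _ h'

/-- necessity: a fixed nondegenerate subspace of sign `ε` gives the numerical data -/
theorem crit_of_fixes (hrp : r ≠ p) (hr2 : r ≠ 2) {x : Module.End F V}
    (hiso : ∀ v, Q (x v) = Q v) (hxr : x ^ r = 1) (hV : Nd Q ⊤) {εV : ℤ}
    (hsV : SignOn Q ⊤ εV) {s : ℕ}
    (hs : finrank F (LinearMap.range (x - 1)) = cOf (orderOf ((Fintype.card F : ℕ) : ZMod r)) * s)
    {W : Submodule F V} (hWx : ∀ z ∈ W, x z ∈ W) (hWnd : Nd Q W) {ε : ℤ} (hWs : SignOn Q W ε) :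
    ∃ s' : ℕ, s' ≤ s ∧ cOf (orderOf ((Fintype.card F : ℕ) : ZMod r)) * s' ≤ finrank F W ∧
      finrank F W - cOf (orderOf ((Fintype.card F : ℕ) : ZMod r)) * s' ≤
        finrank F (LinearMap.ker (x - 1)) ∧
      (finrank F W = cOf (orderOf ((Fintype.card F : ℕ) : ZMod r)) * s' →
        tauOf (orderOf ((Fintype.card F : ℕ) : ZMod r)) ^ s' = ε) ∧
      (finrank F W - cOf (orderOf ((Fintype.card F : ℕ) : ZMod r)) * s' =
          finrank F (LinearMap.ker (x - 1)) →
        ε * tauOf (orderOf ((Fintype.card F : ℕ) : ZMod r)) ^ s' =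
          εV * tauOf (orderOf ((Fintype.card F : ℕ) : ZMod r)) ^ s) := by
  obtain ⟨c, hcdef⟩ : ∃ c, c = cOf (orderOf ((Fintype.card F : ℕ) : ZMod r)) := ⟨_, rfl⟩
  obtain ⟨τ, hτdef⟩ : ∃ τ, τ = tauOf (orderOf ((Fintype.card F : ℕ) : ZMod r)) := ⟨_, rfl⟩
  have hcpos : 0 < c := by
    rw [hcdef]
    exact Cfsg.Agent.Lib.Helper15.PSpJ.cOf_pos
      (Cfsg.Agent.Lib.Helper15.PSub.orderOf_pos_of_ne p r hrp)
  have hr0 : (r : F) ≠ 0 := cast_ne_zero p r hrp
  obtain ⟨hndC, hndM, hMf, s₀, hs₀1, hs₀2, hs₀3⟩ := fixed_moved p r hrp hr2 hiso hxr hV hsV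
  have hss : s₀ = s := by
    rw [hs] at hs₀1
    exact (Nat.eq_of_mul_eq_mul_left (by rw [← hcdef]; exact hcpos) hs₀1).symm
  subst hss
  rw [← hcdef] at hs₀1 hs
  rw [← hτdef] at hs₀2 hs₀3
  rw [← hcdef, ← hτdef]
  have hdec := inv_decomp r hr0 hxr hWx
  have horth : Orth Q (W ⊓ LinearMap.ker (x - 1)) (W.map (x - 1)) :=
    (orth_ker_range hiso).mono inf_le_right (by
      rintro _ ⟨t, -, rfl⟩
      exact ⟨t, rfl⟩)
  have hndsup : Nd Q ((W ⊓ LinearMap.ker (x - 1)) ⊔ W.map (x - 1)) := by rw [hdec]; exact hWnd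
  have hndWC := nd_of_orth_sup horth hndsup
  have hndWM := nd_of_orth_sup' horth hndsup
  have hWMle : W.map (x - 1) ≤ LinearMap.range (x - 1) := by
    rintro _ ⟨t, -, rfl⟩
    exact ⟨t, rfl⟩
  have hWMx : ∀ z ∈ W.map (x - 1), x z ∈ W.map (x - 1) := by
    rintro _ ⟨t, ht, rfl⟩
    refine ⟨x t, hWx t ht, ?_⟩
    rw [LinearMap.sub_apply, LinearMap.sub_apply, Module.End.one_apply, Module.End.one_apply,
      map_sub]
  have hWMf : W.map (x - 1) ⊓ LinearMap.ker (x - 1) = ⊥ := by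
    rw [eq_bot_iff, ← hMf]
    exact inf_le_inf_right _ hWMle
  obtain ⟨s', hs'1, hs'2⟩ := sign_fpf p r hrp hr2 hiso hxr hWMx hWMf hndWM
  rw [← hcdef] at hs'1
  rw [← hτdef] at hs'2
  have hdisj : (W ⊓ LinearMap.ker (x - 1)) ⊓ W.map (x - 1) = ⊥ := by
    rw [eq_bot_iff, ← hMf, inf_comm (LinearMap.range (x - 1))]
    exact inf_le_inf inf_le_right hWMle
  have hfin := Submodule.finrank_sup_add_finrank_inf_eq (W ⊓ LinearMap.ker (x - 1))
    (W.map (x - 1))
  rw [hdisj, finrank_bot, add_zero, hdec] at hfin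
  have hWCle : finrank F ↥(W ⊓ LinearMap.ker (x - 1)) ≤ finrank F (LinearMap.ker (x - 1)) :=
    Submodule.finrank_mono inf_le_right
  have hWev := hWs.even
  have hWMev := hs'2.even
  have hWCev : Even (finrank F ↥(W ⊓ LinearMap.ker (x - 1))) := by
    rw [hfin] at hWev
    exact (Nat.even_add.mp hWev).mpr hWMev
  -- the sign of the fixed part of `W`
  have hWCs : SignOn Q (W ⊓ LinearMap.ker (x - 1)) (ε * τ ^ s') := by
    have key : ∀ ε' : ℤ, SignOn Q (W ⊓ LinearMap.ker (x - 1)) ε' →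
        SignOn Q (W ⊓ LinearMap.ker (x - 1)) (ε * τ ^ s') := by
      intro ε' h'
      have h1 := signOn_sup horth hdisj h' hs'2
      rw [hdec] at h1
      have h2 := hWs.unique h1
      have h3 : ε * τ ^ s' = ε' := by
        rw [h2, mul_assoc, hτdef, tauOf_pow_sq, mul_one]
      rw [h3]
      exact h'
    rcases signOn_cases hndWC hWCev with h' | h'
    · exact key _ h'
    · exact key _ h'
  have hs's : s' ≤ s₀ := by
    have h1 : finrank F ↥(W.map (x - 1)) ≤ finrank F (LinearMap.range (x - 1)) :=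
      Submodule.finrank_mono hWMle
    rw [hs'1, hs₀1] at h1
    exact Nat.le_of_mul_le_mul_left h1 hcpos
  refine ⟨s', hs's, by omega, by omega, ?_, ?_⟩
  · intro hm
    have h0 : finrank F ↥(W ⊓ LinearMap.ker (x - 1)) = 0 := by omega
    have h1 := hWCs.unique (signOn_of_finrank_zero h0)
    have h2 : ε = τ ^ s' := by
      have : ε = ε * τ ^ s' * τ ^ s' := by
        rw [mul_assoc, hτdef, tauOf_pow_sq, mul_one]
      rw [this, h1, one_mul]
    exact h2.symm
  · intro hm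
    have h0 : finrank F ↥(W ⊓ LinearMap.ker (x - 1)) = finrank F (LinearMap.ker (x - 1)) := by
      omega
    have heq : W ⊓ LinearMap.ker (x - 1) = LinearMap.ker (x - 1) :=
      Submodule.eq_of_le_of_finrank_eq inf_le_right h0
    rw [heq] at hWCs
    exact hWCs.unique hs₀3

end crit

end Cfsg.Agent.Lib.Helper21.OrtG
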