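import Mathlib
import Cfsg.Agent.Lib.Helper21.OrtG11

/-!
# The per-element criterion: sufficiency
-/

set_option autoImplicit false

namespace Cfsg.Agent.Lib.Helper21.OrtG

open Module QuadraticMap Submodule
open Cfsg.Agent.Lib.Helper14.OrthEven
open Cfsg.Agent.Lib.Helper15.PSpJ (cOf)

universe u v

section crit

variable {F : Type v} [Field F] [Fintype F] {V : Type u} [AddCommGroup V] [Module F V]
  [FiniteDimensional F V]
variable {Q : QuadraticForm F V}
variable (p : ℕ) [Fact p.Prime] [CharP F p] (r : ℕ) [hr : Fact r.Prime]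

/-- sufficiency: the numerical data give a fixed nondegenerate subspace of dimension `m` and
sign `ε` -/
theorem fixes_of_crit (hrp : r ≠ p) (hr2 : r ≠ 2) {x : Module.End F V}
    (hiso : ∀ v, Q (x v) = Q v) (hxr : x ^ r = 1) (hV : Nd Q ⊤) {εV : ℤ}
    (hsV : SignOn Q ⊤ εV) {s : ℕ}
    (hs : finrank F (LinearMap.range (x - 1)) = cOf (orderOf ((Fintype.card F : ℕ) : ZMod r)) * s)
    (m : ℕ) (hm : Even m) (ε : ℤ) (hε : ε = 1 ∨ ε = -1) (s' : ℕ) (h1 : s' ≤ s)
    (h2 : cOf (orderOf ((Fintype.card F : ℕ) : ZMod r)) * s' ≤ m)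
    (h3 : m - cOf (orderOf ((Fintype.card F : ℕ) : ZMod r)) * s' ≤
      finrank F (LinearMap.ker (x - 1)))
    (h4 : m = cOf (orderOf ((Fintype.card F : ℕ) : ZMod r)) * s' →
      tauOf (orderOf ((Fintype.card F : ℕ) : ZMod r)) ^ s' = ε)
    (h5 : m - cOf (orderOf ((Fintype.card F : ℕ) : ZMod r)) * s' =
        finrank F (LinearMap.ker (x - 1)) →
      ε * tauOf (orderOf ((Fintype.card F : ℕ) : ZMod r)) ^ s' =
        εV * tauOf (orderOf ((Fintype.card F : ℕ) : ZMod r)) ^ s) :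
    ∃ W : Submodule F V, (∀ z ∈ W, x z ∈ W) ∧ Nd Q W ∧ finrank F W = m ∧ SignOn Q W ε := by
  have hcev : Even (cOf (orderOf ((Fintype.card F : ℕ) : ZMod r))) :=
    Cfsg.Agent.Lib.Helper15.PSpJ.cOf_even
  have hcpos0 : 0 < cOf (orderOf ((Fintype.card F : ℕ) : ZMod r)) :=
    Cfsg.Agent.Lib.Helper15.PSpJ.cOf_pos
      (Cfsg.Agent.Lib.Helper15.PSub.orderOf_pos_of_ne p r hrp)
  have hτsq := tauOf_pow_sq (orderOf ((Fintype.card F : ℕ) : ZMod r)) s'
  have hτc := tauOf_pow_cases (orderOf ((Fintype.card F : ℕ) : ZMod r)) s'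
  obtain ⟨c, hcdef⟩ : ∃ c, c = cOf (orderOf ((Fintype.card F : ℕ) : ZMod r)) := ⟨_, rfl⟩
  obtain ⟨τ, hτdef⟩ : ∃ τ, τ = tauOf (orderOf ((Fintype.card F : ℕ) : ZMod r)) := ⟨_, rfl⟩
  obtain ⟨hndC, hndM, hMf, s₀, hs₀1, hs₀2, hs₀3⟩ := fixed_moved p r hrp hr2 hiso hxr hV hsV
  have hss : s₀ = s := by
    rw [hs] at hs₀1
    exact (Nat.eq_of_mul_eq_mul_left hcpos0 hs₀1).symm
  subst hss
  obtain ⟨Z, hZM, hZx, hZnd, hZd⟩ := exists_inv_sub p r hrp hr2 hiso hxr s'
    (LinearMap.range (x - 1)) (range_invariant x) hndM hMf (by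
      rw [hs]
      exact Nat.mul_le_mul_left _ h1)
  have hZf : Z ⊓ LinearMap.ker (x - 1) = ⊥ := by
    rw [eq_bot_iff, ← hMf]
    exact inf_le_inf_right _ hZM
  obtain ⟨s'', hs''1, hs''2⟩ := sign_fpf p r hrp hr2 hiso hxr hZx hZf hZnd
  have hs'' : s'' = s' := by
    rw [hZd] at hs''1
    exact (Nat.eq_of_mul_eq_mul_left hcpos0 hs''1).symm
  subst hs''
  rw [← hcdef] at hcev hcpos0 hs₀1 hs h2 h3 h4 h5 hZd
  rw [← hτdef] at hτsq hτc hs₀2 hs₀3 h4 h5 hs''2
  have hcs'ev : Even (c * s'') := hcev.mul_right _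
  have huev : Even (m - c * s'') := (Nat.even_sub h2).mpr ⟨fun _ => hcs'ev, fun _ => hm⟩
  have htev := hs₀3.even
  have hετ : ε * τ ^ s'' = 1 ∨ ε * τ ^ s'' = -1 := by
    rcases hε with rfl | rfl <;> rcases hτc with h | h <;> rw [h] <;> norm_num
  -- the fixed part
  obtain ⟨WC, hWCle, hWCnd, hWCd, hWCs⟩ : ∃ WC : Submodule F V, WC ≤ LinearMap.ker (x - 1) ∧
      Nd Q WC ∧ finrank F WC = m - c * s'' ∧ SignOn Q WC (ε * τ ^ s'') := by
    by_cases hu0 : m - c * s'' = 0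
    · refine ⟨⊥, bot_le, fun a ha _ => (Submodule.mem_bot F).mp ha, by rw [finrank_bot, hu0], ?_⟩
      have hmeq : m = c * s'' := by omega
      have h6 : ε * τ ^ s'' = 1 := by rw [← h4 hmeq]; exact hτsq
      rw [h6]
      exact signOn_of_finrank_zero (by rw [finrank_bot])
    · by_cases hut : m - c * s'' = finrank F (LinearMap.ker (x - 1))
      · refine ⟨LinearMap.ker (x - 1), le_rfl, hndC, hut.symm, ?_⟩
        rw [h5 hut]
        exact hs₀3
      · obtain ⟨b, hb⟩ := huev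
        obtain ⟨a, ha⟩ := htev
        obtain ⟨WC, h7, h8, h9, h10⟩ := exists_sub_sign b (LinearMap.ker (x - 1)) a hndC
          (by omega) (by omega) (by omega) (ε * τ ^ s'') hετ
        exact ⟨WC, h7, h8, by omega, h10⟩
  have horth : Orth Q WC Z := (orth_ker_range hiso).mono hWCle hZM
  have hdisj : WC ⊓ Z = ⊥ := horth.disjoint hWCnd
  refine ⟨WC ⊔ Z, ?_, nd_sup horth hWCnd hZnd, ?_, ?_⟩
  · intro z hz
    obtain ⟨a, ha, b, hb, rfl⟩ := Submodule.mem_sup.mp hz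
    rw [map_add]
    have hfix : x a = a := by
      have := hWCle ha
      rw [LinearMap.mem_ker, LinearMap.sub_apply, Module.End.one_apply, sub_eq_zero] at this
      exact this
    rw [hfix]
    exact Submodule.add_mem _ (Submodule.mem_sup_left ha) (Submodule.mem_sup_right (hZx b hb))
  · have := Submodule.finrank_sup_add_finrank_inf_eq WC Z
    rw [hdisj, finrank_bot, add_zero] at this
    rw [this, hWCd, hZd]
    omega
  · have := signOn_sup horth hdisj hWCs hs''2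
    rw [mul_assoc, hτsq, mul_one] at this
    exact this

end crit

end Cfsg.Agent.Lib.Helper21.OrtG
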