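import Mathlib
import Cfsg.Agent.Lib.Helper21.OrtG12

/-!
# Isometric involutions of a quadratic space over a finite field of odd characteristic
fix nondegenerate subspaces of every admissible dimension and sign
-/

set_option autoImplicit false

namespace Cfsg.Agent.Lib.Helper21.OrtT

open Module Submodule QuadraticMap Cfsg.Agent.Lib.Helper14.OrthEven Cfsg.Agent.Lib.Helper21.OrtG

universe u v

section invol

variable {F : Type v} [Field F] [Fintype F] {V : Type u} [AddCommGroup V] [Module F V]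
  [FiniteDimensional F V]
variable {Q : QuadraticForm F V}

/-- a nondegenerate subspace of prescribed even dimension (extreme cases allowed) -/
theorem exists_sub_any {C : Submodule F V} (hC : Nd Q C) {a : ℕ} (ha : finrank F C = 2 * a)
    (b : ℕ) (hb : b ≤ a) :
    ∃ W : Submodule F V, W ≤ C ∧ Nd Q W ∧ finrank F W = 2 * b ∧
      ∃ θ : ℤ, (θ = 1 ∨ θ = -1) ∧ SignOn Q W θ := by
  rcases Nat.eq_zero_or_pos b with h0 | hpos
  · refine ⟨⊥, bot_le, ?_, by rw [finrank_bot, h0], 1, Or.inl rfl, ?_⟩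
    · intro u hu _
      exact (Submodule.mem_bot F).mp hu
    · exact signOn_of_finrank_zero (finrank_bot F V)
  · rcases Nat.lt_or_ge b a with hlt | hge
    · obtain ⟨W, hWC, hWnd, hWf, hWs⟩ := exists_sub_sign b C a hC ha hpos hlt 1 (Or.inl rfl)
      exact ⟨W, hWC, hWnd, hWf, 1, Or.inl rfl, hWs⟩
    · have hba : b = a := le_antisymm hb hge
      have hev : Even (finrank F C) := ⟨a, by rw [ha]; ring⟩
      rcases signOn_cases hC hev with h | h
      · exact ⟨C, le_refl _, hC, by rw [ha, hba], 1, Or.inl rfl, h⟩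
      · exact ⟨C, le_refl _, hC, by rw [ha, hba], -1, Or.inr rfl, h⟩

/-- a nondegenerate subspace of dimension `2 (k₁ + k₂)` and sign `η` split along two orthogonal
nondegenerate subspaces, the first part being a proper nonzero part -/
theorem split_sub {A B : Submodule F V} (horth : Orth Q A B) (hA : Nd Q A) (hB : Nd Q B)
    {a b : ℕ} (ha : finrank F A = 2 * a) (hb : finrank F B = 2 * b) (k₁ k₂ : ℕ) (h1 : 0 < k₁)
    (h1' : k₁ < a) (h2 : k₂ ≤ b) (η : ℤ) (hη : η = 1 ∨ η = -1) :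
    ∃ W₁ : Submodule F V, W₁ ≤ A ∧ ∃ W₂ : Submodule F V, W₂ ≤ B ∧
      finrank F ↥(W₁ ⊔ W₂) = 2 * (k₁ + k₂) ∧ Nd Q (W₁ ⊔ W₂) ∧ SignOn Q (W₁ ⊔ W₂) η := by
  obtain ⟨W₂, hW₂B, hW₂nd, hW₂f, θ, hθ, hW₂s⟩ := exists_sub_any hB hb k₂ h2
  have hηθ : η * θ = 1 ∨ η * θ = -1 := by
    rcases hη with rfl | rfl <;> rcases hθ with rfl | rfl <;> simp
  obtain ⟨W₁, hW₁A, hW₁nd, hW₁f, hW₁s⟩ := exists_sub_sign k₁ A a hA ha h1 h1' (η * θ) hηθ
  have ho : Orth Q W₁ W₂ := horth.mono hW₁A hW₂B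
  have hd : W₁ ⊓ W₂ = ⊥ := ho.disjoint hW₁nd
  refine ⟨W₁, hW₁A, W₂, hW₂B, ?_, nd_sup ho hW₁nd hW₂nd, ?_⟩
  · have h := Submodule.finrank_sup_add_finrank_inf_eq W₁ W₂
    rw [hd, finrank_bot, add_zero] at h
    rw [h, hW₁f, hW₂f]
    ring
  · have h := signOn_sup ho hd hW₁s hW₂s
    have hθθ : η * θ * θ = η := by
      rcases hθ with rfl | rfl <;> ring
    rw [hθθ] at h
    exact h

theorem split_arith (a b k : ℕ) (ha1 : 1 ≤ a) (hb1 : 1 ≤ b) (hab : 3 ≤ a + b) (hk1 : 1 ≤ k)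
    (hk : k + 1 ≤ a + b) :
    ∃ k₁ k₂ : ℕ, k₁ + k₂ = k ∧ k₁ ≤ a ∧ k₂ ≤ b ∧ ((0 < k₁ ∧ k₁ < a) ∨ (0 < k₂ ∧ k₂ < b)) := by
  rcases Nat.lt_or_ge k a with h | h
  · exact ⟨k, 0, by omega, by omega, by omega, Or.inl ⟨by omega, h⟩⟩
  · rcases Nat.lt_or_ge 1 a with h' | h'
    · exact ⟨a - 1, k - a + 1, by omega, by omega, by omega, Or.inl ⟨by omega, by omega⟩⟩
    · rcases Nat.lt_or_ge k b with h'' | h''
      · exact ⟨0, k, by omega, by omega, by omega, Or.inr ⟨by omega, h''⟩⟩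
      · exact ⟨1, b - 1, by omega, by omega, by omega, Or.inr ⟨by omega, by omega⟩⟩

/-- **Involutions**: an isometric involution, both of whose eigenspaces have positive even
dimension, fixes a nondegenerate subspace of every even dimension `2 ≤ 2k ≤ n - 2` and every
sign, provided `n ≥ 6`. -/
theorem invol_fixes (h2 : (2 : F) ≠ 0) {y : Module.End F V} (hiso : ∀ v, Q (y v) = Q v)
    (hy : y ^ 2 = 1) (hV : Nd Q ⊤) {a b : ℕ} (ha : finrank F (LinearMap.ker (y - 1)) = 2 * a)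
    (hb : finrank F (LinearMap.range (y - 1)) = 2 * b) (ha1 : 1 ≤ a) (hb1 : 1 ≤ b)
    (hab : 3 ≤ a + b) (k : ℕ) (hk1 : 1 ≤ k) (hk : k + 1 ≤ a + b) (η : ℤ)
    (hη : η = 1 ∨ η = -1) :
    ∃ W : Submodule F V, finrank F W = 2 * k ∧ Nd Q W ∧ SignOn Q W η ∧ ∀ w ∈ W, y w ∈ W := by
  have h2' : ((2 : ℕ) : F) ≠ 0 := by exact_mod_cast h2
  have hcompl := isCompl_ker_range y 2 h2' hy
  have horth : Orth Q (LinearMap.ker (y - 1)) (LinearMap.range (y - 1)) := orth_ker_range hiso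
  have hsup : Nd Q (LinearMap.ker (y - 1) ⊔ LinearMap.range (y - 1)) := by
    rw [hcompl.sup_eq_top]; exact hV
  have hA : Nd Q (LinearMap.ker (y - 1)) := nd_of_orth_sup horth hsup
  have hB : Nd Q (LinearMap.range (y - 1)) := nd_of_orth_sup' horth hsup
  have hfixA : ∀ w ∈ LinearMap.ker (y - 1), y w = w := by
    intro w hw
    rw [LinearMap.mem_ker, LinearMap.sub_apply, Module.End.one_apply, sub_eq_zero] at hw
    exact hw
  have hnegB : ∀ w ∈ LinearMap.range (y - 1), y w = -w := by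
    rintro _ ⟨t, rfl⟩
    have h1 : y (y t) = t := by
      have := congrArg (fun f : Module.End F V => f t) hy
      simpa [pow_two] using this
    rw [LinearMap.sub_apply, Module.End.one_apply, map_sub, h1]
    abel
  have hinv : ∀ (W₁ W₂ : Submodule F V), W₁ ≤ LinearMap.ker (y - 1) →
      W₂ ≤ LinearMap.range (y - 1) → ∀ w ∈ W₁ ⊔ W₂, y w ∈ W₁ ⊔ W₂ := by
    intro W₁ W₂ h1 h2 w hw
    obtain ⟨w₁, hw₁, w₂, hw₂, rfl⟩ := Submodule.mem_sup.mp hw
    rw [map_add, hfixA w₁ (h1 hw₁), hnegB w₂ (h2 hw₂)]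
    exact Submodule.add_mem _ (Submodule.mem_sup_left hw₁)
      (Submodule.mem_sup_right (W₂.neg_mem hw₂))
  obtain ⟨k₁, k₂, hkk, hk₁a, hk₂b, hcase⟩ := split_arith a b k ha1 hb1 hab hk1 hk
  rcases hcase with ⟨h0, h1⟩ | ⟨h0, h1⟩
  · obtain ⟨W₁, hW₁, W₂, hW₂, hf, hnd, hs⟩ :=
      split_sub horth hA hB ha hb k₁ k₂ h0 h1 hk₂b η hη
    exact ⟨W₁ ⊔ W₂, by rw [hf, hkk], hnd, hs, hinv W₁ W₂ hW₁ hW₂⟩
  · obtain ⟨W₂, hW₂, W₁, hW₁, hf, hnd, hs⟩ :=
      split_sub horth.symm hB hA hb ha k₂ k₁ h0 h1 hk₁a η hη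
    rw [sup_comm] at hf hnd hs
    exact ⟨W₁ ⊔ W₂, by rw [hf, ← hkk, add_comm], hnd, hs, hinv W₁ W₂ hW₁ hW₂⟩

end invol

end Cfsg.Agent.Lib.Helper21.OrtT
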