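import Mathlib
import Cfsg.Agent.Lib.Helper21.OrtT1

/-!
# Isometries with square `-1` of a quadratic space over a finite field of odd characteristic

Invariant nondegenerate subspaces are orthogonal sums of planes `⟨v, y v⟩`; their sign is
`δ ^ (dim / 2)` where `δ = 1` if `-1` is a square and `δ = -1` otherwise; `y` is a product of
`dim` reflections whose vectors have norms of product `2 ^ (dim / 2)` times a square.
-/

set_option autoImplicit false

namespace Cfsg.Agent.Lib.Helper21.OrtT

open Module Submodule QuadraticMap Cfsg.Agent.Lib.Helper14.OrthEven Cfsg.Agent.Lib.Helper21.OrtG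

universe u v

open Classical in
/-- `1` if `-1` is a square in `F`, and `-1` otherwise -/
noncomputable def dl (F : Type*) [Field F] : ℤ := if IsSquare (-1 : F) then 1 else -1

theorem dl_pos {F : Type*} [Field F] (h : IsSquare (-1 : F)) : dl F = 1 := by
  unfold dl; exact if_pos h

theorem dl_neg {F : Type*} [Field F] (h : ¬ IsSquare (-1 : F)) : dl F = -1 := by
  unfold dl; exact if_neg h

theorem dl_cases (F : Type*) [Field F] : dl F = 1 ∨ dl F = -1 := by
  by_cases h : IsSquare (-1 : F)
  · exact Or.inl (dl_pos h)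
  · exact Or.inr (dl_neg h)

theorem dl_pow_cases (F : Type*) [Field F] (k : ℕ) : dl F ^ k = 1 ∨ dl F ^ k = -1 := by
  rcases dl_cases F with h | h
  · left; rw [h, one_pow]
  · rw [h]
    rcases Nat.even_or_odd k with hk | hk
    · left; exact hk.neg_one_pow
    · right; exact hk.neg_one_pow

section oplane

variable {F : Type v} [Field F] {V : Type u} [AddCommGroup V] [Module F V]
variable {Q : QuadraticForm F V}

theorem ocoeff (h2 : (2 : F) ≠ 0) {v w : V} (hv : Q v ≠ 0) (hw : Q w ≠ 0)
    (hvw : polar Q v w = 0) (α β : F) (h1 : polar Q (α • v + β • w) v = 0)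
    (h1' : polar Q (α • v + β • w) w = 0) : α = 0 ∧ β = 0 := by
  rw [polar_add_left, polar_smul_left, polar_smul_left, polar_self, polar_comm Q w v, hvw,
    smul_eq_mul, smul_eq_mul, mul_zero, add_zero, two_nsmul] at h1
  rw [polar_add_left, polar_smul_left, polar_smul_left, polar_self, hvw,
    smul_eq_mul, smul_eq_mul, mul_zero, zero_add, two_nsmul] at h1'
  constructor
  · have : α * (2 * Q v) = 0 := by linear_combination h1
    rcases mul_eq_zero.mp this with h | h
    · exact h
    · exact absurd h (mul_ne_zero h2 hv)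
  · have : β * (2 * Q w) = 0 := by linear_combination h1'
    rcases mul_eq_zero.mp this with h | h
    · exact h
    · exact absurd h (mul_ne_zero h2 hw)

theorem oplane_nd (h2 : (2 : F) ≠ 0) {v w : V} (hv : Q v ≠ 0) (hw : Q w ≠ 0)
    (hvw : polar Q v w = 0) : Nd Q (span F {v, w}) := by
  intro x hx hx0
  obtain ⟨α, β, rfl⟩ := Submodule.mem_span_pair.mp hx
  have h1 := hx0 v (Submodule.subset_span (by simp))
  have h1' := hx0 w (Submodule.subset_span (by simp))
  obtain ⟨hα, hβ⟩ := ocoeff h2 hv hw hvw α β h1 h1'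
  rw [hα, hβ, zero_smul, zero_smul, add_zero]

theorem oplane_indep (h2 : (2 : F) ≠ 0) {v w : V} (hv : Q v ≠ 0) (hw : Q w ≠ 0)
    (hvw : polar Q v w = 0) (s t : F) (hst : s • v + t • w = 0) : s = 0 ∧ t = 0 := by
  apply ocoeff h2 hv hw hvw s t
  · rw [hst, polar_zero_left]
  · rw [hst, polar_zero_left]

theorem oplane_finrank (h2 : (2 : F) ≠ 0) {v w : V} (hv : Q v ≠ 0) (hw : Q w ≠ 0)
    (hvw : polar Q v w = 0) : finrank F (span F {v, w}) = 2 := by
  have hli : LinearIndependent F ![v, w] := by
    rw [LinearIndependent.pair_iff]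
    exact oplane_indep h2 hv hw hvw
  have := finrank_span_eq_card hli
  rw [Matrix.range_cons_cons_empty, Fintype.card_fin] at this
  exact this

theorem oplane_Q {v w : V} (hvw : polar Q v w = 0) (α β : F) :
    Q (α • v + β • w) = α * α * Q v + β * β * Q w := by
  rw [QuadraticMap.map_add Q, QuadraticMap.map_smul, QuadraticMap.map_smul, polar_smul_left,
    polar_smul_right, hvw, smul_zero, smul_zero, add_zero, smul_eq_mul, smul_eq_mul]

theorem exists_nonsingular {W : Submodule F V} (hW : Nd Q W) (hW0 : W ≠ ⊥) :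
    ∃ v ∈ W, Q v ≠ 0 := by
  by_contra hcon
  push Not at hcon
  obtain ⟨u, huW, hu0⟩ := Submodule.exists_mem_ne_zero_of_ne_bot hW0
  apply hu0
  apply hW u huW
  intro w hw
  unfold polar
  rw [hcon _ (W.add_mem huW hw), hcon u huW, hcon w hw]
  simp

end oplane

end Cfsg.Agent.Lib.Helper21.OrtT
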