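import Mathlib
import Cfsg.Agent.Lib.Helper21.OrtT2

/-!
# Isometries with square `-1`: planes `⟨v, y v⟩`, peeling, signs of invariant subspaces
-/

set_option autoImplicit false

namespace Cfsg.Agent.Lib.Helper21.OrtT

open Module Submodule QuadraticMap Cfsg.Agent.Lib.Helper14.OrthEven Cfsg.Agent.Lib.Helper21.OrtG

universe u v

section sqneg

variable {F : Type v} [Field F] {V : Type u} [AddCommGroup V] [Module F V]
variable {Q : QuadraticForm F V}

theorem polar_self_map (h2 : (2 : F) ≠ 0) {y : Module.End F V} (hiso : ∀ v, Q (y v) = Q v)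
    (hy : ∀ v, y (y v) = -v) (v : V) : polar Q v (y v) = 0 := by
  have h1 : polar Q (y v) (y (y v)) = polar Q v (y v) := polar_iso hiso v (y v)
  rw [hy, polar_neg_right, polar_comm] at h1
  have : (2 : F) * polar Q v (y v) = 0 := by linear_combination -h1
  exact (mul_eq_zero.mp this).resolve_left h2

theorem injective_of_sq_neg {y : Module.End F V} (hy : ∀ v, y (y v) = -v) :
    Function.Injective y := by
  intro a b hab
  have := congrArg y hab
  rw [hy, hy] at this
  exact neg_injective this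

theorem plane_invariant {y : Module.End F V} (hy : ∀ v, y (y v) = -v) (v : V) :
    ∀ z ∈ span F {v, y v}, y z ∈ span F {v, y v} := by
  intro z hz
  obtain ⟨α, β, rfl⟩ := Submodule.mem_span_pair.mp hz
  rw [map_add, map_smul, map_smul, hy]
  apply Submodule.mem_span_pair.mpr
  exact ⟨-β, α, by rw [neg_smul, smul_neg]; abel⟩

end sqneg

section sqneg_fin

variable {F : Type v} [Field F] [Fintype F] {V : Type u} [AddCommGroup V] [Module F V]
  [FiniteDimensional F V]
variable {Q : QuadraticForm F V}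

/-- the sign of the plane `⟨v, y v⟩` -/
theorem plane_sign (h2 : (2 : F) ≠ 0) {y : Module.End F V} (hiso : ∀ v, Q (y v) = Q v)
    (hy : ∀ v, y (y v) = -v) {v : V} (hv : Q v ≠ 0) : SignOn Q (span F {v, y v}) (dl F) := by
  have hw : Q (y v) ≠ 0 := by rw [hiso]; exact hv
  have hvw := polar_self_map h2 hiso hy v
  have hnd := oplane_nd h2 hv hw hvw
  have hfr := oplane_finrank h2 hv hw hvw
  by_cases hsq : IsSquare (-1 : F)
  · rw [dl_pos hsq]
    obtain ⟨ι, hι⟩ := hsq
    have hx0 : v + ι • y v ≠ 0 := by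
      intro h
      have := oplane_indep h2 hv hw hvw 1 ι (by rw [one_smul]; exact h)
      exact one_ne_zero this.1
    have hQ0 : Q (v + ι • y v) = 0 := by
      have := oplane_Q hvw (1 : F) ι
      rw [one_smul] at this
      rw [this, hiso]
      linear_combination (-Q v) * hι
    exact signOn_one_of_singular_plane hnd hfr
      (Submodule.mem_span_pair.mpr ⟨1, ι, by rw [one_smul]⟩) hx0 hQ0
  · rw [dl_neg hsq]
    have haniso : ∀ x ∈ span F {v, y v}, Q x = 0 → x = 0 := by
      intro x hx hQx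
      obtain ⟨α, β, rfl⟩ := Submodule.mem_span_pair.mp hx
      rw [oplane_Q hvw, hiso] at hQx
      have h3 : α * α + β * β = 0 := by
        have : (α * α + β * β) * Q v = 0 := by linear_combination hQx
        exact (mul_eq_zero.mp this).resolve_right hv
      have hβ : β = 0 := by
        by_contra hβ
        apply hsq
        refine ⟨α / β, ?_⟩
        field_simp
        linear_combination -h3
      have hα : α = 0 := by
        rw [hβ, mul_zero, add_zero] at h3
        exact mul_self_eq_zero.mp h3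
      rw [hα, hβ, zero_smul, zero_smul, add_zero]
    rcases signOn_cases hnd ⟨1, by rw [hfr]⟩ with h | h
    · exfalso
      obtain ⟨U, hUP, hU0, hUf⟩ := signOn_imp_plus hnd h
      have hU1 : finrank F U = 1 := by omega
      have hUne : U ≠ ⊥ := by
        intro hb
        rw [hb, finrank_bot] at hU1
        omega
      obtain ⟨x, hxU, hx0⟩ := Submodule.exists_mem_ne_zero_of_ne_bot hUne
      exact hx0 (haniso x (hUP hxU) (hU0 x hxU))
    · exact h

/-- peeling a plane `⟨v, y v⟩` off an invariant nondegenerate subspace -/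
theorem peel (h2 : (2 : F) ≠ 0) {y : Module.End F V} (hiso : ∀ v, Q (y v) = Q v)
    (hy : ∀ v, y (y v) = -v) {W : Submodule F V} (hWinv : ∀ z ∈ W, y z ∈ W) (hWnd : Nd Q W)
    (hW0 : W ≠ ⊥) :
    ∃ v ∈ W, Q v ≠ 0 ∧ span F {v, y v} ≤ W ∧
      (∀ z ∈ span F {v, y v}, y z ∈ span F {v, y v}) ∧ Nd Q (span F {v, y v}) ∧
      finrank F (span F {v, y v}) = 2 ∧ SignOn Q (span F {v, y v}) (dl F) ∧
      (∀ z ∈ perpIn Q W (span F {v, y v}), y z ∈ perpIn Q W (span F {v, y v})) ∧
      Nd Q (perpIn Q W (span F {v, y v})) ∧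
      finrank F (perpIn Q W (span F {v, y v})) + 2 = finrank F W := by
  obtain ⟨v, hvW, hv⟩ := exists_nonsingular hWnd hW0
  have hw : Q (y v) ≠ 0 := by rw [hiso]; exact hv
  have hvw := polar_self_map h2 hiso hy v
  have hnd := oplane_nd h2 hv hw hvw
  have hfr := oplane_finrank h2 hv hw hvw
  have hPW : span F {v, y v} ≤ W := by
    rw [Submodule.span_le]
    intro z hz
    rcases hz with rfl | hz
    · exact hvW
    · rw [Set.mem_singleton_iff] at hz
      rw [hz]
      exact hWinv v hvW
  have hPinv := plane_invariant hy v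
  refine ⟨v, hvW, hv, hPW, hPinv, hnd, hfr, plane_sign h2 hiso hy hv,
    perpIn_invariant hiso (injective_of_sq_neg hy) hWinv hPinv, nd_perpIn hPW hnd hWnd, ?_⟩
  have := finrank_perpIn hPW hnd
  omega

/-- **Sign of invariant subspaces**: an invariant nondegenerate subspace has even dimension `2w`
and sign `δ ^ w`. -/
theorem sign_of_invariant (h2 : (2 : F) ≠ 0) {y : Module.End F V} (hiso : ∀ v, Q (y v) = Q v)
    (hy : ∀ v, y (y v) = -v) : ∀ (N : ℕ) (W : Submodule F V), (∀ z ∈ W, y z ∈ W) → Nd Q W →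
    finrank F W = N → ∃ w, N = 2 * w ∧ SignOn Q W (dl F ^ w) := by
  intro N
  induction N using Nat.strong_induction_on with
  | _ N ih =>
    intro W hWinv hWnd hN
    by_cases hW0 : W = ⊥
    · refine ⟨0, ?_, ?_⟩
      · rw [← hN, hW0, finrank_bot]
      · rw [pow_zero]
        apply signOn_of_finrank_zero
        rw [hW0, finrank_bot]
    · obtain ⟨v, -, -, hPW, -, hPnd, hPf, hPs, hZinv, hZnd, hZf⟩ :=
        peel h2 hiso hy hWinv hWnd hW0
      obtain ⟨w', hw', hZs⟩ := ih (N - 2) (by omega) _ hZinv hZnd (by omega)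
      refine ⟨w' + 1, by omega, ?_⟩
      have h := signOn_sup (orth_perpIn W (span F {v, y v})) (inf_perpIn hPnd) hPs hZs
      rw [sup_perpIn hPW hPnd] at h
      rw [pow_succ, mul_comm]
      exact h

/-- **Invariant subspaces of every even dimension** -/
theorem exists_invariant_sub (h2 : (2 : F) ≠ 0) {y : Module.End F V}
    (hiso : ∀ v, Q (y v) = Q v) (hy : ∀ v, y (y v) = -v) : ∀ (k : ℕ) (Z : Submodule F V),
    (∀ z ∈ Z, y z ∈ Z) → Nd Q Z → 2 * k ≤ finrank F Z →
    ∃ W : Submodule F V, W ≤ Z ∧ (∀ z ∈ W, y z ∈ W) ∧ Nd Q W ∧ finrank F W = 2 * k := by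
  intro k
  induction k with
  | zero =>
    intro Z _ _ _
    refine ⟨⊥, bot_le, ?_, ?_, by rw [finrank_bot]⟩
    · intro z hz
      rw [(Submodule.mem_bot F).mp hz, map_zero]
      exact Submodule.zero_mem _
    · intro u hu _
      exact (Submodule.mem_bot F).mp hu
  | succ k ih =>
    intro Z hZinv hZnd hk
    have hZ0 : Z ≠ ⊥ := by
      intro hb
      rw [hb, finrank_bot] at hk
      omega
    obtain ⟨v, -, -, hPZ, hPinv, hPnd, hPf, -, hZ'inv, hZ'nd, hZ'f⟩ :=
      peel h2 hiso hy hZinv hZnd hZ0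
    obtain ⟨W', hW'Z, hW'inv, hW'nd, hW'f⟩ := ih _ hZ'inv hZ'nd (by omega)
    have ho : Orth Q (span F {v, y v}) W' :=
      (orth_perpIn Z (span F {v, y v})).mono (le_refl _) hW'Z
    have hd : span F {v, y v} ⊓ W' = ⊥ := ho.disjoint hPnd
    refine ⟨span F {v, y v} ⊔ W', sup_le hPZ (hW'Z.trans (perpIn_le _ _)), ?_,
      nd_sup ho hPnd hW'nd, ?_⟩
    · intro z hz
      obtain ⟨a, ha, b, hb, rfl⟩ := Submodule.mem_sup.mp hz
      rw [map_add]
      exact Submodule.add_mem _ (Submodule.mem_sup_left (hPinv a ha))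
        (Submodule.mem_sup_right (hW'inv b hb))
    · have h := Submodule.finrank_sup_add_finrank_inf_eq (span F {v, y v}) W'
      rw [hd, finrank_bot, add_zero] at h
      rw [h, hPf, hW'f]
      ring

end sqneg_fin

end Cfsg.Agent.Lib.Helper21.OrtT
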