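import Mathlib
import Cfsg.Agent.Lib.Helper21.OrtT3

/-!
# An isometry with square `-1` as a product of reflections
-/

set_option autoImplicit false

namespace Cfsg.Agent.Lib.Helper21.OrtT

open Module Submodule QuadraticMap Cfsg.Agent.Lib.Helper14.OrthEven Cfsg.Agent.Lib.Helper21.OrtG

universe u v

section refl

variable {F : Type v} [Field F] {V : Type u} [AddCommGroup V] [Module F V]
variable (Q : QuadraticForm F V)

/-- the reflection in `v` -/
noncomputable def rf (v : V) : Module.End F V :=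
  LinearMap.id - ((Q v)⁻¹ • polarBilin Q v).smulRight v

variable {Q}

theorem rf_apply (v x : V) : rf Q v x = x - ((Q v)⁻¹ * polar Q v x) • v := by
  unfold rf
  rw [LinearMap.sub_apply, LinearMap.id_apply, LinearMap.smulRight_apply, LinearMap.smul_apply,
    smul_eq_mul]
  rfl

theorem rf_fix {v x : V} (h : polar Q v x = 0) : rf Q v x = x := by
  rw [rf_apply, h, mul_zero, zero_smul, sub_zero]

theorem rf_self {v : V} (hv : Q v ≠ 0) : rf Q v v = -v := by
  rw [rf_apply, polar_self, two_nsmul]
  have : (Q v)⁻¹ * (Q v + Q v) = 2 := by field_simp; ring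
  rw [this, two_smul]
  abel

theorem prod_fix (vs : List V) (x : V) (h : ∀ v ∈ vs, polar Q v x = 0) :
    (vs.map (rf Q)).prod x = x := by
  induction vs with
  | nil => simp
  | cons v vs ih =>
    rw [List.map_cons, List.prod_cons, Module.End.mul_apply,
      ih (fun v' hv' => h v' (List.mem_cons_of_mem _ hv')), rf_fix (h v List.mem_cons_self)]

/-- the rotation of the plane `⟨v, w⟩`, `Q v = Q w`, `v ⊥ w` -/
theorem rot_plane (h2 : (2 : F) ≠ 0) {v w : V} (hv : Q v ≠ 0) (hw : Q w = Q v)
    (hvw : polar Q v w = 0) (α β : F) :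
    rf Q (v + w) (rf Q v (α • v + β • w)) = α • w - β • v := by
  have hQs : Q (v + w) = 2 * Q v := by
    rw [QuadraticMap.map_add Q, hw, hvw, add_zero, two_mul]
  have hQs0 : Q (v + w) ≠ 0 := by rw [hQs]; exact mul_ne_zero h2 hv
  have h1 : rf Q v (α • v + β • w) = β • w - α • v := by
    rw [map_add, map_smul, map_smul, rf_self hv, rf_fix hvw, smul_neg]
    abel
  have h3 : rf Q (v + w) v = -w := by
    rw [rf_apply, polar_add_left, polar_self, polar_comm Q w v, hvw, add_zero, two_nsmul, hQs]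
    have : (2 * Q v)⁻¹ * (Q v + Q v) = 1 := by field_simp; ring
    rw [this, one_smul]
    abel
  have h4 : rf Q (v + w) w = -v := by
    rw [rf_apply, polar_add_left, polar_self, hvw, zero_add, two_nsmul, hQs, hw]
    have : (2 * Q v)⁻¹ * (Q v + Q v) = 1 := by field_simp; ring
    rw [this, one_smul]
    abel
  rw [h1, map_sub, map_smul, map_smul, h3, h4, smul_neg, smul_neg]
  abel

end refl

section list

variable {F : Type v} [Field F] [Fintype F] {V : Type u} [AddCommGroup V] [Module F V]
  [FiniteDimensional F V]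
variable {Q : QuadraticForm F V}

/-- **Reflection decomposition**: on an invariant nondegenerate subspace `Z` of dimension `2k`,
`y` acts as a product of `2k` reflections in vectors of `Z` whose norms have product `2 ^ k`
times a nonzero square. -/
theorem exists_refl_list (h2 : (2 : F) ≠ 0) {y : Module.End F V} (hiso : ∀ v, Q (y v) = Q v)
    (hy : ∀ v, y (y v) = -v) : ∀ (k : ℕ) (Z : Submodule F V), (∀ z ∈ Z, y z ∈ Z) → Nd Q Z →
    finrank F Z = 2 * k →
    ∃ vs : List V, (∀ v ∈ vs, v ∈ Z ∧ Q v ≠ 0) ∧ vs.length = 2 * k ∧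
      (∃ c : F, c ≠ 0 ∧ (vs.map (fun v => Q v)).prod = 2 ^ k * (c * c)) ∧
      ∀ u ∈ Z, (vs.map (rf Q)).prod u = y u := by
  intro k
  induction k with
  | zero =>
    intro Z _ _ hZf
    have hZ : Z = ⊥ := Submodule.finrank_eq_zero.mp (by rw [hZf])
    refine ⟨[], by simp, by simp, ⟨1, one_ne_zero, by simp⟩, ?_⟩
    intro u hu
    rw [hZ, Submodule.mem_bot] at hu
    rw [hu, map_zero, map_zero]
  | succ k ih =>
    intro Z hZinv hZnd hZf
    have hZ0 : Z ≠ ⊥ := by
      intro hb
      rw [hb, finrank_bot] at hZf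
      omega
    obtain ⟨v, hvZ, hv, hPZ, hPinv, hPnd, hPf, -, hZ'inv, hZ'nd, hZ'f⟩ :=
      peel h2 hiso hy hZinv hZnd hZ0
    obtain ⟨vs', hmem', hlen', ⟨c, hc0, hprod'⟩, hact'⟩ := ih _ hZ'inv hZ'nd (by omega)
    have hw : Q (y v) = Q v := hiso v
    have hvw := polar_self_map h2 hiso hy v
    have hQs : Q (v + y v) = 2 * Q v := by
      rw [QuadraticMap.map_add Q, hw, hvw, add_zero, two_mul]
    have hvP : v ∈ span F {v, y v} := Submodule.subset_span (by simp)
    have hwP : y v ∈ span F {v, y v} := Submodule.subset_span (by simp)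
    refine ⟨(v + y v) :: v :: vs', ?_, ?_, ⟨Q v * c, mul_ne_zero hv hc0, ?_⟩, ?_⟩
    · intro x hx
      rcases List.mem_cons.mp hx with rfl | hx
      · exact ⟨Z.add_mem hvZ (hZinv v hvZ), by rw [hQs]; exact mul_ne_zero h2 hv⟩
      · rcases List.mem_cons.mp hx with rfl | hx
        · exact ⟨hvZ, hv⟩
        · exact ⟨perpIn_le _ _ (hmem' x hx).1, (hmem' x hx).2⟩
    · simp only [List.length_cons, hlen']
      ring
    · simp only [List.map_cons, List.prod_cons, hprod', hQs]
      ring
    · intro u hu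
      rw [← sup_perpIn hPZ hPnd] at hu
      obtain ⟨p, hp, z', hz', rfl⟩ := Submodule.mem_sup.mp hu
      simp only [List.map_cons, List.prod_cons, Module.End.mul_apply]
      rw [map_add ((vs'.map (rf Q)).prod), hact' z' hz']
      have hpfix : (vs'.map (rf Q)).prod p = p := by
        apply prod_fix
        intro v' hv'
        have := (mem_perpIn.mp (hmem' v' hv').1).2 p hp
        rw [polar_comm]
        exact this
      rw [hpfix, map_add (rf Q v), map_add (rf Q (v + y v))]
      have hyz' := hZ'inv z' hz'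
      have h5 : rf Q v (y z') = y z' := rf_fix ((mem_perpIn.mp hyz').2 v hvP)
      have h6 : rf Q (v + y v) (y z') = y z' :=
        rf_fix ((mem_perpIn.mp hyz').2 (v + y v) (Submodule.add_mem _ hvP hwP))
      rw [h5, h6, map_add]
      congr 1
      obtain ⟨α, β, rfl⟩ := Submodule.mem_span_pair.mp hp
      rw [rot_plane h2 hv hw hvw, map_add, map_smul, map_smul, hy, smul_neg]
      abel

/-- on the whole space -/
theorem exists_refl_list_top (h2 : (2 : F) ≠ 0) {y : Module.End F V}
    (hiso : ∀ v, Q (y v) = Q v) (hy : ∀ v, y (y v) = -v) (hV : Nd Q ⊤) (d : ℕ)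
    (hd : finrank F V = 2 * d) :
    ∃ vs : List V, (∀ v ∈ vs, Q v ≠ 0) ∧ vs.length = 2 * d ∧
      (∃ c : F, c ≠ 0 ∧ (vs.map (fun v => Q v)).prod = 2 ^ d * (c * c)) ∧
      (vs.map (rf Q)).prod = y := by
  obtain ⟨vs, h1, h2', h3, h4⟩ := exists_refl_list h2 hiso hy d ⊤ (fun _ _ => mem_top) hV
    (by rw [finrank_top, hd])
  exact ⟨vs, fun v hv => (h1 v hv).2, h2', h3, LinearMap.ext fun u => h4 u mem_top⟩

end list

end Cfsg.Agent.Lib.Helper21.OrtT
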