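import Mathlib
import Cfsg.Agent.Lib.Helper21.OrtT4

/-!
# An isometric involution as a product of reflections (odd characteristic)
-/

set_option autoImplicit false

namespace Cfsg.Agent.Lib.Helper21.OrtT

open Module Submodule QuadraticMap Cfsg.Agent.Lib.Helper14.OrthEven Cfsg.Agent.Lib.Helper21.OrtG

universe u v

section neg

variable {F : Type v} [Field F] {V : Type u} [AddCommGroup V] [Module F V]
  [FiniteDimensional F V]
variable {Q : QuadraticForm F V}

omit [FiniteDimensional F V] in
theorem line_nd (h2 : (2 : F) ≠ 0) {v : V} (hv : Q v ≠ 0) : Nd Q (span F {v}) := by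
  intro x hx hx0
  obtain ⟨α, rfl⟩ := Submodule.mem_span_singleton.mp hx
  have h1 := hx0 v (Submodule.mem_span_singleton_self v)
  rw [polar_smul_left, polar_self, two_nsmul, smul_eq_mul] at h1
  have : α * (2 * Q v) = 0 := by linear_combination h1
  rcases mul_eq_zero.mp this with h | h
  · rw [h, zero_smul]
  · exact absurd h (mul_ne_zero h2 hv)

/-- `-1` on a nondegenerate subspace `Z` is the product of `dim Z` reflections in vectors
of `Z` -/
theorem exists_refl_list_neg (h2 : (2 : F) ≠ 0) : ∀ (k : ℕ) (Z : Submodule F V), Nd Q Z →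
    finrank F Z = k →
    ∃ vs : List V, (∀ v ∈ vs, v ∈ Z ∧ Q v ≠ 0) ∧ vs.length = k ∧
      ∀ u ∈ Z, (vs.map (rf Q)).prod u = -u := by
  intro k
  induction k with
  | zero =>
    intro Z _ hZf
    have hZ : Z = ⊥ := Submodule.finrank_eq_zero.mp hZf
    refine ⟨[], by simp, by simp, ?_⟩
    intro u hu
    rw [hZ, Submodule.mem_bot] at hu
    rw [hu, map_zero, neg_zero]
  | succ k ih =>
    intro Z hZnd hZf
    have hZ0 : Z ≠ ⊥ := by
      intro hb
      rw [hb, finrank_bot] at hZf
      omega
    obtain ⟨v, hvZ, hv⟩ := exists_nonsingular hZnd hZ0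
    have hv0 : v ≠ 0 := by
      intro h
      rw [h, map_zero] at hv
      exact hv rfl
    have hLnd := line_nd h2 hv
    have hLZ : span F {v} ≤ Z := by
      rw [Submodule.span_le, Set.singleton_subset_iff]
      exact hvZ
    have hLf : finrank F (span F {v}) = 1 := finrank_span_singleton hv0
    have hZ'f : finrank F (perpIn Q Z (span F {v})) = k := by
      have := finrank_perpIn hLZ hLnd
      omega
    obtain ⟨vs', hmem', hlen', hact'⟩ := ih _ (nd_perpIn hLZ hLnd hZnd) hZ'f
    refine ⟨v :: vs', ?_, by simp [hlen'], ?_⟩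
    · intro x hx
      rcases List.mem_cons.mp hx with rfl | hx
      · exact ⟨hvZ, hv⟩
      · exact ⟨perpIn_le _ _ (hmem' x hx).1, (hmem' x hx).2⟩
    · intro u hu
      rw [← sup_perpIn hLZ hLnd] at hu
      obtain ⟨p, hp, z', hz', rfl⟩ := Submodule.mem_sup.mp hu
      simp only [List.map_cons, List.prod_cons, Module.End.mul_apply]
      rw [map_add ((vs'.map (rf Q)).prod), hact' z' hz']
      have hpfix : (vs'.map (rf Q)).prod p = p := by
        apply prod_fix
        intro v' hv'
        have := (mem_perpIn.mp (hmem' v' hv').1).2 p hp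
        rw [polar_comm]
        exact this
      rw [hpfix, map_add, map_neg, rf_fix ((mem_perpIn.mp hz').2 v (Submodule.mem_span_singleton_self v))]
      obtain ⟨α, rfl⟩ := Submodule.mem_span_singleton.mp hp
      rw [map_smul, rf_self hv, smul_neg]
      abel

/-- an isometric involution is the product of `dim [V, y]` reflections -/
theorem invol_list (h2 : (2 : F) ≠ 0) {y : Module.End F V} (hiso : ∀ v, Q (y v) = Q v)
    (hy : y ^ 2 = 1) (hV : Nd Q ⊤) :
    ∃ vs : List V, (∀ v ∈ vs, Q v ≠ 0) ∧ vs.length = finrank F (LinearMap.range (y - 1)) ∧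
      (vs.map (rf Q)).prod = y := by
  have h2' : ((2 : ℕ) : F) ≠ 0 := by exact_mod_cast h2
  have hcompl := isCompl_ker_range y 2 h2' hy
  have horth : Orth Q (LinearMap.ker (y - 1)) (LinearMap.range (y - 1)) := orth_ker_range hiso
  have hsup : Nd Q (LinearMap.ker (y - 1) ⊔ LinearMap.range (y - 1)) := by
    rw [hcompl.sup_eq_top]; exact hV
  have hB : Nd Q (LinearMap.range (y - 1)) := nd_of_orth_sup' horth hsup
  have hfixA : ∀ w ∈ LinearMap.ker (y - 1), y w = w := by
    intro w hw
    rw [LinearMap.mem_ker, LinearMap.sub_apply, Module.End.one_apply, sub_eq_zero] at hw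
    exact hw
  have hnegB : ∀ w ∈ LinearMap.range (y - 1), y w = -w := by
    rintro _ ⟨t, rfl⟩
    have h1 : y (y t) = t := by
      have := congrArg (fun f : Module.End F V => f t) hy
      simpa [pow_two] using this
    rw [LinearMap.sub_apply, Module.End.one_apply, map_sub, h1]
    abel
  obtain ⟨vs, hmem, hlen, hact⟩ := exists_refl_list_neg h2 _ (LinearMap.range (y - 1)) hB rfl
  refine ⟨vs, fun v hv => (hmem v hv).2, hlen, ?_⟩
  apply LinearMap.ext
  intro u
  have hu : u ∈ LinearMap.ker (y - 1) ⊔ LinearMap.range (y - 1) := by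
    rw [hcompl.sup_eq_top]; exact mem_top
  obtain ⟨a, ha, b, hb, rfl⟩ := Submodule.mem_sup.mp hu
  rw [map_add, map_add, hact b hb, hfixA a ha, hnegB b hb]
  congr 1
  apply prod_fix
  intro v hv
  exact horth.symm v (hmem v hv).1 a ha

end neg

end Cfsg.Agent.Lib.Helper21.OrtT
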