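import Mathlib
import Cfsg.Agent.Lib.Helper21.OrtT5
import Cfsg.Agent.Lib.Helper6.OrtS12
import Cfsg.Agent.Lib.Helper6.Spinor3

/-!
# Matrix bridge: spinor norms of involutions and of elements with square `-1`
-/

set_option autoImplicit false

namespace Cfsg.Agent.Lib.Helper21.OrtT

open Module Submodule QuadraticMap Cfsg.Agent.Lib.Helper14.OrthEven Cfsg.Agent.Lib.Helper21.OrtG

universe u

theorem isSquare_two_pow_mul_sq_iff {F : Type*} [Field F] (d : ℕ) (c : F) (hc : c ≠ 0)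
    (h2 : (2 : F) ≠ 0) : IsSquare ((2 : F) ^ d * (c * c)) ↔ (Even d ∨ IsSquare (2 : F)) := by
  constructor
  · rintro ⟨t, ht⟩
    by_cases hd : Even d
    · exact Or.inl hd
    · right
      rw [Nat.not_even_iff_odd] at hd
      obtain ⟨j, rfl⟩ := hd
      have hne : (2 : F) ^ j * c ≠ 0 := mul_ne_zero (pow_ne_zero _ h2) hc
      refine ⟨t / (2 ^ j * c), ?_⟩
      field_simp
      linear_combination ht
  · rintro (⟨j, rfl⟩ | ⟨s, hs⟩)
    · exact ⟨2 ^ j * c, by ring⟩
    · refine ⟨s ^ d * c, ?_⟩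
      rw [hs, mul_pow]
      ring

section mat

variable {F : Type u} [Field F] [Fintype F] {ι : Type} [Fintype ι] [DecidableEq ι]
variable (Q : QuadraticForm F (ι → F))

omit [Fintype F] in
theorem toLin'_reflectionMatrix (v : ι → F) :
    Matrix.toLin' (Cfsg.reflectionMatrix ⇑Q v) = rf Q v := by
  apply LinearMap.ext
  intro x
  rw [Matrix.toLin'_apply, Cfsg.Agent.Lib.Helper6.reflectionMatrix_mulVec, rf_apply]

omit [Fintype F] in
theorem toLin'_list (vs : List (ι → F)) :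
    Matrix.toLin' ((vs.map (fun v => Cfsg.reflectionMatrix ⇑Q v)).prod) =
      (vs.map (rf Q)).prod := by
  induction vs with
  | nil =>
    rw [List.map_nil, List.prod_nil, List.map_nil, List.prod_nil, Matrix.toLin'_one]
    rfl
  | cons v vs ih =>
    rw [List.map_cons, List.prod_cons, List.map_cons, List.prod_cons, Matrix.toLin'_mul, ih,
      toLin'_reflectionMatrix]
    rfl

omit [Fintype F] [DecidableEq ι] [Fintype ι] in
theorem nd_top_of (hQ : (polarBilin Q).Nondegenerate) : Nd Q ⊤ :=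
  fun u _ h0 => hQ.1 u (fun v => h0 v mem_top)

omit [Fintype F] in
theorem iso_of_mem (g : ↥(Cfsg.isometryGroup F ⇑Q)) (v : ι → F) :
    Q (Matrix.toLin' ((g.1 : GL ι F) : Matrix ι ι F) v) = Q v := by
  rw [Matrix.toLin'_apply]
  exact (Cfsg.Agent.Lib.Helper6.OmegaAut.mem_isometryGroup_iff Q g.1).mp g.2 v

/-- **Spinor norm of an element with square `-1`** -/
theorem sqneg_mem_Omega_iff (h2 : (2 : F) ≠ 0) (hQ : (polarBilin Q).Nondegenerate) (d : ℕ)
    (hn : Fintype.card ι = 2 * d) (hd : 1 ≤ d) (g : ↥(Cfsg.isometryGroup F ⇑Q))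
    (hg : ((g.1 : GL ι F) : Matrix ι ι F) * ((g.1 : GL ι F) : Matrix ι ι F) = -1) :
    g ∈ Cfsg.Omega F ⇑Q ↔ (Even d ∨ IsSquare (2 : F)) := by
  classical
  have hiso := iso_of_mem Q g
  have hy : ∀ v, Matrix.toLin' ((g.1 : GL ι F) : Matrix ι ι F)
      (Matrix.toLin' ((g.1 : GL ι F) : Matrix ι ι F) v) = -v := by
    intro v
    rw [Matrix.toLin'_apply, Matrix.toLin'_apply, Matrix.mulVec_mulVec, hg, Matrix.neg_mulVec,
      Matrix.one_mulVec]
  have hfr : finrank F (ι → F) = 2 * d := by rw [Module.finrank_fintype_fun_eq_card, hn]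
  obtain ⟨vs, hvs, hlen, ⟨c, hc0, hprod⟩, hact⟩ :=
    exists_refl_list_top h2 hiso hy (nd_top_of Q hQ) d hfr
  have hmat : ((g.1 : GL ι F) : Matrix ι ι F) =
      (vs.map (fun v => Cfsg.reflectionMatrix ⇑Q v)).prod := by
    apply Matrix.toLin'.injective
    rw [toLin'_list, hact]
  rw [Cfsg.Agent.Lib.Helper6.mem_Omega_iff_list' Q h2 hQ (by omega) g vs hvs hmat, hlen, hprod,
    isSquare_two_pow_mul_sq_iff d c hc0 h2]
  constructor
  · exact fun h => h.2
  · exact fun h => ⟨⟨d, by ring⟩, h⟩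

/-- **Involutions in `Ω`** have a `(-1)`-eigenspace of even dimension -/
theorem invol_even (h2 : (2 : F) ≠ 0) (hQ : (polarBilin Q).Nondegenerate)
    (hn : 2 ≤ Fintype.card ι) (g : ↥(Cfsg.isometryGroup F ⇑Q)) (hgΩ : g ∈ Cfsg.Omega F ⇑Q)
    (hg : ((g.1 : GL ι F) : Matrix ι ι F) * ((g.1 : GL ι F) : Matrix ι ι F) = 1) :
    Even (finrank F (LinearMap.range (Matrix.toLin' ((g.1 : GL ι F) : Matrix ι ι F) - 1))) := by
  classical
  have hiso := iso_of_mem Q g
  have hy : (Matrix.toLin' ((g.1 : GL ι F) : Matrix ι ι F)) ^ 2 = 1 := by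
    rw [← Matrix.toLin'_pow, pow_two, hg, Matrix.toLin'_one]
    rfl
  obtain ⟨vs, hvs, hlen, hact⟩ := invol_list h2 hiso hy (nd_top_of Q hQ)
  have hmat : ((g.1 : GL ι F) : Matrix ι ι F) =
      (vs.map (fun v => Cfsg.reflectionMatrix ⇑Q v)).prod := by
    apply Matrix.toLin'.injective
    rw [toLin'_list, hact]
  have := (Cfsg.Agent.Lib.Helper6.mem_Omega_iff_list' Q h2 hQ hn g vs hvs hmat).mp hgΩ
  rw [← hlen]
  exact this.1

end mat

end Cfsg.Agent.Lib.Helper21.OrtT
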