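import Mathlib
import Cfsg.Agent.Lib.Helper21.OrtT6

/-!
# The sum-of-squares model, existence of isometries with square `-1`
-/

set_option autoImplicit false

namespace Cfsg.Agent.Lib.Helper21.OrtT

open Module Submodule QuadraticMap Cfsg.Agent.Lib.Helper14.OrthEven Cfsg.Agent.Lib.Helper21.OrtG

universe u

section bridge

variable {F : Type u} [Field F] [Fintype F] {V : Type*} [AddCommGroup V] [Module F V]
  [FiniteDimensional F V]
variable {Q : QuadraticForm F V}

omit [FiniteDimensional F V] in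
theorem signOn_iff_sgnOn (W : Submodule F V) (ε : ℤ) :
    SignOn Q W ε ↔ (Even (finrank F W) ∧ Cfsg.Agent.Lib.Helper6.OrtS.SgnOn Q W ε) := by
  unfold SignOn Cfsg.Agent.Lib.Helper6.OrtS.SgnOn
  constructor
  · rintro ⟨a, ha, hs⟩
    refine ⟨⟨a, by rw [ha]; ring⟩, ?_⟩
    have : finrank F W / 2 = a := by omega
    rw [this]
    exact hs
  · rintro ⟨⟨a, ha⟩, hs⟩
    refine ⟨a, by rw [ha]; ring, ?_⟩
    have : finrank F W / 2 = a := by omega
    rw [this] at hs
    exact hs

omit [FiniteDimensional F V] in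
theorem hasSign_of_signOn_top {ε : ℤ} {a : ℕ} (ha : finrank F V = 2 * a)
    (h : SignOn Q ⊤ ε) : HasSign (⇑Q) a ε := by
  obtain ⟨a', ha', hs⟩ := h
  rw [finrank_top] at ha'
  have : a' = a := by omega
  subst this
  exact HasSign.of_equiv (LinearEquiv.ofTop (⊤ : Submodule F V) rfl).toEquiv _ _
    (fun v => rfl) hs

end bridge

section model

variable {F : Type u} [Field F]

/-- the sum of squares -/
noncomputable def sumSq (F : Type u) [Field F] (κ : Type) [Fintype κ] : QuadraticForm F (κ → F) :=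
  QuadraticMap.weightedSumSquares F (fun _ : κ => (1 : F))

theorem sumSq_apply {κ : Type} [Fintype κ] (x : κ → F) : sumSq F κ x = ∑ k, x k * x k := by
  unfold sumSq
  rw [QuadraticMap.weightedSumSquares_apply]
  apply Finset.sum_congr rfl
  intro k _
  rw [one_smul]

theorem polar_sumSq {κ : Type} [Fintype κ] (x y : κ → F) :
    polar (sumSq F κ) x y = 2 * ∑ k, x k * y k := by
  unfold polar
  rw [sumSq_apply, sumSq_apply, sumSq_apply, Finset.mul_sum, ← Finset.sum_sub_distrib,
    ← Finset.sum_sub_distrib]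
  apply Finset.sum_congr rfl
  intro k _
  rw [Pi.add_apply]
  ring

theorem nondegenerate_sumSq {κ : Type} [Fintype κ] [DecidableEq κ] (h2 : (2 : F) ≠ 0) :
    (polarBilin (sumSq F κ)).Nondegenerate := by
  have key : ∀ x : κ → F, (∀ y, polar (sumSq F κ) x y = 0) → x = 0 := by
    intro x hx
    funext k
    have h := hx (Pi.single k 1)
    rw [polar_sumSq] at h
    have h3 : ∑ j, x j * (Pi.single k (1 : F) : κ → F) j = x k := by
      rw [Finset.sum_eq_single k]
      · rw [Pi.single_eq_same, mul_one]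
      · intro j _ hjk
        rw [Pi.single_eq_of_ne hjk, mul_zero]
      · intro hk
        exact absurd (Finset.mem_univ k) hk
    rw [h3] at h
    exact (mul_eq_zero.mp h).resolve_left h2
  constructor
  · intro x hx
    exact key x hx
  · intro y hy
    apply key y
    intro x
    rw [polar_comm]
    exact hy x

/-- the standard complex structure -/
def Jmap (F : Type u) [Field F] (d : ℕ) : Module.End F (Fin d ⊕ Fin d → F) where
  toFun x := Sum.elim (fun j => x (Sum.inr j)) (fun j => - x (Sum.inl j))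
  map_add' x y := by
    funext k
    rcases k with j | j
    · simp
    · simp [add_comm]
  map_smul' c x := by
    funext k
    rcases k with j | j
    · simp
    · simp

theorem Jmap_sq (d : ℕ) (x : Fin d ⊕ Fin d → F) : Jmap F d (Jmap F d x) = -x := by
  funext k
  rcases k with j | j
  · show -x (Sum.inl j) = _
    rfl
  · show -(x (Sum.inr j)) = _
    rfl

theorem Jmap_iso (d : ℕ) (x : Fin d ⊕ Fin d → F) :
    sumSq F (Fin d ⊕ Fin d) (Jmap F d x) = sumSq F (Fin d ⊕ Fin d) x := by
  rw [sumSq_apply, sumSq_apply, Fintype.sum_sum_type, Fintype.sum_sum_type, add_comm]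
  congr 1
  apply Finset.sum_congr rfl
  intro j _
  show -x (Sum.inl j) * -x (Sum.inl j) = _
  ring

end model

section exist

variable {F : Type u} [Field F] [Fintype F] {ι : Type} [Fintype ι] [DecidableEq ι]
variable (Q : QuadraticForm F (ι → F))

/-- **Existence** of an isometry with square `-1` when the sign is `δ ^ d` -/
theorem exists_sqneg (h2 : (2 : F) ≠ 0) (hQ : (polarBilin Q).Nondegenerate) (d : ℕ)
    (hn : Fintype.card ι = 2 * d) (hd : 1 ≤ d) (hsV : SignOn Q ⊤ (dl F ^ d)) :
    ∃ g : ↥(Cfsg.isometryGroup F ⇑Q),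
      ((g.1 : GL ι F) : Matrix ι ι F) * ((g.1 : GL ι F) : Matrix ι ι F) = -1 := by
  have hX := nondegenerate_sumSq (F := F) (κ := Fin d ⊕ Fin d) h2
  have hXd : finrank F (Fin d ⊕ Fin d → F) = 2 * d := by
    rw [Module.finrank_fintype_fun_eq_card, Fintype.card_sum, Fintype.card_fin]
    ring
  have hYd : finrank F (ι → F) = 2 * d := by rw [Module.finrank_fintype_fun_eq_card, hn]
  have hsX : HasSign (⇑(sumSq F (Fin d ⊕ Fin d))) d (dl F ^ d) := by
    obtain ⟨w, hw, hs⟩ := sign_of_invariant h2 (Jmap_iso (F := F) d) (Jmap_sq (F := F) d) _ ⊤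
      (fun _ _ => mem_top) (nd_top_of _ hX) (by rw [finrank_top])
    have : w = d := by omega
    subst this
    exact hasSign_of_signOn_top hXd hs
  have hsY : HasSign (⇑Q) d (dl F ^ d) := hasSign_of_signOn_top hYd hsV
  obtain ⟨φ, hφ⟩ := Cfsg.Agent.Lib.Helper6.OrtS.exists_iso_of_sign (sumSq F (Fin d ⊕ Fin d)) Q
    hX hQ d hd hXd hYd hsX hsY
  obtain ⟨y, hydef⟩ : ∃ y : (ι → F) →ₗ[F] (ι → F),
      y = (φ : (Fin d ⊕ Fin d → F) →ₗ[F] (ι → F)) ∘ₗ Jmap F d ∘ₗ
        (φ.symm : (ι → F) →ₗ[F] (Fin d ⊕ Fin d → F)) := ⟨_, rfl⟩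
  have hyv : ∀ v, y v = φ (Jmap F d (φ.symm v)) := by
    intro v
    rw [hydef]
    rfl
  have hyy : ∀ v, y (y v) = -v := by
    intro v
    rw [hyv, hyv, φ.symm_apply_apply, Jmap_sq, map_neg, φ.apply_symm_apply]
  have hyQ : ∀ v, Q (y v) = Q v := by
    intro v
    rw [hyv, hφ, Jmap_iso, ← hφ, φ.apply_symm_apply]
  have hMM : LinearMap.toMatrix' y * LinearMap.toMatrix' y = -1 := by
    rw [← LinearMap.toMatrix'_mul]
    apply Matrix.toLin'.injective
    rw [Matrix.toLin'_toMatrix', map_neg, Matrix.toLin'_one]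
    apply LinearMap.ext
    intro v
    rw [Module.End.mul_apply, hyy]
    rfl
  have h1 : LinearMap.toMatrix' y * (-LinearMap.toMatrix' y) = 1 := by
    rw [mul_neg, hMM, neg_neg]
  have h1' : (-LinearMap.toMatrix' y) * LinearMap.toMatrix' y = 1 := by
    rw [neg_mul, hMM, neg_neg]
  let x : GL ι F := ⟨LinearMap.toMatrix' y, -LinearMap.toMatrix' y, h1, h1'⟩
  have hxI : x ∈ Cfsg.isometryGroup F ⇑Q := by
    rw [Cfsg.Agent.Lib.Helper6.OmegaAut.mem_isometryGroup_iff]
    intro v
    show Q ((LinearMap.toMatrix' y).mulVec v) = Q v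
    rw [← Matrix.toLin'_apply, Matrix.toLin'_toMatrix', hyQ]
  exact ⟨⟨x, hxI⟩, hMM⟩

end exist

end Cfsg.Agent.Lib.Helper21.OrtT
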