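import Mathlib
import Cfsg.Agent.Lib.Helper21.OrtT7

/-!
# Elements of order two of `PΩ(Q)` in odd characteristic fixing nondegenerate subspaces

Main result `two_iff`: for a nondegenerate quadratic form `Q` of sign `ε` on `F^ι`, `|ι| = 2d ≥ 6`,
`F` finite of odd characteristic, every non-scalar `x ∈ Ω(Q)` with `x²` scalar fixes a
nondegenerate `m`-space of sign `η` (`m` even, `2 ≤ m ≤ 2d - 2`) iff
`¬ (ε = δ ^ d ∧ (Even d ∨ IsSquare 2)) ∨ η = δ ^ (m / 2)`, where `δ = dl F`.
-/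

set_option autoImplicit false

namespace Cfsg.Agent.Lib.Helper21.OrtT

open Module Submodule QuadraticMap Cfsg.Agent.Lib.Helper14.OrthEven Cfsg.Agent.Lib.Helper21.OrtG

universe u

section final

variable {F : Type u} [Field F] [Fintype F] {ι : Type} [Fintype ι] [DecidableEq ι]
variable (Q : QuadraticForm F (ι → F))

omit [Fintype F] [DecidableEq ι] [Fintype ι] in
theorem map_le_of_forall {y : (ι → F) →ₗ[F] (ι → F)} {W : Submodule F (ι → F)}
    (h : ∀ w ∈ W, y w ∈ W) : W.map y ≤ W := by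
  rintro _ ⟨w, hw, rfl⟩
  exact h w hw

omit [Fintype F] [DecidableEq ι] [Fintype ι] in
theorem forall_of_map_le {y : (ι → F) →ₗ[F] (ι → F)} {W : Submodule F (ι → F)}
    (h : W.map y ≤ W) : ∀ w ∈ W, y w ∈ W := fun w hw => h ⟨w, hw, rfl⟩

/-- involutions of `Ω` fix nondegenerate subspaces of all admissible dimensions and signs -/
theorem invol_case (h2 : (2 : F) ≠ 0) (hQ : (polarBilin Q).Nondegenerate) (d : ℕ)
    (hn : Fintype.card ι = 2 * d) (hd : 3 ≤ d) (g : ↥(Cfsg.isometryGroup F ⇑Q))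
    (hgΩ : g ∈ Cfsg.Omega F ⇑Q)
    (hg : ((g.1 : GL ι F) : Matrix ι ι F) * ((g.1 : GL ι F) : Matrix ι ι F) = 1)
    (hns : ∀ z : F, ((g.1 : GL ι F) : Matrix ι ι F) ≠ z • (1 : Matrix ι ι F))
    (k : ℕ) (hk1 : 1 ≤ k) (hk : k + 1 ≤ d) (η : ℤ) (hη : η = 1 ∨ η = -1) :
    ∃ W : Submodule F (ι → F), finrank F W = 2 * k ∧ Nd Q W ∧ SignOn Q W η ∧
      W.map (Matrix.toLin' ((g.1 : GL ι F) : Matrix ι ι F)) ≤ W := by
  obtain ⟨y, hydef⟩ : ∃ y : (ι → F) →ₗ[F] (ι → F),
      y = Matrix.toLin' ((g.1 : GL ι F) : Matrix ι ι F) := ⟨_, rfl⟩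
  have hiso : ∀ v, Q (y v) = Q v := by rw [hydef]; exact iso_of_mem Q g
  have hy : y ^ 2 = 1 := by
    rw [hydef, ← Matrix.toLin'_pow, pow_two, hg, Matrix.toLin'_one]
    rfl
  have hev := invol_even Q h2 hQ (by omega) g hgΩ hg
  rw [← hydef] at hev ⊢
  obtain ⟨b, hb⟩ := hev
  have hfr : finrank F (ι → F) = 2 * d := by rw [Module.finrank_fintype_fun_eq_card, hn]
  have hrk := LinearMap.finrank_range_add_finrank_ker (y - 1)
  rw [hfr] at hrk
  have hb' : finrank F (LinearMap.range (y - 1)) = 2 * b := by rw [hb]; ring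
  have ha' : finrank F (LinearMap.ker (y - 1)) = 2 * (d - b) := by omega
  have hyy : ∀ t, y (y t) = t := by
    intro t
    have := congrArg (fun f : Module.End F (ι → F) => f t) hy
    simpa [pow_two] using this
  have hb1 : 1 ≤ b := by
    by_contra hcon
    have hb0 : b = 0 := by omega
    rw [hb0, mul_zero] at hb'
    have hr : LinearMap.range (y - 1) = ⊥ := Submodule.finrank_eq_zero.mp hb'
    apply hns 1
    apply Matrix.toLin'.injective
    rw [← hydef, one_smul, Matrix.toLin'_one]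
    have h0 : y - 1 = 0 := LinearMap.range_eq_bot.mp hr
    exact sub_eq_zero.mp h0
  have ha1 : 1 ≤ d - b := by
    by_contra hcon
    have hb0 : d - b = 0 := by omega
    have hrt : LinearMap.range (y - 1) = ⊤ := by
      apply Submodule.eq_top_of_finrank_eq
      rw [hfr]
      omega
    apply hns (-1)
    apply Matrix.toLin'.injective
    rw [← hydef, map_smul, Matrix.toLin'_one]
    apply LinearMap.ext
    intro v
    have hv : v ∈ LinearMap.range (y - 1) := by rw [hrt]; exact mem_top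
    obtain ⟨t, rfl⟩ := hv
    rw [LinearMap.sub_apply, Module.End.one_apply, map_sub, hyy, LinearMap.smul_apply,
      LinearMap.id_apply]
    simp
  obtain ⟨W, hWf, hWnd, hWs, hWinv⟩ := invol_fixes h2 hiso hy (nd_top_of Q hQ) ha' hb' ha1 hb1
    (by omega) k hk1 (by omega) η hη
  exact ⟨W, hWf, hWnd, hWs, map_le_of_forall hWinv⟩

omit [DecidableEq ι] in
/-- which nondegenerate subspaces an isometry with square `-1` fixes -/
theorem sqneg_fixes_iff (h2 : (2 : F) ≠ 0) (hQ : (polarBilin Q).Nondegenerate) (d : ℕ)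
    (hn : Fintype.card ι = 2 * d) {y : (ι → F) →ₗ[F] (ι → F)} (hiso : ∀ v, Q (y v) = Q v)
    (hy : ∀ v, y (y v) = -v) (k : ℕ) (hk : k ≤ d) (η : ℤ) :
    (∃ W : Submodule F (ι → F), finrank F W = 2 * k ∧ Nd Q W ∧ SignOn Q W η ∧ W.map y ≤ W) ↔
      η = dl F ^ k := by
  constructor
  · rintro ⟨W, hWf, hWnd, hWs, hWinv⟩
    obtain ⟨w, hw, hs⟩ := sign_of_invariant h2 hiso hy _ W (forall_of_map_le hWinv) hWnd hWf
    have : w = k := by omega
    subst this
    exact hWs.unique hs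
  · intro hη
    have hfr : finrank F (ι → F) = 2 * d := by rw [Module.finrank_fintype_fun_eq_card, hn]
    obtain ⟨W, -, hWinv, hWnd, hWf⟩ := exists_invariant_sub h2 hiso hy k ⊤
      (fun _ _ => mem_top) (nd_top_of Q hQ) (by rw [finrank_top, hfr]; omega)
    obtain ⟨w, hw, hs⟩ := sign_of_invariant h2 hiso hy _ W hWinv hWnd hWf
    have : w = k := by omega
    subst this
    rw [← hη] at hs
    exact ⟨W, hWf, hWnd, hs, map_le_of_forall hWinv⟩

end final

end Cfsg.Agent.Lib.Helper21.OrtT
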