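import Mathlib
import Cfsg.Agent.Lib.Helper21.OrtT8

/-!
# Elements of order two of `PΩ(Q)`, odd characteristic: the criterion `two_iff`
-/

set_option autoImplicit false

namespace Cfsg.Agent.Lib.Helper21.OrtT

open Module Submodule QuadraticMap Cfsg.Agent.Lib.Helper14.OrthEven Cfsg.Agent.Lib.Helper21.OrtG
  Cfsg.Agent.Lib.Helper6.OrtS

universe u

section final

variable {F : Type u} [Field F] [Fintype F] {ι : Type} [Fintype ι] [DecidableEq ι]
variable (Q : QuadraticForm F (ι → F))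

omit [DecidableEq ι] [Fintype ι] in
theorem mem_NSet_iff (m : ℕ) (hm : Even m) (η : ℤ) (W : Submodule F (ι → F)) :
    W ∈ NSet Q m η ↔ (finrank F W = m ∧ Nd Q W ∧ SignOn Q W η) := by
  constructor
  · rintro ⟨h1, h2, h3⟩
    exact ⟨h1, h2, (signOn_iff_sgnOn W η).mpr ⟨by rw [h1]; exact hm, h3⟩⟩
  · rintro ⟨h1, h2, h3⟩
    exact ⟨h1, h2, ((signOn_iff_sgnOn W η).mp h3).2⟩

omit [Fintype F] in
/-- the square of the scalar of a scalar multiple of an isometry -/
theorem scalar_sq (hQ : (polarBilin Q).Nondegenerate) [Nonempty ι] (M : Matrix ι ι F)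
    (hM : ∀ v, Q (M.mulVec v) = Q v) (z : F) (hz : M = z • 1) : z * z = 1 := by
  obtain ⟨v₀, hv₀⟩ := exists_Q_ne_zero Q hQ
  have h1 := hM v₀
  rw [hz, Matrix.smul_mulVec, Matrix.one_mulVec, QuadraticMap.map_smul, smul_eq_mul] at h1
  have h2 : (z * z - 1) * Q v₀ = 0 := by linear_combination h1
  rcases mul_eq_zero.mp h2 with h | h
  · linear_combination h
  · exact absurd h hv₀

/-- **Main theorem (`r = 2`, odd characteristic)**. -/
theorem two_iff (h2 : (2 : F) ≠ 0) (hQ : (polarBilin Q).Nondegenerate) (d : ℕ)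
    (hn : Fintype.card ι = 2 * d) (hd : 3 ≤ d) (ε : ℤ) (hsV : SgnOn Q ⊤ ε) (m : ℕ)
    (hm : Even m) (hm2 : 2 ≤ m) (hmn : m + 2 ≤ 2 * d) (η : ℤ) (hη : η = 1 ∨ η = -1) :
    (∀ x : GL ι F, x ∈ Cfsg.Geo.omegaGL ⇑Q →
      (∃ z : F, ((x ^ 2 : GL ι F) : Matrix ι ι F) = z • (1 : Matrix ι ι F)) →
      (∀ z : F, (x : Matrix ι ι F) ≠ z • (1 : Matrix ι ι F)) →
      ∃ W : Submodule F (ι → F), W ∈ NSet Q m η ∧
        W.map (Matrix.toLin' (x : Matrix ι ι F)) ≤ W) ↔
    (¬ (ε = dl F ^ d ∧ (Even d ∨ IsSquare (2 : F))) ∨ η = dl F ^ (m / 2)) := by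
  have hne : Nonempty ι := by
    rw [← Fintype.card_pos_iff, hn]
    omega
  have hfr : finrank F (ι → F) = 2 * d := by rw [Module.finrank_fintype_fun_eq_card, hn]
  have hsV' : SignOn Q ⊤ ε := (signOn_iff_sgnOn ⊤ ε).mpr ⟨by
    rw [finrank_top, hfr]; exact ⟨d, by ring⟩, hsV⟩
  obtain ⟨k, hk⟩ := hm
  have hk2 : m / 2 = k := by omega
  have hmk : m = 2 * k := by omega
  rw [hk2]
  have h11 : (1 : Matrix ι ι F) ≠ -1 := by
    intro h
    have h' := congrFun (congrFun h hne.some) hne.some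
    rw [Matrix.neg_apply, Matrix.one_apply_eq] at h'
    apply h2
    linear_combination h'
  constructor
  · intro hall
    by_contra hcon
    push Not at hcon
    obtain ⟨⟨hε, hsq⟩, hηk⟩ := hcon
    rw [hε] at hsV'
    obtain ⟨g, hg⟩ := exists_sqneg Q h2 hQ d hn (by omega) hsV'
    have hgΩ : g ∈ Cfsg.Omega F ⇑Q := (sqneg_mem_Omega_iff Q h2 hQ d hn (by omega) g hg).mpr hsq
    have hxΩ : (g.1 : GL ι F) ∈ Cfsg.Geo.omegaGL ⇑Q := Subgroup.mem_map.mpr ⟨g, hgΩ, rfl⟩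
    have hgI : ∀ v, Q (((g.1 : GL ι F) : Matrix ι ι F).mulVec v) = Q v :=
      (Cfsg.Agent.Lib.Helper6.OmegaAut.mem_isometryGroup_iff Q g.1).mp g.2
    obtain ⟨W, hWN, hWx⟩ := hall g.1 hxΩ ⟨-1, by
      rw [Units.val_pow_eq_pow_val, pow_two, hg, neg_smul, one_smul]⟩ (by
      intro z hz
      have hzz := scalar_sq Q hQ _ hgI z hz
      rw [hz, Matrix.smul_mul, Matrix.mul_smul, Matrix.mul_one, smul_smul, hzz, one_smul] at hg
      exact h11 hg)
    have hy : ∀ v, Matrix.toLin' ((g.1 : GL ι F) : Matrix ι ι F)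
        (Matrix.toLin' ((g.1 : GL ι F) : Matrix ι ι F) v) = -v := by
      intro v
      rw [Matrix.toLin'_apply, Matrix.toLin'_apply, Matrix.mulVec_mulVec, hg, Matrix.neg_mulVec,
        Matrix.one_mulVec]
    obtain ⟨hWf, hWnd, hWs⟩ := (mem_NSet_iff Q m ⟨k, hk⟩ η W).mp hWN
    rw [hmk] at hWf
    exact hηk ((sqneg_fixes_iff Q h2 hQ d hn (iso_of_mem Q g) hy k (by omega) η).mp
      ⟨W, hWf, hWnd, hWs, hWx⟩)
  · intro hrhs x hxΩ hz hns
    obtain ⟨z, hz⟩ := hz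
    obtain ⟨g, hgΩ, hgx⟩ := Subgroup.mem_map.mp hxΩ
    have hgx' : (g.1 : GL ι F) = x := hgx
    have hgI : ∀ v, Q (((g.1 : GL ι F) : Matrix ι ι F).mulVec v) = Q v :=
      (Cfsg.Agent.Lib.Helper6.OmegaAut.mem_isometryGroup_iff Q g.1).mp g.2
    have hz' : ((g.1 : GL ι F) : Matrix ι ι F) * ((g.1 : GL ι F) : Matrix ι ι F) = z • 1 := by
      rw [hgx', ← hz, Units.val_pow_eq_pow_val, pow_two]
    have hzz : z * z = 1 := by
      apply scalar_sq Q hQ (((g.1 : GL ι F) : Matrix ι ι F) * ((g.1 : GL ι F) : Matrix ι ι F))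
        _ z hz'
      intro v
      rw [← Matrix.mulVec_mulVec, hgI, hgI]
    have hz1 : z = 1 ∨ z = -1 := by
      have : (z - 1) * (z + 1) = 0 := by linear_combination hzz
      rcases mul_eq_zero.mp this with h | h
      · left; linear_combination h
      · right; linear_combination h
    rw [← hgx'] at hns ⊢
    rcases hz1 with rfl | rfl
    · rw [one_smul] at hz'
      obtain ⟨W, hWf, hWnd, hWs, hWx⟩ := invol_case Q h2 hQ d hn hd g hgΩ hz' hns k (by omega)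
        (by omega) η hη
      exact ⟨W, (mem_NSet_iff Q m ⟨k, hk⟩ η W).mpr ⟨by rw [hWf, hmk], hWnd, hWs⟩, hWx⟩
    · rw [neg_smul, one_smul] at hz'
      have hy : ∀ v, Matrix.toLin' ((g.1 : GL ι F) : Matrix ι ι F)
          (Matrix.toLin' ((g.1 : GL ι F) : Matrix ι ι F) v) = -v := by
        intro v
        rw [Matrix.toLin'_apply, Matrix.toLin'_apply, Matrix.mulVec_mulVec, hz',
          Matrix.neg_mulVec, Matrix.one_mulVec]
      have hsq := (sqneg_mem_Omega_iff Q h2 hQ d hn (by omega) g hz').mp hgΩ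
      have hε : ε = dl F ^ d := by
        obtain ⟨w, hw, hs⟩ := sign_of_invariant h2 (iso_of_mem Q g) hy _ ⊤
          (fun _ _ => mem_top) (nd_top_of Q hQ) (by rw [finrank_top])
        have : w = d := by omega
        subst this
        exact hsV'.unique hs
      have hηk : η = dl F ^ k := by
        rcases hrhs with h | h
        · exact absurd ⟨hε, hsq⟩ h
        · exact h
      obtain ⟨W, hWf, hWnd, hWs, hWx⟩ := (sqneg_fixes_iff Q h2 hQ d hn (iso_of_mem Q g) hy k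
        (by omega) η).mpr hηk
      exact ⟨W, (mem_NSet_iff Q m ⟨k, hk⟩ η W).mpr ⟨by rw [hWf, hmk], hWnd, hWs⟩, hWx⟩

end final

end Cfsg.Agent.Lib.Helper21.OrtT
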