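import Mathlib
import Cfsg.Agent.Lib.Helper21.OrtM1
import Cfsg.Agent.Lib.Helper6.OrtS13

/-!
# The minus type orthogonal group: elements of odd prime order `r ≠ p`
-/

set_option autoImplicit false

namespace Cfsg.Agent.Lib.Helper21.OrtM

open Module Submodule QuadraticMap Polynomial Cfsg.Agent.Lib.Helper15.PSpI
  Cfsg.Agent.Lib.Helper14.OrthEven
  Cfsg.Agent.Lib.Helper15.PSpJ Cfsg.Agent.Lib.Helper15.PDec Cfsg.Agent.Lib.Helper15.PSub
  Cfsg.Agent.Lib.Helper15 Cfsg.Agent.Lib.Helper6.OrtS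

universe u

variable {F : Type u} [Field F] [Fintype F]

/-- matrices of order `r` preserving the minus form with `s` blocks -/
theorem exists_elt_minus (p : ℕ) [Fact p.Prime] [CharP F p] (r : ℕ) [hr : Fact r.Prime]
    (hr2 : r ≠ 2) (hrp : r ≠ p) (d s : ℕ) (a b : F)
    (hab : ∀ x y : F, x ^ 2 + a * x * y + b * y ^ 2 = 0 → x = 0 ∧ y = 0) (hs : 1 ≤ s)
    (hsd : cOf (orderOf ((Fintype.card F : ℕ) : ZMod r)) * s ≤ 2 * d)
    (hfull : cOf (orderOf ((Fintype.card F : ℕ) : ZMod r)) * s = 2 * d →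
      tau (orderOf ((Fintype.card F : ℕ) : ZMod r)) s = -1) :
    ∃ M : Matrix ((Fin (d - 1) ⊕ Fin (d - 1)) ⊕ Fin 2) ((Fin (d - 1) ⊕ Fin (d - 1)) ⊕ Fin 2) F,
      (∀ v, Cfsg.quadFormMinus (d - 1) F a b (M.mulVec v) = Cfsg.quadFormMinus (d - 1) F a b v) ∧
      M ^ r = 1 ∧
      finrank F (Module.End.eigenspace (Matrix.toLin' M) 1) =
        2 * d - cOf (orderOf ((Fintype.card F : ℕ) : ZMod r)) * s := by
  have hodd : Odd r := hr.out.odd_of_ne_two hr2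
  have hr0 : (r : F) ≠ 0 := ne_zero_of_ne' p r hr.out hrp
  have hrq := not_dvd_card (F := F) p r hrp
  obtain ⟨x, hx1, hx2, hx3⟩ := exists_elt (F := F) p r hr2 hrp d s hs hsd
  obtain ⟨S, hS⟩ : ∃ S : Matrix (Fin d ⊕ Fin d) (Fin d ⊕ Fin d) F, S = x.1 := ⟨_, rfl⟩
  rw [← hS] at hx1 hx2 hx3
  have hSr : S ^ r = 1 := by
    apply Matrix.toLin'.injective
    rw [Matrix.toLin'_pow, hx1, Matrix.toLin'_one]
    rfl
  have hS1 : S ≠ 1 := by
    intro h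
    apply hx3 1
    rw [h, one_smul]
  have hcond : (X - 1 : F[X]) ∣ S.charpoly ∨ ((Fintype.card F : ℕ) : ZMod r) ^ d = -1 := by
    by_cases hcs : cOf (orderOf ((Fintype.card F : ℕ) : ZMod r)) * s = 2 * d
    · right
      have h1 := pow_eq_tau (F := F) p r hrp s
      rw [hfull hcs, hcs] at h1
      have h2 : 2 * d / 2 = d := by omega
      rw [h2] at h1
      rw [h1]
      simp
    · left
      rw [← exists_fixed_iff]
      have hpos : 0 < finrank F (Module.End.eigenspace (Matrix.toLin' S) 1) := by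
        rw [hx2]; omega
      rw [Module.finrank_pos_iff_exists_ne_zero] at hpos
      obtain ⟨w, hw⟩ := hpos
      refine ⟨w.1, fun h => hw (Subtype.ext h), ?_⟩
      have := w.2
      rw [Module.End.mem_eigenspace_iff, one_smul, Matrix.toLin'_apply] at this
      exact this
  obtain ⟨M, hM1, hM2, hM3⟩ :=
    (exists_even_of_sp hodd hrq hr0 d S (by rw [hS]; exact x.2) hSr hS1).2 a b hab hcond
  refine ⟨M, hM1, hM3, ?_⟩
  rw [finrank_fixed_eq_rootMultiplicity M r hr0 hM3, hM2,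
    ← finrank_fixed_eq_rootMultiplicity S r hr0 hSr, hx2]

/-- elements of odd prime order `r ≠ p` of `Ω⁻_{2d}(q)` and nondegenerate `m`-spaces of sign `η` -/
theorem odd_minus (p : ℕ) [Fact p.Prime] [CharP F p] (r : ℕ) [hr : Fact r.Prime]
    (hrp : r ≠ p) (hr2 : r ≠ 2) (d : ℕ) (hd : 4 ≤ d) (a b : F)
    (hab : ∀ x y : F, x ^ 2 + a * x * y + b * y ^ 2 = 0 → x = 0 ∧ y = 0) (m : ℕ) (hm : Even m)
    (η : ℤ) (hη : η = 1 ∨ η = -1) :
    ((∀ x : GL ((Fin (d - 1) ⊕ Fin (d - 1)) ⊕ Fin 2) F,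
      x ∈ Cfsg.Geo.omegaGL (Cfsg.quadFormMinus (d - 1) F a b) →
      (∃ z : F, ((x ^ r : GL ((Fin (d - 1) ⊕ Fin (d - 1)) ⊕ Fin 2) F) :
        Matrix ((Fin (d - 1) ⊕ Fin (d - 1)) ⊕ Fin 2) ((Fin (d - 1) ⊕ Fin (d - 1)) ⊕ Fin 2) F) =
        z • (1 : Matrix ((Fin (d - 1) ⊕ Fin (d - 1)) ⊕ Fin 2)
          ((Fin (d - 1) ⊕ Fin (d - 1)) ⊕ Fin 2) F)) →
      (∀ z : F, (x : Matrix ((Fin (d - 1) ⊕ Fin (d - 1)) ⊕ Fin 2)
          ((Fin (d - 1) ⊕ Fin (d - 1)) ⊕ Fin 2) F) ≠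
        z • (1 : Matrix ((Fin (d - 1) ⊕ Fin (d - 1)) ⊕ Fin 2)
          ((Fin (d - 1) ⊕ Fin (d - 1)) ⊕ Fin 2) F)) →
      ∃ W : Submodule F ((Fin (d - 1) ⊕ Fin (d - 1)) ⊕ Fin 2 → F),
        W ∈ NSet (QMinus F (d - 1) a b) m η ∧
        W.map (Matrix.toLin' (x : Matrix ((Fin (d - 1) ⊕ Fin (d - 1)) ⊕ Fin 2)
          ((Fin (d - 1) ⊕ Fin (d - 1)) ⊕ Fin 2) F)) ≤ W) ↔
      Crit (2 * d) (-1) m η (orderOf ((Fintype.card F : ℕ) : ZMod r))) ∧
    (Extra (2 * d) (-1) m η (orderOf ((Fintype.card F : ℕ) : ZMod r)) →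
      ¬ r ∣ Nat.card (NSet (QMinus F (d - 1) a b) m η)) := by
  have hcard : Fintype.card ((Fin (d - 1) ⊕ Fin (d - 1)) ⊕ Fin 2) = 2 * d := by
    simp only [Fintype.card_sum, Fintype.card_fin]
    omega
  have hnd := nondegenerate_QMinus (d - 1) a b hab
  have hsgn := sgnOn_top_QMinus (d - 1) a b hab
  have hExist : ∀ s, 1 ≤ s → cOf (orderOf ((Fintype.card F : ℕ) : ZMod r)) * s ≤ 2 * d →
      (cOf (orderOf ((Fintype.card F : ℕ) : ZMod r)) * s = 2 * d →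
        tau (orderOf ((Fintype.card F : ℕ) : ZMod r)) s = -1) →
      ∃ M : Matrix ((Fin (d - 1) ⊕ Fin (d - 1)) ⊕ Fin 2) ((Fin (d - 1) ⊕ Fin (d - 1)) ⊕ Fin 2) F,
        (∀ v, QMinus F (d - 1) a b (M.mulVec v) = QMinus F (d - 1) a b v) ∧ M ^ r = 1 ∧
        finrank F (Module.End.eigenspace (Matrix.toLin' M) 1) =
          2 * d - cOf (orderOf ((Fintype.card F : ℕ) : ZMod r)) * s := by
    intro s hs1 hsd hfull
    obtain ⟨M, hM1, hM2, hM3⟩ := exists_elt_minus (F := F) p r hr2 hrp d s a b hab hs1 hsd hfull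
    exact ⟨M, fun v => by rw [QMinus_apply, QMinus_apply]; exact hM1 v, hM2, hM3⟩
  constructor
  · have h := odd_iff_crit (QMinus F (d - 1) a b) p r hrp hr2 hnd (2 * d) hcard
      (even_two_mul d) (by omega) (Or.inr (by omega)) (-1) (Or.inr rfl) hsgn hExist m hm η hη
    rw [coe_QMinus] at h
    exact h
  · exact not_dvd_of_extra (QMinus F (d - 1) a b) p r hrp hr2 hnd (2 * d) hcard
      (even_two_mul d) (-1) (Or.inr rfl) hsgn hExist m hm η hη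

end Cfsg.Agent.Lib.Helper21.OrtM
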