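import Mathlib
import Cfsg.Agent.Lib.Helper3.SpTDefs
import Cfsg.Agent.Lib.Helper3.SpTL1
import Cfsg.Agent.Lib.Helper3.SpTL2
import Cfsg.Agent.Lib.Helper3.SpTL3
import Cfsg.Agent.Lib.Helper3.SpTL3T

/-!
# S5704, layer 4, piece DECOMP (helper21, for helper3)

`decomp` : an isometry `m` stabilising `U ⊗ w0` and conjugating the root elements of `N0` in the radical into `N0`
is the product of an element of `N0 ∩ O(Q)` and an element of the radical.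
-/

set_option autoImplicit false

namespace Cfsg.Agent.Lib.Helper21.S5704DECOMP

open Matrix Module QuadraticMap
open scoped Kronecker commutatorElement
open Cfsg.Agent.Lib.Helper16.Tens
open Cfsg.Agent.Lib.Helper23.S5637T3b (kronGL)
open Cfsg.Agent.Lib.Helper3.SpT

variable {F : Type*} [Field F] {a b : ℕ} {J1 : Matrix (Fin a) (Fin a) F} {J2 : Matrix (Fin b) (Fin b) F}
  {Q : QuadraticForm F (Fin a × Fin b → F)}

/-- `GL` elements with the same action are equal -/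
theorem gl_ext_act {g g' : GL (Fin a × Fin b) F} (h : ∀ v, act g v = act g' v) : g = g' := by
  apply Units.ext
  apply mat_ext_mulVec
  intro v
  have := h v
  rwa [act_apply, act_apply] at this

/-- the matrix `μ` of `m` on `U ⊗ w0` -/
theorem exists_mu {w0 w0' : Fin b → F} (h00 : bf J2 w0 w0' = 1) (m : GL (Fin a × Fin b) F)
    (hst : img m (Lk w0) = Lk w0) :
    ∃ μ : Matrix (Fin a) (Fin a) F, ∀ u, act m (pur u w0) = pur (μ *ᵥ u) w0 := by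
  let μL : (Fin a → F) →ₗ[F] (Fin a → F) :=
    (ctr (a := a) (J2 *ᵥ w0')) ∘ₗ ((act m).toLinearMap ∘ₗ purL (a := a) w0)
  refine ⟨LinearMap.toMatrix' μL, ?_⟩
  intro u
  have h1 : act m (pur u w0) ∈ img m (Lk w0) := by
    rw [mem_img_iff, act_inv_act]
    exact pur_mem_Lk u w0
  rw [hst] at h1
  obtain ⟨u', hu'⟩ := (mem_Lk_iff _ _).1 h1
  rw [LinearMap.toMatrix'_mulVec]
  have h2 : μL u = u' := by
    show ctr (J2 *ᵥ w0') (act m (pur u w0)) = u'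
    rw [hu', ctr_J_pur, h00, one_smul]
  rw [h2, hu']

theorem mu_injective {w0 : Fin b → F} (hw0 : w0 ≠ 0) (m : GL (Fin a × Fin b) F)
    (μ : Matrix (Fin a) (Fin a) F) (hμ : ∀ u, act m (pur u w0) = pur (μ *ᵥ u) w0) : IsUnit μ := by
  rw [← Matrix.mulVec_injective_iff_isUnit]
  intro u u' h
  have h1 : act m (pur u w0) = act m (pur u' w0) := by
    rw [hμ, hμ]
    exact congrArg (fun z => pur z w0) h
  have h2 := (act m).injective h1
  exact purL_injective hw0 h2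

/-- `μ^* π(m v) = π(v)`, `π = ctr (J2 *ᵥ w0)` -/
theorem adj_ctr_act (hS : Setup J1 J2 Q) {w0 : Fin b → F} (m : GL (Fin a × Fin b) F)
    (hm : m ∈ Cfsg.isometryGroup F (⇑Q)) (μ : Matrix (Fin a) (Fin a) F)
    (hμ : ∀ u, act m (pur u w0) = pur (μ *ᵥ u) w0) (v : Fin a × Fin b → F) :
    adj J1 μ *ᵥ ctr (J2 *ᵥ w0) (act m v) = ctr (J2 *ᵥ w0) v := by
  rw [← sub_eq_zero]
  apply hS.h1.nondeg
  intro y
  rw [bf_sub_left, sub_eq_zero, bf_adj hS.h1, adj_adj hS.h1, ← bf_kron_pur_right, ← hμ,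
    hS.polar_act m hm, bf_kron_pur_right]

/-- `m (1 ⊗ t_{w0}(1)) m⁻¹ = zA (μ μ^*) w0` -/
theorem conj_rootW_eq (hS : Setup J1 J2 Q) {w0 : Fin b → F} (m : GL (Fin a × Fin b) F)
    (hm : m ∈ Cfsg.isometryGroup F (⇑Q)) (μ : Matrix (Fin a) (Fin a) F)
    (hμ : ∀ u, act m (pur u w0) = pur (μ *ᵥ u) w0) :
    m * rootW J2 hS.h2 w0 1 * m⁻¹ = zA J2 hS.h2 (μ * adj J1 μ) w0 := by
  apply gl_ext_act
  intro v
  have h1 := adj_ctr_act hS m hm μ hμ (act m⁻¹ v)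
  rw [act_act_inv] at h1
  rw [act_mul, act_mul]
  unfold rootW
  rw [act_zA, map_add, act_act_inv, act_zA, hμ, ← h1, one_smul, Matrix.one_mulVec, Matrix.mulVec_mulVec]

/-- `μ μ^* = ν`, `ν ≠ 0`, `μ^* μ = ν` -/
theorem exists_nu (hS : Setup J1 J2 Q) (ha : 2 ≤ a) {w0 : Fin b → F} (hw0 : w0 ≠ 0) (m : GL (Fin a × Fin b) F)
    (hm : m ∈ Cfsg.isometryGroup F (⇑Q)) (μ : Matrix (Fin a) (Fin a) F)
    (hμ : ∀ u, act m (pur u w0) = pur (μ *ᵥ u) w0)
    (h1 : m * rootW J2 hS.h2 w0 1 * m⁻¹ ∈ Cfsg.Geo.kroneckerSubgroup a b F) :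
    ∃ ν : F, ν ≠ 0 ∧ μ * adj J1 μ = ν • (1 : Matrix (Fin a) (Fin a) F) ∧
      adj J1 μ * μ = ν • (1 : Matrix (Fin a) (Fin a) F) := by
  have hμu : IsUnit μ := mu_injective hw0 m μ hμ
  have hsc : IsScal (μ * adj J1 μ) := by
    by_contra hns
    rw [conj_rootW_eq hS m hm μ hμ] at h1
    exact zA_not_mem_kron hS.h2 _ hns w0 hw0 h1
  obtain ⟨ν, hν⟩ := hsc
  have hν0 : ν ≠ 0 := by
    intro h0
    rw [h0, zero_smul] at hν
    have h2 : adj J1 μ = 0 := (hμu.mul_right_eq_zero).1 hν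
    have h3 : μ = 0 := by
      rw [← adj_adj hS.h1 μ, h2]
      simp [adj]
    rw [h3] at hμu
    have h4 := isUnit_zero_iff.1 hμu
    have h5 := congrFun (congrFun h4 ⟨0, by omega⟩) ⟨0, by omega⟩
    simp at h5
  refine ⟨ν, hν0, hν, ?_⟩
  have h6 : μ * (ν⁻¹ • adj J1 μ) = 1 := by
    rw [Matrix.mul_smul, hν, smul_smul, inv_mul_cancel₀ hν0, one_smul]
  have h7 : (ν⁻¹ • adj J1 μ) * μ = 1 := mul_eq_one_comm.1 h6
  have h8 : adj J1 μ * μ = ν • ((ν⁻¹ • adj J1 μ) * μ) := by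
    rw [Matrix.smul_mul, smul_smul, mul_inv_cancel₀ hν0, one_smul]
  rw [h8, h7]

/-- `μ` is a `ν`-similitude -/
theorem mu_simil (hJ1 : SympG J1) (μ : Matrix (Fin a) (Fin a) F) (ν : F)
    (h : adj J1 μ * μ = ν • (1 : Matrix (Fin a) (Fin a) F)) (x y : Fin a → F) :
    bf J1 (μ *ᵥ x) (μ *ᵥ y) = ν * bf J1 x y := by
  rw [bf_adj hJ1, Matrix.mulVec_mulVec, h, Matrix.smul_mulVec, Matrix.one_mulVec, bf_smul_right]

/-- `ν π(m v) = μ π(v)` -/
theorem ctr_act (hS : Setup J1 J2 Q) {w0 : Fin b → F} (m : GL (Fin a × Fin b) F)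
    (hm : m ∈ Cfsg.isometryGroup F (⇑Q)) (μ : Matrix (Fin a) (Fin a) F)
    (hμ : ∀ u, act m (pur u w0) = pur (μ *ᵥ u) w0) (ν : F)
    (h : μ * adj J1 μ = ν • (1 : Matrix (Fin a) (Fin a) F)) (v : Fin a × Fin b → F) :
    ν • ctr (J2 *ᵥ w0) (act m v) = μ *ᵥ ctr (J2 *ᵥ w0) v := by
  rw [← adj_ctr_act hS m hm μ hμ v, Matrix.mulVec_mulVec, h, Matrix.smul_mulVec, Matrix.one_mulVec]

/-- an element of `N0` fixing `U ⊗ w0` pointwise is `1 ⊗ B` -/
theorem kron_fix_struct (ha : 1 ≤ a) {w0 : Fin b → F} (hw0 : w0 ≠ 0) (n : GL (Fin a × Fin b) F)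
    (hn : n ∈ Cfsg.Geo.kroneckerSubgroup a b F) (hfix : ∀ u : Fin a → F, act n (pur u w0) = pur u w0) :
    ∃ B : Matrix (Fin b) (Fin b) F, ∀ (u : Fin a → F) (y : Fin b → F), act n (pur u y) = pur u (B *ᵥ y) := by
  obtain ⟨A, B0, hAB⟩ := (mem_kron_iff n).1 hn
  obtain ⟨j, hj⟩ : ∃ j, w0 j ≠ 0 := by
    by_contra hall
    apply hw0
    funext j
    by_contra hj
    exact hall ⟨j, hj⟩
  set ψ : Fin b → F := Pi.single j (w0 j)⁻¹ with hψ
  have hψ1 : w0 ⬝ᵥ ψ = 1 := by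
    rw [hψ, dotProduct_single, mul_inv_cancel₀ hj]
  set c : F := (B0.val *ᵥ w0) ⬝ᵥ ψ with hc
  have h1 : ∀ u : Fin a → F, c • (A.val *ᵥ u) = u := by
    intro u
    have h := hfix u
    rw [act_apply, hAB, kron_mulVec_pur] at h
    have h' := congrArg (ctr ψ) h
    rw [ctr_pur, ctr_pur, hψ1, one_smul] at h'
    exact h'
  have hc0 : c ≠ 0 := by
    intro h0
    have h2 := h1 (Pi.single ⟨0, by omega⟩ 1)
    rw [h0, zero_smul] at h2
    have h3 := congrFun h2 ⟨0, by omega⟩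
    simp at h3
  refine ⟨c⁻¹ • B0.val, ?_⟩
  intro u y
  rw [act_apply, hAB, kron_mulVec_pur, Matrix.smul_mulVec, pur_smul_right, ← pur_smul_left]
  congr 1
  rw [← h1 u, smul_smul, inv_mul_cancel₀ hc0, one_smul, h1 u]

theorem rad_kron_aux (B : Matrix (Fin b) (Fin b) F) (u : Fin a → F) (y₁ w0' : Fin b → F) (c : F) :
    pur u (B *ᵥ (y₁ + c • w0')) - pur u (y₁ + c • w0') - pur ((-c) • u) (w0' - B *ᵥ w0') =
      pur u (B *ᵥ y₁) - pur u y₁ := by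
  rw [Matrix.mulVec_add, Matrix.mulVec_smul, pur_add_right, pur_add_right, pur_smul_right, pur_smul_right,
    pur_smul_left, sub_eq_add_neg w0', pur_add_right, pur_neg_right]
  module

/-- shape of an element `1 ⊗ B` of the radical: `(n - 1) v ≡ π(v) ⊗ (w0' - B w0')` modulo `U ⊗ w0` -/
theorem rad_kron_shape (hJ2 : SympG J2) {w0 w0' : Fin b → F} (h00 : bf J2 w0 w0' = 1)
    (n : GL (Fin a × Fin b) F) (hr : InRad J2 w0 n) (B : Matrix (Fin b) (Fin b) F)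
    (hB : ∀ (u : Fin a → F) (y : Fin b → F), act n (pur u y) = pur u (B *ᵥ y)) (v : Fin a × Fin b → F) :
    act n v - v - pur (ctr (J2 *ᵥ w0) v) (w0' - B *ᵥ w0') ∈ Lk (F := F) (a := a) w0 := by
  revert v
  apply pur_induction
  · simp
  · intro x y hx hy
    have h : act n (x + y) - (x + y) - pur (ctr (J2 *ᵥ w0) (x + y)) (w0' - B *ᵥ w0') =
        (act n x - x - pur (ctr (J2 *ᵥ w0) x) (w0' - B *ᵥ w0')) +
          (act n y - y - pur (ctr (J2 *ᵥ w0) y) (w0' - B *ᵥ w0')) := by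
      rw [map_add, map_add, pur_add_left]
      abel
    rw [h]
    exact Submodule.add_mem _ hx hy
  · intro u y
    have hy₁ : bf J2 (y - bf J2 w0 y • w0') w0 = 0 := by
      rw [bf_sub_left, bf_smul_left, hJ2.skew w0' w0, h00, hJ2.skew y w0]
      ring
    have hmod := hr.modL (pur u (y - bf J2 w0 y • w0')) (pur_mem_Pk u hy₁)
    have hy : y = (y - bf J2 w0 y • w0') + bf J2 w0 y • w0' := by
      rw [sub_add_cancel]
    have key : act n (pur u y) - pur u y - pur (ctr (J2 *ᵥ w0) (pur u y)) (w0' - B *ᵥ w0') =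
        act n (pur u (y - bf J2 w0 y • w0')) - pur u (y - bf J2 w0 y • w0') := by
      rw [ctr_J_pur, hB, hB, hJ2.skew y w0]
      have h := rad_kron_aux B u (y - bf J2 w0 y • w0') w0' (bf J2 w0 y)
      rw [← hy] at h
      exact h
    rw [key]
    exact hmod

/-- for `x ⊥ w0`: `m (u ⊗ x) ≡ μu ⊗ s` modulo `U ⊗ w0`, for some `s` -/
theorem exists_rel (hS : Setup J1 J2 Q) (ha : 2 ≤ a) {w0 w0' : Fin b → F} (hw0 : w0 ≠ 0)
    (h00 : bf J2 w0 w0' = 1) (m : GL (Fin a × Fin b) F) (hm : m ∈ Cfsg.isometryGroup F (⇑Q))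
    (hst : img m (Lk w0) = Lk w0) (μ : Matrix (Fin a) (Fin a) F)
    (hμ : ∀ u, act m (pur u w0) = pur (μ *ᵥ u) w0) (ν : F) (hν0 : ν ≠ 0)
    (hν : μ * adj J1 μ = ν • (1 : Matrix (Fin a) (Fin a) F))
    (x : Fin b → F) (hx : bf J2 w0 x = 0)
    (hn : m * gE J1 J2 hS.h2 1 w0 x hx * m⁻¹ ∈ Cfsg.Geo.kroneckerSubgroup a b F) :
    ∃ s : Fin b → F, ∀ u : Fin a → F, act m (pur u x) - pur (μ *ᵥ u) s ∈ Lk (F := F) (a := a) w0 := by
  have hr : InRad J2 w0 (m * gE J1 J2 hS.h2 1 w0 x hx * m⁻¹) :=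
    hS.inRad_conj m hm w0 hst _ (inRad_gE hS.h2 1 w0 x hx)
  obtain ⟨B, hB⟩ := kron_fix_struct (by omega) hw0 _ hn (fun u => hr.fixL _ (pur_mem_Lk u w0))
  refine ⟨ν⁻¹ • (w0' - B *ᵥ w0'), fun u => ?_⟩
  have hnm : act (m * gE J1 J2 hS.h2 1 w0 x hx * m⁻¹) (act m (pur u w0')) =
      act m (act (gE J1 J2 hS.h2 1 w0 x hx) (pur u w0')) := by
    rw [← act_mul, ← act_mul]
    congr 1
    group
  rw [act_gE, adj_one hS.h1, Matrix.one_mulVec, hS.h2.skew w0' w0, h00, map_add, map_add, map_smul, map_smul,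
    hμ] at hnm
  have hπ : ctr (J2 *ᵥ w0) (act m (pur u w0')) = -(ν⁻¹ • (μ *ᵥ u)) := by
    have h := ctr_act hS m hm μ hμ ν hν (pur u w0')
    rw [ctr_J_pur, hS.h2.skew w0' w0, h00, Matrix.mulVec_smul] at h
    calc ctr (J2 *ᵥ w0) (act m (pur u w0'))
        = ν⁻¹ • (ν • ctr (J2 *ᵥ w0) (act m (pur u w0'))) := by
          rw [smul_smul, inv_mul_cancel₀ hν0, one_smul]
      _ = -(ν⁻¹ • (μ *ᵥ u)) := by
          rw [h]
          simp
  have hshape := rad_kron_shape hS.h2 h00 _ hr B hB (act m (pur u w0'))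
  rw [hnm, hπ] at hshape
  have hL : bf J2 w0' x • pur (μ *ᵥ u) w0 ∈ Lk (F := F) (a := a) w0 :=
    Submodule.smul_mem _ _ (pur_mem_Lk _ _)
  have key : act m (pur u x) - pur (μ *ᵥ u) (ν⁻¹ • (w0' - B *ᵥ w0')) =
      bf J2 w0' x • pur (μ *ᵥ u) w0 -
        (act m (pur u w0') + bf J2 w0' x • pur (μ *ᵥ u) w0 + (-1 : F) • act m (pur u x) - act m (pur u w0') -
          pur (-(ν⁻¹ • (μ *ᵥ u))) (w0' - B *ᵥ w0')) := by
    rw [pur_neg_left, pur_smul_left, pur_smul_right]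
    module
  rw [key]
  exact Submodule.sub_mem _ hL hshape

/-- a non-zero vector of `U`, a vector pairing non-trivially with it -/
theorem exists_pair_ne (hJ1 : SympG J1) (ha : 2 ≤ a) :
    ∃ u u' : Fin a → F, u ≠ 0 ∧ bf J1 u u' ≠ 0 := by
  have hu : (Pi.single ⟨0, by omega⟩ 1 : Fin a → F) ≠ 0 := by
    intro h
    have h3 := congrFun h ⟨0, by omega⟩
    simp at h3
  refine ⟨Pi.single ⟨0, by omega⟩ 1, ?_⟩
  by_contra hall
  apply hu
  apply hJ1.nondeg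
  intro y
  by_contra hy
  exact hall ⟨y, hu, hy⟩

theorem mulVec_ne_zero_of_isUnit {μ : Matrix (Fin a) (Fin a) F} (hμu : IsUnit μ) {u : Fin a → F} (hu : u ≠ 0) :
    μ *ᵥ u ≠ 0 := by
  intro h
  apply hu
  apply (Matrix.mulVec_injective_iff_isUnit.2 hμu)
  rw [h, Matrix.mulVec_zero]

/-- (R2) the second component is orthogonal to `w0` -/
theorem rel_perp (hS : Setup J1 J2 Q) (ha : 2 ≤ a) {w0 : Fin b → F}
    (m : GL (Fin a × Fin b) F) (hm : m ∈ Cfsg.isometryGroup F (⇑Q))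
    (hst : img m (Lk w0) = Lk w0) (μ : Matrix (Fin a) (Fin a) F) (hμu : IsUnit μ)
    (x s : Fin b → F) (hx : bf J2 x w0 = 0)
    (hrel : ∀ u : Fin a → F, act m (pur u x) - pur (μ *ᵥ u) s ∈ Lk (F := F) (a := a) w0) :
    bf J2 s w0 = 0 := by
  obtain ⟨u, u', hu, -⟩ := exists_pair_ne hS.h1 ha
  have h1 : act m (pur u x) ∈ Pk (a := a) J2 w0 := by
    rw [← hS.img_Pk m hm w0 w0 hst, mem_img_iff, act_inv_act]
    exact pur_mem_Pk u hx
  have h2 : pur (μ *ᵥ u) s ∈ Pk (a := a) J2 w0 := by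
    have h3 := Submodule.sub_mem _ h1 (Lk_le_Pk hS.h2 w0 (hrel u))
    rwa [sub_sub_cancel] at h3
  rw [mem_Pk_iff, ctr_J_pur] at h2
  rcases smul_eq_zero.1 h2 with h | h
  · exact h
  · exact absurd h (mulVec_ne_zero_of_isUnit hμu hu)

/-- (R5) the second components scale the form by `ν⁻¹` -/
theorem rel_form (hS : Setup J1 J2 Q) (ha : 2 ≤ a) {w0 : Fin b → F}
    (m : GL (Fin a × Fin b) F) (hm : m ∈ Cfsg.isometryGroup F (⇑Q))
    (μ : Matrix (Fin a) (Fin a) F) (ν : F)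
    (hsim : ∀ x y : Fin a → F, bf J1 (μ *ᵥ x) (μ *ᵥ y) = ν * bf J1 x y)
    (x s y r : Fin b → F) (hs : bf J2 s w0 = 0) (hr : bf J2 r w0 = 0)
    (hrel : ∀ u : Fin a → F, act m (pur u x) - pur (μ *ᵥ u) s ∈ Lk (F := F) (a := a) w0)
    (hrel' : ∀ u : Fin a → F, act m (pur u y) - pur (μ *ᵥ u) r ∈ Lk (F := F) (a := a) w0) :
    ν * bf J2 s r = bf J2 x y := by
  obtain ⟨u, u', hu, huu'⟩ := exists_pair_ne hS.h1 ha
  obtain ⟨c, hc⟩ := (mem_Lk_iff _ _).1 (hrel u)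
  obtain ⟨c', hc'⟩ := (mem_Lk_iff _ _).1 (hrel' u')
  have h1 : act m (pur u x) = pur (μ *ᵥ u) s + pur c w0 := by
    rw [← hc]; abel
  have h2 : act m (pur u' y) = pur (μ *ᵥ u') r + pur c' w0 := by
    rw [← hc']; abel
  have h3 := hS.polar_act m hm (pur u x) (pur u' y)
  rw [h1, h2, bf_add_left, bf_add_right, bf_add_right, bf_kron_pur, bf_kron_pur, bf_kron_pur, bf_kron_pur,
    bf_kron_pur, hsim, hs, hS.h2.alt, hS.h2.skew w0 r, hr] at h3
  have h4 : bf J1 u u' * (ν * bf J2 s r) = bf J1 u u' * bf J2 x y := by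
    linear_combination h3
  exact mul_left_cancel₀ huu' h4

/-- the contraction `φ ⊗ 1 : U ⊗ W → W` -/
def ctrU (φ : Fin a → F) : (Fin a × Fin b → F) →ₗ[F] (Fin b → F) where
  toFun v j := ∑ i, v (i, j) * φ i
  map_add' v v' := by
    funext j; simp [add_mul, Finset.sum_add_distrib]
  map_smul' c v := by
    funext j; simp [Finset.mul_sum, mul_assoc]

theorem ctrU_pur (φ : Fin a → F) (u : Fin a → F) (w : Fin b → F) :
    ctrU φ (pur u w) = (u ⬝ᵥ φ) • w := by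
  funext j
  simp only [ctrU, LinearMap.coe_mk, AddHom.coe_mk, pur_apply, Pi.smul_apply, smul_eq_mul, dotProduct,
    Finset.sum_mul]
  apply Finset.sum_congr rfl
  intro i _
  ring

/-- a linear map `σ₀` of `W` with `m (u ⊗ x) ≡ μu ⊗ σ₀x` modulo `U ⊗ w0` for `x ⊥ w0` -/
theorem exists_sigma0 (hS : Setup J1 J2 Q) (ha : 2 ≤ a) {w0 w0' : Fin b → F} (hw0 : w0 ≠ 0)
    (h00 : bf J2 w0 w0' = 1) (m : GL (Fin a × Fin b) F) (hm : m ∈ Cfsg.isometryGroup F (⇑Q))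
    (hst : img m (Lk w0) = Lk w0) (μ : Matrix (Fin a) (Fin a) F)
    (hμ : ∀ u, act m (pur u w0) = pur (μ *ᵥ u) w0) (ν : F) (hν0 : ν ≠ 0)
    (hν : μ * adj J1 μ = ν • (1 : Matrix (Fin a) (Fin a) F))
    (h2 : ∀ (w : Fin b → F) (h : bf J2 w0 w = 0),
      m * gE J1 J2 hS.h2 1 w0 w h * m⁻¹ ∈ Cfsg.Geo.kroneckerSubgroup a b F) :
    ∃ σ₀ : (Fin b → F) →ₗ[F] (Fin b → F), σ₀ w0 = w0 ∧
      ∀ x : Fin b → F, bf J2 w0 x = 0 →
        ∀ u : Fin a → F, act m (pur u x) - pur (μ *ᵥ u) (σ₀ x) ∈ Lk (F := F) (a := a) w0 := by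
  have hμu : IsUnit μ := mu_injective hw0 m μ hμ
  obtain ⟨u₁, -, hu₁, -⟩ := exists_pair_ne hS.h1 ha
  have hμu₁ : μ *ᵥ u₁ ≠ 0 := mulVec_ne_zero_of_isUnit hμu hu₁
  obtain ⟨i, hi⟩ : ∃ i, (μ *ᵥ u₁) i ≠ 0 := by
    by_contra hall
    apply hμu₁
    funext i
    by_contra hi
    exact hall ⟨i, hi⟩
  set φ : Fin a → F := Pi.single i ((μ *ᵥ u₁) i)⁻¹ with hφ
  have hφ1 : (μ *ᵥ u₁) ⬝ᵥ φ = 1 := by
    rw [hφ, dotProduct_single, mul_inv_cancel₀ hi]
  let σ₀ : (Fin b → F) →ₗ[F] (Fin b → F) :=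
    (ctrU (b := b) φ) ∘ₗ ((act m).toLinearMap ∘ₗ purR (b := b) u₁)
  have hσ : ∀ x, σ₀ x = ctrU φ (act m (pur u₁ x)) := fun x => rfl
  refine ⟨σ₀, ?_, ?_⟩
  · rw [hσ, hμ, ctrU_pur, hφ1, one_smul]
  · intro x hx u
    obtain ⟨s, hs⟩ := exists_rel hS ha hw0 h00 m hm hst μ hμ ν hν0 hν x hx (h2 x hx)
    obtain ⟨c, hc⟩ := (mem_Lk_iff _ _).1 (hs u₁)
    have h1 : act m (pur u₁ x) = pur (μ *ᵥ u₁) s + pur c w0 := by
      rw [← hc]; abel
    have h3 : σ₀ x = s + (c ⬝ᵥ φ) • w0 := by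
      rw [hσ, h1, map_add, ctrU_pur, ctrU_pur, hφ1, one_smul]
    have h4 : act m (pur u x) - pur (μ *ᵥ u) (σ₀ x) =
        (act m (pur u x) - pur (μ *ᵥ u) s) - (c ⬝ᵥ φ) • pur (μ *ᵥ u) w0 := by
      rw [h3, pur_add_right, pur_smul_right]
      abel
    rw [h4]
    exact Submodule.sub_mem _ (hs u) (Submodule.smul_mem _ _ (pur_mem_Lk _ _))

/-- `y ↦ f(w, y)` as a linear functional -/
def bfL (J : Matrix (Fin b) (Fin b) F) (w : Fin b → F) : (Fin b → F) →ₗ[F] F where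
  toFun y := bf J w y
  map_add' y y' := bf_add_right J w y y'
  map_smul' c y := by
    simp only [bf_smul_right, RingHom.id_apply, smul_eq_mul]

/-- `y ↦ f(y, w)` as a linear functional -/
def bfR (J : Matrix (Fin b) (Fin b) F) (w : Fin b → F) : (Fin b → F) →ₗ[F] F where
  toFun y := bf J y w
  map_add' y y' := bf_add_left J y y' w
  map_smul' c y := by
    simp only [bf_smul_left, RingHom.id_apply, smul_eq_mul]

theorem form_aux (hJ2 : SympG J2) {w0 w0' : Fin b → F} (h00 : bf J2 w0 w0' = 1) (c : F)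
    (x' y' A A' : Fin b → F) (α β g g' : F) (hAA' : bf J2 A A' = c * bf J2 x' y')
    (hA : bf J2 A w0 = 0) (hA' : bf J2 A' w0 = 0) (hg : g = bf J2 x' w0' - bf J2 A w0')
    (hg' : g' = bf J2 y' w0' - bf J2 A' w0') :
    bf J2 (A + g • w0 + (c * α) • w0') (A' + g' • w0 + (c * β) • w0') =
      c * bf J2 (x' + α • w0') (y' + β • w0') := by
  simp only [bf_add_left, bf_add_right, bf_smul_left, bf_smul_right]
  rw [hJ2.skew w0 A', hJ2.skew w0' A', hJ2.skew w0' w0, hJ2.skew w0' y', hJ2.alt, hJ2.alt, h00, hA, hA', hAA',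
    hg, hg']
  ring

/-- extension of `σ₀` (defined modulo `w0` on `w0^⊥`) to a similitude of `W` fixing `w0` -/
theorem exists_Sigma (hJ2 : SympG J2) {w0 w0' : Fin b → F} (h00 : bf J2 w0 w0' = 1) (c : F)
    (σ₀ : (Fin b → F) →ₗ[F] (Fin b → F)) (h0 : σ₀ w0 = w0)
    (hperp : ∀ x, bf J2 w0 x = 0 → bf J2 (σ₀ x) w0 = 0)
    (hform : ∀ x y, bf J2 w0 x = 0 → bf J2 w0 y = 0 → bf J2 (σ₀ x) (σ₀ y) = c * bf J2 x y) :
    ∃ S : Matrix (Fin b) (Fin b) F, (∀ x y, bf J2 (S *ᵥ x) (S *ᵥ y) = c * bf J2 x y) ∧ S *ᵥ w0 = w0 ∧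
      ∀ x, bf J2 w0 x = 0 → ∃ d : F, S *ᵥ x = σ₀ x + d • w0 := by
  let p : (Fin b → F) →ₗ[F] (Fin b → F) := LinearMap.id - (bfL J2 w0).smulRight w0'
  let gL : (Fin b → F) →ₗ[F] F := (bfR J2 w0') ∘ₗ p - (bfR J2 w0') ∘ₗ (σ₀ ∘ₗ p)
  let SL : (Fin b → F) →ₗ[F] (Fin b → F) :=
    σ₀ ∘ₗ p + gL.smulRight w0 + (c • bfL J2 w0).smulRight w0'
  have hp : ∀ x, p x = x - bf J2 w0 x • w0' := fun x => rfl
  have hgL : ∀ x, gL x = bf J2 (p x) w0' - bf J2 (σ₀ (p x)) w0' := fun x => rfl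
  have hSL : ∀ x, SL x = σ₀ (p x) + gL x • w0 + (c * bf J2 w0 x) • w0' := fun x => rfl
  have hpp : ∀ x, bf J2 w0 (p x) = 0 := by
    intro x
    rw [hp, bf_sub_right, bf_smul_right, h00, mul_one, sub_self]
  have hpx : ∀ x, x = p x + bf J2 w0 x • w0' := by
    intro x
    rw [hp, sub_add_cancel]
  have hpfix : ∀ x, bf J2 w0 x = 0 → p x = x := by
    intro x hx
    rw [hp, hx, zero_smul, sub_zero]
  refine ⟨LinearMap.toMatrix' SL, ?_, ?_, ?_⟩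
  · intro x y
    rw [LinearMap.toMatrix'_mulVec, LinearMap.toMatrix'_mulVec, hSL, hSL]
    have h := form_aux hJ2 h00 c (p x) (p y) (σ₀ (p x)) (σ₀ (p y)) (bf J2 w0 x) (bf J2 w0 y) (gL x) (gL y)
      (hform _ _ (hpp x) (hpp y)) (hperp _ (hpp x)) (hperp _ (hpp y)) (hgL x) (hgL y)
    rw [← hpx x, ← hpx y] at h
    exact h
  · rw [LinearMap.toMatrix'_mulVec, hSL, hgL, hpfix w0 (hJ2.alt w0), h0, hJ2.alt w0, sub_self, zero_smul,
      mul_zero, zero_smul, add_zero, add_zero]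
  · intro x hx
    refine ⟨gL x, ?_⟩
    rw [LinearMap.toMatrix'_mulVec, hSL, hpfix x hx, hx, mul_zero, zero_smul, add_zero]

/-- **DECOMP**: an isometry stabilising `U ⊗ w0` and conjugating the root elements of `N0` in the radical into `N0` is the
product of an element of `N0 ∩ O(Q)` and an element of the radical -/
theorem decomp (hS : Setup J1 J2 Q) (ha : 2 ≤ a) (hb : 6 ≤ b) (w0 : Fin b → F) (hw0 : w0 ≠ 0)
    (m : GL (Fin a × Fin b) F) (hm : m ∈ Cfsg.isometryGroup F (⇑Q)) (hst : img m (Lk w0) = Lk w0)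
    (h1 : m * rootW J2 hS.h2 w0 1 * m⁻¹ ∈ Cfsg.Geo.kroneckerSubgroup a b F)
    (h2 : ∀ (w : Fin b → F) (h : bf J2 w0 w = 0),
      m * gE J1 J2 hS.h2 1 w0 w h * m⁻¹ ∈ Cfsg.Geo.kroneckerSubgroup a b F) :
    ∃ h : GL (Fin a × Fin b) F, h ∈ Cfsg.Geo.kroneckerSubgroup a b F ∧ h ∈ Cfsg.isometryGroup F (⇑Q) ∧
      InRad J2 w0 (h⁻¹ * m) := by
  obtain ⟨w0', h00⟩ := exists_partner hS.h2 w0 hw0
  obtain ⟨μ, hμ⟩ := exists_mu h00 m hst
  have hμu : IsUnit μ := mu_injective hw0 m μ hμ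
  obtain ⟨ν, hν0, hν, hν'⟩ := exists_nu hS ha hw0 m hm μ hμ h1
  have hsim := mu_simil hS.h1 μ ν hν'
  obtain ⟨σ₀, hσ0, hσrel⟩ := exists_sigma0 hS ha hw0 h00 m hm hst μ hμ ν hν0 hν h2
  have hperp : ∀ x, bf J2 w0 x = 0 → bf J2 (σ₀ x) w0 = 0 := fun x hx =>
    rel_perp hS ha m hm hst μ hμu x (σ₀ x) (hS.h2.eq_zero_comm hx) (hσrel x hx)
  have hform : ∀ x y, bf J2 w0 x = 0 → bf J2 w0 y = 0 → bf J2 (σ₀ x) (σ₀ y) = ν⁻¹ * bf J2 x y := by
    intro x y hx hy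
    have h := rel_form hS ha m hm μ ν hsim x (σ₀ x) y (σ₀ y) (hperp x hx) (hperp y hy) (hσrel x hx) (hσrel y hy)
    rw [← h, ← mul_assoc, inv_mul_cancel₀ hν0, one_mul]
  obtain ⟨S, hSsim, hS0, hSrel⟩ := exists_Sigma hS.h2 h00 ν⁻¹ σ₀ hσ0 hperp hform
  have hSu : IsUnit S := by
    rw [← Matrix.mulVec_injective_iff_isUnit]
    intro x y hxy
    rw [← sub_eq_zero]
    apply hS.h2.nondeg
    intro z
    have h := hSsim (x - y) z
    rw [Matrix.mulVec_sub, hxy, sub_self, bf_zero_left] at h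
    have h' : ν⁻¹ * bf J2 (x - y) z = 0 := h.symm
    rcases mul_eq_zero.1 h' with h'' | h''
    · exact absurd h'' (inv_ne_zero hν0)
    · exact h''
  have hA : (hμu.unit : Matrix (Fin a) (Fin a) F) = μ := hμu.unit_spec
  have hB : (hSu.unit : Matrix (Fin b) (Fin b) F) = S := hSu.unit_spec
  have hact : ∀ (u : Fin a → F) (y : Fin b → F),
      act (kronGL hμu.unit hSu.unit) (pur u y) = pur (μ *ᵥ u) (S *ᵥ y) := by
    intro u y
    rw [act_kronGL, hA, hB]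
  have hinvL : ∀ l ∈ Lk (F := F) (a := a) w0, act (kronGL hμu.unit hSu.unit)⁻¹ l ∈ Lk (F := F) (a := a) w0 := by
    intro l hl
    obtain ⟨u, rfl⟩ := (mem_Lk_iff _ _).1 hl
    have h3 : μ *ᵥ (((hμu.unit)⁻¹ : GL (Fin a) F) : Matrix (Fin a) (Fin a) F) *ᵥ u = u := by
      rw [Matrix.mulVec_mulVec, hμu.mul_val_inv, Matrix.one_mulVec]
    have h4 : act (kronGL hμu.unit hSu.unit)
        (pur ((((hμu.unit)⁻¹ : GL (Fin a) F) : Matrix (Fin a) (Fin a) F) *ᵥ u) w0) = pur u w0 := by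
      rw [hact, h3, hS0]
    rw [← h4, act_inv_act]
    exact pur_mem_Lk _ _
  refine ⟨kronGL hμu.unit hSu.unit, Cfsg.Agent.Lib.Helper23.S5637T3b.kronGL_mem_kron _ _,
    kronGL_mem_iso hS _ _ ν hν0 ?_ ?_, ?_, ?_⟩
  · intro x y
    rw [hA]
    exact hsim x y
  · intro x y
    rw [hB]
    exact hSsim x y
  · intro x hx
    obtain ⟨u, rfl⟩ := (mem_Lk_iff _ _).1 hx
    have h4 : act (kronGL hμu.unit hSu.unit) (pur u w0) = act m (pur u w0) := by
      rw [hact, hS0, hμ]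
    rw [act_mul, ← h4, act_inv_act]
  · intro x hx
    have hkey : ∀ v : Fin a × Fin b → F,
        act m (v + pur (ctr (J2 *ᵥ w0) v) w0') - act (kronGL hμu.unit hSu.unit) (v + pur (ctr (J2 *ᵥ w0) v) w0') ∈
          Lk (F := F) (a := a) w0 := by
      apply pur_induction
      · simp
      · intro v v' hv hv'
        have h : act m (v + v' + pur (ctr (J2 *ᵥ w0) (v + v')) w0') -
            act (kronGL hμu.unit hSu.unit) (v + v' + pur (ctr (J2 *ᵥ w0) (v + v')) w0') =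
            (act m (v + pur (ctr (J2 *ᵥ w0) v) w0') -
              act (kronGL hμu.unit hSu.unit) (v + pur (ctr (J2 *ᵥ w0) v) w0')) +
            (act m (v' + pur (ctr (J2 *ᵥ w0) v') w0') -
              act (kronGL hμu.unit hSu.unit) (v' + pur (ctr (J2 *ᵥ w0) v') w0')) := by
          rw [map_add (ctr (J2 *ᵥ w0)), pur_add_left]
          simp only [map_add]
          abel
        rw [h]
        exact Submodule.add_mem _ hv hv'
      · intro u y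
        have hy' : bf J2 w0 (y + bf J2 y w0 • w0') = 0 := by
          rw [bf_add_right, bf_smul_right, h00, mul_one, hS.h2.skew w0 y, neg_add_cancel]
        have h5 : pur u y + pur (ctr (J2 *ᵥ w0) (pur u y)) w0' = pur u (y + bf J2 y w0 • w0') := by
          rw [ctr_J_pur, pur_smul_left, pur_add_right, pur_smul_right]
        obtain ⟨d, hd⟩ := hSrel _ hy'
        rw [h5, hact, hd]
        have h6 : act m (pur u (y + bf J2 y w0 • w0')) - pur (μ *ᵥ u) (σ₀ (y + bf J2 y w0 • w0') + d • w0) =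
            (act m (pur u (y + bf J2 y w0 • w0')) - pur (μ *ᵥ u) (σ₀ (y + bf J2 y w0 • w0'))) -
              d • pur (μ *ᵥ u) w0 := by
          rw [pur_add_right (μ *ᵥ u) (σ₀ (y + bf J2 y w0 • w0')) (d • w0), pur_smul_right d (μ *ᵥ u) w0]
          abel
        rw [h6]
        exact Submodule.sub_mem _ (hσrel _ hy' u) (Submodule.smul_mem _ _ (pur_mem_Lk _ _))
    have h7 := hkey x
    rw [(mem_Pk_iff w0 x).1 hx, pur_zero_left, add_zero] at h7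
    have h8 : act ((kronGL hμu.unit hSu.unit)⁻¹ * m) x - x =
        act (kronGL hμu.unit hSu.unit)⁻¹ (act m x - act (kronGL hμu.unit hSu.unit) x) := by
      rw [map_sub, act_inv_act, act_mul]
    rw [h8]
    exact hinvL _ h7

end Cfsg.Agent.Lib.Helper21.S5704DECOMP
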