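import Mathlib
import Cfsg.Agent.Lib.Helper10.FrobComplement
import Cfsg.Agent.Lib.Helper10.FrobFpf
import Cfsg.Agent.Lib.Helper10.FittingHall
import Cfsg.Agent.Lib.Helper20.FrobQuot

/-!
# Helper21 library: tools for Frobenius actions

* `exists_mem_center_orderOf_eq_prime`: a finite nilpotent group of order divisible by `p` has a
  central element of order `p`.
* `isCyclic_of_comm_fpf`: a commutative group acting coprimely and fixed-point-freely on a
  nontrivial subgroup is cyclic.
* `exists_fixed_of_frobenius`: Frobenius group `M ⋊ X` acting on a nontrivial finite abelian group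
  `V` of order prime to `|M|`, `M` without fixed points: then `X` has a nontrivial fixed point.
-/

set_option autoImplicit false

namespace Cfsg.Agent.Lib.Helper21.FrobTools

open Cfsg.Agent.Lib.Helper10

/-- a finite nilpotent group of order divisible by `p` has a central element of order `p` -/
theorem exists_mem_center_orderOf_eq_prime {H : Type*} [Group H] [Finite H]
    [hH : Group.IsNilpotent H] (p : ℕ) [Fact p.Prime] (hp : p ∣ Nat.card H) :
    ∃ z ∈ Subgroup.center H, orderOf z = p := by
  have hpp : p.Prime := Fact.out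
  obtain ⟨P⟩ : Nonempty (Sylow p H) := inferInstance
  have hPcard : Nat.card (P : Subgroup H) = p ^ (Nat.card H).factorization p := P.card_eq_multiplicity
  have hfac : 1 ≤ (Nat.card H).factorization p :=
    (hpp.pow_dvd_iff_le_factorization Nat.card_pos.ne').mp (by simpa using hp)
  have hPG : IsPGroup p (P : Subgroup H) := P.isPGroup'
  haveI hPnt : Nontrivial (P : Subgroup H) := by
    rw [← Finite.one_lt_card_iff_nontrivial, hPcard]
    exact Nat.one_lt_pow (by omega) hpp.one_lt
  haveI hcn : Nontrivial (Subgroup.center (P : Subgroup H)) := hPG.center_nontrivial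
  obtain ⟨⟨z0, hz0⟩, hz01⟩ := exists_ne (1 : Subgroup.center (P : Subgroup H))
  have hz01' : z0 ≠ 1 := fun h => hz01 (Subtype.ext h)
  obtain ⟨z, hzz0, hzr, hz1⟩ := exists_orderOf_eq_prime_zpowers hPG z0 hz01'
  have hzc : z ∈ Subgroup.center (P : Subgroup H) := (Subgroup.zpowers_le.mpr hz0) hzz0
  have hoz : orderOf z = p := orderOf_eq_prime hzr hz1
  have hozH : orderOf (z : H) = p := by rw [Subgroup.orderOf_coe, hoz]
  refine ⟨(z : H), ?_, hozH⟩
  have hcent : Subgroup.centralizer {(z : H)} = ⊤ := by
    apply Cfsg.Agent.Lib.Helper20.FrobQuot.eq_of_forall_prime_pow_dvd le_top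
    intro r hr
    haveI := Fact.mk hr
    rw [Subgroup.card_top]
    by_cases hrp : r = p
    · subst hrp
      rw [← hPcard]
      apply Subgroup.card_dvd_of_le
      intro x hx
      rw [Subgroup.mem_centralizer_singleton_iff]
      have := (Subgroup.mem_center_iff.mp hzc) ⟨x, hx⟩
      exact congrArg Subtype.val this
    · obtain ⟨R⟩ : Nonempty (Sylow r H) := inferInstance
      rw [← R.card_eq_multiplicity]
      apply Subgroup.card_dvd_of_le
      intro x hx
      rw [Subgroup.mem_centralizer_singleton_iff]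
      obtain ⟨k, hk⟩ := (IsPGroup.iff_orderOf.mp R.isPGroup') ⟨x, hx⟩
      have hox : orderOf x = r ^ k := by
        rw [← hk, ← Subgroup.orderOf_coe]
      have hcop : (orderOf x).Coprime (orderOf (z : H)) := by
        rw [hox, hozH]
        exact Nat.Coprime.pow_left k ((Nat.coprime_primes hr hpp).mpr hrp)
      exact (commute_of_coprime_orderOf H x (z : H) hcop).eq
  rw [Subgroup.mem_center_iff]
  intro g
  have hg : g ∈ Subgroup.centralizer {(z : H)} := by rw [hcent]; trivial
  rw [Subgroup.mem_centralizer_singleton_iff] at hg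
  exact hg

/-- a commutative group acting coprimely and fixed-point-freely on a nontrivial subgroup is
cyclic -/
theorem isCyclic_of_comm_fpf {G : Type*} [Group G] [Finite G] (E K : Subgroup G)
    (hcomm : ∀ a ∈ E, ∀ b ∈ E, a * b = b * a) (hK : K ≠ ⊥)
    (hEK : E ≤ Subgroup.normalizer (K : Set G)) (hcop : (Nat.card ↥E).Coprime (Nat.card ↥K))
    (hfpf : ∀ e ∈ E, e ≠ 1 → ∀ k ∈ K, e * k = k * e → k = 1) : IsCyclic ↥E := by
  have hnil : Group.IsNilpotent ↥E := by
    letI : CommGroup ↥E :=
      { (inferInstance : Group ↥E) with mul_comm := fun a b => Subtype.ext (hcomm a a.2 b b.2) }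
    exact CommGroup.isNilpotent
  apply isCyclic_of_isNilpotent_of_sylow_cyclic hnil
  intro r hr S
  have hrp : r.Prime := Fact.out
  by_cases hrK : r ∣ Nat.card ↥K
  · have h1 : Nat.card ↥(S : Subgroup ↥E) = 1 := by
      obtain ⟨k, hk⟩ := IsPGroup.iff_card.mp S.isPGroup'
      have h3 : Nat.card ↥(S : Subgroup ↥E) ∣ Nat.card ↥E := Subgroup.card_subgroup_dvd_card _
      rw [hk] at h3 ⊢
      rcases Nat.eq_zero_or_pos k with h0 | h0
      · rw [h0, pow_zero]
      · exfalso
        have h4 : r ∣ Nat.card ↥E := (dvd_pow_self r h0.ne').trans h3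
        have h5 := Nat.dvd_gcd h4 hrK
        rw [hcop.gcd_eq_one] at h5
        exact hrp.one_lt.ne' (Nat.dvd_one.mp h5)
    have : Subsingleton ↥(S : Subgroup ↥E) := (Nat.card_eq_one_iff_unique.mp h1).1
    exact isCyclic_of_subsingleton
  · have hSp : IsPGroup r ↥((S : Subgroup ↥E).map E.subtype) := S.isPGroup'.map _
    have hSE : (S : Subgroup ↥E).map E.subtype ≤ E := Subgroup.map_subtype_le _
    have e := (S : Subgroup ↥E).equivMapOfInjective E.subtype E.subtype_injective
    have hu := uniqueOrderP_of_fpf ((S : Subgroup ↥E).map E.subtype) K hSp hK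
      (hSE.trans hEK) hrK (fun s hs hs1 => hfpf s (hSE hs) hs1)
    have hc : IsCyclic ↥((S : Subgroup ↥E).map E.subtype) :=
      isCyclic_of_comm_of_uniqueOrderP hSp
        (fun a b => Subtype.ext (hcomm a (hSE a.2) b (hSE b.2))) hu
    exact isCyclic_of_surjective e.symm.toMonoidHom e.symm.surjective

/-- **fixed points of Frobenius complements**: if the Frobenius group `M ⋊ X` acts on a nontrivial
finite abelian group `V` of order prime to `|M|` and `M` has no nontrivial fixed point, then `X`
has one. -/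
theorem exists_fixed_of_frobenius {L V : Type*} [Group L] [CommGroup V] [Finite V] [Nontrivial V]
    (ρ : L →* MulAut V) (M X : Subgroup L) [Finite M] [Finite X]
    (hXM : X ≤ Subgroup.normalizer (M : Set L))
    (hfrob : ∀ g ∈ X, g ≠ 1 → ∀ m ∈ M, m * g = g * m → m = 1)
    (hM : ∀ v : V, (∀ m ∈ M, ρ m v = v) → v = 1)
    (hcop : (Nat.card V).Coprime (Nat.card M)) :
    ∃ v : V, v ≠ 1 ∧ ∀ g ∈ X, ρ g v = v := by
  by_contra hne
  push Not at hne
  have hX : ∀ v : V, (∀ g ∈ X, ρ g v = v) → v = 1 := by
    intro v hv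
    by_contra hv1
    obtain ⟨g, hg, hgv⟩ := hne v hv1
    exact hgv (hv g hg)
  obtain ⟨v, hv⟩ := exists_ne (1 : V)
  have h1 := pow_card_eq_one_of_frobenius_fpf ρ M X hXM hfrob hM hX v
  have h2 : v ^ Nat.card V = 1 := pow_card_eq_one'
  have h3 : orderOf v ∣ Nat.gcd (Nat.card V) (Nat.card M) :=
    Nat.dvd_gcd (orderOf_dvd_of_pow_eq_one h2) (orderOf_dvd_of_pow_eq_one h1)
  rw [hcop.gcd_eq_one, Nat.dvd_one, orderOf_eq_one_iff] at h3
  exact hv h3

end Cfsg.Agent.Lib.Helper21.FrobTools
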