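import Mathlib

/-!
# Counting lemma for the Brauer–Suzuki–Wall count (helper21)

If `x` has odd order, `C_G(x) = ⟨x⟩` and the involution `t` inverts `x`, then there are exactly
`orderOf x` pairs `(s, s')` of conjugates of `t` with `s * s' = x`.
-/

set_option autoImplicit false

namespace Cfsg.Agent.Lib.Helper21.BSWCount

section B

variable {G : Type*} [Group G]

theorem conj_inv_of_mem_zpowers {t x : G} (htx : t * x * t⁻¹ = x⁻¹) {y : G}
    (hy : y ∈ Subgroup.zpowers x) : t * y * t⁻¹ = y⁻¹ := by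
  obtain ⟨k, rfl⟩ := Subgroup.mem_zpowers_iff.1 hy
  rw [← conj_zpow, htx, inv_zpow]

theorem exists_sqrt_of_mem_zpowers {x : G} (hodd : Odd (orderOf x)) {y : G}
    (hy : y ∈ Subgroup.zpowers x) : ∃ z ∈ Subgroup.zpowers x, z * z = y := by
  obtain ⟨k, hk⟩ := hodd
  have hym : y ^ orderOf x = 1 := by
    obtain ⟨j, rfl⟩ := Subgroup.mem_zpowers_iff.1 hy
    rw [← zpow_natCast, ← zpow_mul, mul_comm, zpow_mul, zpow_natCast, pow_orderOf_eq_one, one_zpow]
  refine ⟨y ^ (k + 1), Subgroup.pow_mem _ hy _, ?_⟩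
  rw [← pow_add]
  have : k + 1 + (k + 1) = orderOf x + 1 := by omega
  rw [this, pow_succ, hym, one_mul]

theorem isConj_mul_of_mem_zpowers {t x : G} (hodd : Odd (orderOf x))
    (htx : t * x * t⁻¹ = x⁻¹) {y : G} (hy : y ∈ Subgroup.zpowers x) : IsConj t (t * y) := by
  obtain ⟨z, hz, hzz⟩ := exists_sqrt_of_mem_zpowers hodd hy
  have h1 := conj_inv_of_mem_zpowers htx hz
  rw [isConj_iff]
  refine ⟨z⁻¹, ?_⟩
  -- z⁻¹ t z = t (t⁻¹ z⁻¹ t) z = t z z
  have h2 : t⁻¹ * z⁻¹ * t = z := by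
    have : z⁻¹ = t * z * t⁻¹ := h1.symm
    rw [this]; group
  calc z⁻¹ * t * z⁻¹⁻¹ = t * (t⁻¹ * z⁻¹ * t) * z := by group
    _ = t * z * z := by rw [h2]
    _ = t * y := by rw [mul_assoc, hzz]

/-- The counting lemma. -/
theorem card_pairs_eq_orderOf (t x : G) (hodd : Odd (orderOf x))
    (hC : Subgroup.centralizer ({x} : Set G) = Subgroup.zpowers x)
    (ht : t * t = 1) (htx : t * x * t⁻¹ = x⁻¹) :
    Nat.card {s : G × G // IsConj t s.1 ∧ IsConj t s.2 ∧ s.1 * s.2 = x} = orderOf x := by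
  have htinv : t⁻¹ = t := inv_eq_of_mul_eq_one_left ht
  have hxmem : x ∈ Subgroup.zpowers x := Subgroup.mem_zpowers x
  rw [← Nat.card_zpowers x]
  symm
  refine Nat.card_congr
    { toFun := fun y => ⟨(t * (y : G), (t * (y : G))⁻¹ * x), ?_, ?_, ?_⟩
      invFun := fun s => ⟨t⁻¹ * s.1.1, ?_⟩
      left_inv := ?_
      right_inv := ?_ }
  · exact isConj_mul_of_mem_zpowers hodd htx y.2
  · -- (t y)⁻¹ x = t (y x) up to the involution property
    have hy := y.2
    have hinv : (t * (y : G)) * (t * (y : G)) = 1 := by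
      have h1 := conj_inv_of_mem_zpowers htx hy
      calc t * (y : G) * (t * (y : G)) = (t * (y : G) * t⁻¹) * (t * t) * (y : G) := by group
        _ = 1 := by rw [h1, ht]; group
    have h2 : (t * (y : G))⁻¹ = t * (y : G) := inv_eq_of_mul_eq_one_left hinv
    show IsConj t ((t * (y : G))⁻¹ * x)
    rw [h2, mul_assoc]
    exact isConj_mul_of_mem_zpowers hodd htx (Subgroup.mul_mem _ hy hxmem)
  · show t * (y : G) * ((t * (y : G))⁻¹ * x) = x
    group
  · obtain ⟨⟨a, b⟩, ha, hb, hab⟩ := s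
    show t⁻¹ * a ∈ Subgroup.zpowers x
    rw [← hC, Subgroup.mem_centralizer_iff]
    intro z hz
    rw [Set.mem_singleton_iff] at hz
    subst hz
    -- a and b are involutions
    have hinvol : ∀ c : G, IsConj t c → c * c = 1 := by
      intro c hc
      obtain ⟨g, hg⟩ := isConj_iff.1 hc
      rw [← hg]
      calc g * t * g⁻¹ * (g * t * g⁻¹) = g * (t * t) * g⁻¹ := by group
        _ = 1 := by rw [ht]; group
    have haa := hinvol a ha
    have hbb := hinvol b hb
    have hainv : a⁻¹ = a := inv_eq_of_mul_eq_one_left haa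
    have hbinv : b⁻¹ = b := inv_eq_of_mul_eq_one_left hbb
    -- a z a⁻¹ = z⁻¹
    have h1 : a * z * a⁻¹ = z⁻¹ := by
      rw [← hab, mul_inv_rev, hainv, hbinv]
      calc a * (a * b) * a = (a * a) * b * a := by group
        _ = b * a := by rw [haa, one_mul]
    -- t⁻¹ z t = z⁻¹ as well
    have h2 : t⁻¹ * z⁻¹ * t = z := by
      have : z⁻¹ = t * z * t⁻¹ := htx.symm
      rw [this]; group
    show z * (t⁻¹ * a) = t⁻¹ * a * z
    have h3 : a * z = z⁻¹ * a := by
      have := congrArg (· * a) h1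
      simpa [mul_assoc] using this
    calc z * (t⁻¹ * a) = (t⁻¹ * z⁻¹ * t) * (t⁻¹ * a) := by rw [h2]
      _ = t⁻¹ * (z⁻¹ * a) := by group
      _ = t⁻¹ * (a * z) := by rw [h3]
      _ = t⁻¹ * a * z := by group
  · intro y
    apply Subtype.ext
    show t⁻¹ * (t * (y : G)) = y
    group
  · rintro ⟨⟨a, b⟩, ha, hb, hab⟩
    apply Subtype.ext
    show (t * (t⁻¹ * a), (t * (t⁻¹ * a))⁻¹ * x) = (a, b)
    have h1 : t * (t⁻¹ * a) = a := by group
    rw [h1]
    congr 1
    rw [← hab]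
    group

end B

end Cfsg.Agent.Lib.Helper21.BSWCount
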