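import Cfsg.Agent.Lib.Helper21.BSWCountA
import Cfsg.Agent.Lib.Helper21.BSWCountB

/-!
# The Brauer–Suzuki–Wall identity and the local set-up (helper21)
-/

set_option autoImplicit false

namespace Cfsg.Agent.Lib.Helper21.BSWCount

open Cfsg
open Cfsg.Agent.Lib.Helper2

section E

variable {G : Type*} [Group G]

open Classical in
/-- **The identity** `m |C(t)|² = |G| ∑_χ χ(t)² χ(x⁻¹)/χ(1)` for `x` of odd order `m` with
`C(x) = ⟨x⟩`, inverted by the involution `t`. -/
theorem bsw_identity [Fintype G] [Fintype (IrrCharacter G)] (t x : G) (hodd : Odd (orderOf x))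
    (hC : Subgroup.centralizer ({x} : Set G) = Subgroup.zpowers x)
    (ht : t * t = 1) (htx : t * x * t⁻¹ = x⁻¹) :
    (orderOf x : ℂ) * (Nat.card (Subgroup.centralizer ({t} : Set G)) : ℂ) ^ 2
      = (Nat.card G : ℂ) * ∑ χ : IrrCharacter G,
          (χ : G → ℂ) t * (χ : G → ℂ) t * (χ : G → ℂ) x⁻¹ / (χ : G → ℂ) 1 := by
  have hA := card_pairs_mul_card t x
  rw [card_pairs_eq_orderOf t x hodd hC ht htx] at hA
  have hcard := card_centralizer_mul_card_conj t
  have hK : Nat.card {s : G // IsConj t s} = (Finset.univ.filter (fun s : G => IsConj t s)).card := by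
    rw [Nat.card_eq_fintype_card, Fintype.card_subtype]
  rw [hK] at hcard
  have hcardC : (Nat.card (Subgroup.centralizer ({t} : Set G)) : ℂ)
      * ((Finset.univ.filter (fun s : G => IsConj t s)).card : ℂ) = (Nat.card G : ℂ) := by
    exact_mod_cast hcard
  have hGne : (Nat.card G : ℂ) ≠ 0 := by
    have : 0 < Nat.card G := Nat.card_pos
    exact_mod_cast this.ne'
  set S := ∑ χ : IrrCharacter G,
    (χ : G → ℂ) t * (χ : G → ℂ) t * (χ : G → ℂ) x⁻¹ / (χ : G → ℂ) 1 with hS
  set c := (Nat.card (Subgroup.centralizer ({t} : Set G)) : ℂ) with hc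
  set k := ((Finset.univ.filter (fun s : G => IsConj t s)).card : ℂ) with hk
  -- m * |G| = k² S,  c k = |G|
  have h1 : (orderOf x : ℂ) * c ^ 2 * (Nat.card G : ℂ)
      = (Nat.card G : ℂ) * S * (Nat.card G : ℂ) := by
    have : (orderOf x : ℂ) * c ^ 2 * (Nat.card G : ℂ)
        = c ^ 2 * ((orderOf x : ℂ) * (Nat.card G : ℂ)) := by ring
    rw [this, hA, ← hcardC]; ring
  exact mul_right_cancel₀ hGne h1

/-- **Local set-up**: a subgroup `P` of odd prime order with `C(P) = P` and `|N(P)|` even. -/
theorem exists_local_setup [Finite G] (P : Subgroup G) {p : ℕ} (hp : p.Prime) (hp2 : p ≠ 2)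
    (hP : Nat.card P = p) (hC : Subgroup.centralizer (P : Set G) = P)
    (heven : 2 ∣ Nat.card (Subgroup.normalizer (P : Set G))) :
    ∃ x t : G, orderOf x = p ∧ Subgroup.zpowers x = P ∧
      Subgroup.centralizer ({x} : Set G) = Subgroup.zpowers x ∧
      t ∈ Subgroup.normalizer (P : Set G) ∧ t * t = 1 ∧ t ≠ 1 ∧ t * x * t⁻¹ = x⁻¹ := by
  classical
  haveI : Fact p.Prime := ⟨hp⟩
  -- a generator
  have hPne : ∃ x : G, x ∈ P ∧ x ≠ 1 := by
    by_contra h
    push Not at h
    have : P = ⊥ := by
      rw [eq_bot_iff]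
      intro y hy
      rw [Subgroup.mem_bot]
      exact h y hy
    rw [this, Subgroup.card_bot] at hP
    exact hp.one_lt.ne' hP.symm
  obtain ⟨x, hxP, hx1⟩ := hPne
  have hzle : Subgroup.zpowers x ≤ P := by
    rw [Subgroup.zpowers_le]; exact hxP
  have hord : orderOf x = p := by
    have h1 : orderOf x ∣ p := by
      rw [← hP, ← Nat.card_zpowers]
      exact Subgroup.card_dvd_of_le hzle
    rcases (Nat.dvd_prime hp).1 h1 with h | h
    · exact absurd (orderOf_eq_one_iff.1 h) hx1
    · exact h
  have hz : Subgroup.zpowers x = P := by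
    apply Subgroup.eq_of_le_of_card_ge hzle
    rw [Nat.card_zpowers, hord, hP]
  have hCx : Subgroup.centralizer ({x} : Set G) = Subgroup.zpowers x := by
    rw [hz, ← hC, ← hz]
    ext g
    rw [Subgroup.mem_centralizer_iff, Subgroup.mem_centralizer_iff]
    constructor
    · intro h y hy
      obtain ⟨k, rfl⟩ := Subgroup.mem_zpowers_iff.1 hy
      have h1 : x * g = g * x := h x (Set.mem_singleton x)
      exact ((Commute.zpow_left (show Commute x g from h1) k).eq)
    · intro h y hy
      rw [Set.mem_singleton_iff] at hy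
      subst hy
      exact h y (Subgroup.mem_zpowers y)
  -- an involution of the normaliser
  haveI : Fact (Nat.Prime 2) := ⟨Nat.prime_two⟩
  obtain ⟨t', ht'⟩ := exists_prime_orderOf_dvd_card' (G := Subgroup.normalizer (P : Set G)) 2 heven
  set t : G := (t' : G) with htdef
  have htord : orderOf t = 2 := by
    rw [htdef, Subgroup.orderOf_coe]; exact ht'
  have htt : t * t = 1 := by
    rw [← pow_two, ← htord]; exact pow_orderOf_eq_one t
  have ht1 : t ≠ 1 := by
    intro h
    rw [h, orderOf_one] at htord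
    omega
  have htN : t ∈ Subgroup.normalizer (P : Set G) := t'.2
  have htinv : t⁻¹ = t := inv_eq_of_mul_eq_one_left htt
  -- t ∉ P
  have hpodd : Odd p := hp.odd_of_ne_two hp2
  have htP : t ∉ P := by
    rw [← hz]
    exact fun h => by
      obtain ⟨k, hk⟩ := (hord ▸ hpodd : Odd (orderOf x))
      have h1 : t ^ orderOf x = 1 := by
        obtain ⟨j, hj⟩ := Subgroup.mem_zpowers_iff.1 h
        rw [← hj, ← zpow_natCast, ← zpow_mul, mul_comm, zpow_mul, zpow_natCast,
          pow_orderOf_eq_one, one_zpow]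
      rw [hk, pow_succ, pow_mul, pow_two, htt, one_pow, one_mul] at h1
      exact ht1 h1
  -- y = t x t⁻¹ ∈ P
  have hy : t * x * t⁻¹ ∈ P := by
    have := (Subgroup.mem_normalizer_iff.1 htN x).1 hxP
    exact this
  set y := t * x * t⁻¹ with hydef
  -- z = x y is centralised by t
  have hxy : x * y = y * x := by
    have h1 : x ∈ Subgroup.zpowers x := Subgroup.mem_zpowers x
    have h2 : y ∈ Subgroup.zpowers x := by rw [hz]; exact hy
    obtain ⟨k, hk⟩ := Subgroup.mem_zpowers_iff.1 h2
    rw [← hk]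
    exact ((Commute.refl x).zpow_right k).eq
  have hzt : t * (x * y) * t⁻¹ = x * y := by
    have : t * (x * y) * t⁻¹ = (t * x * t⁻¹) * (t * y * t⁻¹) := by group
    rw [this]
    have h2 : t * y * t⁻¹ = x := by
      rw [hydef]
      calc t * (t * x * t⁻¹) * t⁻¹ = (t * t) * x * (t * t)⁻¹ := by group
        _ = x := by rw [htt]; group
    rw [h2, ← hydef, hxy]
  refine ⟨x, t, hord, hz, hCx, htN, htt, ht1, ?_⟩
  by_contra hne
  have hz1 : x * y ≠ 1 := by
    intro h
    apply hne
    exact (eq_inv_of_mul_eq_one_right h)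
  -- then ⟨x y⟩ = P and t centralises P
  have hxyP : x * y ∈ P := Subgroup.mul_mem _ hxP hy
  have hzle' : Subgroup.zpowers (x * y) ≤ P := by
    rw [Subgroup.zpowers_le]; exact hxyP
  have hord' : orderOf (x * y) = p := by
    have h1 : orderOf (x * y) ∣ p := by
      rw [← hP, ← Nat.card_zpowers]
      exact Subgroup.card_dvd_of_le hzle'
    rcases (Nat.dvd_prime hp).1 h1 with h | h
    · exact absurd (orderOf_eq_one_iff.1 h) hz1
    · exact h
  have hz' : Subgroup.zpowers (x * y) = P := by
    apply Subgroup.eq_of_le_of_card_ge hzle'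
    rw [Nat.card_zpowers, hord', hP]
  apply htP
  rw [← hC, Subgroup.mem_centralizer_iff]
  intro w hw
  have hw' : w ∈ Subgroup.zpowers (x * y) := by rw [hz']; exact hw
  obtain ⟨k, rfl⟩ := Subgroup.mem_zpowers_iff.1 hw'
  have hcomm : Commute (x * y) t := by
    show x * y * t = t * (x * y)
    have := congrArg (· * t) hzt
    simp only [inv_mul_cancel_right] at this
    exact this.symm
  exact (hcomm.zpow_left k).eq

end E

end Cfsg.Agent.Lib.Helper21.BSWCount
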