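import Mathlib
import Cfsg.Prelude.Def_Characters

/-!
# `GL(2,3)`: class labels and the tables used for S0197 (helper21 library)

Class labels (`Fin 8`): `0 : 1`, `1 : -1` (`= t`), `2 : u` (non-central involutions, 12),
`3 : i` (order 4, 6 elements), `4 : x` (order 3, 8), `5 : -x` (order 6, 8),
`6 : g` (order 8, trace 1, 6 elements), `7 : g⁵ = -g` (order 8, trace 2, 6 elements).
-/

set_option autoImplicit false

namespace Cfsg.Agent.Lib.Helper21.GL23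

open scoped ComplexConjugate

/-- `GL(2,3)`. -/
abbrev Gam : Type := Matrix.GeneralLinearGroup (Fin 2) (ZMod 3)

/-- Class label of an element of `GL(2,3)`. -/
def cls (M : Gam) : Fin 8 :=
  if M = 1 then 0 else if M = -1 then 1 else
  if (M : Matrix (Fin 2) (Fin 2) (ZMod 3)).det = 1 then
    (if (M : Matrix (Fin 2) (Fin 2) (ZMod 3)).trace = 0 then 3
      else if (M : Matrix (Fin 2) (Fin 2) (ZMod 3)).trace = 2 then 4 else 5)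
  else
    (if (M : Matrix (Fin 2) (Fin 2) (ZMod 3)).trace = 0 then 2
      else if (M : Matrix (Fin 2) (Fin 2) (ZMod 3)).trace = 1 then 6 else 7)

/-- Class sizes. -/
def csize : Fin 8 → ℕ := ![1, 1, 12, 6, 8, 8, 6, 6]

/-- The classes making up the TI-set `𝒟 = {h : -1 ∈ ⟨h⟩}`. -/
def inD (c : Fin 8) : Prop := c = 1 ∨ c = 3 ∨ c = 5 ∨ c = 6 ∨ c = 7

instance : DecidablePred inD := fun c => by unfold inD; infer_instance

/-- The five generalized characters vanishing off `𝒟` (as class tables); `α = √-2`. -/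
def bt (α : ℂ) : Fin 5 → Fin 8 → ℂ :=
  ![![0, -4, 0, -2, 0, 2, α, -α],
    ![0, -4, 0, -2, 0, 2, -α, α],
    ![0, 0, 0, 4, 0, 0, 2, 2],
    ![0, 0, 0, 4, 0, 0, -2, -2],
    ![0, 8, 0, 0, 0, 2, 2, 2]]

/-- The character table of `GL(2,3)` (rows `1, ρ₂, ψ, ψ̄, ρ₃, σ, ρ₃', ψ₄`). -/
def mt (α : ℂ) : Fin 8 → Fin 8 → ℂ :=
  ![![1, 1, 1, 1, 1, 1, 1, 1],
    ![2, 2, 0, 2, -1, -1, 0, 0],
    ![2, -2, 0, 0, -1, 1, α, -α],
    ![2, -2, 0, 0, -1, 1, -α, α],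
    ![3, 3, 1, -1, 0, 0, -1, -1],
    ![1, 1, -1, 1, 1, 1, -1, -1],
    ![3, 3, -1, -1, 0, 0, 1, 1],
    ![4, -4, 0, 0, 1, -1, 0, 0]]

/-- `wt j k = ⟨β_k, μ_j⟩`. -/
def wt : Fin 8 → Fin 5 → ℤ :=
  ![![0, 0, 1, 0, 1],
    ![-1, -1, 1, 1, 0],
    ![1, 0, 0, 0, 0],
    ![0, 1, 0, 0, 0],
    ![0, 0, -1, 0, 0],
    ![0, 0, 0, 1, 0],
    ![0, 0, 0, -1, 1],
    ![0, 0, 0, 0, -1]]

/-- Gram matrix of `β₁, β₂, γ₃, γ₄, γ₅`. -/
def gram : Fin 5 → Fin 5 → ℤ :=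
  ![![2, 1, -1, -1, 0],
    ![1, 2, -1, -1, 0],
    ![-1, -1, 3, 1, 1],
    ![-1, -1, 1, 3, -1],
    ![0, 0, 1, -1, 3]]

/-- A generator of a cyclic subgroup of order 8 (class 6); `c8^k` has class `0,6,3,6,1,7,3,7`. -/
def c8 : Gam := Matrix.GeneralLinearGroup.mkOfDetNeZero !![0, 1; 1, 1] (by decide)

/-- A generator of a cyclic subgroup of order 6 (class 5); `c6^k` has class `0,5,4,1,4,5`. -/
def c6 : Gam := Matrix.GeneralLinearGroup.mkOfDetNeZero !![2, 2; 0, 2] (by decide)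

/-- `n8 c k = #{X : X⁻¹ M X = c8^k}` for `M` of class `c`. -/
def n8 : Fin 8 → Fin 8 → ℕ :=
  ![![48,0,0,0,0,0,0,0], ![0,0,0,0,48,0,0,0], ![0,0,0,0,0,0,0,0], ![0,0,8,0,0,0,8,0],
    ![0,0,0,0,0,0,0,0], ![0,0,0,0,0,0,0,0], ![0,8,0,8,0,0,0,0], ![0,0,0,0,0,8,0,8]]

/-- `n6 c k = #{X : X⁻¹ M X = c6^k}` for `M` of class `c`. -/
def n6 : Fin 8 → Fin 6 → ℕ :=
  ![![48,0,0,0,0,0], ![0,0,0,48,0,0], ![0,0,0,0,0,0], ![0,0,0,0,0,0],
    ![0,0,6,0,6,0], ![0,6,0,0,0,6], ![0,0,0,0,0,0], ![0,0,0,0,0,0]]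

end Cfsg.Agent.Lib.Helper21.GL23
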