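import Mathlib
import Cfsg.Prelude.Def_Characters
import Cfsg.Agent.Lib.Helper11.S3282Defs
import Cfsg.Agent.Lib.Helper11.S3282Eval
import Cfsg.Agent.Lib.Helper11.GenChar
import Cfsg.Agent.Lib.Helper11.TriChar
import Cfsg.Agent.Lib.Helper2.Induction

/-!
S3282, piece CT8: the combinatorial ("sunflower") lemma on the generalized characters `D μ`.
-/

set_option autoImplicit false

namespace Cfsg.Agent.Lib.Helper21.S3282CT8

open Cfsg Cfsg.Agent.Lib.Helper2 Cfsg.Agent.Lib.Helper11 Cfsg.Agent.Lib.Helper11.S3282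
open scoped ComplexConjugate

universe u

variable {G : Type u} [Group G] [Fintype G]

theorem sum_sq_eq_three {ι : Type*} [DecidableEq ι] (s : Finset ι) (f : ι → ℤ)
    (h : ∑ i ∈ s, f i ^ 2 = 3) :
    ∃ i ∈ s, ∃ j ∈ s, ∃ k ∈ s, i ≠ j ∧ i ≠ k ∧ j ≠ k ∧ (f i = 1 ∨ f i = -1) ∧
      (f j = 1 ∨ f j = -1) ∧ (f k = 1 ∨ f k = -1) ∧
      ∀ l ∈ s, l ≠ i → l ≠ j → l ≠ k → f l = 0 := by
  have hex : ∃ i ∈ s, f i ≠ 0 := by
    by_contra hne
    have hne' : ∀ i ∈ s, f i = 0 := fun i hi => by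
      by_contra h0
      exact hne ⟨i, hi, h0⟩
    have : ∑ i ∈ s, f i ^ 2 = 0 := Finset.sum_eq_zero (fun i hi => by rw [hne' i hi]; ring)
    omega
  obtain ⟨i, hi, hfi⟩ := hex
  rw [← Finset.add_sum_erase s _ hi] at h
  have h2 : 0 ≤ ∑ k ∈ s.erase i, f k ^ 2 := Finset.sum_nonneg (fun k _ => by positivity)
  have h3 : f i ^ 2 ≤ 3 := by omega
  have h4 : f i ^ 2 = 1 := by
    have hlt : f i < 2 := by nlinarith
    have hgt : -2 < f i := by nlinarith
    have : f i = -1 ∨ f i = 0 ∨ f i = 1 := by omega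
    rcases this with e | e | e
    · rw [e]; norm_num
    · exact absurd e hfi
    · rw [e]; norm_num
  have h5 : ∑ k ∈ s.erase i, f k ^ 2 = 2 := by omega
  obtain ⟨j, hj, k, hk, hjk, hfj, hfk, hrest⟩ := sum_sq_eq_two (s.erase i) f h5
  refine ⟨i, hi, j, Finset.mem_of_mem_erase hj, k, Finset.mem_of_mem_erase hk,
    (Finset.ne_of_mem_erase hj).symm, (Finset.ne_of_mem_erase hk).symm, hjk,
    int_sq_eq_one h4, hfj, hfk, ?_⟩
  intro l hl hli hlj hlk
  exact hrest l (Finset.mem_erase.2 ⟨hli, hl⟩) hlj hlk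

theorem signedIrr_int_smul (χ : Cfsg.IrrCharacter G) {z : ℤ} (hz : z = 1 ∨ z = -1) :
    IsSignedIrr ((z : ℂ) • (χ : G → ℂ)) := by
  rcases hz with rfl | rfl
  · left; simpa using χ.2
  · right; simpa using χ.2

/-- A generalized character of norm two is a sum of two orthogonal signed irreducibles. -/
theorem exists_two_of_norm_two {ξ : G → ℂ} (h : Cfsg.IsGeneralizedCharacter G ξ)
    (hnorm : Cfsg.classInner ξ ξ = 2) :
    ∃ a b : G → ℂ, IsSignedIrr a ∧ IsSignedIrr b ∧ ξ = a + b ∧ Cfsg.classInner a b = 0 := by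
  classical
  have : Fintype (Cfsg.IrrCharacter G) := Fintype.ofFinite _
  obtain ⟨n, hn, hexp, hnn⟩ := IsGeneralizedCharacter.exists_int_expansion h
  rw [hnorm] at hnn
  have h2 : ∑ μ : Cfsg.IrrCharacter G, n μ ^ 2 = 2 := by exact_mod_cast hnn.symm
  obtain ⟨μ₁, _, μ₂, _, hne, hμ₁, hμ₂, hrest⟩ := sum_sq_eq_two Finset.univ n h2
  have hsum : ∑ μ : Cfsg.IrrCharacter G, (n μ : ℂ) • (μ : G → ℂ)
      = (n μ₁ : ℂ) • (μ₁ : G → ℂ) + (n μ₂ : ℂ) • (μ₂ : G → ℂ) := by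
    rw [← Finset.add_sum_erase Finset.univ _ (Finset.mem_univ μ₁)]
    congr 1
    apply Finset.sum_eq_single μ₂
    · intro k hk hk2
      rw [hrest k (Finset.mem_univ _) (Finset.ne_of_mem_erase hk) hk2]; simp
    · intro h
      exact absurd (Finset.mem_erase.2 ⟨hne.symm, Finset.mem_univ _⟩) h
  refine ⟨_, _, signedIrr_int_smul μ₁ hμ₁, signedIrr_int_smul μ₂ hμ₂, hexp.trans hsum, ?_⟩
  rw [classInner_smul_left, classInner_smul_right, classInner_irrCharacter_ne hne]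
  simp

/-- A generalized character of norm three is a sum of three pairwise orthogonal signed
irreducibles. -/
theorem exists_three_of_norm_three {ξ : G → ℂ} (h : Cfsg.IsGeneralizedCharacter G ξ)
    (hnorm : Cfsg.classInner ξ ξ = 3) :
    ∃ a b c : G → ℂ, IsSignedIrr a ∧ IsSignedIrr b ∧ IsSignedIrr c ∧ ξ = a + b + c ∧
      Cfsg.classInner a b = 0 ∧ Cfsg.classInner a c = 0 ∧ Cfsg.classInner b c = 0 := by
  classical
  have : Fintype (Cfsg.IrrCharacter G) := Fintype.ofFinite _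
  obtain ⟨n, hn, hexp, hnn⟩ := IsGeneralizedCharacter.exists_int_expansion h
  rw [hnorm] at hnn
  have h2 : ∑ μ : Cfsg.IrrCharacter G, n μ ^ 2 = 3 := by exact_mod_cast hnn.symm
  obtain ⟨μ₁, _, μ₂, _, μ₃, _, h12, h13, h23, hμ₁, hμ₂, hμ₃, hrest⟩ :=
    sum_sq_eq_three Finset.univ n h2
  have hsum : ∑ μ : Cfsg.IrrCharacter G, (n μ : ℂ) • (μ : G → ℂ)
      = (n μ₁ : ℂ) • (μ₁ : G → ℂ) + (n μ₂ : ℂ) • (μ₂ : G → ℂ) + (n μ₃ : ℂ) • (μ₃ : G → ℂ) := by
    rw [← Finset.add_sum_erase Finset.univ _ (Finset.mem_univ μ₁), add_assoc]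
    congr 1
    rw [← Finset.add_sum_erase (Finset.univ.erase μ₁) _
      (Finset.mem_erase.2 ⟨h12.symm, Finset.mem_univ μ₂⟩)]
    congr 1
    apply Finset.sum_eq_single μ₃
    · intro k hk hk3
      have hk2 := Finset.ne_of_mem_erase hk
      have hk1 := Finset.ne_of_mem_erase (Finset.mem_of_mem_erase hk)
      rw [hrest k (Finset.mem_univ _) hk1 hk2 hk3]; simp
    · intro h
      exact absurd (Finset.mem_erase.2 ⟨h23.symm, Finset.mem_erase.2 ⟨h13.symm, Finset.mem_univ _⟩⟩) h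
  refine ⟨_, _, _, signedIrr_int_smul μ₁ hμ₁, signedIrr_int_smul μ₂ hμ₂, signedIrr_int_smul μ₃ hμ₃,
    hexp.trans hsum, ?_, ?_, ?_⟩
  · rw [classInner_smul_left, classInner_smul_right, classInner_irrCharacter_ne h12]; simp
  · rw [classInner_smul_left, classInner_smul_right, classInner_irrCharacter_ne h13]; simp
  · rw [classInner_smul_left, classInner_smul_right, classInner_irrCharacter_ne h23]; simp


theorem inner_zero_symm {x y : G → ℂ} (h : Cfsg.classInner x y = 0) : Cfsg.classInner y x = 0 := by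
  rw [← classInner_conj_symm, h, map_zero]

/-- three pairwise orthogonal signed irreducibles -/
structure Abc (a b c : G → ℂ) : Prop where
  ha : IsSignedIrr a
  hb : IsSignedIrr b
  hc : IsSignedIrr c
  hab : Cfsg.classInner a b = 0
  hac : Cfsg.classInner a c = 0
  hbc : Cfsg.classInner b c = 0

/-- `z` is one of `a`, `b`, `c` -/
def IsTy (a b c z : G → ℂ) : Prop := z = a ∨ z = b ∨ z = c

namespace Abc

variable {a b c : G → ℂ}

theorem hba (h : Abc a b c) : Cfsg.classInner b a = 0 := inner_zero_symm h.hab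
theorem hca (h : Abc a b c) : Cfsg.classInner c a = 0 := inner_zero_symm h.hac
theorem hcb (h : Abc a b c) : Cfsg.classInner c b = 0 := inner_zero_symm h.hbc

theorem ne_ab (h : Abc a b c) : a ≠ b := by
  intro e
  have := h.hab
  rw [e, h.hb.inner_self] at this
  exact one_ne_zero this

theorem ne_ac (h : Abc a b c) : a ≠ c := by
  intro e
  have := h.hac
  rw [e, h.hc.inner_self] at this
  exact one_ne_zero this

theorem ne_bc (h : Abc a b c) : b ≠ c := by
  intro e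
  have := h.hbc
  rw [e, h.hc.inner_self] at this
  exact one_ne_zero this

theorem ty_irr (h : Abc a b c) {z : G → ℂ} (hz : IsTy a b c z) : IsSignedIrr z := by
  rcases hz with rfl | rfl | rfl
  · exact h.ha
  · exact h.hb
  · exact h.hc

theorem ty_inner (h : Abc a b c) {z w : G → ℂ} (hz : IsTy a b c z) (hw : IsTy a b c w)
    (hne : z ≠ w) : Cfsg.classInner z w = 0 := by
  rcases hz with rfl | rfl | rfl <;> rcases hw with rfl | rfl | rfl
  · exact absurd rfl hne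
  · exact h.hab
  · exact h.hac
  · exact h.hba
  · exact absurd rfl hne
  · exact h.hbc
  · exact h.hca
  · exact h.hcb
  · exact absurd rfl hne

theorem ty_inner_sum (h : Abc a b c) {z : G → ℂ} (hz : IsTy a b c z) :
    Cfsg.classInner z (a + b + c) = 1 := by
  rw [classInner_add_right, classInner_add_right]
  rcases hz with rfl | rfl | rfl
  · rw [h.ha.inner_self, h.hab, h.hac]; ring
  · rw [h.hb.inner_self, h.hba, h.hbc]; ring
  · rw [h.hc.inner_self, h.hca, h.hcb]; ring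

theorem sum_inner_ty (h : Abc a b c) {z : G → ℂ} (hz : IsTy a b c z) :
    Cfsg.classInner (a + b + c) z = 1 := by
  rw [← classInner_conj_symm, h.ty_inner_sum hz, map_one]

theorem orth_inner_sum {x : G → ℂ} (hx : ∀ w, IsTy a b c w → Cfsg.classInner x w = 0) :
    Cfsg.classInner x (a + b + c) = 0 := by
  rw [classInner_add_right, classInner_add_right, hx a (Or.inl rfl), hx b (Or.inr (Or.inl rfl)),
    hx c (Or.inr (Or.inr rfl))]
  ring

/-- trichotomy of a signed irreducible against `{a, b, c}` -/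
theorem cases (h : Abc a b c) {x : G → ℂ} (hx : IsSignedIrr x) :
    (∀ w, IsTy a b c w → Cfsg.classInner x w = 0) ∨ IsTy a b c x ∨ IsTy a b c (-x) := by
  rcases hx.inner_cases h.ha with ⟨h1, -, -⟩ | ⟨h1, -⟩ | ⟨h1, -⟩
  · rcases hx.inner_cases h.hb with ⟨h2, -, -⟩ | ⟨h2, -⟩ | ⟨h2, -⟩
    · rcases hx.inner_cases h.hc with ⟨h3, -, -⟩ | ⟨h3, -⟩ | ⟨h3, -⟩
      · left
        intro w hw
        rcases hw with rfl | rfl | rfl
        · exact h1
        · exact h2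
        · exact h3
      · right; left; exact Or.inr (Or.inr h3)
      · right; right; exact Or.inr (Or.inr (by rw [h3, neg_neg]))
    · right; left; exact Or.inr (Or.inl h2)
    · right; right; exact Or.inr (Or.inl (by rw [h2, neg_neg]))
  · right; left; exact Or.inl h1
  · right; right; exact Or.inl (by rw [h1, neg_neg])

/-- a sum of two orthogonal signed irreducibles having inner product `1` with `a + b + c` is
`z + m` with `z ∈ {a, b, c}` and `m` orthogonal to `a, b, c`. -/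
theorem key (h : Abc a b c) {x y : G → ℂ} (hx : IsSignedIrr x) (hy : IsSignedIrr y)
    (hsum : Cfsg.classInner (x + y) (a + b + c) = 1) :
    ∃ z m : G → ℂ, IsTy a b c z ∧ IsSignedIrr m ∧ (∀ w, IsTy a b c w → Cfsg.classInner m w = 0) ∧
      x + y = z + m := by
  rw [classInner_add_left] at hsum
  have neg_val : ∀ {u : G → ℂ}, IsTy a b c (-u) → Cfsg.classInner u (a + b + c) = -1 := by
    intro u hu
    have := h.ty_inner_sum hu
    rw [classInner_neg_left] at this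
    linear_combination -this
  rcases h.cases hx with h1 | h1 | h1 <;> rcases h.cases hy with h2 | h2 | h2
  · rw [orth_inner_sum h1, orth_inner_sum h2] at hsum; norm_num at hsum
  · exact ⟨y, x, h2, hx, h1, add_comm x y⟩
  · rw [orth_inner_sum h1, neg_val h2] at hsum; norm_num at hsum
  · exact ⟨x, y, h1, hy, h2, rfl⟩
  · rw [h.ty_inner_sum h1, h.ty_inner_sum h2] at hsum; norm_num at hsum
  · rw [h.ty_inner_sum h1, neg_val h2] at hsum; norm_num at hsum
  · rw [neg_val h1, orth_inner_sum h2] at hsum; norm_num at hsum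
  · rw [neg_val h1, h.ty_inner_sum h2] at hsum; norm_num at hsum
  · rw [neg_val h1, neg_val h2] at hsum; norm_num at hsum

/-- the third type -/
theorem third (h : Abc a b c) {z₀ z₁ : G → ℂ} (h0 : IsTy a b c z₀) (h1 : IsTy a b c z₁)
    (hne : z₀ ≠ z₁) :
    ∃ z₂ : G → ℂ, IsTy a b c z₂ ∧ z₂ ≠ z₀ ∧ z₂ ≠ z₁ ∧ a + b + c = z₀ + z₁ + z₂ ∧
      ∀ w, IsTy a b c w → w = z₀ ∨ w = z₁ ∨ w = z₂ := by
  have nab := h.ne_ab
  have nac := h.ne_ac
  have nbc := h.ne_bc
  rcases h0 with rfl | rfl | rfl <;> rcases h1 with rfl | rfl | rfl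
  · exact absurd rfl hne
  · exact ⟨c, Or.inr (Or.inr rfl), nac.symm, nbc.symm, rfl, fun w hw => hw⟩
  · refine ⟨b, Or.inr (Or.inl rfl), nab.symm, nbc, by abel, fun w hw => ?_⟩
    rcases hw with e | e | e
    · exact Or.inl e
    · exact Or.inr (Or.inr e)
    · exact Or.inr (Or.inl e)
  · refine ⟨c, Or.inr (Or.inr rfl), nbc.symm, nac.symm, by abel, fun w hw => ?_⟩
    rcases hw with e | e | e
    · exact Or.inr (Or.inl e)
    · exact Or.inl e
    · exact Or.inr (Or.inr e)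
  · exact absurd rfl hne
  · refine ⟨a, Or.inl rfl, nab, nac, by abel, fun w hw => ?_⟩
    rcases hw with e | e | e
    · exact Or.inr (Or.inr e)
    · exact Or.inl e
    · exact Or.inr (Or.inl e)
  · refine ⟨b, Or.inr (Or.inl rfl), nbc, nab.symm, by abel, fun w hw => ?_⟩
    rcases hw with e | e | e
    · exact Or.inr (Or.inl e)
    · exact Or.inr (Or.inr e)
    · exact Or.inl e
  · refine ⟨a, Or.inl rfl, nac, nab, by abel, fun w hw => ?_⟩
    rcases hw with e | e | e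
    · exact Or.inr (Or.inr e)
    · exact Or.inr (Or.inl e)
    · exact Or.inl e
  · exact absurd rfl hne

/-- none of `a, b, c` involves a fixed signed irreducible `o` orthogonal to `a + b + c` -/
theorem ty_orth (h : Abc a b c) {o : G → ℂ} (ho : IsSignedIrr o)
    (hsum : Cfsg.classInner (a + b + c) o = 0) {z : G → ℂ} (hz : IsTy a b c z) :
    Cfsg.classInner z o = 0 := by
  have hsum' : Cfsg.classInner o (a + b + c) = 0 := inner_zero_symm hsum
  rcases h.cases ho with h1 | h1 | h1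
  · exact inner_zero_symm (h1 z hz)
  · rw [h.ty_inner_sum h1] at hsum'; norm_num at hsum'
  · have := h.ty_inner_sum h1
    rw [classInner_neg_left, hsum'] at this
    norm_num at this

end Abc


open Classical in
/-- THE COMBINATORIAL LEMMA (piece CT8 of S3282). -/
theorem CT8_sunflower {M : Type*} [Fintype M] (bar : M → M) (hbar : ∀ μ, bar (bar μ) = μ)
    (σ : M) (hσ : bar σ = σ) (hσu : ∀ μ, bar μ = μ → μ = σ) (μ₀ : M) (hμ₀ : bar μ₀ ≠ μ₀)
    (D : M → G → ℂ) (hD : ∀ μ, Cfsg.IsGeneralizedCharacter G (D μ))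
    (hDbar : ∀ μ, D (bar μ) = D μ)
    (hone : ∀ μ, Cfsg.classInner (D μ) (fun _ => 1) = 1)
    (hdeg : ∀ μ, D μ 1 = 0)
    (hgram : ∀ μ ν, Cfsg.classInner (D μ) (D ν)
      = 2 + (if μ = ν then 1 else 0) + (if μ = bar ν then 1 else 0)) :
    (∃ X : G → ℂ, IsSignedIrr X ∧ Cfsg.classInner X (fun _ => 1) = 0 ∧
      ∀ μ, Cfsg.classInner (D μ) X = 1) ∨
    (∃ (μ₁ μ₂ : M) (X L₁ L₂ B : G → ℂ), bar μ₁ ≠ μ₁ ∧ bar μ₂ ≠ μ₂ ∧ μ₂ ≠ μ₁ ∧ μ₂ ≠ bar μ₁ ∧
      (∀ μ, μ = μ₁ ∨ μ = bar μ₁ ∨ μ = μ₂ ∨ μ = bar μ₂ ∨ μ = σ) ∧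
      IsSignedIrr X ∧ IsSignedIrr L₁ ∧ IsSignedIrr L₂ ∧ IsSignedIrr B ∧
      D μ₁ = (fun _ => 1) + X - L₁ ∧ D μ₂ = (fun _ => 1) + X - L₂ ∧
      D σ = (fun _ => 1) - L₁ - L₂ + B ∧
      Cfsg.classInner X (fun _ => 1) = 0 ∧ Cfsg.classInner L₁ (fun _ => 1) = 0 ∧
      Cfsg.classInner L₂ (fun _ => 1) = 0 ∧ Cfsg.classInner B (fun _ => 1) = 0 ∧
      Cfsg.classInner X L₁ = 0 ∧ Cfsg.classInner X L₂ = 0 ∧ Cfsg.classInner X B = 0 ∧
      Cfsg.classInner L₁ L₂ = 0 ∧ Cfsg.classInner L₁ B = 0 ∧ Cfsg.classInner L₂ B = 0) := by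
  -- the trivial character
  have hone_irr : IsSignedIrr (fun _ : G => (1 : ℂ)) := Or.inl (trivIrr G).2
  have h11 : Cfsg.classInner (fun _ : G => (1 : ℂ)) (fun _ => 1) = 1 := hone_irr.inner_self
  have hone_char : Cfsg.IsCharacter G (fun _ : G => (1 : ℂ)) :=
    IsIrrCharacter.isCharacter (trivIrr G).2
  have h1D : ∀ μ, Cfsg.classInner (fun _ : G => (1 : ℂ)) (D μ) = 1 := by
    intro μ
    rw [← classInner_conj_symm, hone μ, map_one]
  -- `e μ = D μ - 1`
  obtain ⟨e, he⟩ : ∃ e : M → G → ℂ, ∀ μ, e μ = D μ - fun _ => 1 :=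
    ⟨fun μ => D μ - fun _ => 1, fun _ => rfl⟩
  have hDe : ∀ μ, D μ = (fun _ => 1) + e μ := by
    intro μ
    rw [he]
    abel
  have he_gen : ∀ μ, Cfsg.IsGeneralizedCharacter G (e μ) := by
    intro μ
    obtain ⟨χ, ψ, hχ, hψ, h⟩ := hD μ
    refine ⟨χ, ψ + fun _ => 1, hχ, isCharacter_add hψ hone_char, ?_⟩
    rw [he, h]
    abel
  have he1 : ∀ μ, Cfsg.classInner (e μ) (fun _ => 1) = 0 := by
    intro μ
    rw [he, classInner_sub_left, hone, h11, sub_self]
  have hee : ∀ μ ν, Cfsg.classInner (e μ) (e ν) = Cfsg.classInner (D μ) (D ν) - 1 := by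
    intro μ ν
    rw [he, he, classInner_sub_left, classInner_sub_right, classInner_sub_right, hone, h1D, h11]
    ring
  have hebar : ∀ μ, e (bar μ) = e μ := by
    intro μ
    rw [he, he, hDbar]
  have hedeg : ∀ μ, e μ 1 = -1 := by
    intro μ
    rw [he]
    simp [hdeg μ]
  -- Gram facts
  have hσne : ∀ μ, bar μ ≠ μ → μ ≠ σ := by
    intro μ hμ h
    apply hμ
    rw [h, hσ]
  have hN3 : Cfsg.classInner (e σ) (e σ) = 3 := by
    rw [hee, hgram, if_pos rfl, if_pos hσ.symm]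
    norm_num
  have hN2 : ∀ μ, bar μ ≠ μ → Cfsg.classInner (e μ) (e μ) = 2 := by
    intro μ hμ
    rw [hee, hgram, if_pos rfl, if_neg (fun h => hμ h.symm)]
    norm_num
  have hC1 : ∀ μ, bar μ ≠ μ → Cfsg.classInner (e μ) (e σ) = 1 := by
    intro μ hμ
    rw [hee, hgram, if_neg (hσne μ hμ), if_neg (by rw [hσ]; exact hσne μ hμ)]
    norm_num
  have hC2 : ∀ μ ν, μ ≠ ν → μ ≠ bar ν → Cfsg.classInner (e μ) (e ν) = 1 := by
    intro μ ν h1 h2
    rw [hee, hgram, if_neg h1, if_neg h2]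
    norm_num
  -- decompose `e σ`
  obtain ⟨a, b, c, ha, hb, hc, hσabc, hab, hac, hbc⟩ := exists_three_of_norm_three (he_gen σ) hN3
  have habc : Abc a b c := ⟨ha, hb, hc, hab, hac, hbc⟩
  have hty1 : ∀ z, IsTy a b c z → Cfsg.classInner z (fun _ => 1) = 0 := by
    intro z hz
    exact habc.ty_orth hone_irr (by rw [← hσabc]; exact he1 σ) hz
  -- decomposition of the non-real `e μ`
  have hkey : ∀ μ, bar μ ≠ μ → ∃ z m : G → ℂ, IsTy a b c z ∧ IsSignedIrr m ∧
      (∀ w, IsTy a b c w → Cfsg.classInner m w = 0) ∧ e μ = z + m := by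
    intro μ hμ
    obtain ⟨x, y, hx, hy, hxy, -⟩ := exists_two_of_norm_two (he_gen μ) (hN2 μ hμ)
    have := hC1 μ hμ
    rw [hσabc, hxy] at this
    obtain ⟨z, m, hz, hm, hmo, hzm⟩ := habc.key hx hy this
    exact ⟨z, m, hz, hm, hmo, hxy.trans hzm⟩
  choose! z m hz hm hmo hzm using hkey
  have hez : ∀ μ, bar μ ≠ μ → ∀ w, IsTy a b c w →
      Cfsg.classInner (e μ) w = Cfsg.classInner (z μ) w := by
    intro μ hμ w hw
    rw [hzm μ hμ, classInner_add_left, hmo μ hμ w hw, add_zero]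
  have hzbar : ∀ μ, bar μ ≠ μ → z (bar μ) = z μ := by
    intro μ hμ
    have hμ' : bar (bar μ) ≠ bar μ := by
      rw [hbar]
      exact fun h => hμ h.symm
    by_contra hne
    have h1 := hez (bar μ) hμ' (z μ) (hz μ hμ)
    rw [hebar, hez μ hμ (z μ) (hz μ hμ), (habc.ty_irr (hz μ hμ)).inner_self,
      habc.ty_inner (hz _ hμ') (hz μ hμ) hne] at h1
    exact one_ne_zero h1
  have hrel : ∀ μ ν, bar μ ≠ μ → bar ν ≠ ν → μ ≠ ν → μ ≠ bar ν →
      Cfsg.classInner (z μ) (z ν) + Cfsg.classInner (m μ) (m ν) = 1 := by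
    intro μ ν hμ hν h1 h2
    have := hC2 μ ν h1 h2
    rw [hzm μ hμ, hzm ν hν, classInner_add_left, classInner_add_right, classInner_add_right,
      hmo μ hμ _ (hz ν hν), inner_zero_symm (hmo ν hν _ (hz μ hμ))] at this
    linear_combination this
  have hsame : ∀ μ ν, bar μ ≠ μ → bar ν ≠ ν → μ ≠ ν → μ ≠ bar ν → z μ = z ν →
      Cfsg.classInner (m μ) (m ν) = 0 := by
    intro μ ν hμ hν h1 h2 hzz
    have := hrel μ ν hμ hν h1 h2
    rw [hzz, (habc.ty_irr (hz ν hν)).inner_self] at this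
    linear_combination this
  have hdiff : ∀ μ ν, bar μ ≠ μ → bar ν ≠ ν → z μ ≠ z ν → m μ = m ν := by
    intro μ ν hμ hν hzz
    have h1 : μ ≠ ν := fun h => hzz (by rw [h])
    have h2 : μ ≠ bar ν := fun h => hzz (by rw [h, hzbar ν hν])
    have := hrel μ ν hμ hν h1 h2
    rw [habc.ty_inner (hz μ hμ) (hz ν hν) hzz, zero_add] at this
    rcases (hm μ hμ).inner_cases (hm ν hν) with ⟨h0, -, -⟩ | ⟨h0, -⟩ | ⟨-, h0⟩
    · rw [h0] at this
      exact absurd this zero_ne_one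
    · exact h0
    · rw [h0] at this
      norm_num at this
  by_cases hA : ∀ μ, bar μ ≠ μ → z μ = z μ₀
  · left
    refine ⟨z μ₀, habc.ty_irr (hz μ₀ hμ₀), hty1 _ (hz μ₀ hμ₀), ?_⟩
    intro μ
    rw [hDe, classInner_add_left, inner_zero_symm (hty1 _ (hz μ₀ hμ₀)), zero_add]
    by_cases hμ : bar μ = μ
    · rw [hσu μ hμ, hσabc]
      exact habc.sum_inner_ty (hz μ₀ hμ₀)
    · rw [hez μ hμ _ (hz μ₀ hμ₀), hA μ hμ]
      exact (habc.ty_irr (hz μ₀ hμ₀)).inner_self
  · right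
    obtain ⟨μ₁, hμ₁, hz10⟩ : ∃ μ₁, bar μ₁ ≠ μ₁ ∧ z μ₁ ≠ z μ₀ := by
      by_contra hcon
      apply hA
      intro μ hμ
      by_contra hne
      exact hcon ⟨μ, hμ, hne⟩
    have hm10 : m μ₁ = m μ₀ := hdiff μ₁ μ₀ hμ₁ hμ₀ hz10
    have hne10 : μ₁ ≠ μ₀ := fun h => hz10 (by rw [h])
    have hne10' : μ₁ ≠ bar μ₀ := fun h => hz10 (by rw [h, hzbar μ₀ hμ₀])
    have hfurther : ∀ ν, bar ν ≠ ν → ν ≠ μ₀ → ν ≠ bar μ₀ → ν ≠ μ₁ → ν ≠ bar μ₁ →
        z ν ≠ z μ₀ ∧ z ν ≠ z μ₁ ∧ m ν = m μ₀ := by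
      intro ν hν n1 n2 n3 n4
      have hmm : Cfsg.classInner (m μ₀) (m μ₀) = 1 := (hm μ₀ hμ₀).inner_self
      have k1 : z ν ≠ z μ₀ := by
        intro hzz
        have h0 := hsame ν μ₀ hν hμ₀ n1 n2 hzz
        have h1 : m ν = m μ₁ := hdiff ν μ₁ hν hμ₁ (by rw [hzz]; exact fun h => hz10 h.symm)
        rw [h1, hm10, hmm] at h0
        exact one_ne_zero h0
      have k2 : z ν ≠ z μ₁ := by
        intro hzz
        have h0 := hsame ν μ₁ hν hμ₁ n3 n4 hzz
        have h1 : m ν = m μ₀ := hdiff ν μ₀ hν hμ₀ (by rw [hzz]; exact hz10)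
        rw [h1, hm10, hmm] at h0
        exact one_ne_zero h0
      exact ⟨k1, k2, hdiff ν μ₀ hν hμ₀ k1⟩
    obtain ⟨z₂, hz₂, hz20, hz21, hsum3, hall⟩ :=
      habc.third (hz μ₀ hμ₀) (hz μ₁ hμ₁) (fun h => hz10 h.symm)
    by_cases hB : ∃ ν, bar ν ≠ ν ∧ ν ≠ μ₀ ∧ ν ≠ bar μ₀ ∧ ν ≠ μ₁ ∧ ν ≠ bar μ₁
    · exfalso
      obtain ⟨ν, hν, n1, n2, n3, n4⟩ := hB
      obtain ⟨k1, k2, k3⟩ := hfurther ν hν n1 n2 n3 n4
      have hzν : z ν = z₂ := by
        rcases hall _ (hz ν hν) with h | h | h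
        · exact absurd h k1
        · exact absurd h k2
        · exact h
      obtain ⟨k, -, hk⟩ := signedIrr_apply_one_int (hm μ₀ hμ₀)
      have e0 := hedeg μ₀
      rw [hzm μ₀ hμ₀] at e0
      have e1 := hedeg μ₁
      rw [hzm μ₁ hμ₁, hm10] at e1
      have e2 := hedeg ν
      rw [hzm ν hν, k3, hzν] at e2
      have e3 := hedeg σ
      rw [hσabc, hsum3] at e3
      simp only [Pi.add_apply] at e0 e1 e2 e3
      rw [hk] at e0 e1 e2
      have h3 : (3 : ℂ) * (k : ℂ) = -2 := by linear_combination e0 + e1 + e2 - e3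
      have hZ : (3 : ℤ) * k = -2 := by exact_mod_cast h3
      omega
    · refine ⟨μ₀, μ₁, m μ₀, -z μ₀, -z μ₁, z₂, hμ₀, hμ₁, hne10, hne10', ?_, hm μ₀ hμ₀,
        (habc.ty_irr (hz μ₀ hμ₀)).neg, (habc.ty_irr (hz μ₁ hμ₁)).neg, habc.ty_irr hz₂,
        ?_, ?_, ?_, ?_, ?_, ?_, ?_, ?_, ?_, ?_, ?_, ?_, ?_⟩
      · intro μ
        by_cases hμ : bar μ = μ
        · right; right; right; right
          exact hσu μ hμ
        · by_contra hcon
          apply hB
          exact ⟨μ, hμ, fun h => hcon (Or.inl h), fun h => hcon (Or.inr (Or.inl h)),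
            fun h => hcon (Or.inr (Or.inr (Or.inl h))),
            fun h => hcon (Or.inr (Or.inr (Or.inr (Or.inl h))))⟩
      · rw [hDe, hzm μ₀ hμ₀]
        abel
      · rw [hDe, hzm μ₁ hμ₁, hm10]
        abel
      · rw [hDe, hσabc, hsum3]
        abel
      · have := he1 μ₀
        rw [hzm μ₀ hμ₀, classInner_add_left, hty1 _ (hz μ₀ hμ₀), zero_add] at this
        exact this
      · rw [classInner_neg_left, hty1 _ (hz μ₀ hμ₀), neg_zero]
      · rw [classInner_neg_left, hty1 _ (hz μ₁ hμ₁), neg_zero]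
      · exact hty1 _ hz₂
      · rw [classInner_neg_right, hmo μ₀ hμ₀ _ (hz μ₀ hμ₀), neg_zero]
      · rw [classInner_neg_right, hmo μ₀ hμ₀ _ (hz μ₁ hμ₁), neg_zero]
      · exact hmo μ₀ hμ₀ _ hz₂
      · rw [classInner_neg_left, classInner_neg_right,
          habc.ty_inner (hz μ₀ hμ₀) (hz μ₁ hμ₁) (fun h => hz10 h.symm), neg_zero, neg_zero]
      · rw [classInner_neg_left, habc.ty_inner (hz μ₀ hμ₀) hz₂ (fun h => hz20 h.symm), neg_zero]
      · rw [classInner_neg_left, habc.ty_inner (hz μ₁ hμ₁) hz₂ (fun h => hz21 h.symm), neg_zero]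

end Cfsg.Agent.Lib.Helper21.S3282CT8
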