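import Mathlib

/-!
# Wielandt's count: the number of subgroups of order `p ^ β` is `≡ 1 (mod p)` (helper21)
-/

set_option autoImplicit false

namespace Cfsg.Agent.Lib.Helper21

open scoped Pointwise
open MulAction

section classformula

/-- If all stabilizers have order dividing `d` (and `d ∣ |G|`), then `|G| / d` divides `|X|`. -/
theorem dvd_card_of_stabilizer_card_dvd {G X : Type*} [Group G] [MulAction G X] [Finite G] [Finite X]
    (d : ℕ) (hd : d ∣ Nat.card G) (h : ∀ x : X, Nat.card (stabilizer G x) ∣ d) :
    Nat.card G / d ∣ Nat.card X := by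
  classical
  haveI : Fintype G := Fintype.ofFinite G
  haveI : Fintype X := Fintype.ofFinite X
  haveI : Fintype (Quotient (orbitRel G X)) := Fintype.ofFinite _
  rw [Nat.card_eq_fintype_card (α := X), card_eq_sum_card_group_div_card_stabilizer G X]
  apply Finset.dvd_sum
  intro ω _
  have h1 := h ω.out
  rw [Nat.card_eq_fintype_card] at h1
  rw [← Nat.card_eq_fintype_card (α := G)]
  obtain ⟨e, he⟩ := h1
  obtain ⟨f, hf⟩ := hd
  have hspos : 0 < Fintype.card (stabilizer G ω.out) := Fintype.card_pos
  have hdpos : 0 < d := by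
    rcases Nat.eq_zero_or_pos d with h0 | h0
    · rw [h0, zero_mul] at hf
      exact absurd hf (Nat.card_pos (α := G)).ne'
    · exact h0
  rw [hf, Nat.mul_div_cancel_left _ hdpos, he, mul_assoc, Nat.mul_div_cancel_left _ hspos]
  exact Dvd.intro_left _ rfl

end classformula


section wielandt

variable {G : Type*} [Group G] [DecidableEq G]

theorem mul_mem_of_mem_stabilizer {S : Finset G} {h x : G} (hh : h ∈ stabilizer G S) (hx : x ∈ S) :
    h * x ∈ S := by
  have h1 : h • S = S := hh
  have h2 : h • x ∈ h • S := Finset.smul_mem_smul_finset hx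
  rw [h1] at h2
  exact h2

/-- (A) the stabilizer of a finite set under left multiplication has order dividing its size. -/
theorem card_stabilizer_dvd_card [Finite G] (S : Finset G) :
    Nat.card (stabilizer G S) ∣ S.card := by
  set H := stabilizer G S with hH
  let T : Set G := {x | x⁻¹ ∈ S}
  have hTH : T * (H : Set G) = T := by
    ext x
    constructor
    · rintro ⟨a, ha, h, hh, rfl⟩
      change (a * h)⁻¹ ∈ S
      rw [mul_inv_rev]
      exact mul_mem_of_mem_stabilizer (H.inv_mem hh) ha
    · intro hx
      exact ⟨x, hx, 1, H.one_mem, mul_one x⟩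
  have h1 := Subgroup.card_mul_eq_card_subgroup_mul_card_quotient H T
  rw [hTH] at h1
  have hT : Nat.card T = S.card := by
    have e : T ≃ (S : Set G) :=
      { toFun := fun x => ⟨x.1⁻¹, x.2⟩
        invFun := fun x => ⟨x.1⁻¹, by change x.1⁻¹⁻¹ ∈ S; rw [inv_inv]; exact x.2⟩
        left_inv := fun x => by simp
        right_inv := fun x => by simp }
    rw [Nat.card_congr e]
    simp
  rw [hT] at h1
  exact Dvd.intro _ h1.symm

/-- `S` is a left coset of a subgroup of order `k`. -/
def IsCosetOfCard (k : ℕ) (S : Finset G) : Prop :=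
  ∃ (H : Subgroup G) (g : G), Nat.card H = k ∧ ∀ x, x ∈ S ↔ g⁻¹ * x ∈ H

theorem IsCosetOfCard.smul {k : ℕ} {S : Finset G} (h : IsCosetOfCard k S) (a : G) :
    IsCosetOfCard k (a • S) := by
  obtain ⟨H, g, hH, hS⟩ := h
  refine ⟨H, a * g, hH, fun x => ?_⟩
  rw [← Finset.inv_smul_mem_iff, hS, smul_eq_mul, mul_inv_rev, mul_assoc]

omit [DecidableEq G] in
theorem IsCosetOfCard.card_eq [Finite G] {k : ℕ} {S : Finset G} (h : IsCosetOfCard k S) :
    S.card = k := by
  obtain ⟨H, g, hH, hS⟩ := h
  rw [← hH]
  have e : (S : Set G) ≃ H :=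
    { toFun := fun x => ⟨g⁻¹ * x.1, (hS x.1).mp x.2⟩
      invFun := fun y => ⟨g * y.1, by
        change g * y.1 ∈ S
        rw [hS]; simp⟩
      left_inv := fun x => by simp
      right_inv := fun y => by simp }
  rw [← Nat.card_congr e]
  simp

/-- (B) -/
theorem isCosetOfCard_of_card_stabilizer [Finite G] {k : ℕ} (hk : 0 < k) (S : Finset G)
    (hS : S.card = k) (hst : Nat.card (stabilizer G S) = k) : IsCosetOfCard k S := by
  have hne : S.Nonempty := by rw [← Finset.card_pos, hS]; exact hk
  obtain ⟨s, hs⟩ := hne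
  set H := stabilizer G S with hH
  let f : H → {x // x ∈ S} := fun h => ⟨h.1 * s, mul_mem_of_mem_stabilizer h.2 hs⟩
  have hf : Function.Injective f := by
    intro a b hab
    have : a.1 * s = b.1 * s := congrArg Subtype.val hab
    exact Subtype.ext (mul_right_cancel this)
  have hcard : Nat.card {x // x ∈ S} ≤ Nat.card H := by
    rw [hst]; simp [hS]
  have hbij := hf.bijective_of_nat_card_le hcard
  refine ⟨H.map (MulAut.conj s⁻¹).toMonoidHom, s, ?_, fun x => ?_⟩
  · rw [← hst]
    exact Nat.card_congr (H.equivMapOfInjective _ (MulAut.conj s⁻¹).injective).symm.toEquiv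
  · constructor
    · intro hx
      obtain ⟨h, hh⟩ := hbij.2 ⟨x, hx⟩
      have : h.1 * s = x := congrArg Subtype.val hh
      refine ⟨h.1, h.2, ?_⟩
      simp only [MulEquiv.coe_toMonoidHom, MulAut.conj_apply, inv_inv, ← this]
      group
    · rintro ⟨h, hh, hx⟩
      simp only [MulEquiv.coe_toMonoidHom, MulAut.conj_apply, inv_inv] at hx
      have : x = h * s := by
        calc x = s * (s⁻¹ * x) := by group
          _ = s * (s⁻¹ * h * s) := by rw [hx]
          _ = h * s := by group
      rw [this]
      exact mul_mem_of_mem_stabilizer hh hs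

/-- the coset `g H` as a finset -/
noncomputable def cosetFinset [Finite G] (H : Subgroup G) (g : G) : Finset G :=
  (Set.toFinite {x : G | g⁻¹ * x ∈ H}).toFinset

omit [DecidableEq G] in
theorem mem_cosetFinset [Finite G] (H : Subgroup G) (g x : G) :
    x ∈ cosetFinset H g ↔ g⁻¹ * x ∈ H := by
  simp [cosetFinset]

omit [DecidableEq G] in
/-- (D) the number of left cosets of subgroups of order `k`. -/
theorem card_isCosetOfCard [Finite G] (k : ℕ) (hk : 0 < k) :
    Nat.card {S : Finset G // IsCosetOfCard k S} =
      Nat.card {H : Subgroup G // Nat.card H = k} * (Nat.card G / k) := by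
  classical
  let f : (Σ H : {H : Subgroup G // Nat.card H = k}, G ⧸ H.1) → {S : Finset G // IsCosetOfCard k S} :=
    fun Hc => ⟨cosetFinset Hc.1.1 Hc.2.out, Hc.1.1, Hc.2.out, Hc.1.2, mem_cosetFinset _ _⟩
  have hf : Function.Bijective f := by
    constructor
    · rintro ⟨⟨H, hH⟩, c⟩ ⟨⟨H', hH'⟩, c'⟩ hcc
      have hmem : ∀ x, c.out⁻¹ * x ∈ H ↔ c'.out⁻¹ * x ∈ H' := by
        intro x
        have := congrArg Subtype.val hcc
        simp only [f] at this
        rw [← mem_cosetFinset, ← mem_cosetFinset, this]
      have h1 : c'.out⁻¹ * c.out ∈ H' := (hmem c.out).mp (by simp)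
      have h2 : c.out⁻¹ * c'.out ∈ H := (hmem c'.out).mpr (by simp)
      have hHH' : H = H' := by
        apply le_antisymm
        · intro y hy
          have := (hmem (c.out * y)).mp (by simpa using hy)
          have e : y = (c'.out⁻¹ * c.out)⁻¹ * (c'.out⁻¹ * (c.out * y)) := by group
          rw [e]
          exact H'.mul_mem (H'.inv_mem h1) this
        · intro y hy
          have := (hmem (c'.out * y)).mpr (by simpa using hy)
          have e : y = (c.out⁻¹ * c'.out)⁻¹ * (c.out⁻¹ * (c'.out * y)) := by group
          rw [e]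
          exact H.mul_mem (H.inv_mem h2) this
      subst hHH'
      have hc : c = c' := by
        rw [← QuotientGroup.out_eq' c, ← QuotientGroup.out_eq' c', QuotientGroup.eq]
        exact h2
      rw [hc]
    · rintro ⟨S, H, g, hH, hS⟩
      refine ⟨⟨⟨H, hH⟩, QuotientGroup.mk g⟩, ?_⟩
      apply Subtype.ext
      ext x
      simp only [f]
      rw [mem_cosetFinset, hS]
      obtain ⟨h, hh⟩ := QuotientGroup.mk_out_eq_mul H g
      rw [hh, mul_inv_rev, mul_assoc]
      constructor
      · intro hx
        have := H.mul_mem h.2 hx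
        simpa using this
      · intro hx
        exact H.mul_mem (H.inv_mem h.2) hx
  rw [← Nat.card_congr (Equiv.ofBijective f hf)]
  haveI : Fintype {H : Subgroup G // Nat.card H = k} := Fintype.ofFinite _
  rw [Nat.card_sigma]
  have : ∀ H : {H : Subgroup G // Nat.card H = k}, Nat.card (G ⧸ H.1) = Nat.card G / k := by
    intro H
    have h1 := H.1.card_mul_index
    rw [H.2] at h1
    rw [← Subgroup.index_eq_card, ← h1, Nat.mul_div_cancel_left _ hk]
  simp only [this, Finset.sum_const, Finset.card_univ, smul_eq_mul, Nat.card_eq_fintype_card]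


/-- the `G`-set of `k`-subsets that are not cosets of subgroups of order `k`. -/
def badSets (G : Type*) [Group G] [DecidableEq G] (k : ℕ) : SubMulAction G (Finset G) where
  carrier := {S | S.card = k ∧ ¬ IsCosetOfCard k S}
  smul_mem' := by
    intro a S hS
    refine ⟨by rw [Finset.card_smul_finset]; exact hS.1, fun h => hS.2 ?_⟩
    have := h.smul a⁻¹
    rwa [inv_smul_smul] at this

theorem card_stabilizer_badSets_dvd [Finite G] {p β : ℕ} (hp : p.Prime) (hβ : 1 ≤ β)
    (x : badSets G (p ^ β)) : Nat.card (stabilizer G x) ∣ p ^ (β - 1) := by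
  rw [SubMulAction.stabilizer_of_subMul]
  have h1 := card_stabilizer_dvd_card (x : Finset G)
  rw [x.2.1] at h1
  obtain ⟨j, hj, hcard⟩ := (Nat.dvd_prime_pow hp).mp h1
  have hjne : j ≠ β := by
    rintro rfl
    exact x.2.2 (isCosetOfCard_of_card_stabilizer (pow_pos hp.pos _) _ x.2.1 hcard)
  rw [hcard]
  exact pow_dvd_pow p (by omega)

/-- In a finite cyclic group, subgroups of the same order are equal. -/
theorem eq_of_card_eq_of_isCyclic {C : Type*} [Group C] [Finite C] [IsCyclic C] {H K : Subgroup C}
    (h : Nat.card H = Nat.card K) : H = K := by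
  classical
  haveI : Fintype C := Fintype.ofFinite C
  have key : ∀ L : Subgroup C, (L : Set C) = {a : C | a ^ Nat.card L = 1} := by
    intro L
    have hpos : 0 < Nat.card L := Nat.card_pos
    apply Set.eq_of_subset_of_ncard_le
    · intro x hx
      have : (⟨x, hx⟩ : L) ^ Nat.card L = 1 := pow_card_eq_one'
      exact congrArg Subtype.val this
    · have h1 := IsCyclic.card_pow_eq_one_le (α := C) hpos
      have h2 : ({a : C | a ^ Nat.card L = 1} : Set C).ncard =
          (Finset.univ.filter (fun a : C => a ^ Nat.card L = 1)).card := by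
        rw [Set.ncard_eq_toFinset_card']
        congr 1
        ext a
        simp
      rw [h2]
      have h3 : (L : Set C).ncard = Nat.card L := (Nat.card_coe_set_eq (L : Set C)).symm
      rw [h3]
      exact h1
    · exact Set.toFinite _
  apply SetLike.coe_injective
  rw [key H, key K, h]

/-- **Wielandt's congruence**. -/
theorem wielandt_congr (G : Type*) [Group G] [Finite G] {p β : ℕ} (hp : p.Prime) (hβ : 1 ≤ β)
    (hdiv : p ^ β ∣ Nat.card G) :
    (Nat.card G).choose (p ^ β) ≡
      Nat.card {H : Subgroup G // Nat.card H = p ^ β} * (Nat.card G / p ^ β)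
        [MOD p * (Nat.card G / p ^ β)] := by
  classical
  haveI : Fintype G := Fintype.ofFinite G
  set k := p ^ β with hk
  have hkpos : 0 < k := pow_pos hp.pos _
  obtain ⟨m, hm⟩ := hdiv
  have hmk : Nat.card G / k = m := by rw [hm, Nat.mul_div_cancel_left _ hkpos]
  -- bad sets
  have hbad : p * m ∣ Nat.card (badSets G k) := by
    have hd : p ^ (β - 1) ∣ Nat.card G := by
      rw [hm]; exact Dvd.dvd.mul_right (pow_dvd_pow p (by omega)) _
    have := dvd_card_of_stabilizer_card_dvd (G := G) (X := badSets G k) (p ^ (β - 1)) hd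
      (fun x => card_stabilizer_badSets_dvd hp hβ x)
    have e : Nat.card G / p ^ (β - 1) = p * m := by
      rw [hm, hk]
      have : p ^ β = p ^ (β - 1) * p := by rw [← pow_succ]; congr 1; omega
      rw [this, mul_assoc, Nat.mul_div_cancel_left _ (pow_pos hp.pos _)]
    rwa [e] at this
  -- total count
  have htot : (Nat.card G).choose k =
      Nat.card {S : Finset G // IsCosetOfCard k S} + Nat.card (badSets G k) := by
    rw [Nat.card_eq_fintype_card (α := G), ← Fintype.card_finset_len,
      Nat.card_eq_fintype_card, Nat.card_eq_fintype_card]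
    rw [Fintype.card_subtype, Fintype.card_subtype]
    have hb : Fintype.card (badSets G k) =
        (Finset.univ.filter (fun S : Finset G => S.card = k ∧ ¬ IsCosetOfCard k S)).card := by
      rw [← Fintype.card_subtype]
      exact Fintype.card_congr (Equiv.refl _)
    rw [hb, ← Finset.card_filter_add_card_filter_not (s := Finset.univ.filter (fun S : Finset G => S.card = k))
      (fun S : Finset G => IsCosetOfCard k S),
      Finset.filter_filter, Finset.filter_filter]
    congr 2
    ext S
    simp only [Finset.mem_filter, Finset.mem_univ, true_and]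
    exact ⟨fun h => h.2, fun h => ⟨h.card_eq, h⟩⟩
  rw [htot, card_isCosetOfCard k hkpos, hmk]
  obtain ⟨c, hc⟩ := hbad
  rw [hc]
  exact Nat.add_mul_mod_self_left _ _ _

/-- The number of subgroups of order `p ^ β` is `≡ 1 (mod p)` (Frobenius; Wielandt's proof). -/
theorem card_subgroups_of_card_prime_pow_modEq_one (G : Type*) [Group G] [Finite G] {p β : ℕ}
    (hp : p.Prime) (hdiv : p ^ β ∣ Nat.card G) :
    Nat.card {H : Subgroup G // Nat.card H = p ^ β} ≡ 1 [MOD p] := by
  haveI : Fact p.Prime := ⟨hp⟩
  rcases Nat.eq_zero_or_pos β with rfl | hβ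
  · -- only the trivial subgroup
    have : Nat.card {H : Subgroup G // Nat.card H = p ^ 0} = 1 := by
      rw [Nat.card_eq_one_iff_unique]
      refine ⟨⟨fun a b => ?_⟩, ⟨⟨⊥, by simp⟩⟩⟩
      apply Subtype.ext
      have ha : Nat.card (a : Subgroup G) = 1 := by rw [a.2, pow_zero]
      have hb : Nat.card (b : Subgroup G) = 1 := by rw [b.2, pow_zero]
      rw [Subgroup.card_eq_one] at ha hb
      rw [ha, hb]
    rw [this]
  · set n := Nat.card G with hn
    have hnpos : 0 < n := Nat.card_pos
    haveI : NeZero n := ⟨hnpos.ne'⟩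
    let C := Multiplicative (ZMod n)
    have hC : Nat.card C = n := by
      rw [Nat.card_eq_fintype_card]
      exact (Fintype.card_congr Multiplicative.toAdd).trans (ZMod.card n)
    have h1 := wielandt_congr G hp hβ hdiv
    have hdivC : p ^ β ∣ Nat.card C := by rw [hC]; exact hdiv
    have h2 := wielandt_congr C hp hβ hdivC
    rw [hC] at h2
    have hN : Nat.card {H : Subgroup C // Nat.card H = p ^ β} = 1 := by
      rw [Nat.card_eq_one_iff_unique]
      refine ⟨⟨fun a b => ?_⟩, ?_⟩
      · apply Subtype.ext
        exact eq_of_card_eq_of_isCyclic (a.2.trans b.2.symm)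
      · obtain ⟨K, hK⟩ := Sylow.exists_subgroup_card_pow_prime p hdivC
        exact ⟨⟨K, hK⟩⟩
    rw [hN] at h2
    have h3 := h1.symm.trans h2
    have hm0 : n / p ^ β ≠ 0 := by
      obtain ⟨m, hm⟩ := hdiv
      rw [hm, Nat.mul_div_cancel_left _ (pow_pos hp.pos _)]
      rintro rfl
      rw [mul_zero] at hm
      exact hnpos.ne' hm
    exact Nat.ModEq.mul_right_cancel' hm0 h3

end wielandt

end Cfsg.Agent.Lib.Helper21
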