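import Mathlib
import Cfsg.Agent.Lib.Helper28.OTDefs
import Cfsg.Agent.Lib.Helper3.OTT4
import Cfsg.Agent.Lib.Helper10.QGeo

/-!
# OT EXIT, `U`-level: K-SPREAD (helper21)

`U = F^a` with a non-degenerate symmetric form `f = bf J` (`OrthG J`), `2 ≠ 0`, `F` finite, `a ≥ 3`, `U` not `O_4^+`.
A non-zero subspace `D` of skew-adjoint matrices which is invariant under conjugation by all Eichler (Siegel)
transformations `ρ_{e,z} = eichM J e z` (`e` singular, `z ⟂ e`) consists of ALL skew-adjoint matrices.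
-/

set_option autoImplicit false

namespace Cfsg.Agent.Lib.Helper21.OTKSpread

open Matrix Module
open Cfsg.Agent.Lib.Helper3.SpT (bf E adj bf_add_left bf_add_right bf_smul_left bf_smul_right bf_neg_left bf_neg_right
  bf_sub_left bf_sub_right E_mulVec mat_ext_mulVec)
open Cfsg.Agent.Lib.Helper13.TensSO (OrthG)
open Cfsg.Agent.Lib.Helper28.OT (Ts2)

variable {F : Type*} [Field F] {a : ℕ} {J : Matrix (Fin a) (Fin a) F}

/-- the wedge `x ∧ y : v ↦ f(v,y) x - f(v,x) y` -/
def wd (J : Matrix (Fin a) (Fin a) F) (x y : Fin a → F) : Matrix (Fin a) (Fin a) F := E J x y - E J y x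

theorem wd_mulVec (x y v : Fin a → F) : wd J x y *ᵥ v = bf J v y • x - bf J v x • y := by
  unfold wd
  rw [Matrix.sub_mulVec, E_mulVec, E_mulVec]

theorem E_add_left (x x' y : Fin a → F) : E J (x + x') y = E J x y + E J x' y := by
  apply mat_ext_mulVec; intro v
  rw [Matrix.add_mulVec, E_mulVec, E_mulVec, E_mulVec, smul_add]

theorem E_add_right (x y y' : Fin a → F) : E J x (y + y') = E J x y + E J x y' := by
  apply mat_ext_mulVec; intro v
  rw [Matrix.add_mulVec, E_mulVec, E_mulVec, E_mulVec, bf_add_right, add_smul]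

theorem E_smul_left (c : F) (x y : Fin a → F) : E J (c • x) y = c • E J x y := by
  apply mat_ext_mulVec; intro v
  rw [Matrix.smul_mulVec, E_mulVec, E_mulVec, smul_comm]

theorem E_smul_right (c : F) (x y : Fin a → F) : E J x (c • y) = c • E J x y := by
  apply mat_ext_mulVec; intro v
  rw [Matrix.smul_mulVec, E_mulVec, E_mulVec, bf_smul_right, mul_smul]

theorem wd_add_left (x x' y : Fin a → F) : wd J (x + x') y = wd J x y + wd J x' y := by
  unfold wd; rw [E_add_left, E_add_right]; abel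

theorem wd_add_right (x y y' : Fin a → F) : wd J x (y + y') = wd J x y + wd J x y' := by
  unfold wd; rw [E_add_left, E_add_right]; abel

theorem wd_smul_left (c : F) (x y : Fin a → F) : wd J (c • x) y = c • wd J x y := by
  unfold wd; rw [E_smul_left, E_smul_right, smul_sub]

theorem wd_smul_right (c : F) (x y : Fin a → F) : wd J x (c • y) = c • wd J x y := by
  unfold wd; rw [E_smul_left, E_smul_right, smul_sub]

theorem wd_self (x : Fin a → F) : wd J x x = 0 := by
  unfold wd; rw [sub_self]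

theorem wd_swap (x y : Fin a → F) : wd J y x = - wd J x y := by
  unfold wd; rw [neg_sub]

theorem wd_neg_left (x y : Fin a → F) : wd J (-x) y = - wd J x y := by
  rw [← neg_one_smul F x, wd_smul_left, neg_one_smul]

theorem wd_neg_right (x y : Fin a → F) : wd J x (-y) = - wd J x y := by
  rw [← neg_one_smul F y, wd_smul_right, neg_one_smul]

theorem wd_sub_left (x x' y : Fin a → F) : wd J (x - x') y = wd J x y - wd J x' y := by
  rw [sub_eq_add_neg, wd_add_left, wd_neg_left, sub_eq_add_neg]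

theorem wd_sub_right (x y y' : Fin a → F) : wd J x (y - y') = wd J x y - wd J x y' := by
  rw [sub_eq_add_neg, wd_add_right, wd_neg_right, sub_eq_add_neg]

/-- skew-adjointness in terms of the form -/
def Skw (J : Matrix (Fin a) (Fin a) F) (K : Matrix (Fin a) (Fin a) F) : Prop :=
  ∀ x y, bf J (K *ᵥ x) y = - bf J x (K *ᵥ y)

/-- the Eichler (Siegel) transformation `ρ_{e,z}` as a matrix -/
noncomputable def eichM (J : Matrix (Fin a) (Fin a) F) (e z : Fin a → F) : Matrix (Fin a) (Fin a) F :=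
  1 + wd J e z - ((2 : F)⁻¹ * bf J z z) • E J e e

theorem eichM_mulVec (e z v : Fin a → F) :
    eichM J e z *ᵥ v = v + bf J v z • e - bf J v e • z - ((2 : F)⁻¹ * bf J z z * bf J v e) • e := by
  unfold eichM
  rw [Matrix.sub_mulVec, Matrix.add_mulVec, Matrix.one_mulVec, wd_mulVec, Matrix.smul_mulVec, E_mulVec, smul_smul]
  abel

theorem bf_zero_right (x : Fin a → F) : bf J x 0 = 0 := by
  unfold bf; simp

theorem bf_zero_left (x : Fin a → F) : bf J 0 x = 0 := by
  unfold bf; simp

/-- `ρ_{e,z}` is an isometry -/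
theorem eichM_isom (hJ : OrthG J) (h2 : (2 : F) ≠ 0) {e z : Fin a → F} (he : bf J e e = 0) (hz : bf J e z = 0)
    (x y : Fin a → F) : bf J (eichM J e z *ᵥ x) (eichM J e z *ᵥ y) = bf J x y := by
  rw [eichM_mulVec, eichM_mulVec]
  simp only [bf_add_left, bf_sub_left, bf_smul_left, bf_add_right, bf_sub_right, bf_smul_right]
  have hze : bf J z e = 0 := by rw [hJ.symm, hz]
  rw [he, hz, hze, hJ.symm e y, hJ.symm z y]
  field_simp
  ring

/-- `ρ_{e,z} ρ_{e,z'} = ρ_{e,z+z'}` -/
theorem eichM_mul (hJ : OrthG J) (h2 : (2 : F) ≠ 0) {e z z' : Fin a → F} (he : bf J e e = 0) (hz : bf J e z = 0)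
    (hz' : bf J e z' = 0) : eichM J e z * eichM J e z' = eichM J e (z + z') := by
  apply mat_ext_mulVec
  intro v
  rw [← Matrix.mulVec_mulVec, eichM_mulVec e z' v, eichM_mulVec e z, eichM_mulVec e (z + z') v]
  simp only [bf_add_left, bf_sub_left, bf_smul_left, bf_add_right, bf_sub_right, bf_smul_right]
  have hze : bf J z e = 0 := by rw [hJ.symm, hz]
  have hze' : bf J z' e = 0 := by rw [hJ.symm, hz']
  rw [he, hz, hze', hJ.symm z' z]
  funext i
  simp only [Pi.add_apply, Pi.sub_apply, Pi.smul_apply, smul_eq_mul]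
  field_simp
  ring

theorem eichM_zero (e : Fin a → F) : eichM J e 0 = 1 := by
  apply mat_ext_mulVec
  intro v
  rw [eichM_mulVec, bf_zero_right, bf_zero_right, Matrix.one_mulVec]
  simp

theorem eichM_mul_neg (hJ : OrthG J) (h2 : (2 : F) ≠ 0) {e z : Fin a → F} (he : bf J e e = 0) (hz : bf J e z = 0) :
    eichM J e z * eichM J e (-z) = 1 := by
  rw [eichM_mul hJ h2 he hz (by rw [bf_neg_right, hz, neg_zero]), add_neg_cancel, eichM_zero]

/-- conjugating a wedge by `ρ_{e,z}` -/
theorem conj_wd (hJ : OrthG J) (h2 : (2 : F) ≠ 0) {e z : Fin a → F} (he : bf J e e = 0) (hz : bf J e z = 0)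
    (x y : Fin a → F) :
    eichM J e z * wd J x y * eichM J e (-z) = wd J (eichM J e z *ᵥ x) (eichM J e z *ᵥ y) := by
  apply mat_ext_mulVec
  intro v
  have hadj : ∀ u, bf J (eichM J e (-z) *ᵥ v) u = bf J v (eichM J e z *ᵥ u) := by
    intro u
    rw [← eichM_isom hJ h2 he hz (eichM J e (-z) *ᵥ v) u, Matrix.mulVec_mulVec, eichM_mul_neg hJ h2 he hz,
      Matrix.one_mulVec]
  rw [← Matrix.mulVec_mulVec, ← Matrix.mulVec_mulVec, wd_mulVec, wd_mulVec, Matrix.mulVec_sub, Matrix.mulVec_smul,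
    Matrix.mulVec_smul, hadj, hadj]

/-! ### skew-adjoint matrices -/

theorem bf_mulVec_left (K : Matrix (Fin a) (Fin a) F) (x y : Fin a → F) :
    bf J (K *ᵥ x) y = x ⬝ᵥ (Kᵀ * J) *ᵥ y := by
  unfold bf
  rw [← Matrix.mulVec_mulVec, Matrix.dotProduct_mulVec x, Matrix.vecMul_transpose]

theorem bf_mulVec_right (K : Matrix (Fin a) (Fin a) F) (x y : Fin a → F) :
    bf J x (K *ᵥ y) = x ⬝ᵥ (J * K) *ᵥ y := by
  unfold bf
  rw [← Matrix.mulVec_mulVec]

theorem mat_eq_of_bil {A B : Matrix (Fin a) (Fin a) F} (h : ∀ x y : Fin a → F, x ⬝ᵥ A *ᵥ y = x ⬝ᵥ B *ᵥ y) :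
    A = B := by
  ext i j
  have := h (Pi.single i 1) (Pi.single j 1)
  simpa using this

theorem isUnit_det_of_orthG (hJ : OrthG J) : IsUnit J.det :=
  Cfsg.Agent.Lib.Helper3.OTT.SymG.isUnit_det ⟨hJ.symm, hJ.nondeg⟩

theorem skw_iff_adj (hJ : OrthG J) (K : Matrix (Fin a) (Fin a) F) : adj J K = -K ↔ Skw J K := by
  have hu := isUnit_det_of_orthG hJ
  have key : Skw J K ↔ Kᵀ * J = -(J * K) := by
    constructor
    · intro h
      apply mat_eq_of_bil
      intro x y
      rw [← bf_mulVec_left, h x y, bf_mulVec_right, Matrix.neg_mulVec, dotProduct_neg]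
    · intro h x y
      rw [bf_mulVec_left, h, bf_mulVec_right, Matrix.neg_mulVec, dotProduct_neg]
  rw [key]
  unfold adj
  constructor
  · intro h
    have h1 : J * (J⁻¹ * Kᵀ * J) = J * (-K) := by rw [h]
    rw [← Matrix.mul_assoc, ← Matrix.mul_assoc, Matrix.mul_nonsing_inv J hu, Matrix.one_mul, Matrix.mul_neg] at h1
    exact h1
  · intro h
    rw [Matrix.mul_assoc, h, Matrix.mul_neg, ← Matrix.mul_assoc, Matrix.nonsing_inv_mul J hu, Matrix.one_mul]

theorem wd_skw (hJ : OrthG J) (x y : Fin a → F) : Skw J (wd J x y) := by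
  intro u v
  rw [wd_mulVec, wd_mulVec]
  simp only [bf_sub_left, bf_smul_left, bf_sub_right, bf_smul_right]
  rw [hJ.symm x v, hJ.symm y v, hJ.symm u x, hJ.symm u y]
  ring

theorem sum_smul_col (M : Matrix (Fin a) (Fin a) F) (v : Fin a → F) :
    ∑ i, v i • (M *ᵥ Pi.single i 1) = M *ᵥ v := by
  funext k
  simp only [Finset.sum_apply, Pi.smul_apply, smul_eq_mul, Matrix.mulVec_single_one, Matrix.col_apply]
  unfold Matrix.mulVec dotProduct
  exact Finset.sum_congr rfl (fun i _ => mul_comm _ _)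

/-- a skew-adjoint matrix is a combination of wedges -/
theorem skw_eq_sum (hJ : OrthG J) (h2 : (2 : F) ≠ 0) {K : Matrix (Fin a) (Fin a) F} (hK : Skw J K) :
    K = (2 : F)⁻¹ • ∑ i, wd J (K *ᵥ Pi.single i 1) (J⁻¹ *ᵥ Pi.single i 1) := by
  have hu := isUnit_det_of_orthG hJ
  apply mat_ext_mulVec
  intro v
  rw [Matrix.smul_mulVec, Matrix.sum_mulVec]
  have hd : ∀ i, bf J v (J⁻¹ *ᵥ Pi.single i 1) = v i := by
    intro i
    unfold bf
    rw [Matrix.mulVec_mulVec, Matrix.mul_nonsing_inv J hu, Matrix.one_mulVec]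
    simp
  have hk : ∀ i, bf J v (K *ᵥ Pi.single i 1) = -(J *ᵥ (K *ᵥ v)) i := by
    intro i
    have h1 := hK v (Pi.single i 1)
    rw [hJ.symm] at h1
    have h3 : bf J (Pi.single i 1) (K *ᵥ v) = (J *ᵥ (K *ᵥ v)) i := by
      unfold bf
      simp
    rw [h3] at h1
    rw [h1, neg_neg]
  have h4 : ∀ i, wd J (K *ᵥ Pi.single i 1) (J⁻¹ *ᵥ Pi.single i 1) *ᵥ v =
      v i • (K *ᵥ Pi.single i 1) + (J *ᵥ (K *ᵥ v)) i • (J⁻¹ *ᵥ Pi.single i 1) := by
    intro i
    rw [wd_mulVec, hd, hk, neg_smul, sub_neg_eq_add]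
  rw [Finset.sum_congr rfl (fun i _ => h4 i), Finset.sum_add_distrib, sum_smul_col, sum_smul_col,
    Matrix.mulVec_mulVec, Matrix.nonsing_inv_mul J hu, Matrix.one_mulVec, ← two_smul F, smul_smul,
    inv_mul_cancel₀ h2, one_smul]

/-! ### the action of `ρ_{e,z}` on special vectors -/

theorem eich_self {e z : Fin a → F} (he : bf J e e = 0) (hz : bf J e z = 0) : eichM J e z *ᵥ e = e := by
  rw [eichM_mulVec, he, hz]
  simp

theorem eich_perp {e z x : Fin a → F} (hx : bf J x e = 0) : eichM J e z *ᵥ x = x + bf J x z • e := by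
  rw [eichM_mulVec, hx]
  simp

theorem eich_partner {e z f : Fin a → F} (hfe : bf J f e = 1) (hfz : bf J f z = 0) :
    eichM J e z *ᵥ f = f - z - ((2 : F)⁻¹ * bf J z z) • e := by
  rw [eichM_mulVec, hfe, hfz]
  simp

/-- the invariance hypothesis -/
def Inv (J : Matrix (Fin a) (Fin a) F) (D : Submodule F (Matrix (Fin a) (Fin a) F)) : Prop :=
  ∀ e z : Fin a → F, bf J e e = 0 → bf J e z = 0 → ∀ K ∈ D, eichM J e z * K * eichM J e (-z) ∈ D

theorem Inv.wd_mem {D : Submodule F (Matrix (Fin a) (Fin a) F)} (hinv : Inv J D) (hJ : OrthG J) (h2 : (2 : F) ≠ 0)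
    {e z : Fin a → F} (he : bf J e e = 0) (hz : bf J e z = 0) {x y : Fin a → F} (h : wd J x y ∈ D) :
    wd J (eichM J e z *ᵥ x) (eichM J e z *ᵥ y) ∈ D := by
  rw [← conj_wd hJ h2 he hz]
  exact hinv e z he hz _ h

/-- **Case A**: `D` contains `e ∧ w` with `e` singular, `w ⟂ e` non-singular -/
theorem caseA (hJ : OrthG J) (h2 : (2 : F) ≠ 0) {D : Submodule F (Matrix (Fin a) (Fin a) F)} (hinv : Inv J D)
    {e f w : Fin a → F} (hee : bf J e e = 0) (hff : bf J f f = 0) (hef : bf J e f = 1) (hew : bf J e w = 0)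
    (hfw : bf J f w = 0) (hww : bf J w w ≠ 0) (hD : wd J e w ∈ D) :
    ∀ K, Skw J K → K ∈ D := by
  have hfe : bf J f e = 1 := by rw [hJ.symm, hef]
  have hwe : bf J w e = 0 := by rw [hJ.symm, hew]
  have hwf : bf J w f = 0 := by rw [hJ.symm, hfw]
  set c := bf J w w with hc
  -- Step 1 : `e ∧ f ∈ D`
  have hX1 := hinv.wd_mem hJ h2 hff hfw hD
  rw [eich_partner hef hew, eich_perp hwf, ← hc] at hX1
  have hfw' : bf J f (-w) = 0 := by rw [bf_neg_right, hfw, neg_zero]
  have hX2 := hinv.wd_mem hJ h2 hff hfw' hD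
  rw [eich_partner hef (by rw [bf_neg_right, hew, neg_zero]), eich_perp hwf, bf_neg_right, bf_neg_right,
    bf_neg_left, ← hc] at hX2
  have hef_mem : wd J e f ∈ D := by
    have h3 : ((2 : F) * c) • wd J e f =
        wd J (e - w - ((2 : F)⁻¹ * c) • f) (w + c • f) -
          wd J (e - -w - ((2 : F)⁻¹ * - -c) • f) (w + -c • f) := by
      simp only [wd_add_left, wd_sub_left, wd_smul_left, wd_add_right, wd_sub_right, wd_smul_right, wd_self,
        wd_neg_left, wd_neg_right]
      rw [wd_swap w f]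
      module
    have h4 := D.smul_mem ((2 : F) * c)⁻¹ (h3 ▸ D.sub_mem hX1 hX2)
    rwa [inv_smul_smul₀ (mul_ne_zero h2 hww)] at h4
  -- Step 2 : `e ∧ u`, `u ∧ f ∈ D` for `u ⟂ e, f`
  have heu : ∀ u, bf J e u = 0 → bf J f u = 0 → wd J e u ∈ D := by
    intro u hu1 hu2
    have h3 := hinv.wd_mem hJ h2 hee hu1 hef_mem
    rw [eich_self hee hu1, eich_partner hfe hu2] at h3
    have h4 : wd J e u = wd J e f - wd J e (f - u - ((2 : F)⁻¹ * bf J u u) • e) := by
      simp only [wd_sub_right, wd_smul_right, wd_self]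
      module
    rw [h4]
    exact D.sub_mem hef_mem h3
  have huf : ∀ u, bf J e u = 0 → bf J f u = 0 → wd J u f ∈ D := by
    intro u hu1 hu2
    have h3 := hinv.wd_mem hJ h2 hff hu2 hef_mem
    rw [eich_self hff hu2, eich_partner hef hu1] at h3
    have h4 : wd J u f = wd J e f - wd J (e - u - ((2 : F)⁻¹ * bf J u u) • f) f := by
      simp only [wd_sub_left, wd_smul_left, wd_self]
      module
    rw [h4]
    exact D.sub_mem hef_mem h3
  -- Step 3 : `v ∧ u ∈ D` for `u, v ⟂ e, f`
  have hvu : ∀ u v, bf J e u = 0 → bf J f u = 0 → bf J e v = 0 → bf J f v = 0 → wd J v u ∈ D := by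
    intro u v hu1 hu2 hv1 hv2
    have huf' : bf J u f = 0 := by rw [hJ.symm, hu2]
    have h3 := hinv.wd_mem hJ h2 hff hv2 (heu u hu1 hu2)
    rw [eich_partner hef hv1, eich_perp huf'] at h3
    have h4 : wd J v u = wd J e u + bf J u v • wd J e f - bf J u v • wd J v f +
        ((2 : F)⁻¹ * bf J v v) • wd J u f -
        wd J (e - v - ((2 : F)⁻¹ * bf J v v) • f) (u + bf J u v • f) := by
      simp only [wd_add_left, wd_sub_left, wd_smul_left, wd_add_right, wd_sub_right, wd_smul_right, wd_self]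
      rw [wd_swap u f]
      module
    rw [h4]
    exact D.sub_mem (D.add_mem (D.sub_mem (D.add_mem (heu u hu1 hu2) (D.smul_mem _ hef_mem))
      (D.smul_mem _ (huf v hv1 hv2))) (D.smul_mem _ (huf u hu1 hu2))) h3
  -- Step 4 : all wedges
  have hdec : ∀ y : Fin a → F, ∃ u, bf J e u = 0 ∧ bf J f u = 0 ∧ y = bf J y f • e + bf J y e • f + u := by
    intro y
    refine ⟨y - bf J y f • e - bf J y e • f, ?_, ?_, by abel⟩
    · rw [bf_sub_right, bf_sub_right, bf_smul_right, bf_smul_right, hee, hef, hJ.symm e y]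
      ring
    · rw [bf_sub_right, bf_sub_right, bf_smul_right, bf_smul_right, hfe, hff, hJ.symm f y]
      ring
  have hey : ∀ y, wd J e y ∈ D := by
    intro y
    obtain ⟨u, hu1, hu2, hy⟩ := hdec y
    rw [hy]
    simp only [wd_add_right, wd_smul_right, wd_self, smul_zero, zero_add]
    exact D.add_mem (D.smul_mem _ hef_mem) (heu u hu1 hu2)
  have hfy : ∀ y, wd J f y ∈ D := by
    intro y
    obtain ⟨u, hu1, hu2, hy⟩ := hdec y
    rw [hy]
    simp only [wd_add_right, wd_smul_right, wd_self, smul_zero, add_zero]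
    rw [wd_swap e f, wd_swap u f]
    exact D.add_mem (D.smul_mem _ (D.neg_mem hef_mem)) (D.neg_mem (huf u hu1 hu2))
  have huy : ∀ u, bf J e u = 0 → bf J f u = 0 → ∀ y, wd J u y ∈ D := by
    intro u hu1 hu2 y
    obtain ⟨v, hv1, hv2, hy⟩ := hdec y
    rw [hy]
    simp only [wd_add_right, wd_smul_right]
    rw [wd_swap e u]
    exact D.add_mem (D.add_mem (D.smul_mem _ (D.neg_mem (heu u hu1 hu2))) (D.smul_mem _ (huf u hu1 hu2)))
      (hvu v u hv1 hv2 hu1 hu2)
  have hall : ∀ x y, wd J x y ∈ D := by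
    intro x y
    obtain ⟨u, hu1, hu2, hx⟩ := hdec x
    rw [hx]
    simp only [wd_add_left, wd_smul_left]
    exact D.add_mem (D.add_mem (D.smul_mem _ (hey y)) (D.smul_mem _ (hfy y))) (huy u hu1 hu2 y)
  -- Step 5
  intro K hK
  rw [skw_eq_sum hJ h2 hK]
  exact D.smul_mem _ (D.sum_mem (fun i _ => hall _ _))

/-! ### a matrix commuting with all `ρ_{e,z}` -/

/-- a vector orthogonal to `e^⟂` is a multiple of `e` -/
theorem eq_smul_of_perp_perp (hJ : OrthG J) {e f x : Fin a → F} (hef : bf J e f = 1)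
    (h : ∀ z, bf J e z = 0 → bf J x z = 0) : x = bf J x f • e := by
  have h0 : x - bf J x f • e = 0 := by
    apply hJ.nondeg
    intro y
    have hy : bf J e (y - bf J y e • f) = 0 := by
      rw [bf_sub_right, bf_smul_right, hef, hJ.symm e y]
      ring
    have h1 := h _ hy
    rw [bf_sub_right, bf_smul_right] at h1
    rw [bf_sub_left, bf_smul_left, hJ.symm e y]
    linear_combination h1
  exact sub_eq_zero.mp h0

theorem fixed_eq_wedge (hJ : OrthG J) (h2 : (2 : F) ≠ 0) {e f w1 : Fin a → F} (hee : bf J e e = 0)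
    (hef : bf J e f = 1) (hew1 : bf J e w1 = 0) (hw1 : bf J w1 w1 ≠ 0) {K : Matrix (Fin a) (Fin a) F}
    (hK : Skw J K) (hcomm : ∀ z, bf J e z = 0 → eichM J e z * K = K * eichM J e z) :
    ∃ w, bf J e w = 0 ∧ K = wd J e w := by
  have he0 : e ≠ 0 := by
    intro h
    rw [h, bf_zero_left] at hef
    exact zero_ne_one hef
  have hskew0 : ∀ x, bf J (K *ᵥ x) x = 0 := by
    intro x
    have h := hK x x
    rw [hJ.symm x] at h
    have h' : (2 : F) * bf J (K *ᵥ x) x = 0 := by linear_combination h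
    exact (mul_eq_zero.1 h').resolve_left h2
  -- the commutation relation on vectors
  have hc : ∀ z, bf J e z = 0 → ∀ v, eichM J e z *ᵥ (K *ᵥ v) = K *ᵥ (eichM J e z *ᵥ v) := by
    intro z hz v
    rw [Matrix.mulVec_mulVec, Matrix.mulVec_mulVec, hcomm z hz]
  -- (a) `K e ⟂ e^⟂`
  have hA : ∀ z, bf J e z = 0 → bf J (K *ᵥ e) z = 0 := by
    intro z hz
    have h := hc z hz e
    rw [eich_self hee hz, eichM_mulVec, hskew0 e] at h
    have h3 : bf J (K *ᵥ e) z • e = 0 := by
      have h4 := congrArg (fun t => t - K *ᵥ e) h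
      simp only [sub_self] at h4
      rw [← h4]
      simp
    exact (smul_eq_zero.1 h3).resolve_right he0
  -- (b) `K e = l e`
  have hKe := eq_smul_of_perp_perp hJ hef hA
  set l := bf J (K *ᵥ e) f with hl
  -- (c) `l = 0`
  have hB : ∀ w z, bf J e w = 0 → bf J e z = 0 → bf J (K *ᵥ w) z = l * bf J w z := by
    intro w z hw hz
    have hwe : bf J w e = 0 := by rw [hJ.symm, hw]
    have h := hc z hz w
    have h5 : bf J (K *ᵥ w) e = 0 := by
      rw [hK, hKe, bf_smul_right, hwe, mul_zero, neg_zero]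
    rw [eich_perp hwe, eichM_mulVec, h5, Matrix.mulVec_add, Matrix.mulVec_smul, hKe] at h
    have h3 : (bf J (K *ᵥ w) z - bf J w z * l) • e = 0 := by
      have h4 := congrArg (fun t => t - K *ᵥ w) h
      simp only [add_sub_cancel_left] at h4
      rw [sub_smul, ← smul_smul, ← h4]
      simp
    have h6 := (smul_eq_zero.1 h3).resolve_right he0
    linear_combination h6
  have hl0 : l = 0 := by
    have h := hB w1 w1 hew1 hew1
    rw [hskew0 w1] at h
    exact ((mul_eq_zero.1 h.symm).resolve_right hw1)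
  have hKe0 : K *ᵥ e = 0 := by rw [hKe, hl0, zero_smul]
  -- (e)
  refine ⟨-(K *ᵥ f), ?_, ?_⟩
  · rw [bf_neg_right, ← hK e f, hKe0, bf_zero_left]
  · apply mat_ext_mulVec
    intro v
    rw [wd_mulVec]
    -- decompose `v = bf v e • f + v'`
    have hv' : bf J e (v - bf J v e • f) = 0 := by
      rw [bf_sub_right, bf_smul_right, hef, hJ.symm e v]
      ring
    have h7 : ∀ z, bf J e z = 0 → bf J (K *ᵥ (v - bf J v e • f)) z = 0 := by
      intro z hz
      rw [hB _ z hv' hz, hl0, zero_mul]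
    have h8 := eq_smul_of_perp_perp hJ hef h7
    rw [hK, Matrix.mulVec_sub, Matrix.mulVec_smul] at h8
    have h9 : bf J f (K *ᵥ f) = 0 := by rw [hJ.symm]; exact hskew0 f
    rw [bf_sub_left, bf_smul_left, h9, mul_zero, sub_zero] at h8
    rw [bf_neg_right, smul_neg, sub_neg_eq_add]
    have h10 : K *ᵥ v = (K *ᵥ v - bf J v e • K *ᵥ f) + bf J v e • K *ᵥ f := by abel
    rw [h10, h8]

/-! ### the fixed point -/

/-- the vectors orthogonal to `e` -/
def perpS (J : Matrix (Fin a) (Fin a) F) (e : Fin a → F) : Submodule F (Fin a → F) where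
  carrier := {z | bf J e z = 0}
  add_mem' := by
    intro x y hx hy
    show bf J e (x + y) = 0
    rw [bf_add_right, hx, hy, add_zero]
  zero_mem' := bf_zero_right e
  smul_mem' := by
    intro c x hx
    show bf J e (c • x) = 0
    rw [bf_smul_right, hx, mul_zero]

theorem exists_fixed [Fintype F] (hJ : OrthG J) (h2 : (2 : F) ≠ 0) {D : Submodule F (Matrix (Fin a) (Fin a) F)}
    (hinv : Inv J D) (hne : D ≠ ⊥) {e : Fin a → F} (hee : bf J e e = 0) :
    ∃ K ∈ D, K ≠ 0 ∧ ∀ z, bf J e z = 0 → eichM J e z * K = K * eichM J e z := by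
  classical
  obtain ⟨p, hp⟩ := CharP.exists F
  haveI := hp
  haveI : Fact p.Prime := ⟨CharP.char_is_prime F p⟩
  letI act : MulAction (Multiplicative (perpS J e)) D :=
    { smul := fun g K => ⟨eichM J e (Multiplicative.toAdd g).1 * K.1 * eichM J e (-(Multiplicative.toAdd g).1),
        hinv e _ hee (Multiplicative.toAdd g).2 K.1 K.2⟩
      one_smul := by
        intro K
        apply Subtype.ext
        show eichM J e (0 : Fin a → F) * K.1 * eichM J e (-(0 : Fin a → F)) = K.1
        rw [neg_zero, eichM_zero, one_mul, mul_one]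
      mul_smul := by
        intro g h K
        apply Subtype.ext
        show eichM J e ((Multiplicative.toAdd g).1 + (Multiplicative.toAdd h).1) * K.1 *
            eichM J e (-((Multiplicative.toAdd g).1 + (Multiplicative.toAdd h).1)) =
          eichM J e (Multiplicative.toAdd g).1 *
            (eichM J e (Multiplicative.toAdd h).1 * K.1 * eichM J e (-(Multiplicative.toAdd h).1)) *
            eichM J e (-(Multiplicative.toAdd g).1)
        have hg : bf J e (Multiplicative.toAdd g).1 = 0 := (Multiplicative.toAdd g).2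
        have hh : bf J e (Multiplicative.toAdd h).1 = 0 := (Multiplicative.toAdd h).2
        rw [neg_add_rev, ← eichM_mul hJ h2 hee hg hh,
          ← eichM_mul hJ h2 hee (by rw [bf_neg_right, hh, neg_zero]) (by rw [bf_neg_right, hg, neg_zero])]
        simp only [Matrix.mul_assoc] }
  have hsmul : ∀ (g : Multiplicative (perpS J e)) (K : D),
      ((g • K : D) : Matrix (Fin a) (Fin a) F) =
        eichM J e (Multiplicative.toAdd g).1 * K.1 * eichM J e (-(Multiplicative.toAdd g).1) := fun _ _ => rfl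
  have hG : IsPGroup p (Multiplicative (perpS J e)) := by
    intro g
    refine ⟨1, ?_⟩
    rw [pow_one]
    apply Multiplicative.toAdd.injective
    rw [toAdd_pow, toAdd_one, ← Nat.cast_smul_eq_nsmul F, CharP.cast_eq_zero, zero_smul]
  have hpD : p ∣ Nat.card D := by
    obtain ⟨K, hK, hK0⟩ := Submodule.exists_mem_ne_zero_of_ne_bot hne
    have h1 : p • (⟨K, hK⟩ : D) = 0 := by
      rw [← Nat.cast_smul_eq_nsmul F, CharP.cast_eq_zero, zero_smul]
    have h3 : addOrderOf (⟨K, hK⟩ : D) ∣ p := addOrderOf_dvd_of_nsmul_eq_zero h1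
    have h4 : addOrderOf (⟨K, hK⟩ : D) ≠ 1 := by
      rw [Ne, AddMonoid.addOrderOf_eq_one_iff]
      intro h
      exact hK0 (congrArg Subtype.val h)
    have h5 : addOrderOf (⟨K, hK⟩ : D) = p := ((Nat.dvd_prime Fact.out).1 h3).resolve_left h4
    rw [← h5]
    exact addOrderOf_dvd_natCard _
  have h0 : (0 : D) ∈ MulAction.fixedPoints (Multiplicative (perpS J e)) D := by
    intro g
    apply Subtype.ext
    rw [hsmul]
    simp
  obtain ⟨b, hb, hb0⟩ := hG.exists_fixed_point_of_prime_dvd_card_of_fixed_point D hpD h0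
  refine ⟨b.1, b.2, fun h => hb0 (Subtype.ext h.symm), fun z hz => ?_⟩
  have h1 := congrArg Subtype.val (hb (Multiplicative.ofAdd ⟨z, hz⟩))
  rw [hsmul] at h1
  have h3 : eichM J e z * b.1 * eichM J e (-z) = b.1 := h1
  have h4 : eichM J e (-z) * eichM J e z = 1 := by
    have := eichM_mul_neg hJ h2 hee (show bf J e (-z) = 0 by rw [bf_neg_right, hz, neg_zero])
    rwa [neg_neg] at this
  calc eichM J e z * b.1 = eichM J e z * b.1 * (eichM J e (-z) * eichM J e z) := by rw [h4, mul_one]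
    _ = (eichM J e z * b.1 * eichM J e (-z)) * eichM J e z := by simp only [Matrix.mul_assoc]
    _ = b.1 * eichM J e z := by rw [h3]

/-! ### geometry -/

/-- a nonzero vector orthogonal to fewer than `a` given vectors -/
theorem exists_ne_zero_perp {m : ℕ} (c : Fin m → Fin a → F) (hm : m < a) :
    ∃ y : Fin a → F, y ≠ 0 ∧ ∀ i, bf J (c i) y = 0 := by
  let φ : (Fin a → F) →ₗ[F] (Fin m → F) := Matrix.toLin' (Matrix.of fun i => Matrix.vecMul (c i) J)
  have hφ : ∀ y i, φ y i = bf J (c i) y := by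
    intro y i
    show (Matrix.of (fun i => Matrix.vecMul (c i) J) *ᵥ y) i = _
    unfold bf
    rw [Matrix.dotProduct_mulVec]
    rfl
  have hker : LinearMap.ker φ ≠ ⊥ := by
    intro h
    have h1 := LinearMap.finrank_range_add_finrank_ker φ
    rw [h, finrank_bot, add_zero, Module.finrank_fintype_fun_eq_card, Fintype.card_fin] at h1
    have h3 : finrank F (LinearMap.range φ) ≤ m := by
      have := Submodule.finrank_le (LinearMap.range φ)
      rwa [Module.finrank_fintype_fun_eq_card, Fintype.card_fin] at this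
    omega
  obtain ⟨y, hy, hy0⟩ := Submodule.exists_mem_ne_zero_of_ne_bot hker
  refine ⟨y, hy0, fun i => ?_⟩
  rw [← hφ, LinearMap.mem_ker.1 hy]
  rfl

/-- an anisotropic vector orthogonal to a family admitting an orthogonal projection -/
theorem exists_aniso_perp (hJ : OrthG J) (h2 : (2 : F) ≠ 0) {m : ℕ} (c : Fin m → Fin a → F) (hm : m < a)
    (hproj : ∀ x, ∃ x', (∀ i, bf J (c i) x' = 0) ∧ ∀ u, (∀ i, bf J (c i) u = 0) → bf J u x' = bf J u x) :
    ∃ y, (∀ i, bf J (c i) y = 0) ∧ bf J y y ≠ 0 := by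
  obtain ⟨u, hu0, hu⟩ := exists_ne_zero_perp (J := J) c hm
  obtain ⟨x, hx⟩ : ∃ x, bf J u x ≠ 0 := by
    by_contra hcon
    exact hu0 (hJ.nondeg u (fun y => not_not.1 (fun h => hcon ⟨y, h⟩)))
  obtain ⟨x', hx'1, hx'2⟩ := hproj x
  have hux' : bf J u x' ≠ 0 := by rw [hx'2 u hu]; exact hx
  by_cases h1 : bf J u u = 0
  · by_cases h3 : bf J x' x' = 0
    · refine ⟨u + x', fun i => by rw [bf_add_right, hu i, hx'1 i, add_zero], ?_⟩
      rw [bf_add_left, bf_add_right, bf_add_right, h1, h3, hJ.symm x' u]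
      intro h
      apply hux'
      have h' : (2 : F) * bf J u x' = 0 := by linear_combination h
      exact (mul_eq_zero.1 h').resolve_left h2
    · exact ⟨x', hx'1, h3⟩
  · exact ⟨u, hu, h1⟩

/-! ### the theorem -/

theorem k_spread_skw [Fintype F] (hJ : OrthG J) (h2 : (2 : F) ≠ 0) (ha : 3 ≤ a)
    (hplus : ¬ (a = 4 ∧ ∃ u1 u2 : Fin a → F, Ts2 J u1 u2)) (D : Submodule F (Matrix (Fin a) (Fin a) F))
    (hinv : Inv J D) (hne : D ≠ ⊥) (hskw : ∀ K ∈ D, Skw J K) : ∀ K, Skw J K → K ∈ D := by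
  -- a hyperbolic pair
  obtain ⟨Q₀, hQ₀, hQ₀'⟩ := Cfsg.Agent.Lib.Helper3.OTT.SymG.exists_quad (J := J) ⟨hJ.symm, hJ.nondeg⟩ h2
  have hnd : ∀ v : Fin a → F, v ≠ 0 → ∃ x, QuadraticMap.polar (⇑Q₀) v x ≠ 0 := by
    intro v hv
    by_contra hcon
    exact hv (hJ.nondeg v (fun y => by
      rw [← hQ₀]
      exact not_not.1 (fun h => hcon ⟨y, h⟩)))
  obtain ⟨e, f, he, hf, hef0⟩ := Cfsg.Agent.Lib.Helper10.QGeo.exists_hyp_pair Q₀ hnd ha
  have hee : bf J e e = 0 := by rw [← hQ₀' e, he, mul_zero]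
  have hff : bf J f f = 0 := by rw [← hQ₀' f, hf, mul_zero]
  have hef : bf J e f = 1 := by rw [← hQ₀]; exact hef0
  have hfe : bf J f e = 1 := by rw [hJ.symm, hef]
  -- an anisotropic vector orthogonal to `e, f`
  have hproj1 : ∀ x, ∃ x', (∀ i, bf J ((![e, f] : Fin 2 → Fin a → F) i) x' = 0) ∧
      ∀ u, (∀ i, bf J ((![e, f] : Fin 2 → Fin a → F) i) u = 0) → bf J u x' = bf J u x := by
    intro x
    refine ⟨x - bf J x f • e - bf J x e • f, ?_, ?_⟩
    · intro i
      fin_cases i
      · show bf J e (x - bf J x f • e - bf J x e • f) = 0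
        rw [bf_sub_right, bf_sub_right, bf_smul_right, bf_smul_right, hee, hef, hJ.symm e x]
        ring
      · show bf J f (x - bf J x f • e - bf J x e • f) = 0
        rw [bf_sub_right, bf_sub_right, bf_smul_right, bf_smul_right, hfe, hff, hJ.symm f x]
        ring
    · intro u hu
      have hu0 : bf J u e = 0 := by rw [hJ.symm]; exact hu 0
      have hu1 : bf J u f = 0 := by rw [hJ.symm]; exact hu 1
      rw [bf_sub_right, bf_sub_right, bf_smul_right, bf_smul_right, hu0, hu1]
      ring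
  obtain ⟨w1, hw1p, hw1⟩ := exists_aniso_perp hJ h2 (![e, f] : Fin 2 → Fin a → F) (by omega) hproj1
  have hew1 : bf J e w1 = 0 := hw1p 0
  -- the fixed point
  obtain ⟨K0, hK0D, hK0ne, hK0c⟩ := exists_fixed hJ h2 hinv hne hee
  obtain ⟨w0, hew0, hK0⟩ := fixed_eq_wedge hJ h2 hee hef hew1 hw1 (hskw K0 hK0D) hK0c
  obtain ⟨w, hw⟩ : ∃ w, w = w0 - bf J w0 f • e := ⟨_, rfl⟩
  have hwK : wd J e w = K0 := by
    rw [hK0, hw, wd_sub_right, wd_smul_right, wd_self, smul_zero, sub_zero]
  have hew : bf J e w = 0 := by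
    rw [hw, bf_sub_right, bf_smul_right, hee, hew0]
    ring
  have hfw : bf J f w = 0 := by
    rw [hw, bf_sub_right, bf_smul_right, hfe, hJ.symm f w0]
    ring
  have hwne : w ≠ 0 := by
    intro h
    apply hK0ne
    rw [← hwK, h]
    apply mat_ext_mulVec
    intro v
    rw [wd_mulVec, bf_zero_right, Matrix.zero_mulVec]
    simp
  have hwD : wd J e w ∈ D := by rw [hwK]; exact hK0D
  by_cases hww : bf J w w = 0
  · -- Case B : `⟨e, w⟩` is a totally singular line
    have hwe : bf J w e = 0 := by rw [hJ.symm, hew]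
    have hwf : bf J w f = 0 := by rw [hJ.symm, hfw]
    -- a singular partner `z` of `w` orthogonal to `e, f`
    obtain ⟨x, hx⟩ : ∃ x, bf J w x ≠ 0 := by
      by_contra hcon
      exact hwne (hJ.nondeg w (fun y => not_not.1 (fun h => hcon ⟨y, h⟩)))
    obtain ⟨x1, hx1⟩ : ∃ x1, x1 = x - bf J x f • e - bf J x e • f := ⟨_, rfl⟩
    have hwx1 : bf J w x1 = bf J w x := by
      rw [hx1, bf_sub_right, bf_sub_right, bf_smul_right, bf_smul_right, hwe, hwf]
      ring
    have hex1 : bf J e x1 = 0 := by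
      rw [hx1, bf_sub_right, bf_sub_right, bf_smul_right, bf_smul_right, hee, hef, hJ.symm e x]
      ring
    have hfx1 : bf J f x1 = 0 := by
      rw [hx1, bf_sub_right, bf_sub_right, bf_smul_right, bf_smul_right, hfe, hff, hJ.symm f x]
      ring
    obtain ⟨x2, hx2⟩ : ∃ x2, x2 = (bf J w x1)⁻¹ • x1 := ⟨_, rfl⟩
    have hwx2 : bf J w x2 = 1 := by
      rw [hx2, bf_smul_right, inv_mul_cancel₀ (by rw [hwx1]; exact hx)]
    have hex2 : bf J e x2 = 0 := by rw [hx2, bf_smul_right, hex1, mul_zero]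
    have hfx2 : bf J f x2 = 0 := by rw [hx2, bf_smul_right, hfx1, mul_zero]
    obtain ⟨z, hz⟩ : ∃ z, z = x2 - ((2 : F)⁻¹ * bf J x2 x2) • w := ⟨_, rfl⟩
    have hwz : bf J w z = 1 := by
      rw [hz, bf_sub_right, bf_smul_right, hww, hwx2]
      ring
    have hez : bf J e z = 0 := by rw [hz, bf_sub_right, bf_smul_right, hex2, hew]; ring
    have hfz : bf J f z = 0 := by rw [hz, bf_sub_right, bf_smul_right, hfx2, hfw]; ring
    have hzz : bf J z z = 0 := by
      rw [hz, bf_sub_left, bf_sub_right, bf_sub_right, bf_smul_left, bf_smul_left, bf_smul_right, bf_smul_right,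
        hww, hwx2, hJ.symm x2 w, hwx2]
      field_simp
      ring
    have hzw : bf J z w = 1 := by rw [hJ.symm, hwz]
    have hze : bf J z e = 0 := by rw [hJ.symm, hez]
    have hzf : bf J z f = 0 := by rw [hJ.symm, hfz]
    -- `5 ≤ a`
    have hts : Ts2 J e w := by
      refine ⟨fun c1 c2 h => ?_, hee, hew, hww⟩
      have h1 : bf J f (c1 • e + c2 • w) = 0 := by rw [h, bf_zero_right]
      rw [bf_add_right, bf_smul_right, bf_smul_right, hfe, hfw, mul_one, mul_zero, add_zero] at h1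
      refine ⟨h1, ?_⟩
      rw [h1, zero_smul, zero_add] at h
      exact (smul_eq_zero.1 h).resolve_right hwne
    have h4 : 4 ≤ a := by
      have hli : LinearIndependent F (![e, f, w, z] : Fin 4 → Fin a → F) := by
        rw [Fintype.linearIndependent_iff]
        intro g hg
        rw [Fin.sum_univ_four] at hg
        simp only [Matrix.cons_val_zero, Matrix.cons_val_one, Matrix.cons_val_two, Matrix.cons_val_three,
          Matrix.head_cons, Matrix.tail_cons] at hg
        have e0 : bf J f (g 0 • e + g 1 • f + g 2 • w + g 3 • z) = 0 := by rw [hg, bf_zero_right]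
        have e1 : bf J e (g 0 • e + g 1 • f + g 2 • w + g 3 • z) = 0 := by rw [hg, bf_zero_right]
        have e2 : bf J z (g 0 • e + g 1 • f + g 2 • w + g 3 • z) = 0 := by rw [hg, bf_zero_right]
        have e3 : bf J w (g 0 • e + g 1 • f + g 2 • w + g 3 • z) = 0 := by rw [hg, bf_zero_right]
        simp only [bf_add_right, bf_smul_right, hee, hef, hfe, hff, hew, hfw, hez, hfz, hze, hzf, hzw, hzz, hwe, hwf,
          hww, hwz, mul_zero, mul_one, add_zero, zero_add] at e0 e1 e2 e3
        intro i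
        fin_cases i
        · exact e0
        · exact e1
        · exact e2
        · exact e3
      have := hli.fintype_card_le_finrank
      rwa [Fintype.card_fin, Module.finrank_fintype_fun_eq_card, Fintype.card_fin] at this
    have h5 : 5 ≤ a := by
      rcases Nat.lt_or_ge 4 a with h | h
      · exact h
      · exact absurd ⟨le_antisymm h h4, e, w, hts⟩ hplus
    -- an anisotropic vector orthogonal to `e, f, w, z`
    have hproj2 : ∀ x, ∃ x', (∀ i, bf J ((![e, f, w, z] : Fin 4 → Fin a → F) i) x' = 0) ∧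
        ∀ u, (∀ i, bf J ((![e, f, w, z] : Fin 4 → Fin a → F) i) u = 0) → bf J u x' = bf J u x := by
      intro x
      refine ⟨x - bf J x f • e - bf J x e • f - bf J x z • w - bf J x w • z, ?_, ?_⟩
      · intro i
        fin_cases i
        · show bf J e (x - bf J x f • e - bf J x e • f - bf J x z • w - bf J x w • z) = 0
          simp only [bf_sub_right, bf_smul_right, hee, hef, hew, hez, hJ.symm e x]
          ring
        · show bf J f (x - bf J x f • e - bf J x e • f - bf J x z • w - bf J x w • z) = 0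
          simp only [bf_sub_right, bf_smul_right, hfe, hff, hfw, hfz, hJ.symm f x]
          ring
        · show bf J w (x - bf J x f • e - bf J x e • f - bf J x z • w - bf J x w • z) = 0
          simp only [bf_sub_right, bf_smul_right, hwe, hwf, hww, hwz, hJ.symm w x]
          ring
        · show bf J z (x - bf J x f • e - bf J x e • f - bf J x z • w - bf J x w • z) = 0
          simp only [bf_sub_right, bf_smul_right, hze, hzf, hzw, hzz, hJ.symm z x]
          ring
      · intro u hu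
        have hu0 : bf J u e = 0 := by rw [hJ.symm]; exact hu 0
        have hu1 : bf J u f = 0 := by rw [hJ.symm]; exact hu 1
        have hu2 : bf J u w = 0 := by rw [hJ.symm]; exact hu 2
        have hu3 : bf J u z = 0 := by rw [hJ.symm]; exact hu 3
        simp only [bf_sub_right, bf_smul_right, hu0, hu1, hu2, hu3]
        ring
    obtain ⟨y0, hy0p, hy0⟩ := exists_aniso_perp hJ h2 (![e, f, w, z] : Fin 4 → Fin a → F) (by omega) hproj2
    have hey0 : bf J e y0 = 0 := hy0p 0
    have hfy0 : bf J f y0 = 0 := hy0p 1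
    have hwy0 : bf J w y0 = 0 := hy0p 2
    have hzy0 : bf J z y0 = 0 := hy0p 3
    -- `y0 ∧ w ∈ D`
    have hX1 := hinv.wd_mem hJ h2 hff hfy0 hwD
    rw [eich_partner hef hey0, eich_perp hwf, hwy0, zero_smul, add_zero] at hX1
    have hX2 := hinv.wd_mem hJ h2 hff (show bf J f (-y0) = 0 by rw [bf_neg_right, hfy0, neg_zero]) hwD
    rw [eich_partner hef (by rw [bf_neg_right, hey0, neg_zero]), eich_perp hwf] at hX2
    simp only [bf_neg_right, bf_neg_left, neg_neg, hwy0, neg_zero, zero_smul, add_zero] at hX2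
    have hy0w : wd J y0 w ∈ D := by
      have h3 : (2 : F) • wd J y0 w =
          wd J (e - -y0 - ((2 : F)⁻¹ * bf J y0 y0) • f) w - wd J (e - y0 - ((2 : F)⁻¹ * bf J y0 y0) • f) w := by
        simp only [wd_sub_left, wd_smul_left, wd_neg_left]
        module
      have h4 := D.smul_mem (2 : F)⁻¹ (h3 ▸ D.sub_mem hX2 hX1)
      rwa [inv_smul_smul₀ h2] at h4
    have hwy0D : wd J w y0 ∈ D := by
      rw [wd_swap y0 w]
      exact D.neg_mem hy0w
    exact caseA hJ h2 hinv hww hzz hwz hwy0 hzy0 hy0 hwy0D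
  · exact caseA hJ h2 hinv hee hff hef hew hfw hww hwD

/-- **K-SPREAD**, in the `adj` vocabulary -/
theorem k_spread [Fintype F] (hJ : OrthG J) (h2 : (2 : F) ≠ 0) (ha : 3 ≤ a)
    (hplus : ¬ (a = 4 ∧ ∃ u1 u2 : Fin a → F, Ts2 J u1 u2)) (D : Submodule F (Matrix (Fin a) (Fin a) F))
    (hskew : ∀ K ∈ D, adj J K = -K) (hne : D ≠ ⊥)
    (hinv : ∀ e z : Fin a → F, bf J e e = 0 → bf J e z = 0 → ∀ K ∈ D, eichM J e z * K * eichM J e (-z) ∈ D) :
    ∀ K, adj J K = -K → K ∈ D := by
  intro K hK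
  exact k_spread_skw hJ h2 ha hplus D hinv hne (fun K' hK' => (skw_iff_adj hJ K').1 (hskew K' hK')) K
    ((skw_iff_adj hJ K).1 hK)

end Cfsg.Agent.Lib.Helper21.OTKSpread
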