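import Mathlib
import Cfsg.Agent.Lib.Helper21.OTKSpread

/-!
# OT EXIT, T3: the S-lemma (trace version; covers `a = 4` of minus type)

A subspace `S` of pairwise commuting self-adjoint matrices that contains `1` and is invariant under
conjugation by all Eichler transformations `eichM J e z` consists of scalars, as soon as `a ≥ 3` and
`a ≠ 0` in `F` (trace trick + the `p`-group fixed point `OTKSpread.exists_fixed`).
-/

set_option autoImplicit false

namespace Cfsg.Agent.Lib.Helper21.OTSFour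

open Matrix Module
open Cfsg.Agent.Lib.Helper3.SpT (bf E adj bf_add_left bf_add_right bf_smul_left bf_smul_right bf_neg_left bf_neg_right
  bf_sub_left bf_sub_right E_mulVec mat_ext_mulVec)
open Cfsg.Agent.Lib.Helper13.TensSO (OrthG)
open Cfsg.Agent.Lib.Helper28.OT (Ts2)
open Cfsg.Agent.Lib.Helper21.OTKSpread

variable {F : Type*} [Field F] {a : ℕ} {J : Matrix (Fin a) (Fin a) F}

/-- self-adjointness, on vectors -/
def Sym (J : Matrix (Fin a) (Fin a) F) (C : Matrix (Fin a) (Fin a) F) : Prop :=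
  ∀ x y, bf J (C *ᵥ x) y = bf J x (C *ᵥ y)

theorem sym_of_adj (hJ : OrthG J) {C : Matrix (Fin a) (Fin a) F} (h : adj J C = C) : Sym J C := by
  have hu := isUnit_det_of_orthG hJ
  have h1 : Cᵀ * J = J * C := by
    have h1 : J * (J⁻¹ * Cᵀ * J) = J * C := by rw [show J⁻¹ * Cᵀ * J = C from h]
    rw [← Matrix.mul_assoc, ← Matrix.mul_assoc, Matrix.mul_nonsing_inv J hu, Matrix.one_mul] at h1
    exact h1
  intro x y
  rw [bf_mulVec_left, h1, bf_mulVec_right]

theorem trace_E (x y : Fin a → F) : Matrix.trace (E J x y) = bf J x y := by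
  unfold E bf Matrix.trace dotProduct
  simp [vecMulVec_apply]

theorem eichM_neg_mul (hJ : OrthG J) (h2 : (2 : F) ≠ 0) {e z : Fin a → F} (he : bf J e e = 0) (hz : bf J e z = 0) :
    eichM J e (-z) * eichM J e z = 1 := by
  have := eichM_mul_neg hJ h2 he (show bf J e (-z) = 0 by rw [bf_neg_right, hz, neg_zero])
  rwa [neg_neg] at this

/-- conjugating `E x y` by `ρ_{e,z}` -/
theorem conj_E (hJ : OrthG J) (h2 : (2 : F) ≠ 0) {e z : Fin a → F} (he : bf J e e = 0) (hz : bf J e z = 0)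
    (x y : Fin a → F) :
    eichM J e z * E J x y * eichM J e (-z) = E J (eichM J e z *ᵥ x) (eichM J e z *ᵥ y) := by
  apply mat_ext_mulVec
  intro v
  have hadj : ∀ u, bf J (eichM J e (-z) *ᵥ v) u = bf J v (eichM J e z *ᵥ u) := by
    intro u
    rw [← eichM_isom hJ h2 he hz (eichM J e (-z) *ᵥ v) u, Matrix.mulVec_mulVec, eichM_mul_neg hJ h2 he hz,
      Matrix.one_mulVec]
  rw [← Matrix.mulVec_mulVec, ← Matrix.mulVec_mulVec, E_mulVec, E_mulVec, Matrix.mulVec_smul, hadj]

/-- a self-adjoint matrix commuting with all `ρ_{e,z}`, `z ⟂ e`, is `l + n • E e e` -/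
theorem comm_eq (hJ : OrthG J) (h2 : (2 : F) ≠ 0) {e f w1 : Fin a → F} (hee : bf J e e = 0)
    (hef : bf J e f = 1) (hew1 : bf J e w1 = 0) (hw1 : bf J w1 w1 ≠ 0) {K : Matrix (Fin a) (Fin a) F}
    (hK : Sym J K) (hcomm : ∀ z, bf J e z = 0 → eichM J e z * K = K * eichM J e z) :
    ∃ l n : F, K = l • (1 : Matrix (Fin a) (Fin a) F) + n • E J e e := by
  have he0 : e ≠ 0 := by
    intro h
    rw [h, bf_zero_left] at hef
    exact zero_ne_one hef
  have hfe : bf J f e = 1 := by rw [hJ.symm, hef]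
  have hc : ∀ z, bf J e z = 0 → ∀ v, eichM J e z *ᵥ (K *ᵥ v) = K *ᵥ (eichM J e z *ᵥ v) := by
    intro z hz v
    rw [Matrix.mulVec_mulVec, Matrix.mulVec_mulVec, hcomm z hz]
  -- (a0) `bf (K e) e = 0`
  have hKee : bf J (K *ᵥ e) e = 0 := by
    have h := hc w1 hew1 e
    rw [eich_self hee hew1, eichM_mulVec] at h
    have h3 := congrArg (fun t => bf J t w1) h
    simp only [bf_add_left, bf_sub_left, bf_smul_left] at h3
    rw [hew1] at h3
    have h4 : bf J (K *ᵥ e) e * bf J w1 w1 = 0 := by linear_combination -h3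
    exact (mul_eq_zero.1 h4).resolve_right hw1
  -- (a) `K e ⟂ e^⟂`
  have hA : ∀ z, bf J e z = 0 → bf J (K *ᵥ e) z = 0 := by
    intro z hz
    have h := hc z hz e
    rw [eich_self hee hz, eichM_mulVec, hKee] at h
    have h3 : bf J (K *ᵥ e) z • e = 0 := by
      have h4 := congrArg (fun t => t - K *ᵥ e) h
      simp only [sub_self] at h4
      rw [← h4]
      simp
    exact (smul_eq_zero.1 h3).resolve_right he0
  -- (b) `K e = l e`
  have hKe := eq_smul_of_perp_perp hJ hef hA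
  obtain ⟨l, hl⟩ : ∃ l : F, l = bf J (K *ᵥ e) f := ⟨_, rfl⟩
  rw [← hl] at hKe
  have hB : ∀ w z, bf J e w = 0 → bf J e z = 0 → bf J (K *ᵥ w) z = l * bf J w z := by
    intro w z hw hz
    have hwe : bf J w e = 0 := by rw [hJ.symm, hw]
    have h := hc z hz w
    have h5 : bf J (K *ᵥ w) e = 0 := by
      rw [hK, hKe, bf_smul_right, hwe, mul_zero]
    rw [eich_perp hwe, eichM_mulVec, h5, Matrix.mulVec_add, Matrix.mulVec_smul, hKe] at h
    have h3 : (bf J (K *ᵥ w) z - bf J w z * l) • e = 0 := by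
      have h4 := congrArg (fun t => t - K *ᵥ w) h
      simp only [add_sub_cancel_left] at h4
      rw [sub_smul, ← smul_smul, ← h4]
      simp
    have h6 := (smul_eq_zero.1 h3).resolve_right he0
    linear_combination h6
  -- (c) `K z = l z` for `z ⟂ e`
  have hC : ∀ z, bf J e z = 0 → K *ᵥ z = l • z := by
    intro z hz
    have h7 : ∀ z', bf J e z' = 0 → bf J (K *ᵥ z - l • z) z' = 0 := by
      intro z' hz'
      rw [bf_sub_left, bf_smul_left, hB z z' hz hz', sub_self]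
    have h8 := eq_smul_of_perp_perp hJ hef h7
    have h := hc z hz f
    have h9 : bf J (K *ᵥ f) e = l := by rw [hK, hKe, bf_smul_right, hfe, mul_one]
    rw [eichM_mulVec, eichM_mulVec, h9, hfe] at h
    simp only [Matrix.mulVec_add, Matrix.mulVec_sub, Matrix.mulVec_smul, hKe] at h
    have h10 : K *ᵥ z - l • z = (l * bf J f z - bf J (K *ᵥ f) z) • e := by
      funext i
      have hi := congrFun h i
      simp only [Pi.add_apply, Pi.sub_apply, Pi.smul_apply, smul_eq_mul] at hi ⊢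
      linear_combination hi
    have h11 : bf J (K *ᵥ z - l • z) f = -(l * bf J f z - bf J (K *ᵥ f) z) := by
      rw [bf_sub_left, bf_smul_left, hK f z, hJ.symm f (K *ᵥ z), hJ.symm f z]
      ring
    rw [h11, h10] at h8
    have h12 : ((2 : F) * (l * bf J f z - bf J (K *ᵥ f) z)) • e = 0 := by
      rw [mul_smul, two_smul]
      nth_rewrite 1 [h8]
      rw [neg_smul, neg_add_cancel]
    have h13 := (smul_eq_zero.1 h12).resolve_right he0
    have h14 := (mul_eq_zero.1 h13).resolve_left h2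
    rw [h14, zero_smul] at h10
    exact sub_eq_zero.mp h10
  -- (d) `K f - l f ∈ ⟨e⟩`
  have hG : ∀ z, bf J e z = 0 → bf J (K *ᵥ f - l • f) z = 0 := by
    intro z hz
    rw [bf_sub_left, bf_smul_left, hK, hC z hz, bf_smul_right]
    ring
  have hg := eq_smul_of_perp_perp hJ hef hG
  obtain ⟨n, hn⟩ : ∃ n : F, n = bf J (K *ᵥ f - l • f) f := ⟨_, rfl⟩
  rw [← hn] at hg
  refine ⟨l, n, ?_⟩
  apply mat_ext_mulVec
  intro v
  rw [Matrix.add_mulVec, Matrix.smul_mulVec, Matrix.one_mulVec, Matrix.smul_mulVec, E_mulVec]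
  have hv' : bf J e (v - bf J v e • f) = 0 := by
    rw [bf_sub_right, bf_smul_right, hef, hJ.symm e v]
    ring
  have h11 := hC _ hv'
  rw [Matrix.mulVec_sub, Matrix.mulVec_smul] at h11
  funext i
  have h11i := congrFun h11 i
  have hgi := congrFun hg i
  simp only [Pi.add_apply, Pi.sub_apply, Pi.smul_apply, smul_eq_mul] at h11i hgi ⊢
  linear_combination h11i + bf J v e * hgi

/-- **S-lemma, trace version** (`a ≥ 3`, `a ≠ 0` in `F`) -/
theorem s_lemma_tr [Fintype F] (hJ : OrthG J) (h2 : (2 : F) ≠ 0) (ha : 3 ≤ a) (hchar : (a : F) ≠ 0)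
    (S : Submodule F (Matrix (Fin a) (Fin a) F)) (hsa : ∀ C ∈ S, adj J C = C)
    (h1 : (1 : Matrix (Fin a) (Fin a) F) ∈ S) (hcomm : ∀ C ∈ S, ∀ D ∈ S, C * D = D * C)
    (hinv : ∀ e z, bf J e e = 0 → bf J e z = 0 → ∀ C ∈ S, eichM J e z * C * eichM J e (-z) ∈ S) :
    ∀ C ∈ S, ∃ c : F, C = c • (1 : Matrix (Fin a) (Fin a) F) := by
  classical
  obtain ⟨S0, hS0d⟩ : ∃ S0 : Submodule F (Matrix (Fin a) (Fin a) F),
      S0 = S ⊓ LinearMap.ker (Matrix.traceLinearMap (Fin a) F F) := ⟨_, rfl⟩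
  have hS0 : ∀ C, C ∈ S0 ↔ C ∈ S ∧ Matrix.trace C = 0 := by
    intro C
    rw [hS0d, Submodule.mem_inf, LinearMap.mem_ker, Matrix.traceLinearMap_apply]
  have hinv0 : Inv J S0 := by
    intro e z he hz C hC
    rw [hS0] at hC ⊢
    refine ⟨hinv e z he hz C hC.1, ?_⟩
    rw [Matrix.trace_mul_comm, ← Matrix.mul_assoc, eichM_neg_mul hJ h2 he hz, Matrix.one_mul, hC.2]
  by_contra hcon
  have hne : S0 ≠ ⊥ := by
    intro hbot
    apply hcon
    intro C hC
    refine ⟨(a : F)⁻¹ * Matrix.trace C, ?_⟩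
    have hmem : C - ((a : F)⁻¹ * Matrix.trace C) • (1 : Matrix (Fin a) (Fin a) F) ∈ S0 := by
      rw [hS0]
      refine ⟨S.sub_mem hC (S.smul_mem _ h1), ?_⟩
      rw [Matrix.trace_sub, Matrix.trace_smul, Matrix.trace_one, Fintype.card_fin, smul_eq_mul]
      field_simp
      ring
    rw [hbot, Submodule.mem_bot] at hmem
    exact sub_eq_zero.mp hmem
  -- a hyperbolic pair
  obtain ⟨Q₀, hQ₀, hQ₀'⟩ := Cfsg.Agent.Lib.Helper3.OTT.SymG.exists_quad (J := J) ⟨hJ.symm, hJ.nondeg⟩ h2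
  have hnd : ∀ v : Fin a → F, v ≠ 0 → ∃ x, QuadraticMap.polar (⇑Q₀) v x ≠ 0 := by
    intro v hv
    by_contra hcon
    exact hv (hJ.nondeg v (fun y => by
      rw [← hQ₀]
      exact not_not.1 (fun h => hcon ⟨y, h⟩)))
  obtain ⟨e, f, he, hf, hef0⟩ := Cfsg.Agent.Lib.Helper10.QGeo.exists_hyp_pair Q₀ hnd ha
  have hee : bf J e e = 0 := by rw [← hQ₀' e, he, mul_zero]
  have hff : bf J f f = 0 := by rw [← hQ₀' f, hf, mul_zero]
  have hef : bf J e f = 1 := by rw [← hQ₀]; exact hef0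
  have hfe : bf J f e = 1 := by rw [hJ.symm, hef]
  have he0 : e ≠ 0 := by
    intro h
    rw [h, bf_zero_left] at hef
    exact zero_ne_one hef
  -- an anisotropic vector orthogonal to `e, f`
  have hproj1 : ∀ x, ∃ x', (∀ i, bf J ((![e, f] : Fin 2 → Fin a → F) i) x' = 0) ∧
      ∀ u, (∀ i, bf J ((![e, f] : Fin 2 → Fin a → F) i) u = 0) → bf J u x' = bf J u x := by
    intro x
    refine ⟨x - bf J x f • e - bf J x e • f, ?_, ?_⟩
    · intro i
      fin_cases i
      · show bf J e (x - bf J x f • e - bf J x e • f) = 0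
        rw [bf_sub_right, bf_sub_right, bf_smul_right, bf_smul_right, hee, hef, hJ.symm e x]
        ring
      · show bf J f (x - bf J x f • e - bf J x e • f) = 0
        rw [bf_sub_right, bf_sub_right, bf_smul_right, bf_smul_right, hfe, hff, hJ.symm f x]
        ring
    · intro u hu
      have hu0 : bf J u e = 0 := by rw [hJ.symm]; exact hu 0
      have hu1 : bf J u f = 0 := by rw [hJ.symm]; exact hu 1
      rw [bf_sub_right, bf_sub_right, bf_smul_right, bf_smul_right, hu0, hu1]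
      ring
  obtain ⟨w, hwp, hww⟩ := exists_aniso_perp hJ h2 (![e, f] : Fin 2 → Fin a → F) (by omega) hproj1
  have hew : bf J e w = 0 := hwp 0
  have hfw : bf J f w = 0 := hwp 1
  -- the fixed point
  obtain ⟨K, hKS0, hK0, hKc⟩ := exists_fixed hJ h2 hinv0 hne hee
  have hKS := (hS0 K).1 hKS0
  obtain ⟨l, n, hKeq⟩ := comm_eq hJ h2 hee hef hew hww (sym_of_adj hJ (hsa K hKS.1)) hKc
  have htr := hKS.2
  rw [hKeq, Matrix.trace_add, Matrix.trace_smul, Matrix.trace_smul, Matrix.trace_one, trace_E, hee,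
    Fintype.card_fin, smul_eq_mul, smul_eq_mul, mul_zero, add_zero] at htr
  have hl : l = 0 := (mul_eq_zero.1 htr).resolve_right hchar
  have hn : n ≠ 0 := by
    intro hn
    apply hK0
    rw [hKeq, hl, hn, zero_smul, zero_smul, add_zero]
  have hEe : E J e e ∈ S := by
    have h : E J e e = n⁻¹ • K := by
      rw [hKeq, hl, zero_smul, zero_add, smul_smul, inv_mul_cancel₀ hn, one_smul]
    rw [h]
    exact S.smul_mem _ hKS.1
  -- conjugate by `ρ_{f,w}`
  have hEe' := hinv f w hff hfw _ hEe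
  rw [conj_E hJ h2 hff hfw, eich_partner (e := f) (z := w) (f := e) hef hew] at hEe'
  obtain ⟨e', he'⟩ : ∃ e' : Fin a → F, e' = e - w - ((2 : F)⁻¹ * bf J w w) • f := ⟨_, rfl⟩
  rw [← he'] at hEe'
  have hee' : bf J e e' = -((2 : F)⁻¹ * bf J w w) := by
    rw [he', bf_sub_right, bf_sub_right, bf_smul_right, hee, hew, hef]
    ring
  have hee'0 : bf J e e' ≠ 0 := by
    rw [hee']
    exact neg_ne_zero.2 (mul_ne_zero (inv_ne_zero h2) hww)
  have hcm := hcomm _ hEe _ hEe'
  have h5 := congrArg (fun M => M *ᵥ e) hcm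
  simp only [← Matrix.mulVec_mulVec, E_mulVec, hee, zero_smul, Matrix.mulVec_zero, Matrix.mulVec_smul] at h5
  rw [hJ.symm e' e, smul_smul] at h5
  exact he0 ((smul_eq_zero.1 h5).resolve_left (mul_ne_zero hee'0 hee'0))

set_option linter.unusedVariables false in
/-- **S-lemma for `a = 4`** (exact statement requested by the T3 skeleton; `hU` is not needed) -/
theorem s_lemma_four [Fintype F] (hJ : OrthG J) (h2 : (2 : F) ≠ 0) (ha : a = 4)
    (hU : ¬ ∃ u1 u2 : Fin a → F, Ts2 J u1 u2) (S : Submodule F (Matrix (Fin a) (Fin a) F))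
    (hsa : ∀ C ∈ S, adj J C = C) (h1 : (1 : Matrix (Fin a) (Fin a) F) ∈ S)
    (hcomm : ∀ C ∈ S, ∀ D ∈ S, C * D = D * C)
    (hinv : ∀ e z, bf J e e = 0 → bf J e z = 0 → ∀ C ∈ S, eichM J e z * C * eichM J e (-z) ∈ S) :
    ∀ C ∈ S, ∃ c : F, C = c • (1 : Matrix (Fin a) (Fin a) F) := by
  have h4 : ((a : ℕ) : F) ≠ 0 := by
    rw [ha]
    have : ((4 : ℕ) : F) = 2 * 2 := by norm_num
    rw [this]
    exact mul_ne_zero h2 h2
  exact s_lemma_tr hJ h2 (by omega) h4 S hsa h1 hcomm hinv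

end Cfsg.Agent.Lib.Helper21.OTSFour
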