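import Mathlib
import Cfsg.Prelude.Def_GeometricClasses
import Cfsg.Agent.Lib.Helper7.AschDefs
import Cfsg.Agent.Lib.Helper10.S5630CoreSN
import Cfsg.Agent.Lib.Helper22.AschC7Defs
import Cfsg.Agent.Lib.Helper22.S5630I7A

/-!
# S5630, block I7, the C pieces (NORM): N1 `exists_ptGL`, N2 `exists_factorPerm`, N3 `isPureTensor_of_normalizes`,
N4 `mem_tensorWreathStandard`  (helper21, for helper22)
-/

set_option autoImplicit false

namespace Cfsg.Agent.Lib.Helper21.S5630I7C

open Matrix Cfsg.Geo Cfsg.Agent.Lib.Helper7.Asch Cfsg.Agent.Lib.Helper22.AschC7 Cfsg.Agent.Lib.Helper22.S5630I7A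

variable {F : Type*} [Field F] {n m t : ℕ}

/-! ## N1 -/

/-- **N1** pure tensors of invertible matrices -/
theorem exists_ptGL (gs : Fin t → GL (Fin m) F) :
    ∃ g : GL (Fin t → Fin m) F,
      (g : Matrix (Fin t → Fin m) (Fin t → Fin m) F) = pt (fun i => ((gs i : GL (Fin m) F) : Matrix (Fin m) (Fin m) F)) ∧
      ((g⁻¹ : GL (Fin t → Fin m) F) : Matrix (Fin t → Fin m) (Fin t → Fin m) F) =
        pt (fun i => (((gs i)⁻¹ : GL (Fin m) F) : Matrix (Fin m) (Fin m) F)) := by
  refine ⟨⟨pt (fun i => ((gs i : GL (Fin m) F) : Matrix (Fin m) (Fin m) F)),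
    pt (fun i => (((gs i)⁻¹ : GL (Fin m) F) : Matrix (Fin m) (Fin m) F)), ?_, ?_⟩, rfl, rfl⟩
  · rw [pt_mul]
    have h : (fun i => ((gs i : GL (Fin m) F) : Matrix (Fin m) (Fin m) F) *
        (((gs i)⁻¹ : GL (Fin m) F) : Matrix (Fin m) (Fin m) F)) = fun _ => (1 : Matrix (Fin m) (Fin m) F) := by
      funext i
      rw [← Units.val_mul, mul_inv_cancel, Units.val_one]
    rw [h, pt_one]
  · rw [pt_mul]
    have h : (fun i => (((gs i)⁻¹ : GL (Fin m) F) : Matrix (Fin m) (Fin m) F) *
        ((gs i : GL (Fin m) F) : Matrix (Fin m) (Fin m) F)) = fun _ => (1 : Matrix (Fin m) (Fin m) F) := by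
      funext i
      rw [← Units.val_mul, inv_mul_cancel, Units.val_one]
    rw [h, pt_one]

/-! ## N2 -/

/-- the factor permutation matrix -/
def piM (m : ℕ) (τ : Equiv.Perm (Fin t)) : Matrix (Fin t → Fin m) (Fin t → Fin m) F :=
  fun x y => if y = x ∘ τ then 1 else 0

theorem piM_mul_apply (τ : Equiv.Perm (Fin t)) (M : Matrix (Fin t → Fin m) (Fin t → Fin m) F)
    (x y : Fin t → Fin m) : (piM (F := F) m τ * M) x y = M (x ∘ τ) y := by
  rw [Matrix.mul_apply, Finset.sum_eq_single (x ∘ τ)]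
  · simp [piM]
  · intro z _ hz
    simp [piM, hz]
  · intro h
    exact absurd (Finset.mem_univ _) h

theorem comp_eq_iff (τ : Equiv.Perm (Fin t)) (y z : Fin t → Fin m) : y = z ∘ τ ↔ z = y ∘ τ.symm := by
  constructor
  · rintro rfl
    funext i
    simp
  · rintro rfl
    funext i
    simp

theorem mul_piM_apply (τ : Equiv.Perm (Fin t)) (M : Matrix (Fin t → Fin m) (Fin t → Fin m) F)
    (x y : Fin t → Fin m) : (M * piM (F := F) m τ) x y = M x (y ∘ τ.symm) := by
  rw [Matrix.mul_apply, Finset.sum_eq_single (y ∘ τ.symm)]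
  · have h : y = (y ∘ τ.symm) ∘ τ := (comp_eq_iff τ y _).2 rfl
    simp only [piM]
    rw [if_pos h, mul_one]
  · intro z _ hz
    have h : ¬ y = z ∘ τ := fun h => hz ((comp_eq_iff τ y z).1 h)
    simp only [piM]
    rw [if_neg h, mul_zero]
  · intro h
    exact absurd (Finset.mem_univ _) h

theorem piM_mul_piM (τ τ' : Equiv.Perm (Fin t)) : piM (F := F) m τ * piM m τ' = piM m (τ * τ') := by
  ext x y
  rw [piM_mul_apply]
  rfl

theorem piM_one : piM (F := F) m (1 : Equiv.Perm (Fin t)) = 1 := by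
  ext x y
  by_cases h : x = y
  · subst h
    simp [piM]
  · have h' : ¬ y = x ∘ ⇑(1 : Equiv.Perm (Fin t)) := by
      intro h'
      apply h
      rw [h']
      rfl
    rw [Matrix.one_apply_ne h]
    unfold piM
    rw [if_neg h']

/-- the factor permutation as an element of `GL` -/
def piGL (m : ℕ) (τ : Equiv.Perm (Fin t)) : GL (Fin t → Fin m) F where
  val := piM m τ
  inv := piM m τ⁻¹
  val_inv := by rw [piM_mul_piM, mul_inv_cancel, piM_one]
  inv_val := by rw [piM_mul_piM, inv_mul_cancel, piM_one]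

/-- **N2** factor permutations permute the position algebras -/
theorem exists_factorPerm (σ : Equiv.Perm (Fin t)) :
    ∃ π : GL (Fin t → Fin m) F, IsFactorPermutation m t π ∧
      ∀ (i : Fin t) (a : Matrix (Fin m) (Fin m) F),
        (π : Matrix (Fin t → Fin m) (Fin t → Fin m) F) * pos i a *
          ((π⁻¹ : GL (Fin t → Fin m) F) : Matrix (Fin t → Fin m) (Fin t → Fin m) F) = pos (σ i) a := by
  refine ⟨piGL m σ, ⟨σ, fun x y => rfl⟩, ?_⟩
  intro i a
  show piM m σ * pos i a * piM m σ⁻¹ = pos (σ i) a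
  ext x y
  have hs : (σ⁻¹ : Equiv.Perm (Fin t)).symm = σ := by
    rw [Equiv.Perm.inv_def, Equiv.symm_symm]
  rw [mul_piM_apply, piM_mul_apply, hs, pos_apply, pos_apply]
  have h1 : (∀ j, j ≠ i → (x ∘ σ) j = (y ∘ σ) j) ↔ (∀ j, j ≠ σ i → x j = y j) := by
    constructor
    · intro h j hj
      have h2 := h (σ.symm j) (by
        intro h3
        apply hj
        rw [← h3, Equiv.apply_symm_apply])
      simpa using h2
    · intro h j hj
      exact h (σ j) (by
        intro h3
        exact hj (σ.injective h3))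
  by_cases hc : ∀ j, j ≠ σ i → x j = y j
  · rw [if_pos hc, if_pos (h1.2 hc)]
    rfl
  · rw [if_neg hc, if_neg (fun h => hc (h1.1 h))]

/-! ## N3 -/

section N3
variable {X : Type} [Fintype X] [DecidableEq X]

/-- conjugation by `g` as an algebra endomorphism of `M_X(F)` -/
def conjA (g : GL X F) : Matrix X X F →ₐ[F] Matrix X X F where
  toFun A := (g : Matrix X X F) * A * ((g⁻¹ : GL X F) : Matrix X X F)
  map_one' := by rw [mul_one, ← Units.val_mul, mul_inv_cancel, Units.val_one]
  map_mul' A B := by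
    have h : ((g⁻¹ : GL X F) : Matrix X X F) * (g : Matrix X X F) = 1 := by
      rw [← Units.val_mul, inv_mul_cancel, Units.val_one]
    calc (g : Matrix X X F) * (A * B) * ((g⁻¹ : GL X F) : Matrix X X F)
        = (g : Matrix X X F) * A * 1 * B * ((g⁻¹ : GL X F) : Matrix X X F) := by
          rw [mul_one, mul_assoc (g : Matrix X X F) A B]
      _ = _ := by rw [← h]; simp only [mul_assoc]
  map_zero' := by rw [mul_zero, zero_mul]
  map_add' A B := by rw [mul_add, add_mul]
  commutes' c := by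
    rw [Algebra.algebraMap_eq_smul_one, Matrix.mul_smul, Matrix.smul_mul, mul_one, ← Units.val_mul, mul_inv_cancel,
      Units.val_one]

theorem conjA_apply (g : GL X F) (A : Matrix X X F) :
    conjA g A = (g : Matrix X X F) * A * ((g⁻¹ : GL X F) : Matrix X X F) := rfl

end N3

/-- an algebra endomorphism of `M_X(F)` stabilising the `i`-th position algebra induces an algebra endomorphism of `M_m(F)` -/
theorem exists_algHom_of_pos (i : Fin t) (θ : Matrix (Fin m) (Fin m) F → Matrix (Fin m) (Fin m) F)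
    (C : Matrix (Fin t → Fin m) (Fin t → Fin m) F →ₐ[F] Matrix (Fin t → Fin m) (Fin t → Fin m) F)
    (h : ∀ a, C (pos i a) = pos i (θ a)) :
    ∃ Θ : Matrix (Fin m) (Fin m) F →ₐ[F] Matrix (Fin m) (Fin m) F, ∀ a, Θ a = θ a := by
  obtain ⟨ψ, hψ⟩ := exists_posAlgHom (F := F) (m := m) (t := t) i
  have hinj := pos_injective (F := F) (m := m) (t := t) i
  refine ⟨{ toFun := θ
            map_one' := ?_
            map_mul' := ?_
            map_zero' := ?_
            map_add' := ?_
            commutes' := ?_ }, fun a => rfl⟩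
  · apply hinj
    rw [← h, ← hψ, map_one, map_one]
  · intro a b
    apply hinj
    rw [← h, ← hψ, map_mul, map_mul, hψ, hψ, h, h, ← hψ, ← hψ, ← map_mul, hψ]
  · apply hinj
    rw [← h, ← hψ, map_zero, map_zero]
  · intro a b
    apply hinj
    rw [← h, ← hψ, map_add, map_add, hψ, hψ, h, h, ← hψ, ← hψ, ← map_add, hψ]
  · intro c
    apply hinj
    rw [← h, ← hψ, AlgHom.commutes, AlgHom.commutes]

/-- **N3** an invertible matrix normalising every position algebra is a pure tensor -/
theorem isPureTensor_of_normalizes (ht : 0 < t) (g : GL (Fin t → Fin m) F)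
    (hg : ∀ (i : Fin t) (a : Matrix (Fin m) (Fin m) F), ∃ b : Matrix (Fin m) (Fin m) F,
      (g : Matrix (Fin t → Fin m) (Fin t → Fin m) F) * pos i a *
        ((g⁻¹ : GL (Fin t → Fin m) F) : Matrix (Fin t → Fin m) (Fin t → Fin m) F) = pos i b) :
    IsPureTensor m t g := by
  classical
  choose θ hθ using hg
  have hΘ : ∀ i : Fin t, ∃ P : GL (Fin m) F, ∀ x, θ i x =
      (P : Matrix (Fin m) (Fin m) F) * x * ((P⁻¹ : GL (Fin m) F) : Matrix (Fin m) (Fin m) F) := by
    intro i
    obtain ⟨Θ, hΘ⟩ := exists_algHom_of_pos i (θ i) (conjA g) (fun a => by rw [conjA_apply, hθ])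
    obtain ⟨P, hP⟩ := Cfsg.Agent.Lib.Helper10.S5630CoreSN.inner_of_algHom Θ
    exact ⟨P, fun x => by rw [← hΘ, hP]⟩
  choose a ha using hΘ
  obtain ⟨A, hA, hAinv⟩ := exists_ptGL (F := F) a
  -- `A * pos i x = pos i (θ i x) * A`
  have h1 : ∀ (i : Fin t) (x : Matrix (Fin m) (Fin m) F),
      (A : Matrix (Fin t → Fin m) (Fin t → Fin m) F) * pos i x = pos i (θ i x) * (A : Matrix (Fin t → Fin m) (Fin t → Fin m) F) := by
    intro i x
    rw [hA, pt_mul_pos, pos_mul_pt, ha]
    congr 2
    rw [mul_assoc, ← Units.val_mul, inv_mul_cancel, Units.val_one, mul_one]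
  have hAA : ((A⁻¹ : GL (Fin t → Fin m) F) : Matrix (Fin t → Fin m) (Fin t → Fin m) F) *
      (A : Matrix (Fin t → Fin m) (Fin t → Fin m) F) = 1 := by
    rw [← Units.val_mul, inv_mul_cancel, Units.val_one]
  have hAA' : (A : Matrix (Fin t → Fin m) (Fin t → Fin m) F) *
      ((A⁻¹ : GL (Fin t → Fin m) F) : Matrix (Fin t → Fin m) (Fin t → Fin m) F) = 1 := by
    rw [← Units.val_mul, mul_inv_cancel, Units.val_one]
  have hgg : ((g⁻¹ : GL (Fin t → Fin m) F) : Matrix (Fin t → Fin m) (Fin t → Fin m) F) *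
      (g : Matrix (Fin t → Fin m) (Fin t → Fin m) F) = 1 := by
    rw [← Units.val_mul, inv_mul_cancel, Units.val_one]
  -- `A⁻¹ * pos i (θ i x) = pos i x * A⁻¹`
  have h2 : ∀ (i : Fin t) (x : Matrix (Fin m) (Fin m) F),
      ((A⁻¹ : GL (Fin t → Fin m) F) : Matrix (Fin t → Fin m) (Fin t → Fin m) F) * pos i (θ i x) =
        pos i x * ((A⁻¹ : GL (Fin t → Fin m) F) : Matrix (Fin t → Fin m) (Fin t → Fin m) F) := by
    intro i x
    calc ((A⁻¹ : GL (Fin t → Fin m) F) : Matrix (Fin t → Fin m) (Fin t → Fin m) F) * pos i (θ i x)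
        = ((A⁻¹ : GL (Fin t → Fin m) F) : Matrix (Fin t → Fin m) (Fin t → Fin m) F) *
            (pos i (θ i x) * (A : Matrix (Fin t → Fin m) (Fin t → Fin m) F)) *
            ((A⁻¹ : GL (Fin t → Fin m) F) : Matrix (Fin t → Fin m) (Fin t → Fin m) F) := by
          rw [mul_assoc, mul_assoc, hAA', mul_one]
      _ = pos i x * ((A⁻¹ : GL (Fin t → Fin m) F) : Matrix (Fin t → Fin m) (Fin t → Fin m) F) := by
          rw [← h1, ← mul_assoc, hAA, one_mul]
  -- `g * pos i x = pos i (θ i x) * g`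
  have h3 : ∀ (i : Fin t) (x : Matrix (Fin m) (Fin m) F),
      (g : Matrix (Fin t → Fin m) (Fin t → Fin m) F) * pos i x =
        pos i (θ i x) * (g : Matrix (Fin t → Fin m) (Fin t → Fin m) F) := by
    intro i x
    rw [← hθ, mul_assoc, hgg, mul_one]
  obtain ⟨c, hc⟩ := scalar_of_commute_pos
    (((A⁻¹ : GL (Fin t → Fin m) F) : Matrix (Fin t → Fin m) (Fin t → Fin m) F) *
      (g : Matrix (Fin t → Fin m) (Fin t → Fin m) F)) (by
    intro i x
    rw [mul_assoc, h3, ← mul_assoc, h2, mul_assoc])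
  have hgc : (g : Matrix (Fin t → Fin m) (Fin t → Fin m) F) =
      c • (A : Matrix (Fin t → Fin m) (Fin t → Fin m) F) := by
    calc (g : Matrix (Fin t → Fin m) (Fin t → Fin m) F)
        = (A : Matrix (Fin t → Fin m) (Fin t → Fin m) F) *
            (((A⁻¹ : GL (Fin t → Fin m) F) : Matrix (Fin t → Fin m) (Fin t → Fin m) F) *
              (g : Matrix (Fin t → Fin m) (Fin t → Fin m) F)) := by
          rw [← mul_assoc, hAA', one_mul]
      _ = c • (A : Matrix (Fin t → Fin m) (Fin t → Fin m) F) := by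
          rw [hc, Matrix.mul_smul, mul_one]
  by_cases hc0 : c = 0
  · -- then the index type is empty
    rw [hc0, zero_smul] at hgc
    have hemp : ∀ x : Fin t → Fin m, False := by
      intro x
      have h4 := congrFun (congrFun hgg x) x
      rw [hgc, mul_zero] at h4
      simp at h4
    exact ⟨fun _ => 1, fun x _ => (hemp x).elim⟩
  · rw [isPureTensor_iff]
    let d : GL (Fin m) F :=
      ⟨c • ((a ⟨0, ht⟩ : GL (Fin m) F) : Matrix (Fin m) (Fin m) F),
        c⁻¹ • (((a ⟨0, ht⟩)⁻¹ : GL (Fin m) F) : Matrix (Fin m) (Fin m) F),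
        by rw [smul_mul_smul_comm, mul_inv_cancel₀ hc0, one_smul, ← Units.val_mul, mul_inv_cancel, Units.val_one],
        by rw [smul_mul_smul_comm, inv_mul_cancel₀ hc0, one_smul, ← Units.val_mul, inv_mul_cancel, Units.val_one]⟩
    refine ⟨Function.update a ⟨0, ht⟩ d, ?_⟩
    have h5 : (fun i => ((Function.update a ⟨0, ht⟩ d i : GL (Fin m) F) : Matrix (Fin m) (Fin m) F)) =
        Function.update (fun i => ((a i : GL (Fin m) F) : Matrix (Fin m) (Fin m) F)) ⟨0, ht⟩
          (c • ((a ⟨0, ht⟩ : GL (Fin m) F) : Matrix (Fin m) (Fin m) F)) := by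
      funext i
      by_cases hi : i = ⟨0, ht⟩
      · subst hi
        rw [Function.update_self, Function.update_self]
      · rw [Function.update_of_ne hi, Function.update_of_ne hi]
    rw [h5, pt_update_smul, Function.update_eq_self, hgc, hA]

/-! ## N4 -/

/-- **N4** (NORM) an invertible matrix permuting the position algebras lies in the standard tensor-wreath group -/
theorem mem_tensorWreathStandard (ht : 0 < t) (g : GL (Fin t → Fin m) F) (σ : Equiv.Perm (Fin t))
    (hg : ∀ (i : Fin t) (a : Matrix (Fin m) (Fin m) F), ∃ b : Matrix (Fin m) (Fin m) F,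
      (g : Matrix (Fin t → Fin m) (Fin t → Fin m) F) * pos i a *
        ((g⁻¹ : GL (Fin t → Fin m) F) : Matrix (Fin t → Fin m) (Fin t → Fin m) F) = pos (σ i) b) :
    g ∈ tensorWreathStandard m t F := by
  obtain ⟨π, hπ, hπpos⟩ := exists_factorPerm (F := F) (m := m) σ
  have hππ : ((π⁻¹ : GL (Fin t → Fin m) F) : Matrix (Fin t → Fin m) (Fin t → Fin m) F) *
      (π : Matrix (Fin t → Fin m) (Fin t → Fin m) F) = 1 := by
    rw [← Units.val_mul, inv_mul_cancel, Units.val_one]
  have hpure : IsPureTensor m t (π⁻¹ * g) := by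
    apply isPureTensor_of_normalizes ht
    intro i a
    obtain ⟨b, hb⟩ := hg i a
    refine ⟨b, ?_⟩
    rw [_root_.mul_inv_rev, inv_inv, Units.val_mul, Units.val_mul]
    calc ((π⁻¹ : GL (Fin t → Fin m) F) : Matrix (Fin t → Fin m) (Fin t → Fin m) F) *
          (g : Matrix (Fin t → Fin m) (Fin t → Fin m) F) * pos i a *
          (((g⁻¹ : GL (Fin t → Fin m) F) : Matrix (Fin t → Fin m) (Fin t → Fin m) F) *
            (π : Matrix (Fin t → Fin m) (Fin t → Fin m) F))
        = ((π⁻¹ : GL (Fin t → Fin m) F) : Matrix (Fin t → Fin m) (Fin t → Fin m) F) *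
            ((g : Matrix (Fin t → Fin m) (Fin t → Fin m) F) * pos i a *
              ((g⁻¹ : GL (Fin t → Fin m) F) : Matrix (Fin t → Fin m) (Fin t → Fin m) F)) *
            (π : Matrix (Fin t → Fin m) (Fin t → Fin m) F) := by
          simp only [mul_assoc]
      _ = pos i b := by
          rw [hb, ← hπpos i b]
          simp only [mul_assoc]
          rw [hππ, mul_one, ← mul_assoc, hππ, one_mul]
  have h2 : g = π * (π⁻¹ * g) := by group
  rw [h2]
  unfold tensorWreathStandard
  exact Subgroup.mul_mem _ (Subgroup.subset_closure (Or.inr hπ)) (Subgroup.subset_closure (Or.inl hpure))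

end Cfsg.Agent.Lib.Helper21.S5630I7C
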