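import Mathlib
import Cfsg.Agent.S4219

/-!
# S2197-P4 (helper12's front): a faithful group of order 17971200 on 25 points is not 2-transitive

The two-point stabiliser has order divisible by 13; a Sylow 13-subgroup of it fixes exactly 12
points, and by Witt's lemma (S4219) its normaliser is 2-transitive on these 12 points, so 11 divides
the group order, which it does not.
-/

set_option autoImplicit false

namespace Cfsg.Agent.Lib.Helper12.Tits2T

open MulAction

/-- orbit-stabiliser, `Nat.card` version -/
theorem p4_card_orbit_mul_stab {G X : Type*} [Group G] [MulAction G X] (b : X) :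
    Nat.card (orbit G b) * Nat.card (stabilizer G b) = Nat.card G := by
  rw [← Nat.card_prod]
  exact Nat.card_congr (orbitProdStabilizerEquivGroup G b)

theorem not_two_trans_25 {G Ω : Type*} [Group G] [Finite G] [Fintype Ω] [MulAction G Ω]
    [FaithfulSMul G Ω] (hG : Nat.card G = 17971200) (hΩ : Fintype.card Ω = 25) :
    ¬ IsMultiplyPretransitive G Ω 2 := by
  intro h2
  classical
  have : Fact (Nat.Prime 13) := ⟨by norm_num⟩
  -- a pair of distinct points
  have hx : Nonempty (Fin 2 ↪ Ω) := by
    rw [Function.Embedding.nonempty_iff_card_le, Fintype.card_fin, hΩ]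
    norm_num
  obtain ⟨x⟩ := hx
  have hx01 : x 0 ≠ x 1 := fun h => by simpa using x.injective h
  -- the order of the two-point stabiliser
  have horb : Nat.card (orbit G x) = 600 := by
    have : orbit G x = Set.univ := MulAction.orbit_eq_univ G x
    rw [this, Nat.card_congr (Equiv.Set.univ _), Nat.card_eq_fintype_card,
      Fintype.card_embedding_eq, Fintype.card_fin, hΩ]
    rfl
  have hH : 13 ∣ Nat.card (stabilizer G x) := by
    have h := p4_card_orbit_mul_stab (G := G) x
    rw [horb, hG] at h
    exact ⟨2304, by omega⟩
  let P : Sylow 13 (stabilizer G x) := default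
  set Q : Subgroup G := (P : Subgroup (stabilizer G x)).map (stabilizer G x).subtype with hQdef
  have hQp : IsPGroup 13 Q := P.isPGroup'.map (stabilizer G x).subtype
  have hQne : Q ≠ ⊥ := by
    intro h
    rw [hQdef, Subgroup.map_eq_bot_iff_of_injective _ (stabilizer G x).subtype_injective] at h
    exact P.ne_bot_of_dvd_card hH h
  -- fixed points of Q
  have hQH : ∀ q ∈ Q, q • x = x := by
    intro q hq
    obtain ⟨h, _, rfl⟩ := hq
    exact h.2
  have hxF : ∀ i, x i ∈ fixedPoints Q Ω := by
    intro i q
    have := hQH q.1 q.2
    show (q : G) • x i = x i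
    rw [← Function.Embedding.smul_apply, this]
  have hmod : Nat.card Ω ≡ Nat.card (fixedPoints Q Ω) [MOD 13] := hQp.card_modEq_card_fixedPoints Ω
  have hcF : (fixedPoints Q Ω).ncard = 12 := by
    have h1 : Nat.card (fixedPoints Q Ω) = (fixedPoints Q Ω).ncard :=
      _root_.Nat.card_coe_set_eq (fixedPoints Q Ω)
    have h2' : 2 ≤ (fixedPoints Q Ω).ncard := by
      have hsub : ({x 0, x 1} : Set Ω) ⊆ fixedPoints Q Ω := by
        intro y hy
        rcases hy with rfl | rfl
        · exact hxF 0
        · exact hxF 1
      calc 2 = ({x 0, x 1} : Set Ω).ncard := (Set.ncard_pair hx01).symm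
        _ ≤ (fixedPoints Q Ω).ncard := Set.ncard_le_ncard hsub
    have h3 : (fixedPoints Q Ω).ncard < 25 := by
      obtain ⟨q, hq1⟩ := (Subgroup.ne_bot_iff_exists_ne_one).mp hQne
      have hmv : ∃ ω : Ω, (q : G) • ω ≠ ω := by
        by_contra hcon
        apply hq1
        have h1' : (q : G) = 1 := by
          apply FaithfulSMul.eq_of_smul_eq_smul (α := Ω)
          intro ω
          rw [one_smul]
          by_contra h'
          exact hcon ⟨ω, h'⟩
        exact Subtype.ext h1'
      obtain ⟨ω, hω⟩ := hmv
      have hss : fixedPoints Q Ω ⊂ Set.univ := by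
        rw [Set.ssubset_univ_iff]
        intro hu
        have : ω ∈ fixedPoints Q Ω := by rw [hu]; trivial
        exact hω (this q)
      have := Set.ncard_lt_ncard hss
      rw [Set.ncard_univ, Nat.card_eq_fintype_card, hΩ] at this
      exact this
    rw [Nat.card_eq_fintype_card, hΩ, h1] at hmod
    unfold Nat.ModEq at hmod
    omega
  -- the stabiliser of `x 0` in the normaliser of `Q` is transitive on the other 11 fixed points
  set K : Subgroup G := Subgroup.normalizer (Q : Set G) ⊓ stabilizer G (x 0) with hKdef
  have horbK : orbit K (x 1) = fixedPoints Q Ω \ {x 0} := by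
    ext y
    constructor
    · rintro ⟨k, rfl⟩
      have hkN : (k : G) ∈ Subgroup.normalizer (Q : Set G) := k.2.1
      have hk0 : (k : G) • x 0 = x 0 := k.2.2
      refine ⟨?_, ?_⟩
      · intro q
        show (q : G) • ((k : G) • x 1) = (k : G) • x 1
        have hq' : (k : G)⁻¹ * q * k ∈ Q := (Subgroup.mem_set_normalizer_iff''.mp hkN q).mp q.2
        have h3 : ((k : G)⁻¹ * q * k) • x 1 = x 1 := hxF 1 ⟨_, hq'⟩
        calc (q : G) • ((k : G) • x 1) = (k : G) • (((k : G)⁻¹ * q * k) • x 1) := by
              simp only [← mul_smul]; congr 1; group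
          _ = (k : G) • x 1 := by rw [h3]
      · intro hy
        rw [Set.mem_singleton_iff] at hy
        have hy' : (k : G) • x 1 = (k : G) • x 0 := by rw [hk0]; exact hy
        exact hx01 (smul_left_cancel _ hy').symm
    · rintro ⟨hyF, hy0⟩
      rw [Set.mem_singleton_iff] at hy0
      have hne : x 0 ≠ y := fun h => hy0 h.symm
      obtain ⟨g, hgN, hg⟩ := Cfsg.Agent.S4219.result h2 x P (Function.Embedding.embFinTwo hx01)
        (Function.Embedding.embFinTwo hne)
        (by
          intro i
          fin_cases i
          · exact hxF 0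
          · exact hxF 1)
        (by
          intro i
          fin_cases i
          · exact hxF 0
          · exact hyF)
      have hg0 : g • x 0 = x 0 := by
        have := DFunLike.congr_fun hg 0
        rwa [Function.Embedding.smul_apply, Function.Embedding.embFinTwo_apply_zero,
          Function.Embedding.embFinTwo_apply_zero] at this
      have hg1 : g • x 1 = y := by
        have := DFunLike.congr_fun hg 1
        rwa [Function.Embedding.smul_apply, Function.Embedding.embFinTwo_apply_one,
          Function.Embedding.embFinTwo_apply_one] at this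
      exact ⟨⟨g, hgN, hg0⟩, hg1⟩
  have h11 : Nat.card (orbit K (x 1)) = 11 := by
    rw [_root_.Nat.card_coe_set_eq, horbK, Set.ncard_sdiff_singleton_of_mem (hxF 0), hcF]
  have hdvd : 11 ∣ Nat.card G := by
    have h := p4_card_orbit_mul_stab (G := K) (x 1)
    rw [h11] at h
    have h' : 11 ∣ Nat.card K := ⟨_, h.symm⟩
    exact h'.trans (Subgroup.card_subgroup_dvd_card K)
  rw [hG] at hdvd
  omega

end Cfsg.Agent.Lib.Helper12.Tits2T
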