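import Mathlib
import Cfsg.Prelude.Def_Involutions

set_option autoImplicit false
set_option linter.style.haveILetI false
set_option linter.unusedSectionVars false

namespace Cfsg.Agent.Lib.Helper21.Suz

open Subgroup

variable {G : Type*} [Group G]

/-- involution centralizers are commutative, elementwise -/
def ICA (G : Type*) [Group G] : Prop :=
  ∀ t : G, orderOf t = 2 → ∀ a b : G, t * a = a * t → t * b = b * t → a * b = b * a

theorem ICA_of_isMulCommutative
    (h : ∀ t : G, orderOf t = 2 → IsMulCommutative ↥(Subgroup.centralizer ({t} : Set G))) :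
    ICA G := by
  intro t ht a b ha hb
  have ha' : a ∈ Subgroup.centralizer ({t} : Set G) :=
    Subgroup.mem_centralizer_singleton_iff.mpr ha.symm
  have hb' : b ∈ Subgroup.centralizer ({t} : Set G) :=
    Subgroup.mem_centralizer_singleton_iff.mpr hb.symm
  have := (h t ht).is_comm.comm ⟨a, ha'⟩ ⟨b, hb'⟩
  exact congrArg Subtype.val this

theorem sq_of_two {t : G} (ht : orderOf t = 2) : t * t = 1 := by
  have := pow_orderOf_eq_one t
  rwa [ht, pow_two] at this

theorem inv_of_two {t : G} (ht : orderOf t = 2) : t⁻¹ = t :=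
  inv_eq_of_mul_eq_one_left (sq_of_two ht)

theorem ne_one_of_two {t : G} (ht : orderOf t = 2) : t ≠ 1 := by
  rintro rfl
  simp at ht

theorem orderOf_conj' (g x : G) : orderOf (g * x * g⁻¹) = orderOf x := by
  have := orderOf_injective (MulAut.conj g).toMonoidHom (MulAut.conj g).injective x
  simpa using this

theorem two_of_sq {t : G} (h : t * t = 1) (h1 : t ≠ 1) : orderOf t = 2 :=
  orderOf_eq_prime (by rwa [pow_two]) h1

/-- a nontrivial finite 2-subgroup contains an involution -/
theorem exists_invol_of_pgroup (H : Subgroup G) [Finite H] (hH : IsPGroup 2 H) (hne : H ≠ ⊥) :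
    ∃ t ∈ H, orderOf t = 2 := by
  haveI : Fact (Nat.Prime 2) := ⟨Nat.prime_two⟩
  have h2 : 2 ∣ Nat.card H := by
    rcases hH.card_eq_or_dvd with h | h
    · exact absurd ((Subgroup.card_eq_one).mp h) hne
    · exact h
  obtain ⟨x, hx⟩ := exists_prime_orderOf_dvd_card' 2 h2
  exact ⟨x, x.2, by rw [← hx, Subgroup.orderOf_coe]⟩

theorem isPGroup_zpowers_of_pow {x : G} {k : ℕ} (hx : x ^ (2 ^ k) = 1) :
    IsPGroup 2 (Subgroup.zpowers x) := by
  rintro ⟨y, hy⟩
  obtain ⟨n, rfl⟩ := Subgroup.mem_zpowers_iff.mp hy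
  refine ⟨k, ?_⟩
  apply Subtype.ext
  simp only [SubmonoidClass.coe_pow, OneMemClass.coe_one]
  rw [← zpow_natCast, ← zpow_mul, mul_comm, zpow_mul, zpow_natCast, hx, one_zpow]

variable [Finite G]

/-- A 2-element normalizing a Sylow 2-subgroup lies in it. -/
theorem mem_sylow_of_normalizer (P : Sylow 2 G) {x : G} (hxN : x ∈ normalizer (P : Set G))
    {k : ℕ} (hx : x ^ (2 ^ k) = 1) : x ∈ P := by
  have h := (isPGroup_zpowers_of_pow hx).inf_normalizer_sylow P
  have : x ∈ Subgroup.zpowers x ⊓ normalizer (P : Set G) :=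
    ⟨Subgroup.mem_zpowers x, hxN⟩
  rw [h] at this
  exact this.2

theorem invol_mem_sylow_of_normalizer (P : Sylow 2 G) {t : G} (htN : t ∈ normalizer (P : Set G))
    (ht : orderOf t = 2) : t ∈ P :=
  mem_sylow_of_normalizer P htN (k := 1) (by rw [pow_one, pow_two]; exact sq_of_two ht)

theorem sylow_comm (h : ICA G) (P : Sylow 2 G) : ∀ a ∈ P, ∀ b ∈ P, a * b = b * a := by
  intro a ha b hb
  by_cases hP : (P : Subgroup G) = ⊥
  · have ha' : a ∈ (P : Subgroup G) := ha
    have hb' : b ∈ (P : Subgroup G) := hb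
    rw [hP, Subgroup.mem_bot] at ha' hb'
    rw [ha', hb']
  · haveI : Fact (Nat.Prime 2) := ⟨Nat.prime_two⟩
    haveI : Nontrivial (P : Subgroup G) := (Subgroup.nontrivial_iff_ne_bot _).mpr hP
    haveI := P.isPGroup'.center_nontrivial
    have hc : IsPGroup 2 (Subgroup.center (P : Subgroup G)) := P.isPGroup'.to_subgroup _
    have h2 : 2 ∣ Nat.card (Subgroup.center (P : Subgroup G)) := by
      rcases hc.card_eq_or_dvd with h1 | h1
      · exact absurd h1 (by
          have := Finite.one_lt_card (α := Subgroup.center (P : Subgroup G))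
          omega)
      · exact h1
    obtain ⟨z, hz⟩ := exists_prime_orderOf_dvd_card' 2 h2
    have hzt : orderOf ((z : (P : Subgroup G)) : G) = 2 := by
      rw [Subgroup.orderOf_coe, Subgroup.orderOf_coe]; exact hz
    have hcomm : ∀ x ∈ P, ((z : (P : Subgroup G)) : G) * x = x * ((z : (P : Subgroup G)) : G) := by
      intro x hx
      have := Subgroup.mem_center_iff.mp z.2 ⟨x, hx⟩
      exact (congrArg Subtype.val this).symm
    exact h _ hzt a b (hcomm a ha) (hcomm b hb)

/-- the centralizer of an involution of `P` centralizes `P`. -/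
theorem cent_invol (h : ICA G) (P : Sylow 2 G) {t : G} (ht : orderOf t = 2) (htP : t ∈ P)
    {c : G} (hc : t * c = c * t) : ∀ x ∈ P, c * x = x * c := fun x hx =>
  h t ht c x hc (sylow_comm h P t htP x hx)

/-- Sylow 2-subgroups are TI. -/
theorem sylow_TI (h : ICA G) (P Q : Sylow 2 G) {x : G} (hx1 : x ≠ 1) (hxP : x ∈ P) (hxQ : x ∈ Q) :
    P = Q := by
  have hz : IsPGroup 2 (Subgroup.zpowers x) :=
    P.isPGroup'.to_le (by rw [Subgroup.zpowers_le]; exact hxP)
  obtain ⟨t, htz, ht⟩ := exists_invol_of_pgroup (Subgroup.zpowers x) hz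
    (by rw [Ne, Subgroup.zpowers_eq_bot]; exact hx1)
  have htP : t ∈ P := (Subgroup.zpowers_le.mpr hxP) htz
  have htQ : t ∈ Q := (Subgroup.zpowers_le.mpr hxQ) htz
  have hQN : (Q : Subgroup G) ≤ normalizer (P : Set G) := by
    intro y hy
    have hyt : t * y = y * t := sylow_comm h Q t htQ y hy
    have hyc := cent_invol h P ht htP hyt
    apply Subgroup.centralizer_le_normalizer
    rw [Subgroup.mem_centralizer_iff]
    intro x hx
    exact (hyc x hx).symm
  have h1 := Q.isPGroup'.inf_normalizer_sylow P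
  have h2 : (Q : Subgroup G) ≤ P := by
    have : (Q : Subgroup G) ⊓ normalizer (P : Set G) = Q := inf_eq_left.mpr hQN
    rw [this] at h1
    exact inf_eq_left.mp h1.symm
  exact Sylow.ext (Q.is_maximal' P.isPGroup' h2)

/-- each involution lies in a Sylow 2-subgroup -/
theorem exists_sylow_of_invol {t : G} (ht : orderOf t = 2) : ∃ P : Sylow 2 G, t ∈ P := by
  have hz : IsPGroup 2 (Subgroup.zpowers t) :=
    isPGroup_zpowers_of_pow (k := 1) (by rw [pow_one, pow_two]; exact sq_of_two ht)
  obtain ⟨P, hP⟩ := hz.exists_le_sylow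
  exact ⟨P, hP (Subgroup.mem_zpowers t)⟩

theorem mem_smul_sylow {P : Sylow 2 G} {g x : G} : x ∈ g • P ↔ g⁻¹ * x * g ∈ P := by
  change x ∈ ((g • P : Sylow 2 G) : Subgroup G) ↔ _
  rw [Sylow.coe_subgroup_smul, Subgroup.mem_pointwise_smul_iff_inv_smul_mem]
  simp only [MulAut.smul_def, MulAut.conj_inv_apply]
  exact Iff.rfl

theorem smul_mem_smul_sylow {P : Sylow 2 G} {g x : G} (hx : x ∈ P) : g * x * g⁻¹ ∈ g • P := by
  rw [mem_smul_sylow]
  simpa [mul_assoc] using hx

theorem sylow_ne_bot_of_not_normal (P : Sylow 2 G) (hn : ¬ (P : Subgroup G).Normal) :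
    (P : Subgroup G) ≠ ⊥ := by
  intro h
  apply hn
  rw [h]
  infer_instance

/-- the normalizer of a non-normal Sylow 2-subgroup is strongly embedded -/
theorem se_normalizer (h : ICA G) (P : Sylow 2 G) (hn : ¬ (P : Subgroup G).Normal) :
    Cfsg.IsStronglyEmbedded (normalizer ((P : Subgroup G) : Set G)) := by
  have hne := sylow_ne_bot_of_not_normal P hn
  refine ⟨?_, ?_, ?_⟩
  · intro htop
    exact hn (Subgroup.normalizer_eq_top_iff.mp htop)
  · obtain ⟨t, htP, ht⟩ := exists_invol_of_pgroup (P : Subgroup G) P.isPGroup' hne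
    have htN : t ∈ normalizer ((P : Subgroup G) : Set G) := Subgroup.le_normalizer htP
    have h1 : orderOf (⟨t, htN⟩ : normalizer ((P : Subgroup G) : Set G)) = 2 := by
      rw [← Subgroup.orderOf_coe]; exact ht
    have := orderOf_dvd_natCard (⟨t, htN⟩ : normalizer ((P : Subgroup G) : Set G))
    rw [h1] at this
    exact even_iff_two_dvd.mpr this
  · intro g hg
    by_contra hodd
    rw [Nat.not_odd_iff_even] at hodd
    haveI : Fact (Nat.Prime 2) := ⟨Nat.prime_two⟩
    obtain ⟨x, hx⟩ := exists_prime_orderOf_dvd_card' 2 (even_iff_two_dvd.mp hodd)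
    have hxt : orderOf (x : G) = 2 := by rw [Subgroup.orderOf_coe]; exact hx
    have hx1 : (x : G) ∈ normalizer ((P : Subgroup G) : Set G) := x.2.1
    have hx2 : (x : G) ∈ (normalizer ((P : Subgroup G) : Set G)).map (MulAut.conj g).toMonoidHom :=
      x.2.2
    have hxP : (x : G) ∈ P := invol_mem_sylow_of_normalizer P hx1 hxt
    obtain ⟨m, hm, hmx⟩ := Subgroup.mem_map.mp hx2
    have hmx' : g * m * g⁻¹ = (x : G) := by simpa using hmx
    have hmt : orderOf m = 2 := by
      have : m = g⁻¹ * (x : G) * g := by rw [← hmx']; group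
      rw [this]
      have := orderOf_conj' (g⁻¹) (x : G)
      rw [inv_inv] at this
      rw [this]; exact hxt
    have hmP : m ∈ P := invol_mem_sylow_of_normalizer P hm hmt
    have hxgP : (x : G) ∈ g • P := by
      rw [← hmx']; exact smul_mem_smul_sylow hmP
    have heq := sylow_TI h P (g • P) (ne_one_of_two hxt) hxP hxgP
    exact hg (Sylow.smul_eq_iff_mem_normalizer.mp heq.symm)

end Cfsg.Agent.Lib.Helper21.Suz
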