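import Mathlib
import Cfsg.Agent.Lib.Helper21.SuzA
import Cfsg.Agent.S1224
import Cfsg.Agent.S1225

set_option autoImplicit false
set_option linter.style.haveILetI false
set_option linter.unusedSectionVars false

namespace Cfsg.Agent.Lib.Helper21.Suz

open Subgroup

variable {G : Type*} [Group G] [Finite G]

theorem mem_normalizer_sylow_iff {P : Sylow 2 G} {g : G} :
    g ∈ normalizer ((P : Subgroup G) : Set G) ↔ g • P = P :=
  Sylow.smul_eq_iff_mem_normalizer.symm

theorem mem_map_conj_iff (H : Subgroup G) (u d : G) :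
    d ∈ H.map (MulAut.conj u).toMonoidHom ↔ u⁻¹ * d * u ∈ H := by
  constructor
  · rintro ⟨m, hm, rfl⟩
    have : u⁻¹ * ((MulAut.conj u).toMonoidHom m) * u = m := by
      simp [MulAut.conj_apply, mul_assoc]
    rw [this]; exact hm
  · intro h
    refine ⟨u⁻¹ * d * u, h, ?_⟩
    simp [MulAut.conj_apply, mul_assoc]

theorem map_conj_normalizer (P : Sylow 2 G) (u d : G) :
    d ∈ (normalizer ((P : Subgroup G) : Set G)).map (MulAut.conj u).toMonoidHom ↔
      d • (u • P) = u • P := by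
  rw [mem_map_conj_iff, mem_normalizer_sylow_iff]
  constructor
  · intro h
    have : d • (u • P) = u • ((u⁻¹ * d * u) • P) := by
      simp only [← mul_smul]; congr 1; group
    rw [this, h]
  · intro h
    have : (u⁻¹ * d * u) • P = u⁻¹ • (d • (u • P)) := by
      simp only [← mul_smul]; congr 1; group
    rw [this, h, ← mul_smul, inv_mul_cancel, one_smul]

/-- involutions of `N(P)` are the involutions of `P` -/
theorem invol_normalizer_iff (P : Sylow 2 G) (t : G) :
    (orderOf t = 2 ∧ t ∈ normalizer ((P : Subgroup G) : Set G)) ↔ (orderOf t = 2 ∧ t ∈ P) :=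
  ⟨fun ⟨h1, h2⟩ => ⟨h1, invol_mem_sylow_of_normalizer P h2 h1⟩,
   fun ⟨h1, h2⟩ => ⟨h1, Subgroup.le_normalizer h2⟩⟩

/-- S1224 in Sylow language -/
theorem swap_count (h : ICA G) (P Q : Sylow 2 G) (hn : ¬ (P : Subgroup G).Normal) (hPQ : P ≠ Q) :
    Nat.card {i : G // orderOf i = 2 ∧ i • P = Q} = Nat.card {t : G // orderOf t = 2 ∧ t ∈ P} := by
  haveI : Fact (Nat.Prime 2) := ⟨Nat.prime_two⟩
  obtain ⟨g, rfl⟩ := MulAction.exists_smul_eq G P Q
  have hse := se_normalizer h P hn
  set H := normalizer ((P : Subgroup G) : Set G) with hH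
  have hxy : (QuotientGroup.mk 1 : G ⧸ H) ≠ QuotientGroup.mk g := by
    intro heq
    have : (1 : G)⁻¹ * g ∈ H := QuotientGroup.eq.mp heq
    rw [inv_one, one_mul, hH, mem_normalizer_sylow_iff] at this
    exact hPQ this.symm
  have key := Cfsg.Agent.S1224.result H hse _ _ hxy
  have e1 : {i : G // orderOf i = 2 ∧ i • (QuotientGroup.mk 1 : G ⧸ H) = QuotientGroup.mk g} ≃
      {i : G // orderOf i = 2 ∧ i • P = g • P} := by
    refine Equiv.subtypeEquivRight (fun i => ?_)
    refine and_congr Iff.rfl ?_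
    rw [Cfsg.Agent.S1224.smul_mk_eq_iff, mul_one, hH, mem_normalizer_sylow_iff, mul_smul]
    constructor
    · intro h1
      have := congrArg (fun R => g • R) h1
      simpa [smul_smul] using this
    · intro h1
      rw [h1, ← mul_smul, inv_mul_cancel, one_smul]
  have e2 : {t : G // orderOf t = 2 ∧ t ∈ H} ≃ {t : G // orderOf t = 2 ∧ t ∈ P} :=
    Equiv.subtypeEquivRight (fun t => invol_normalizer_iff P t)
  rw [← Nat.card_congr e1, key, Nat.card_congr e2]

/-- S1225 in Sylow language -/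
theorem trans_invol (h : ICA G) (P Q : Sylow 2 G) (hn : ¬ (P : Subgroup G).Normal)
    {u : G} (hu : orderOf u = 2) (huP : u • P = Q) (hPQ : P ≠ Q)
    {s t : G} (hs : orderOf s = 2) (hsP : s ∈ P) (ht : orderOf t = 2) (htP : t ∈ P) :
    ∃ d : G, d • P = P ∧ d • Q = Q ∧ d * s * d⁻¹ = t := by
  have hse := se_normalizer h P hn
  have huH : u ∉ normalizer ((P : Subgroup G) : Set G) := by
    rw [mem_normalizer_sylow_iff, huP]; exact fun h => hPQ h.symm
  obtain ⟨⟨d, hd, hds⟩, -⟩ := Cfsg.Agent.S1225.result _ hse u hu huH s t hs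
    (Subgroup.le_normalizer hsP) ht (Subgroup.le_normalizer htP)
  refine ⟨d, mem_normalizer_sylow_iff.mp hd.1, ?_, hds⟩
  have := (map_conj_normalizer P u d).mp hd.2
  rwa [huP] at this

theorem all_invol_conj (h : ICA G) (P : Sylow 2 G) (hn : ¬ (P : Subgroup G).Normal)
    {a b : G} (ha : orderOf a = 2) (hb : orderOf b = 2) : IsConj a b := by
  haveI : Fact (Nat.Prime 2) := ⟨Nat.prime_two⟩
  have hse := se_normalizer h P hn
  have hne := sylow_ne_bot_of_not_normal P hn
  obtain ⟨s, hsP, hs⟩ := exists_invol_of_pgroup (P : Subgroup G) P.isPGroup' hne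
  -- need an involution outside N(P)
  obtain ⟨g, hg⟩ : ∃ g : G, g ∉ normalizer ((P : Subgroup G) : Set G) := by
    by_contra hall
    push Not at hall
    exact hse.1 (eq_top_iff.mpr fun x _ => hall x)
  have hPQ : P ≠ g • P := fun heq => hg (mem_normalizer_sylow_iff.mpr heq.symm)
  have hcount := swap_count h P (g • P) hn hPQ
  have hpos : 0 < Nat.card {t : G // orderOf t = 2 ∧ t ∈ P} := by
    haveI : Nonempty {t : G // orderOf t = 2 ∧ t ∈ P} := ⟨⟨s, hs, hsP⟩⟩
    exact Nat.card_pos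
  rw [← hcount] at hpos
  obtain ⟨⟨u, hu, huP⟩⟩ := (Nat.card_pos_iff.mp hpos).1
  have huH : u ∉ normalizer ((P : Subgroup G) : Set G) := by
    rw [mem_normalizer_sylow_iff, huP]; exact fun h => hPQ h.symm
  exact (Cfsg.Agent.S1225.result _ hse u hu huH s s hs (Subgroup.le_normalizer hsP) hs
    (Subgroup.le_normalizer hsP)).2 a b ha hb

/-- existence of a swapping involution -/
theorem exists_swap (h : ICA G) (P Q : Sylow 2 G) (hn : ¬ (P : Subgroup G).Normal) (hPQ : P ≠ Q) :
    ∃ u : G, orderOf u = 2 ∧ u • P = Q := by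
  have hne := sylow_ne_bot_of_not_normal P hn
  obtain ⟨s, hsP, hs⟩ := exists_invol_of_pgroup (P : Subgroup G) P.isPGroup' hne
  have hcount := swap_count h P Q hn hPQ
  have hpos : 0 < Nat.card {t : G // orderOf t = 2 ∧ t ∈ P} := by
    haveI : Nonempty {t : G // orderOf t = 2 ∧ t ∈ P} := ⟨⟨s, hs, hsP⟩⟩
    exact Nat.card_pos
  rw [← hcount] at hpos
  obtain ⟨⟨u, hu, huP⟩⟩ := (Nat.card_pos_iff.mp hpos).1
  exact ⟨u, hu, huP⟩

theorem swap_symm {P Q : Sylow 2 G} {u : G} (hu : orderOf u = 2) (huP : u • P = Q) : u • Q = P := by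
  rw [← huP, ← mul_smul, sq_of_two hu, one_smul]

end Cfsg.Agent.Lib.Helper21.Suz
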