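import Mathlib
import Cfsg.Agent.Lib.Helper21.SuzB
import Cfsg.Agent.S1227
import Cfsg.Agent.S1229

set_option autoImplicit false
set_option linter.style.haveILetI false
set_option linter.unusedSectionVars false

namespace Cfsg.Agent.Lib.Helper21.Suz

open Subgroup

/-- BSW hypothesis, elementwise -/
def BSW (G : Type*) [Group G] : Prop :=
  ∀ t : G, orderOf t = 2 → ∀ c : G, t * c = c * t → c * c = 1

variable {G : Type*} [Group G]

theorem comm_of_sq {a b : G} (ha : a * a = 1) (hb : b * b = 1) (hab : (a * b) * (a * b) = 1) :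
    a * b = b * a := by
  have h1 : a⁻¹ = a := inv_eq_of_mul_eq_one_left ha
  have h2 : b⁻¹ = b := inv_eq_of_mul_eq_one_left hb
  have h3 : (a * b)⁻¹ = a * b := inv_eq_of_mul_eq_one_left hab
  rw [mul_inv_rev, h1, h2] at h3
  exact h3.symm

theorem BSW.ica (hB : BSW G) : ICA G := by
  intro t ht a b ha hb
  have hab : t * (a * b) = (a * b) * t := by
    rw [← mul_assoc, ha, mul_assoc, hb, mul_assoc]
  exact comm_of_sq (hB t ht a ha) (hB t ht b hb) (hB t ht (a * b) hab)

theorem BSW.hC (hB : BSW G) : ∀ t : G, orderOf t = 2 →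
    IsMulCommutative (Subgroup.centralizer ({t} : Set G)) ∧
      ∀ c ∈ Subgroup.centralizer ({t} : Set G), c ^ 2 = 1 := by
  intro t ht
  have key : ∀ c ∈ Subgroup.centralizer ({t} : Set G), t * c = c * t := fun c hc =>
    (Subgroup.mem_centralizer_singleton_iff.mp hc).symm
  refine ⟨⟨⟨fun a b => ?_⟩⟩, fun c hc => ?_⟩
  · apply Subtype.ext
    exact hB.ica t ht a b (key a a.2) (key b b.2)
  · rw [pow_two]; exact hB t ht c (key c hc)

variable [Finite G]

/-- consequences of S1227, S1229 in Sylow language -/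
theorem bsw_facts (hB : BSW G) (T : Sylow 2 G) (hnc : ¬ IsCyclic (T : Subgroup G))
    (hnn : ¬ (T : Subgroup G).Normal) :
    (∀ g g' : G, g • T ≠ T → g' • T ≠ T → ∃ t ∈ T, (t * g) • T = g' • T) ∧
      Nat.card G = (Nat.card T + 1) * (Nat.card T * (Nat.card T - 1)) := by
  haveI : Fact (Nat.Prime 2) := ⟨Nat.prime_two⟩
  obtain ⟨-, -, h3⟩ := Cfsg.Agent.S1229.result T hnc hnn hB.hC
  set H := normalizer ((T : Subgroup G) : Set G) with hH
  have hmk1 : ∀ g : G, (QuotientGroup.mk g : G ⧸ H) ≠ QuotientGroup.mk 1 ↔ g • T ≠ T := by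
    intro g
    rw [not_iff_not]
    constructor
    · intro heq
      have : g⁻¹ * 1 ∈ H := QuotientGroup.eq.mp heq
      rw [mul_one, hH] at this
      have := Subgroup.inv_mem _ this
      rw [inv_inv] at this
      exact mem_normalizer_sylow_iff.mp this
    · intro h1
      apply QuotientGroup.eq.mpr
      rw [mul_one, hH]
      exact Subgroup.inv_mem _ (mem_normalizer_sylow_iff.mpr h1)
  have hsm : ∀ t g g' : G, (t • (QuotientGroup.mk g : G ⧸ H) = QuotientGroup.mk g') ↔
      (t * g) • T = g' • T := by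
    intro t g g'
    rw [Cfsg.Agent.S1224.smul_mk_eq_iff, hH, mem_normalizer_sylow_iff, mul_smul]
    constructor
    · intro h1
      have := congrArg (fun R => g' • R) h1
      simpa [smul_smul] using this
    · intro h1
      rw [h1, ← mul_smul, inv_mul_cancel, one_smul]
  refine ⟨?_, ?_⟩
  · intro g g' hg hg'
    obtain ⟨t, ⟨htT, ht⟩, -⟩ := h3 (QuotientGroup.mk g) (QuotientGroup.mk g')
      ((hmk1 g).mpr hg) ((hmk1 g').mpr hg')
    exact ⟨t, htT, (hsm t g g').mp ht⟩
  · -- cardinality
    have hica := hB.ica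
    obtain ⟨g₀, hg₀⟩ : ∃ g : G, g ∉ H := by
      by_contra hall
      push Not at hall
      exact hnn (Subgroup.normalizer_eq_top_iff.mp (eq_top_iff.mpr fun x _ => hall x))
    have hPQ : T ≠ g₀ • T := fun heq => hg₀ (mem_normalizer_sylow_iff.mpr heq.symm)
    obtain ⟨u, hu, huT⟩ := exists_swap hica T (g₀ • T) hnn hPQ
    have huH : u ∉ H := by
      rw [hH, mem_normalizer_sylow_iff, huT]; exact fun h => hPQ h.symm
    obtain ⟨-, hcardH, -⟩ := Cfsg.Agent.S1227.result T hnc hnn hB.hC u hu huH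
    -- |G/H| = |T| + 1
    have hx0 : (QuotientGroup.mk g₀ : G ⧸ H) ≠ QuotientGroup.mk 1 := (hmk1 g₀).mpr
      (fun h => hPQ h.symm)
    have e : (T : Subgroup G) ≃ {x : G ⧸ H // x ≠ QuotientGroup.mk 1} := by
      refine Equiv.ofBijective (fun t => ⟨(t : G) • (QuotientGroup.mk g₀ : G ⧸ H), ?_⟩) ⟨?_, ?_⟩
      · intro heq
        have h1 : (QuotientGroup.mk 1 : G ⧸ H) = (t : G)⁻¹ • (QuotientGroup.mk 1 : G ⧸ H) := by
          rw [MulAction.Quotient.smul_mk, smul_eq_mul, mul_one]
          apply QuotientGroup.eq.mpr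
          rw [inv_one, one_mul, hH]
          exact Subgroup.inv_mem _ (Subgroup.le_normalizer t.2)
        apply hx0
        have h2 := congrArg (fun x => (t : G)⁻¹ • x) heq
        simp only [smul_smul, inv_mul_cancel, one_smul] at h2
        rw [h2, ← h1]
      · intro t t' htt'
        have h1 : (t : G) • (QuotientGroup.mk g₀ : G ⧸ H) = (t' : G) • QuotientGroup.mk g₀ :=
          congrArg Subtype.val htt'
        obtain ⟨t₀, -, huniq⟩ := h3 (QuotientGroup.mk g₀) ((t' : G) • QuotientGroup.mk g₀) hx0 (by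
          intro heq
          have h1' : (QuotientGroup.mk 1 : G ⧸ H) = (t' : G)⁻¹ • (QuotientGroup.mk 1 : G ⧸ H) := by
            rw [MulAction.Quotient.smul_mk, smul_eq_mul, mul_one]
            apply QuotientGroup.eq.mpr
            rw [inv_one, one_mul, hH]
            exact Subgroup.inv_mem _ (Subgroup.le_normalizer t'.2)
          apply hx0
          have h2 := congrArg (fun x => (t' : G)⁻¹ • x) heq
          simp only [smul_smul, inv_mul_cancel, one_smul] at h2
          rw [h2, ← h1'])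
        have e1 := huniq (t : G) ⟨t.2, h1⟩
        have e2 := huniq (t' : G) ⟨t'.2, rfl⟩
        exact Subtype.ext (e1.trans e2.symm)
      · rintro ⟨y, hy⟩
        obtain ⟨t, ⟨htT, ht⟩, -⟩ := h3 (QuotientGroup.mk g₀) y hx0 hy
        exact ⟨⟨t, htT⟩, Subtype.ext ht⟩
    have hcq : Nat.card (G ⧸ H) = Nat.card T + 1 := by
      have h1 : Nat.card {x : G ⧸ H // x ≠ QuotientGroup.mk 1} = Nat.card T :=
        (Nat.card_congr e).symm
      have h2 : Nat.card (G ⧸ H) = Nat.card {x : G ⧸ H // x ≠ QuotientGroup.mk 1} + 1 := by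
        classical
        haveI : Fintype (G ⧸ H) := Fintype.ofFinite _
        rw [Nat.card_eq_fintype_card, Nat.card_eq_fintype_card, Fintype.card_subtype_compl,
          Fintype.card_subtype_eq]
        have : 0 < Fintype.card (G ⧸ H) := Fintype.card_pos
        omega
      rw [h2, h1]
    rw [Subgroup.card_eq_card_quotient_mul_card_subgroup H, hcq, hcardH]

end Cfsg.Agent.Lib.Helper21.Suz
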