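import Mathlib
import Cfsg.Agent.Lib.Helper21.SuzC

set_option autoImplicit false
set_option linter.style.haveILetI false
set_option linter.unusedSectionVars false

namespace Cfsg.Agent.Lib.Helper21.Suz

open Subgroup

universe u

/-- the induction statement: `G = L × B` internally, `B` abelian of odd order, `L` a BSW group -/
def Good (G : Type*) [Group G] : Prop :=
  ∃ L B : Subgroup G, L.Normal ∧ B.Normal ∧ L ⊓ B = ⊥ ∧ L ⊔ B = ⊤ ∧
    (∀ a ∈ B, ∀ b ∈ B, a * b = b * a) ∧ (∀ b ∈ B, Odd (orderOf b)) ∧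
    (∀ t ∈ L, orderOf t = 2 → ∀ c ∈ L, t * c = c * t → c * c = 1)

theorem good_of_bsw {G : Type*} [Group G] (hB : BSW G) : Good G := by
  refine ⟨⊤, ⊥, inferInstance, inferInstance, inf_bot_eq _, sup_bot_eq _, ?_, ?_, ?_⟩
  · intro a ha b hb
    rw [Subgroup.mem_bot] at ha hb
    rw [ha, hb]
  · intro b hb
    rw [Subgroup.mem_bot] at hb
    rw [hb, orderOf_one]
    exact odd_one
  · intro t _ ht c _ hc
    exact hB t ht c hc

/-- The induction hypothesis, as used by the case lemmas. -/
def IHyp (G : Type u) [Group G] : Prop :=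
  ∀ (H : Type u) [Group H] [Finite H], Nat.card H < Nat.card G → ICA H →
    ∀ Q : Sylow 2 H, ¬ IsCyclic (Q : Subgroup H) → ¬ (Q : Subgroup H).Normal → Good H

variable {G : Type u} [Group G] [Finite G]

theorem not_cyclic_sylow (P Q : Sylow 2 G) (hnc : ¬ IsCyclic (P : Subgroup G)) :
    ¬ IsCyclic (Q : Subgroup G) := by
  haveI : Fact (Nat.Prime 2) := ⟨Nat.prime_two⟩
  intro hQ
  exact hnc (isCyclic_of_surjective (Sylow.equiv Q P).toMonoidHom (Sylow.equiv Q P).surjective)

theorem not_normal_sylow (P Q : Sylow 2 G) (hnn : ¬ (P : Subgroup G).Normal) :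
    ¬ (Q : Subgroup G).Normal := by
  haveI : Fact (Nat.Prime 2) := ⟨Nat.prime_two⟩
  intro hQ
  obtain ⟨g, rfl⟩ := MulAction.exists_smul_eq G Q P
  rw [Sylow.smul_eq_of_normal] at hnn
  exact hnn hQ

theorem mem_normalCore_normalizer_iff (P : Sylow 2 G) (x : G) :
    x ∈ (normalizer ((P : Subgroup G) : Set G)).normalCore ↔ ∀ Q : Sylow 2 G, x • Q = Q := by
  haveI : Fact (Nat.Prime 2) := ⟨Nat.prime_two⟩
  constructor
  · intro hx Q
    obtain ⟨g, rfl⟩ := MulAction.exists_smul_eq G P Q
    have := hx g⁻¹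
    rw [inv_inv, mem_normalizer_sylow_iff] at this
    have h2 : x • g • P = g • ((g⁻¹ * x * g) • P) := by
      simp only [← mul_smul]; congr 1; group
    rw [h2, this]
  · intro hx g
    rw [mem_normalizer_sylow_iff]
    have h2 : (g * x * g⁻¹) • P = g • (x • (g⁻¹ • P)) := by
      simp only [← mul_smul]; congr 1; group
    rw [h2, hx, ← mul_smul, mul_inv_cancel, one_smul]

theorem normalCore_normalizer_eq (P Q : Sylow 2 G) :
    (normalizer ((P : Subgroup G) : Set G)).normalCore =
      (normalizer ((Q : Subgroup G) : Set G)).normalCore := by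
  ext x
  rw [mem_normalCore_normalizer_iff, mem_normalCore_normalizer_iff]

end Cfsg.Agent.Lib.Helper21.Suz
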