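import Mathlib
import Cfsg.Agent.Lib.Helper27.SpOBDefs
import Cfsg.Agent.Lib.Helper23.S5637FOT3b

/-!
# S5666 CORE B, piece B-DECOMP (helper21, for helper27)

`decomp` : an isometry `m` of `f₁ ⊗ f₂` (`f₁` alternating, `f₂` symmetric, `2 ≠ 0`) stabilising `U ⊗ k0` (`k0` singular) and
conjugating the Siegel elements `1 ⊗ ρ_{k0,c}` into `N0` is the product of an element of `N0 ∩ Sp(V)` and an element of the radical.
Self-contained on `SpOBDefs` (no other CORE B piece is used).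
-/

set_option autoImplicit false

namespace Cfsg.Agent.Lib.Helper21.S5666BDECOMP

open Matrix Module
open scoped Kronecker commutatorElement
open Cfsg.Agent.Lib.Helper16.Tens
open Cfsg.Agent.Lib.Helper23.S5637T3b (kronGL kronGL_val)
open Cfsg.Agent.Lib.Helper3.SpT
open Cfsg.Agent.Lib.Helper27.SpOB

variable {F : Type*} [Field F] {a b : ℕ} {J1 : Matrix (Fin a) (Fin a) F} {J2 : Matrix (Fin b) (Fin b) F}

/-- isometries in terms of `act` -/
theorem bf_act (g : GL (Fin a × Fin b) F) (hg : g ∈ IsoG (J1 ⊗ₖ J2)) (x y : Fin a × Fin b → F) :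
    bf (J1 ⊗ₖ J2) (act g x) (act g y) = bf (J1 ⊗ₖ J2) x y := by
  rw [act_apply, act_apply]
  exact (mem_IsoG_iff _ g).1 hg x y

theorem exists_ne_zero (ha : 1 ≤ a) : ∃ u : Fin a → F, u ≠ 0 := by
  refine ⟨Pi.single ⟨0, by omega⟩ 1, ?_⟩
  intro h
  have h3 := congrFun h ⟨0, by omega⟩
  simp at h3

theorem exists_pair_ne (hJ1 : SympG J1) (ha : 1 ≤ a) :
    ∃ u u' : Fin a → F, u ≠ 0 ∧ bf J1 u u' ≠ 0 := by
  obtain ⟨u, hu⟩ := exists_ne_zero (F := F) ha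
  refine ⟨u, ?_⟩
  by_contra hall
  apply hu
  apply hJ1.nondeg
  intro y
  by_contra hy
  exact hall ⟨y, hu, hy⟩

/-- a singular partner -/
theorem exists_partner'' (h2 : (2 : F) ≠ 0) (hJ2 : SymG J2) (k : Fin b → F) (hk0 : k ≠ 0) (hk : bf J2 k k = 0) :
    ∃ k' : Fin b → F, bf J2 k' k' = 0 ∧ bf J2 k k' = 1 := by
  obtain ⟨x', h1⟩ : ∃ x' : Fin b → F, bf J2 k x' = 1 := by
    obtain ⟨x, hx⟩ : ∃ x : Fin b → F, bf J2 k x ≠ 0 := by
      by_contra hall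
      apply hk0
      apply hJ2.nondeg
      intro y
      by_contra hy
      exact hall ⟨y, hy⟩
    exact ⟨(bf J2 k x)⁻¹ • x, by rw [bf_smul_right, inv_mul_cancel₀ hx]⟩
  have h1' : bf J2 x' k = 1 := by rw [hJ2.symm, h1]
  have ht : bf J2 x' x' = 2 * (bf J2 x' x' / 2) := by field_simp
  generalize bf J2 x' x' / 2 = t at ht
  refine ⟨x' - t • k, ?_, ?_⟩
  · rw [bf_sub_left, bf_sub_right, bf_sub_right, bf_smul_left, bf_smul_left, bf_smul_right, bf_smul_right,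
      h1, h1', hk, ht]
    ring
  · rw [bf_sub_right, bf_smul_right, h1, hk, mul_zero, sub_zero]

/-- `GL` elements with the same action are equal -/
theorem gl_ext_act {g g' : GL (Fin a × Fin b) F} (h : ∀ v, act g v = act g' v) : g = g' := by
  apply Units.ext
  apply mat_ext_mulVec
  intro v
  have := h v
  rwa [act_apply, act_apply] at this

/-- the Siegel element on arbitrary vectors -/
theorem act_sieg_gen (h2 : (2 : F) ≠ 0) (hJ2 : SymG J2) (k c : Fin b → F) (hk : bf J2 k k = 0)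
    (hkc : bf J2 k c = 0) (v : Fin a × Fin b → F) :
    act (sieg (a := a) J2 h2 hJ2 k c hk hkc) v =
      v + pur (ctr (J2 *ᵥ k) v) c - pur (ctr (J2 *ᵥ c) v + (bf J2 c c / 2) • ctr (J2 *ᵥ k) v) k := by
  revert v
  apply pur_induction
  · simp
  · intro x y hx hy
    rw [map_add, hx, hy, map_add, map_add, smul_add, pur_add_left, pur_add_left, pur_add_left, pur_add_left,
      pur_add_left, pur_add_left]
    abel
  · intro u x
    rw [act_sieg, ctr_J_pur, ctr_J_pur]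
    simp only [sub_eq_add_neg, pur_add_right, pur_neg_right, pur_smul_right, pur_add_left, pur_smul_left]
    module

theorem inRad_sieg' (h2 : (2 : F) ≠ 0) (hJ2 : SymG J2) (k c : Fin b → F) (hk : bf J2 k k = 0)
    (hkc : bf J2 k c = 0) : InRad J2 k (sieg (a := a) J2 h2 hJ2 k c hk hkc) := by
  constructor
  · intro x hx
    obtain ⟨u, rfl⟩ := (mem_Lk_iff _ _).1 hx
    rw [act_sieg_gen, ctr_J_pur, ctr_J_pur, hk, hkc]
    simp
  · intro x hx
    rw [act_sieg_gen, (mem_Pk_iff k x).1 hx, pur_zero_left, add_zero, smul_zero, add_zero, sub_sub_cancel_left]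
    exact Submodule.neg_mem _ (pur_mem_Lk _ _)

/-- isometries stabilising `Lk k` stabilise `Pk k` -/
theorem img_Pk' (h1 : SympG J1) (k : Fin b → F) (m : GL (Fin a × Fin b) F)
    (hm : m ∈ IsoG (J1 ⊗ₖ J2)) (hst : img m (Lk (F := F) (a := a) k) = Lk k) :
    (∀ v ∈ Pk (a := a) J2 k, act m v ∈ Pk (a := a) J2 k) ∧
      (∀ v ∈ Pk (a := a) J2 k, act m⁻¹ v ∈ Pk (a := a) J2 k) := by
  have hinv : ∀ u : Fin a → F, act m⁻¹ (pur u k) ∈ Lk (F := F) (a := a) k := by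
    intro u
    rw [← mem_img_iff, hst]
    exact pur_mem_Lk u k
  have hfwd : ∀ u : Fin a → F, act m (pur u k) ∈ Lk (F := F) (a := a) k := by
    intro u
    rw [← hst, mem_img_iff, act_inv_act]
    exact pur_mem_Lk u k
  constructor
  · intro v hv
    rw [mem_Pk_iff_perp h1] at hv ⊢
    intro u
    obtain ⟨u', hu'⟩ := (mem_Lk_iff _ _).1 (hinv u)
    have h := bf_act m hm v (act m⁻¹ (pur u k))
    rw [act_act_inv] at h
    rw [h, hu']
    exact hv u'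
  · intro v hv
    rw [mem_Pk_iff_perp h1] at hv ⊢
    intro u
    obtain ⟨u', hu'⟩ := (mem_Lk_iff _ _).1 (hfwd u)
    have h := bf_act m hm (act m⁻¹ v) (pur u k)
    rw [act_act_inv] at h
    rw [← h, hu']
    exact hv u'

theorem conj_inRad' (h1 : SympG J1) (k : Fin b → F) (m : GL (Fin a × Fin b) F)
    (hm : m ∈ IsoG (J1 ⊗ₖ J2)) (hst : img m (Lk (F := F) (a := a) k) = Lk k)
    (r : GL (Fin a × Fin b) F) (hr : InRad J2 k r) : InRad J2 k (m * r * m⁻¹) := by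
  have hP := img_Pk' h1 k m hm hst
  have hinv : ∀ x ∈ Lk (F := F) (a := a) k, act m⁻¹ x ∈ Lk (F := F) (a := a) k := by
    intro x hx
    rw [← mem_img_iff, hst]
    exact hx
  have hfwd : ∀ x ∈ Lk (F := F) (a := a) k, act m x ∈ Lk (F := F) (a := a) k := by
    intro x hx
    rw [← hst, mem_img_iff, act_inv_act]
    exact hx
  constructor
  · intro x hx
    rw [act_mul, act_mul, hr.fixL _ (hinv x hx), act_act_inv]
  · intro x hx
    have h3 := hr.modL _ (hP.2 x hx)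
    have h4 : act (m * r * m⁻¹) x - x = act m (act r (act m⁻¹ x) - act m⁻¹ x) := by
      rw [act_mul, act_mul, map_sub, act_act_inv]
    rw [h4]
    exact hfwd _ h3

/-- the matrix `μ` of `m` on `U ⊗ k0` -/
theorem exists_mu {k0 k0' : Fin b → F} (h00 : bf J2 k0 k0' = 1) (m : GL (Fin a × Fin b) F)
    (hst : img m (Lk (F := F) (a := a) k0) = Lk k0) :
    ∃ μ : Matrix (Fin a) (Fin a) F, ∀ u, act m (pur u k0) = pur (μ *ᵥ u) k0 := by
  let μL : (Fin a → F) →ₗ[F] (Fin a → F) :=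
    (ctr (a := a) (J2 *ᵥ k0')) ∘ₗ ((act m).toLinearMap ∘ₗ purL (a := a) k0)
  refine ⟨LinearMap.toMatrix' μL, ?_⟩
  intro u
  have h1 : act m (pur u k0) ∈ img m (Lk (F := F) (a := a) k0) := by
    rw [mem_img_iff, act_inv_act]
    exact pur_mem_Lk u k0
  rw [hst] at h1
  obtain ⟨u', hu'⟩ := (mem_Lk_iff _ _).1 h1
  rw [LinearMap.toMatrix'_mulVec]
  have h2 : μL u = u' := by
    show ctr (J2 *ᵥ k0') (act m (pur u k0)) = u'
    rw [hu', ctr_J_pur, h00, one_smul]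
  rw [h2, hu']

/-- the matrix `A = π ∘ m ∘ (· ⊗ k0')` -/
theorem exists_A (k0 k0' : Fin b → F) (m : GL (Fin a × Fin b) F) :
    ∃ A : Matrix (Fin a) (Fin a) F, ∀ u, A *ᵥ u = ctr (J2 *ᵥ k0) (act m (pur u k0')) := by
  let L : (Fin a → F) →ₗ[F] (Fin a → F) :=
    (ctr (a := a) (J2 *ᵥ k0)) ∘ₗ ((act m).toLinearMap ∘ₗ purL (a := a) k0')
  refine ⟨LinearMap.toMatrix' L, fun u => ?_⟩
  rw [LinearMap.toMatrix'_mulVec]
  rfl

/-- `f₁(π(m v), μ u') = f₁(π v, u')`, `π = ctr (J2 *ᵥ k0)` -/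
theorem bf_ctr_act {k0 : Fin b → F} (m : GL (Fin a × Fin b) F) (hm : m ∈ IsoG (J1 ⊗ₖ J2))
    (μ : Matrix (Fin a) (Fin a) F) (hμ : ∀ u, act m (pur u k0) = pur (μ *ᵥ u) k0)
    (v : Fin a × Fin b → F) (u' : Fin a → F) :
    bf J1 (ctr (J2 *ᵥ k0) (act m v)) (μ *ᵥ u') = bf J1 (ctr (J2 *ᵥ k0) v) u' := by
  rw [← bf_kron_pur_right, ← hμ, bf_act m hm, bf_kron_pur_right]

/-- (L0) `f₁(A u, μ u') = f₁(u, u')` -/
theorem bf_A_mu {k0 k0' : Fin b → F} (h00' : bf J2 k0' k0 = 1) (m : GL (Fin a × Fin b) F)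
    (hm : m ∈ IsoG (J1 ⊗ₖ J2))
    (μ : Matrix (Fin a) (Fin a) F) (hμ : ∀ u, act m (pur u k0) = pur (μ *ᵥ u) k0)
    (A : Matrix (Fin a) (Fin a) F) (hA : ∀ u, A *ᵥ u = ctr (J2 *ᵥ k0) (act m (pur u k0')))
    (u u' : Fin a → F) : bf J1 (A *ᵥ u) (μ *ᵥ u') = bf J1 u u' := by
  rw [hA, bf_ctr_act m hm μ hμ, ctr_J_pur, h00', one_smul]

theorem A_ne_zero (h1 : SympG J1) {k0 k0' : Fin b → F} (h00' : bf J2 k0' k0 = 1) (m : GL (Fin a × Fin b) F)
    (hm : m ∈ IsoG (J1 ⊗ₖ J2))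
    (μ : Matrix (Fin a) (Fin a) F) (hμ : ∀ u, act m (pur u k0) = pur (μ *ᵥ u) k0)
    (A : Matrix (Fin a) (Fin a) F) (hA : ∀ u, A *ᵥ u = ctr (J2 *ᵥ k0) (act m (pur u k0')))
    {u : Fin a → F} (hu : u ≠ 0) : A *ᵥ u ≠ 0 := by
  intro h
  apply hu
  apply h1.nondeg
  intro u'
  rw [← bf_A_mu h00' m hm μ hμ A hA u u', h, bf_zero_left]

/-- an element of `N0` fixing `U ⊗ k0` pointwise is `1 ⊗ B` -/
theorem kron_fix_struct (ha : 1 ≤ a) {w0 : Fin b → F} (hw0 : w0 ≠ 0) (n : GL (Fin a × Fin b) F)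
    (hn : n ∈ Cfsg.Geo.kroneckerSubgroup a b F) (hfix : ∀ u : Fin a → F, act n (pur u w0) = pur u w0) :
    ∃ B : Matrix (Fin b) (Fin b) F, ∀ (u : Fin a → F) (y : Fin b → F), act n (pur u y) = pur u (B *ᵥ y) := by
  obtain ⟨A, B0, hAB⟩ := (mem_kron_iff n).1 hn
  obtain ⟨j, hj⟩ : ∃ j, w0 j ≠ 0 := by
    by_contra hall
    apply hw0
    funext j
    by_contra hj
    exact hall ⟨j, hj⟩
  set ψ : Fin b → F := Pi.single j (w0 j)⁻¹ with hψ
  have hψ1 : w0 ⬝ᵥ ψ = 1 := by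
    rw [hψ, dotProduct_single, mul_inv_cancel₀ hj]
  set c : F := (B0.val *ᵥ w0) ⬝ᵥ ψ with hc
  have h1 : ∀ u : Fin a → F, c • (A.val *ᵥ u) = u := by
    intro u
    have h := hfix u
    rw [act_apply, hAB, kron_mulVec_pur] at h
    have h' := congrArg (ctr ψ) h
    rw [ctr_pur, ctr_pur, hψ1, one_smul] at h'
    exact h'
  have hc0 : c ≠ 0 := by
    intro h0
    have h2 := h1 (Pi.single ⟨0, by omega⟩ 1)
    rw [h0, zero_smul] at h2
    have h3 := congrFun h2 ⟨0, by omega⟩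
    simp at h3
  refine ⟨c⁻¹ • B0.val, ?_⟩
  intro u y
  rw [act_apply, hAB, kron_mulVec_pur, Matrix.smul_mulVec, pur_smul_right, ← pur_smul_left]
  congr 1
  rw [← h1 u, smul_smul, inv_mul_cancel₀ hc0, one_smul, h1 u]

theorem rad_kron_aux (B : Matrix (Fin b) (Fin b) F) (u : Fin a → F) (y₁ k₁ : Fin b → F) (c : F) :
    pur u (B *ᵥ (y₁ + c • k₁)) - pur u (y₁ + c • k₁) - pur (c • u) (B *ᵥ k₁ - k₁) =
      pur u (B *ᵥ y₁) - pur u y₁ := by
  rw [Matrix.mulVec_add, Matrix.mulVec_smul, pur_add_right, pur_add_right, pur_smul_right, pur_smul_right,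
    pur_smul_left, sub_eq_add_neg (B *ᵥ k₁), pur_add_right, pur_neg_right]
  module

/-- shape of an element `1 ⊗ B` of the radical: `(n - 1) v ≡ π(v) ⊗ (B k0' - k0')` modulo `U ⊗ k0` -/
theorem rad_kron_shape {k0 k0' : Fin b → F} (h00' : bf J2 k0' k0 = 1)
    (n : GL (Fin a × Fin b) F) (hr : InRad J2 k0 n) (B : Matrix (Fin b) (Fin b) F)
    (hB : ∀ (u : Fin a → F) (y : Fin b → F), act n (pur u y) = pur u (B *ᵥ y)) (v : Fin a × Fin b → F) :
    act n v - v - pur (ctr (J2 *ᵥ k0) v) (B *ᵥ k0' - k0') ∈ Lk (F := F) (a := a) k0 := by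
  revert v
  apply pur_induction
  · simp
  · intro x y hx hy
    have h : act n (x + y) - (x + y) - pur (ctr (J2 *ᵥ k0) (x + y)) (B *ᵥ k0' - k0') =
        (act n x - x - pur (ctr (J2 *ᵥ k0) x) (B *ᵥ k0' - k0')) +
          (act n y - y - pur (ctr (J2 *ᵥ k0) y) (B *ᵥ k0' - k0')) := by
      rw [map_add, map_add, pur_add_left]
      abel
    rw [h]
    exact Submodule.add_mem _ hx hy
  · intro u y
    have hy₁ : bf J2 (y - bf J2 y k0 • k0') k0 = 0 := by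
      rw [bf_sub_left, bf_smul_left, h00', mul_one, sub_self]
    have hmod := hr.modL (pur u (y - bf J2 y k0 • k0')) (pur_mem_Pk u hy₁)
    have hy : y = (y - bf J2 y k0 • k0') + bf J2 y k0 • k0' := by
      rw [sub_add_cancel]
    have key : act n (pur u y) - pur u y - pur (ctr (J2 *ᵥ k0) (pur u y)) (B *ᵥ k0' - k0') =
        act n (pur u (y - bf J2 y k0 • k0')) - pur u (y - bf J2 y k0 • k0') := by
      rw [ctr_J_pur, hB, hB]
      have h := rad_kron_aux B u (y - bf J2 y k0 • k0') k0' (bf J2 y k0)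
      rw [← hy] at h
      exact h
    rw [key]
    exact hmod

/-- conjugating a Siegel element by `m` and evaluating at `m (u ⊗ k0')` -/
theorem conj_sieg_eval (h2 : (2 : F) ≠ 0) (hJ2 : SymG J2) {k0 k0' : Fin b → F} (hk : bf J2 k0 k0 = 0)
    (h00' : bf J2 k0' k0 = 1) (m : GL (Fin a × Fin b) F)
    (μ : Matrix (Fin a) (Fin a) F) (hμ : ∀ u, act m (pur u k0) = pur (μ *ᵥ u) k0)
    (c : Fin b → F) (hc : bf J2 k0 c = 0) (u : Fin a → F) :
    act (m * sieg (a := a) J2 h2 hJ2 k0 c hk hc * m⁻¹) (act m (pur u k0')) =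
      act m (pur u k0') + act m (pur u c) - (bf J2 k0' c + bf J2 c c / 2) • pur (μ *ᵥ u) k0 := by
  have h1 : act (m * sieg (a := a) J2 h2 hJ2 k0 c hk hc * m⁻¹) (act m (pur u k0')) =
      act m (act (sieg (a := a) J2 h2 hJ2 k0 c hk hc) (pur u k0')) := by
    rw [← act_mul, ← act_mul]
    congr 1
    group
  have h3 : pur u (k0' + bf J2 k0' k0 • c - bf J2 k0' c • k0 - (bf J2 c c / 2 * bf J2 k0' k0) • k0) =
      pur u k0' + pur u c - (bf J2 k0' c + bf J2 c c / 2) • pur u k0 := by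
    rw [h00', one_smul, mul_one]
    simp only [sub_eq_add_neg, pur_add_right, pur_neg_right, pur_smul_right]
    module
  rw [h1, act_sieg, h3, map_sub, map_add, map_smul, hμ]

/-- for `c ⟂ k0`: `m (u ⊗ c) ≡ A u ⊗ s` modulo `U ⊗ k0`, for some `s` -/
theorem exists_rel (h2 : (2 : F) ≠ 0) (h1 : SympG J1) (hJ2 : SymG J2) (ha : 1 ≤ a) {k0 k0' : Fin b → F}
    (hk0 : k0 ≠ 0) (hk : bf J2 k0 k0 = 0) (h00' : bf J2 k0' k0 = 1) (m : GL (Fin a × Fin b) F)
    (hm : m ∈ IsoG (J1 ⊗ₖ J2)) (hst : img m (Lk (F := F) (a := a) k0) = Lk k0)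
    (μ : Matrix (Fin a) (Fin a) F) (hμ : ∀ u, act m (pur u k0) = pur (μ *ᵥ u) k0)
    (A : Matrix (Fin a) (Fin a) F) (hA : ∀ u, A *ᵥ u = ctr (J2 *ᵥ k0) (act m (pur u k0')))
    (hconj : ∀ (c : Fin b → F) (hc : bf J2 k0 c = 0),
      m * sieg (a := a) J2 h2 hJ2 k0 c hk hc * m⁻¹ ∈ Cfsg.Geo.kroneckerSubgroup a b F)
    (c : Fin b → F) (hc : bf J2 k0 c = 0) :
    ∃ s : Fin b → F, ∀ u : Fin a → F, act m (pur u c) - pur (A *ᵥ u) s ∈ Lk (F := F) (a := a) k0 := by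
  have hxK := hconj c hc
  have hxr : InRad J2 k0 (m * sieg (a := a) J2 h2 hJ2 k0 c hk hc * m⁻¹) :=
    conj_inRad' h1 k0 m hm hst _ (inRad_sieg' h2 hJ2 k0 c hk hc)
  obtain ⟨B, hB⟩ := kron_fix_struct ha hk0 _ hxK (fun u => hxr.fixL _ (pur_mem_Lk u k0))
  refine ⟨B *ᵥ k0' - k0', fun u => ?_⟩
  have e1 := conj_sieg_eval h2 hJ2 hk h00' m μ hμ c hc u
  have hshape := rad_kron_shape h00' _ hxr B hB (act m (pur u k0'))
  rw [e1, ← hA] at hshape
  have hL : (bf J2 k0' c + bf J2 c c / 2) • pur (μ *ᵥ u) k0 ∈ Lk (F := F) (a := a) k0 :=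
    Submodule.smul_mem _ _ (pur_mem_Lk _ _)
  have key : act m (pur u c) - pur (A *ᵥ u) (B *ᵥ k0' - k0') =
      (act m (pur u k0') + act m (pur u c) - (bf J2 k0' c + bf J2 c c / 2) • pur (μ *ᵥ u) k0 -
        act m (pur u k0') - pur (A *ᵥ u) (B *ᵥ k0' - k0')) + (bf J2 k0' c + bf J2 c c / 2) • pur (μ *ᵥ u) k0 := by
    abel
  rw [key]
  exact Submodule.add_mem _ hshape hL

/-- (R2) the second component is orthogonal to `k0` -/
theorem rel_perp (h1 : SympG J1) {k0 : Fin b → F} (hk : bf J2 k0 k0 = 0)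
    (m : GL (Fin a × Fin b) F) (hm : m ∈ IsoG (J1 ⊗ₖ J2))
    (hst : img m (Lk (F := F) (a := a) k0) = Lk k0) (A : Matrix (Fin a) (Fin a) F)
    (hAne : ∃ u : Fin a → F, A *ᵥ u ≠ 0) (y s : Fin b → F) (hy : bf J2 y k0 = 0)
    (hrel : ∀ u : Fin a → F, act m (pur u y) - pur (A *ᵥ u) s ∈ Lk (F := F) (a := a) k0) :
    bf J2 s k0 = 0 := by
  obtain ⟨u, hu⟩ := hAne
  have hLP : Lk (F := F) (a := a) k0 ≤ Pk (a := a) J2 k0 := by
    intro x hx
    obtain ⟨u', rfl⟩ := (mem_Lk_iff _ _).1 hx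
    exact pur_mem_Pk u' hk
  have h1' : act m (pur u y) ∈ Pk (a := a) J2 k0 := (img_Pk' h1 k0 m hm hst).1 _ (pur_mem_Pk u hy)
  have h2 : pur (A *ᵥ u) s ∈ Pk (a := a) J2 k0 := by
    have h3 := Submodule.sub_mem _ h1' (hLP (hrel u))
    rwa [sub_sub_cancel] at h3
  rw [mem_Pk_iff, ctr_J_pur] at h2
  rcases smul_eq_zero.1 h2 with h | h
  · exact h
  · exact absurd h hu

/-- (R5) the second components scale the form -/
theorem rel_form (hJ2 : SymG J2) {k0 : Fin b → F} (hk : bf J2 k0 k0 = 0)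
    (m : GL (Fin a × Fin b) F) (hm : m ∈ IsoG (J1 ⊗ₖ J2))
    (A : Matrix (Fin a) (Fin a) F)
    (y s y' s' : Fin b → F) (hs0 : bf J2 s k0 = 0) (hs0' : bf J2 s' k0 = 0)
    (hrel : ∀ u : Fin a → F, act m (pur u y) - pur (A *ᵥ u) s ∈ Lk (F := F) (a := a) k0)
    (hrel' : ∀ u : Fin a → F, act m (pur u y') - pur (A *ᵥ u) s' ∈ Lk (F := F) (a := a) k0)
    (u u' : Fin a → F) :
    bf J1 (A *ᵥ u) (A *ᵥ u') * bf J2 s s' = bf J1 u u' * bf J2 y y' := by
  obtain ⟨c, hc⟩ := (mem_Lk_iff _ _).1 (hrel u)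
  obtain ⟨c', hc'⟩ := (mem_Lk_iff _ _).1 (hrel' u')
  have h1 : act m (pur u y) = pur (A *ᵥ u) s + pur c k0 := by
    rw [← hc]; abel
  have h2 : act m (pur u' y') = pur (A *ᵥ u') s' + pur c' k0 := by
    rw [← hc']; abel
  have h3 := bf_act m hm (pur u y) (pur u' y')
  rw [h1, h2, bf_add_left, bf_add_right, bf_add_right, bf_kron_pur, bf_kron_pur, bf_kron_pur, bf_kron_pur,
    bf_kron_pur, hs0, hJ2.symm k0 s', hs0', hk] at h3
  linear_combination h3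

/-- a pair of vectors of `k0^⊥` with non-zero product -/
theorem exists_perp_pair (hJ2 : SymG J2) (hb : 3 ≤ b) {k0 k0' : Fin b → F}
    (h00 : bf J2 k0 k0' = 1) (h0'0' : bf J2 k0' k0' = 0) (hk : bf J2 k0 k0 = 0) :
    ∃ c c' : Fin b → F, bf J2 k0 c = 0 ∧ bf J2 k0 c' = 0 ∧ bf J2 c c' ≠ 0 := by
  have h00' : bf J2 k0' k0 = 1 := by rw [hJ2.symm, h00]
  obtain ⟨x, hx⟩ : ∃ x : Fin b → F, x ∉ Submodule.span F ({k0, k0'} : Set (Fin b → F)) := by
    by_contra hall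
    have htop : Submodule.span F ({k0, k0'} : Set (Fin b → F)) = ⊤ := by
      rw [Submodule.eq_top_iff']
      intro x
      by_contra hx
      exact hall ⟨x, hx⟩
    have h1 : finrank F (Submodule.span F ({k0, k0'} : Set (Fin b → F))) ≤ 2 := by
      classical
      have h2 := finrank_span_le_card (R := F) ({k0, k0'} : Set (Fin b → F))
      have h3 : ({k0, k0'} : Set (Fin b → F)).toFinset.card ≤ 2 := by
        rw [Set.toFinset_insert, Set.toFinset_singleton]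
        exact Finset.card_le_two
      omega
    rw [htop, finrank_top, Module.finrank_fintype_fun_eq_card, Fintype.card_fin] at h1
    omega
  have hproj : ∀ z : Fin b → F, bf J2 k0 (z - bf J2 z k0' • k0 - bf J2 z k0 • k0') = 0 := by
    intro z
    rw [bf_sub_right, bf_sub_right, bf_smul_right, bf_smul_right, hk, h00, hJ2.symm k0 z]
    ring
  have hproj' : ∀ z : Fin b → F, bf J2 k0' (z - bf J2 z k0' • k0 - bf J2 z k0 • k0') = 0 := by
    intro z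
    rw [bf_sub_right, bf_sub_right, bf_smul_right, bf_smul_right, h0'0', h00', hJ2.symm k0' z]
    ring
  have hx1 : x - bf J2 x k0' • k0 - bf J2 x k0 • k0' ≠ 0 := by
    intro h
    apply hx
    have h' : x = bf J2 x k0' • k0 + bf J2 x k0 • k0' := by
      rw [sub_sub, sub_eq_zero] at h
      exact h
    rw [h']
    exact Submodule.add_mem _ (Submodule.smul_mem _ _ (Submodule.subset_span (by simp)))
      (Submodule.smul_mem _ _ (Submodule.subset_span (by simp)))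
  obtain ⟨z, hz⟩ : ∃ z : Fin b → F, bf J2 (x - bf J2 x k0' • k0 - bf J2 x k0 • k0') z ≠ 0 := by
    by_contra hall
    apply hx1
    apply hJ2.nondeg
    intro y
    by_contra hy
    exact hall ⟨y, hy⟩
  refine ⟨x - bf J2 x k0' • k0 - bf J2 x k0 • k0', z - bf J2 z k0' • k0 - bf J2 z k0 • k0', hproj x, hproj z, ?_⟩
  have e1 : bf J2 (x - bf J2 x k0' • k0 - bf J2 x k0 • k0') k0 = 0 := by rw [hJ2.symm, hproj x]
  have e2 : bf J2 (x - bf J2 x k0' • k0 - bf J2 x k0 • k0') k0' = 0 := by rw [hJ2.symm, hproj' x]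
  rw [bf_sub_right, bf_sub_right, bf_smul_right, bf_smul_right, e1, e2, mul_zero, mul_zero, sub_zero, sub_zero]
  exact hz

/-- `A` is a `ν`-similitude and `μ = ν⁻¹ A` -/
theorem exists_nu (h2 : (2 : F) ≠ 0) (h1 : SympG J1) (hJ2 : SymG J2) (ha : 1 ≤ a) (hb : 3 ≤ b) {k0 k0' : Fin b → F}
    (hk0 : k0 ≠ 0) (hk : bf J2 k0 k0 = 0) (h00 : bf J2 k0 k0' = 1) (h0'0' : bf J2 k0' k0' = 0)
    (m : GL (Fin a × Fin b) F)
    (hm : m ∈ IsoG (J1 ⊗ₖ J2)) (hst : img m (Lk (F := F) (a := a) k0) = Lk k0)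
    (μ : Matrix (Fin a) (Fin a) F) (hμ : ∀ u, act m (pur u k0) = pur (μ *ᵥ u) k0)
    (A : Matrix (Fin a) (Fin a) F) (hA : ∀ u, A *ᵥ u = ctr (J2 *ᵥ k0) (act m (pur u k0')))
    (hconj : ∀ (c : Fin b → F) (hc : bf J2 k0 c = 0),
      m * sieg (a := a) J2 h2 hJ2 k0 c hk hc * m⁻¹ ∈ Cfsg.Geo.kroneckerSubgroup a b F) :
    ∃ ν : F, ν ≠ 0 ∧ (∀ u u' : Fin a → F, bf J1 (A *ᵥ u) (A *ᵥ u') = ν * bf J1 u u') ∧
      ∀ u : Fin a → F, μ *ᵥ u = ν⁻¹ • A *ᵥ u := by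
  have h00' : bf J2 k0' k0 = 1 := by rw [hJ2.symm, h00]
  have hAne : ∃ u : Fin a → F, A *ᵥ u ≠ 0 := by
    obtain ⟨u, hu⟩ := exists_ne_zero (F := F) ha
    exact ⟨u, A_ne_zero h1 h00' m hm μ hμ A hA hu⟩
  obtain ⟨c, c', hc, hc', hcc'⟩ := exists_perp_pair hJ2 hb h00 h0'0' hk
  obtain ⟨s, hs⟩ := exists_rel h2 h1 hJ2 ha hk0 hk h00' m hm hst μ hμ A hA hconj c hc
  obtain ⟨s', hs'⟩ := exists_rel h2 h1 hJ2 ha hk0 hk h00' m hm hst μ hμ A hA hconj c' hc'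
  have hs0 := rel_perp h1 hk m hm hst A hAne c s (by rw [hJ2.symm, hc]) hs
  have hs0' := rel_perp h1 hk m hm hst A hAne c' s' (by rw [hJ2.symm, hc']) hs'
  have hR := rel_form hJ2 hk m hm A c s c' s' hs0 hs0' hs hs'
  obtain ⟨u₀, u₀', -, hu₀⟩ := exists_pair_ne h1 ha
  have hss' : bf J2 s s' ≠ 0 := by
    intro h
    have h3 := hR u₀ u₀'
    rw [h, mul_zero] at h3
    exact mul_ne_zero hu₀ hcc' h3.symm
  have hsim : ∀ u u' : Fin a → F, bf J1 (A *ᵥ u) (A *ᵥ u') = (bf J2 c c' * (bf J2 s s')⁻¹) * bf J1 u u' := by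
    intro u u'
    have h3 := hR u u'
    field_simp
    linear_combination h3
  have hν0 : bf J2 c c' * (bf J2 s s')⁻¹ ≠ 0 := mul_ne_zero hcc' (inv_ne_zero hss')
  refine ⟨bf J2 c c' * (bf J2 s s')⁻¹, hν0, hsim, ?_⟩
  intro u
  -- `A` is surjective
  have hAu : IsUnit A := by
    rw [← Matrix.mulVec_injective_iff_isUnit]
    intro x y hxy
    rw [← sub_eq_zero]
    by_contra hne
    apply A_ne_zero h1 h00' m hm μ hμ A hA hne
    rw [Matrix.mulVec_sub, hxy, sub_self]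
  have hsurj : Function.Surjective A.mulVec := by
    have hinj := Matrix.mulVec_injective_iff_isUnit.2 hAu
    exact (LinearMap.injective_iff_surjective (f := Matrix.toLin' A)).1 hinj
  rw [← sub_eq_zero]
  apply SympG.nondeg_right h1
  intro z
  obtain ⟨z', rfl⟩ := hsurj z
  show bf J1 (A *ᵥ z') (μ *ᵥ u - (bf J2 c c' * (bf J2 s s')⁻¹)⁻¹ • A *ᵥ u) = 0
  rw [bf_sub_right, bf_smul_right, bf_A_mu h00' m hm μ hμ A hA, hsim, ← mul_assoc, inv_mul_cancel₀ hν0, one_mul,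
    sub_self]

/-- the contraction `φ ⊗ 1 : U ⊗ W → W` -/
def ctrU (φ : Fin a → F) : (Fin a × Fin b → F) →ₗ[F] (Fin b → F) where
  toFun v j := ∑ i, v (i, j) * φ i
  map_add' v v' := by
    funext j; simp [add_mul, Finset.sum_add_distrib]
  map_smul' c v := by
    funext j; simp [Finset.mul_sum, mul_assoc]

theorem ctrU_pur (φ : Fin a → F) (u : Fin a → F) (w : Fin b → F) :
    ctrU φ (pur u w) = (u ⬝ᵥ φ) • w := by
  funext j
  simp only [ctrU, LinearMap.coe_mk, AddHom.coe_mk, pur_apply, Pi.smul_apply, smul_eq_mul, dotProduct,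
    Finset.sum_mul]
  apply Finset.sum_congr rfl
  intro i _
  ring

theorem exists_dual' {n : ℕ} (s : Fin n → F) (hs : s ≠ 0) : ∃ ψ : Fin n → F, s ⬝ᵥ ψ = 1 := by
  obtain ⟨j, hj⟩ : ∃ j, s j ≠ 0 := by
    by_contra hall
    apply hs
    funext j
    by_contra hj
    exact hall ⟨j, hj⟩
  exact ⟨Pi.single j (s j)⁻¹, by rw [dotProduct_single, mul_inv_cancel₀ hj]⟩

/-- a linear map `σ₀` of `W` with `m (u ⊗ y) ≡ A u ⊗ σ₀ y` modulo `U ⊗ k0` for `y ⟂ k0` -/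
theorem exists_sigma0 {k0 : Fin b → F} (m : GL (Fin a × Fin b) F)
    (A : Matrix (Fin a) (Fin a) F) (β₂ : F) (hAne : ∃ u : Fin a → F, A *ᵥ u ≠ 0)
    (hA0 : ∀ u : Fin a → F, act m (pur u k0) = pur (β₂ • A *ᵥ u) k0)
    (hrel : ∀ y : Fin b → F, bf J2 k0 y = 0 →
      ∃ s : Fin b → F, ∀ u : Fin a → F, act m (pur u y) - pur (A *ᵥ u) s ∈ Lk (F := F) (a := a) k0) :
    ∃ σ₀ : (Fin b → F) →ₗ[F] (Fin b → F), σ₀ k0 = β₂ • k0 ∧
      ∀ y : Fin b → F, bf J2 k0 y = 0 →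
        ∀ u : Fin a → F, act m (pur u y) - pur (A *ᵥ u) (σ₀ y) ∈ Lk (F := F) (a := a) k0 := by
  obtain ⟨u₁, hu₁⟩ := hAne
  obtain ⟨φ, hφ1⟩ := exists_dual' _ hu₁
  let σ₀ : (Fin b → F) →ₗ[F] (Fin b → F) :=
    (ctrU (b := b) φ) ∘ₗ ((act m).toLinearMap ∘ₗ purR (b := b) u₁)
  have hσ : ∀ x, σ₀ x = ctrU φ (act m (pur u₁ x)) := fun x => rfl
  refine ⟨σ₀, ?_, ?_⟩
  · rw [hσ, hA0, ctrU_pur, smul_dotProduct, hφ1, smul_eq_mul, mul_one]
  · intro y hy u
    obtain ⟨s, hs⟩ := hrel y hy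
    obtain ⟨c, hc⟩ := (mem_Lk_iff _ _).1 (hs u₁)
    have h1 : act m (pur u₁ y) = pur (A *ᵥ u₁) s + pur c k0 := by
      rw [← hc]; abel
    have h3 : σ₀ y = s + (c ⬝ᵥ φ) • k0 := by
      rw [hσ, h1, map_add, ctrU_pur, ctrU_pur, hφ1, one_smul]
    have h4 : act m (pur u y) - pur (A *ᵥ u) (σ₀ y) =
        (act m (pur u y) - pur (A *ᵥ u) s) - (c ⬝ᵥ φ) • pur (A *ᵥ u) k0 := by
      rw [h3, pur_add_right, pur_smul_right]
      abel
    rw [h4]
    exact Submodule.sub_mem _ (hs u) (Submodule.smul_mem _ _ (pur_mem_Lk _ _))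

/-- `y ↦ f(y, k)` as a linear functional -/
def bfF (J : Matrix (Fin b) (Fin b) F) (k : Fin b → F) : (Fin b → F) →ₗ[F] F where
  toFun y := bf J y k
  map_add' y y' := bf_add_left J y y' k
  map_smul' c y := by
    simp only [bf_smul_left, RingHom.id_apply, smul_eq_mul]

/-- a linear map scaling the form by `t` on `k0^⊥ ∪ {k0'}` is a `t`-similitude -/
theorem simil_of_span (hJ2 : SymG J2) {k0 k0' : Fin b → F} (h00' : bf J2 k0' k0 = 1) (t : F)
    (S : (Fin b → F) →ₗ[F] (Fin b → F))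
    (h1 : ∀ y y', bf J2 y k0 = 0 → bf J2 y' k0 = 0 → bf J2 (S y) (S y') = t * bf J2 y y')
    (h2 : ∀ y, bf J2 y k0 = 0 → bf J2 (S y) (S k0') = t * bf J2 y k0')
    (h3 : bf J2 (S k0') (S k0') = t * bf J2 k0' k0') (w w' : Fin b → F) :
    bf J2 (S w) (S w') = t * bf J2 w w' := by
  have h2' : ∀ y', bf J2 y' k0 = 0 → bf J2 (S k0') (S y') = t * bf J2 k0' y' := by
    intro y' hy'
    rw [hJ2.symm (S k0') (S y'), h2 y' hy', hJ2.symm y' k0']
  have hp : ∀ w, bf J2 (w - bf J2 w k0 • k0') k0 = 0 := by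
    intro w
    rw [bf_sub_left, bf_smul_left, h00', mul_one, sub_self]
  have hw : ∀ w : Fin b → F, w = (w - bf J2 w k0 • k0') + bf J2 w k0 • k0' := by
    intro w
    rw [sub_add_cancel]
  have key : ∀ (y y' : Fin b → F) (α α' : F), bf J2 y k0 = 0 → bf J2 y' k0 = 0 →
      bf J2 (S (y + α • k0')) (S (y' + α' • k0')) = t * bf J2 (y + α • k0') (y' + α' • k0') := by
    intro y y' α α' hy hy'
    rw [map_add, map_add, map_smul, map_smul]
    simp only [bf_add_left, bf_add_right, bf_smul_left, bf_smul_right]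
    rw [h1 y y' hy hy', h2 y hy, h2' y' hy', h3]
    ring
  have h := key _ _ (bf J2 w k0) (bf J2 w' k0) (hp w) (hp w')
  rwa [← hw w, ← hw w'] at h

/-- extension of `σ₀` (given modulo `k0` on `k0^⊥`) to a `β₂`-similitude -/
theorem exists_Sigma (hJ2 : SymG J2) {k0 k0' : Fin b → F} (hk : bf J2 k0 k0 = 0)
    (h0'0' : bf J2 k0' k0' = 0) (h00' : bf J2 k0' k0 = 1) (β₂ : F)
    (σ₀ : (Fin b → F) →ₗ[F] (Fin b → F)) (h0 : σ₀ k0 = β₂ • k0)
    (hperp : ∀ y, bf J2 y k0 = 0 → bf J2 (σ₀ y) k0 = 0)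
    (hform : ∀ y y', bf J2 y k0 = 0 → bf J2 y' k0 = 0 → bf J2 (σ₀ y) (σ₀ y') = β₂ * bf J2 y y') :
    ∃ S : Matrix (Fin b) (Fin b) F, (∀ x y, bf J2 (S *ᵥ x) (S *ᵥ y) = β₂ * bf J2 x y) ∧ S *ᵥ k0 = β₂ • k0 ∧
      ∀ y, bf J2 y k0 = 0 → ∃ d : F, S *ᵥ y = σ₀ y + d • k0 := by
  have h00 : bf J2 k0 k0' = 1 := by rw [hJ2.symm, h00']
  let p : (Fin b → F) →ₗ[F] (Fin b → F) := LinearMap.id - (bfF J2 k0).smulRight k0'
  let gL : (Fin b → F) →ₗ[F] F := β₂ • ((bfF J2 k0') ∘ₗ p) - (bfF J2 k0') ∘ₗ (σ₀ ∘ₗ p)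
  let SL : (Fin b → F) →ₗ[F] (Fin b → F) :=
    σ₀ ∘ₗ p + gL.smulRight k0 + (bfF J2 k0).smulRight k0'
  have hp : ∀ x, p x = x - bf J2 x k0 • k0' := fun x => rfl
  have hgL : ∀ x, gL x = β₂ * bf J2 (p x) k0' - bf J2 (σ₀ (p x)) k0' := fun x => rfl
  have hSL : ∀ x, SL x = σ₀ (p x) + gL x • k0 + bf J2 x k0 • k0' := fun x => rfl
  have hpfix : ∀ x, bf J2 x k0 = 0 → p x = x := by
    intro x hx
    rw [hp, hx, zero_smul, sub_zero]
  have hpk₁ : p k0' = 0 := by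
    rw [hp, h00', one_smul, sub_self]
  have hSLperp : ∀ y, bf J2 y k0 = 0 → SL y = σ₀ y + gL y • k0 := by
    intro y hy
    rw [hSL, hpfix y hy, hy, zero_smul, add_zero]
  have hSLk₁ : SL k0' = k0' := by
    rw [hSL, hgL, hpk₁, map_zero, bf_zero_left, mul_zero, sub_zero, zero_smul, add_zero, zero_add, h00', one_smul]
  have hsim := simil_of_span hJ2 h00' β₂ SL
    (by
      intro y y' hy hy'
      have h0y' : bf J2 k0 (σ₀ y') = 0 := by rw [hJ2.symm, hperp y' hy']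
      rw [hSLperp y hy, hSLperp y' hy']
      simp only [bf_add_left, bf_add_right, bf_smul_left, bf_smul_right]
      rw [hform y y' hy hy', hperp y hy, h0y', hk]
      ring)
    (by
      intro y hy
      rw [hSLperp y hy, hSLk₁, hgL, hpfix y hy]
      simp only [bf_add_left, bf_smul_left]
      rw [h00]
      ring)
    (by
      rw [hSLk₁, h0'0', mul_zero])
  refine ⟨LinearMap.toMatrix' SL, ?_, ?_, ?_⟩
  · intro x y
    rw [LinearMap.toMatrix'_mulVec, LinearMap.toMatrix'_mulVec]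
    exact hsim x y
  · rw [LinearMap.toMatrix'_mulVec, hSLperp k0 hk, hgL, hpfix k0 hk, h0, bf_smul_left, h00, mul_one, sub_self,
      zero_smul, add_zero]
  · intro y hy
    refine ⟨gL y, ?_⟩
    rw [LinearMap.toMatrix'_mulVec, hSLperp y hy]

/-- the Kronecker product of a `ν`-similitude and a `ν⁻¹`-similitude is an isometry -/
theorem kron_iso (A : GL (Fin a) F) (B : GL (Fin b) F) (ν : F) (hν : ν ≠ 0)
    (hA : ∀ x y, bf J1 ((A : Matrix (Fin a) (Fin a) F) *ᵥ x) ((A : Matrix (Fin a) (Fin a) F) *ᵥ y) = ν * bf J1 x y)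
    (hB : ∀ x y, bf J2 ((B : Matrix (Fin b) (Fin b) F) *ᵥ x) ((B : Matrix (Fin b) (Fin b) F) *ᵥ y) = ν⁻¹ * bf J2 x y) :
    kronGL A B ∈ IsoG (J1 ⊗ₖ J2) := by
  rw [mem_IsoG_iff]
  intro x y
  rw [← act_apply, ← act_apply]
  revert y
  revert x
  apply pur_induction (p := fun x => ∀ y, bf (J1 ⊗ₖ J2) (act (kronGL A B) x) (act (kronGL A B) y) = bf (J1 ⊗ₖ J2) x y)
  · intro y
    rw [map_zero, bf_zero_left, bf_zero_left]
  · intro x x' hx hx' y
    rw [map_add, bf_add_left, bf_add_left, hx y, hx' y]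
  · intro u w
    apply pur_induction
    · rw [map_zero, bf_zero_right, bf_zero_right]
    · intro y y' hy hy'
      rw [map_add, bf_add_right, bf_add_right, hy, hy']
    · intro u' w'
      rw [act_kronGL, act_kronGL, bf_kron_pur, bf_kron_pur, hA, hB]
      field_simp

/-- **B-DECOMP** -/
theorem decomp (h2 : (2 : F) ≠ 0) (h1 : SympG J1) (hJ2 : SymG J2) (ha : 1 ≤ a) (hb : 5 ≤ b)
    (k0 : Fin b → F) (hk0 : k0 ≠ 0) (hk : bf J2 k0 k0 = 0)
    (m : GL (Fin a × Fin b) F) (hm : m ∈ IsoG (J1 ⊗ₖ J2)) (hst : img m (Lk (F := F) (a := a) k0) = Lk k0)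
    (hconj : ∀ (c : Fin b → F) (hc : bf J2 k0 c = 0),
      m * sieg (a := a) J2 h2 hJ2 k0 c hk hc * m⁻¹ ∈ Cfsg.Geo.kroneckerSubgroup a b F) :
    ∃ h : GL (Fin a × Fin b) F, h ∈ Cfsg.Geo.kroneckerSubgroup a b F ∧ h ∈ IsoG (J1 ⊗ₖ J2) ∧
      InRad J2 k0 (h⁻¹ * m) := by
  obtain ⟨k0', h0'0', h00⟩ := exists_partner'' h2 hJ2 k0 hk0 hk
  have h00' : bf J2 k0' k0 = 1 := by rw [hJ2.symm, h00]
  obtain ⟨μ, hμ⟩ := exists_mu h00 m hst
  obtain ⟨A, hA⟩ := exists_A (J2 := J2) k0 k0' m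
  obtain ⟨ν, hν0, hsim, hμA⟩ := exists_nu h2 h1 hJ2 ha (by omega) hk0 hk h00 h0'0' m hm hst μ hμ A hA hconj
  have hAne : ∃ u : Fin a → F, A *ᵥ u ≠ 0 := by
    obtain ⟨u, hu⟩ := exists_ne_zero (F := F) ha
    exact ⟨u, A_ne_zero h1 h00' m hm μ hμ A hA hu⟩
  have hA0 : ∀ u : Fin a → F, act m (pur u k0) = pur (ν⁻¹ • A *ᵥ u) k0 := by
    intro u
    rw [hμ, hμA]
  have hrel : ∀ y : Fin b → F, bf J2 k0 y = 0 →
      ∃ s : Fin b → F, ∀ u : Fin a → F, act m (pur u y) - pur (A *ᵥ u) s ∈ Lk (F := F) (a := a) k0 :=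
    fun y hy => exists_rel h2 h1 hJ2 ha hk0 hk h00' m hm hst μ hμ A hA hconj y hy
  obtain ⟨σ₀, hσ0, hσrel⟩ := exists_sigma0 m A ν⁻¹ hAne hA0 hrel
  have hperp : ∀ y, bf J2 y k0 = 0 → bf J2 (σ₀ y) k0 = 0 := fun y hy =>
    rel_perp h1 hk m hm hst A hAne y (σ₀ y) hy (hσrel y (by rw [hJ2.symm, hy]))
  obtain ⟨u₀, u₀', -, hu₀⟩ := exists_pair_ne h1 ha
  have hform : ∀ y y', bf J2 y k0 = 0 → bf J2 y' k0 = 0 → bf J2 (σ₀ y) (σ₀ y') = ν⁻¹ * bf J2 y y' := by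
    intro y y' hy hy'
    have h := rel_form hJ2 hk m hm A y (σ₀ y) y' (σ₀ y') (hperp y hy) (hperp y' hy')
      (hσrel y (by rw [hJ2.symm, hy])) (hσrel y' (by rw [hJ2.symm, hy'])) u₀ u₀'
    rw [hsim] at h
    have h' : bf J1 u₀ u₀' * (ν * bf J2 (σ₀ y) (σ₀ y')) = bf J1 u₀ u₀' * bf J2 y y' := by
      linear_combination h
    have h'' := mul_left_cancel₀ hu₀ h'
    rw [← h'', ← mul_assoc, inv_mul_cancel₀ hν0, one_mul]
  obtain ⟨S, hSsim, hS0, hSrel⟩ := exists_Sigma hJ2 hk h0'0' h00' ν⁻¹ σ₀ hσ0 hperp hform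
  have hAu : IsUnit A := by
    rw [← Matrix.mulVec_injective_iff_isUnit]
    intro x y hxy
    rw [← sub_eq_zero]
    by_contra hne
    apply A_ne_zero h1 h00' m hm μ hμ A hA hne
    rw [Matrix.mulVec_sub, hxy, sub_self]
  have hSu : IsUnit S := by
    rw [← Matrix.mulVec_injective_iff_isUnit]
    intro x y hxy
    rw [← sub_eq_zero]
    apply hJ2.nondeg
    intro z
    have h := hSsim (x - y) z
    rw [Matrix.mulVec_sub, hxy, sub_self, bf_zero_left] at h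
    have h' : ν⁻¹ * bf J2 (x - y) z = 0 := h.symm
    rcases mul_eq_zero.1 h' with h'' | h''
    · exact absurd h'' (inv_ne_zero hν0)
    · exact h''
  have hAv : (hAu.unit : Matrix (Fin a) (Fin a) F) = A := hAu.unit_spec
  have hBv : (hSu.unit : Matrix (Fin b) (Fin b) F) = S := hSu.unit_spec
  have hact : ∀ (u : Fin a → F) (y : Fin b → F),
      act (kronGL hAu.unit hSu.unit) (pur u y) = pur (A *ᵥ u) (S *ᵥ y) := by
    intro u y
    rw [act_kronGL, hAv, hBv]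
  have hnm0 : ∀ u : Fin a → F, act (kronGL hAu.unit hSu.unit) (pur u k0) = act m (pur u k0) := by
    intro u
    rw [hact, hS0, hA0, pur_smul_right, pur_smul_left]
  have hinvL : ∀ l ∈ Lk (F := F) (a := a) k0, act (kronGL hAu.unit hSu.unit)⁻¹ l ∈ Lk (F := F) (a := a) k0 := by
    intro l hl
    have h1' : act m⁻¹ l ∈ Lk (F := F) (a := a) k0 := by
      rw [← mem_img_iff, hst]
      exact hl
    obtain ⟨u', hu'⟩ := (mem_Lk_iff _ _).1 h1'
    have h2' : l = act (kronGL hAu.unit hSu.unit) (pur u' k0) := by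
      rw [hnm0, ← hu', act_act_inv]
    rw [h2', act_inv_act]
    exact pur_mem_Lk _ _
  refine ⟨kronGL hAu.unit hSu.unit, Cfsg.Agent.Lib.Helper23.S5637T3b.kronGL_mem_kron _ _,
    kron_iso _ _ ν hν0 ?_ ?_, ?_, ?_⟩
  · intro x y
    rw [hAv]
    exact hsim x y
  · intro x y
    rw [hBv]
    exact hSsim x y
  · intro x hx
    obtain ⟨u, rfl⟩ := (mem_Lk_iff _ _).1 hx
    rw [act_mul, ← hnm0, act_inv_act]
  · intro x hx
    have hkey : ∀ v : Fin a × Fin b → F,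
        act m (v - pur (ctr (J2 *ᵥ k0) v) k0') -
          act (kronGL hAu.unit hSu.unit) (v - pur (ctr (J2 *ᵥ k0) v) k0') ∈ Lk (F := F) (a := a) k0 := by
      apply pur_induction
      · simp
      · intro v v' hv hv'
        have h : act m (v + v' - pur (ctr (J2 *ᵥ k0) (v + v')) k0') -
            act (kronGL hAu.unit hSu.unit) (v + v' - pur (ctr (J2 *ᵥ k0) (v + v')) k0') =
            (act m (v - pur (ctr (J2 *ᵥ k0) v) k0') -
              act (kronGL hAu.unit hSu.unit) (v - pur (ctr (J2 *ᵥ k0) v) k0')) +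
            (act m (v' - pur (ctr (J2 *ᵥ k0) v') k0') -
              act (kronGL hAu.unit hSu.unit) (v' - pur (ctr (J2 *ᵥ k0) v') k0')) := by
          rw [map_add (ctr (J2 *ᵥ k0)), pur_add_left]
          simp only [map_add, map_sub]
          abel
        rw [h]
        exact Submodule.add_mem _ hv hv'
      · intro u y
        have hy' : bf J2 (y - bf J2 y k0 • k0') k0 = 0 := by
          rw [bf_sub_left, bf_smul_left, h00', mul_one, sub_self]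
        have h5 : pur u y - pur (ctr (J2 *ᵥ k0) (pur u y)) k0' = pur u (y - bf J2 y k0 • k0') := by
          rw [ctr_J_pur, pur_smul_left, sub_eq_add_neg y, pur_add_right, pur_neg_right, pur_smul_right]
          abel
        obtain ⟨d, hd⟩ := hSrel _ hy'
        rw [h5, hact, hd]
        have h6 : act m (pur u (y - bf J2 y k0 • k0')) -
            pur (A *ᵥ u) (σ₀ (y - bf J2 y k0 • k0') + d • k0) =
            (act m (pur u (y - bf J2 y k0 • k0')) - pur (A *ᵥ u) (σ₀ (y - bf J2 y k0 • k0'))) -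
              d • pur (A *ᵥ u) k0 := by
          rw [pur_add_right (A *ᵥ u) (σ₀ (y - bf J2 y k0 • k0')) (d • k0), pur_smul_right d (A *ᵥ u) k0]
          abel
        rw [h6]
        exact Submodule.sub_mem _ (hσrel _ (by rw [hJ2.symm, hy']) u)
          (Submodule.smul_mem _ _ (pur_mem_Lk _ _))
    have h7 := hkey x
    rw [(mem_Pk_iff k0 x).1 hx, pur_zero_left, sub_zero] at h7
    have h8 : act ((kronGL hAu.unit hSu.unit)⁻¹ * m) x - x =
        act (kronGL hAu.unit hSu.unit)⁻¹ (act m x - act (kronGL hAu.unit hSu.unit) x) := by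
      rw [map_sub, act_inv_act, act_mul]
    rw [h8]
    exact hinvL _ h7

end Cfsg.Agent.Lib.Helper21.S5666BDECOMP
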