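import Mathlib
import Cfsg.Agent.Lib.Helper14.Co2CDefs

/-!
# S2136 piece [E] (helper21): a group generated by involutions-mod-`z` with a nonsingular Gram matrix
is extraspecial of order `2 ^ (m + 1)`
-/

set_option autoImplicit false

namespace Cfsg.Agent.Lib.Helper14.Co2C

namespace Helper21E

open scoped commutatorElement

/-- a group generated by pairwise commuting elements is commutative -/
theorem comm_of_closure {H : Type*} [Group H] (S : Set H) (hS : Subgroup.closure S = ⊤)
    (hc : ∀ s ∈ S, ∀ t ∈ S, s * t = t * s) (a b : H) : a * b = b * a := by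
  have h1 : ∀ s ∈ S, ∀ a : H, s * a = a * s := by
    intro s hs a
    have hle : Subgroup.closure S ≤ Subgroup.centralizer {s} := by
      rw [Subgroup.closure_le]
      intro t ht
      rw [SetLike.mem_coe, Subgroup.mem_centralizer_iff]
      intro h hh
      rw [Set.mem_singleton_iff] at hh
      rw [hh]
      exact hc s hs t ht
    have ha : a ∈ Subgroup.centralizer {s} := hle (by rw [hS]; exact Subgroup.mem_top a)
    rw [Subgroup.mem_centralizer_iff] at ha
    exact ha s rfl
  have hle : Subgroup.closure S ≤ Subgroup.centralizer {a} := by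
    rw [Subgroup.closure_le]
    intro s hs
    rw [SetLike.mem_coe, Subgroup.mem_centralizer_iff]
    intro h hh
    rw [Set.mem_singleton_iff] at hh
    rw [hh]
    exact (h1 s hs a).symm
  have hb : b ∈ Subgroup.centralizer {a} := hle (by rw [hS]; exact Subgroup.mem_top b)
  rw [Subgroup.mem_centralizer_iff] at hb
  exact hb a rfl

theorem zmod2_cases (a : ZMod 2) : a = 0 ∨ a = 1 := by
  revert a; decide

theorem mult_zmod2_cases (a : Multiplicative (ZMod 2)) : a = 1 ∨ a = Multiplicative.ofAdd 1 := by
  rcases zmod2_cases (Multiplicative.toAdd a) with h | h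
  · left; exact Multiplicative.toAdd.injective h
  · right; exact Multiplicative.toAdd.injective h

/-- elementary abelian `2`-groups with a nonsingular pairing against the generators -/
theorem elem_ab {A : Type*} [CommGroup A] {m : ℕ} (y : Fin m → A) (hy : ∀ i, y i * y i = 1)
    (hgen : Subgroup.closure (Set.range y) = ⊤)
    (Gm N : Matrix (Fin m) (Fin m) (ZMod 2)) (hN : Gm * N = 1)
    (d : Fin m → A →* Multiplicative (ZMod 2))
    (hd : ∀ i j, d j (y i) = Multiplicative.ofAdd (Gm i j)) :
    Nat.card A = 2 ^ m ∧ ∀ a : A, (∀ j, d j a = 1) → a = 1 := by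
  let P : (Fin m → ZMod 2) → A := fun v => ∏ i, y i ^ (v i).val
  have hPdef : ∀ v, P v = ∏ i, y i ^ (v i).val := fun v => rfl
  have hpow : ∀ (i : Fin m) (a b : ZMod 2), y i ^ (a + b).val = y i ^ a.val * y i ^ b.val := by
    intro i a b
    rcases zmod2_cases a with rfl | rfl <;> rcases zmod2_cases b with rfl | rfl
    · simp
    · simp
    · simp
    · have h0 : ((1 : ZMod 2) + 1).val = 0 := by decide
      have h1 : (1 : ZMod 2).val = 1 := by decide
      rw [h0, h1, pow_zero, pow_one, hy i]
  have hPadd : ∀ v w, P (v + w) = P v * P w := by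
    intro v w
    rw [hPdef, hPdef, hPdef, ← Finset.prod_mul_distrib]
    refine Finset.prod_congr rfl (fun i _ => ?_)
    rw [Pi.add_apply]; exact hpow i _ _
  have hP0 : P 0 = 1 := by
    rw [hPdef]
    simp
  have hPsingle : ∀ i, P (Pi.single i 1) = y i := by
    intro i
    rw [hPdef, Finset.prod_eq_single i]
    · have h1 : (1 : ZMod 2).val = 1 := by decide
      rw [Pi.single_eq_same, h1, pow_one]
    · intro k _ hk
      rw [Pi.single_eq_of_ne hk]; simp
    · intro h; exact absurd (Finset.mem_univ i) h
  have hvv : ∀ v : Fin m → ZMod 2, v + v = 0 := by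
    intro v
    ext i
    rw [Pi.add_apply, Pi.zero_apply]
    rcases zmod2_cases (v i) with h | h <;> rw [h] <;> decide
  have hsurj : Function.Surjective P := by
    let R : Subgroup A :=
      { carrier := Set.range P
        one_mem' := ⟨0, hP0⟩
        mul_mem' := by rintro _ _ ⟨v, rfl⟩ ⟨w, rfl⟩; exact ⟨v + w, hPadd v w⟩
        inv_mem' := by
          rintro _ ⟨v, rfl⟩
          refine ⟨v, ?_⟩
          have h1 : P v * P v = 1 := by rw [← hPadd, hvv, hP0]
          exact eq_inv_of_mul_eq_one_left h1 }
    have hle : Subgroup.closure (Set.range y) ≤ R := by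
      rw [Subgroup.closure_le]
      rintro _ ⟨i, rfl⟩
      exact ⟨Pi.single i 1, hPsingle i⟩
    intro a
    have ha : a ∈ R := hle (by rw [hgen]; exact Subgroup.mem_top a)
    exact ha
  have hdP : ∀ j v, d j (P v) = Multiplicative.ofAdd (Matrix.vecMul v Gm j) := by
    intro j v
    rw [hPdef, map_prod]
    have h1 : ∀ i, d j (y i ^ (v i).val) = Multiplicative.ofAdd (v i * Gm i j) := by
      intro i
      rw [map_pow, hd, ← ofAdd_nsmul, nsmul_eq_mul, ZMod.natCast_zmod_val]
    simp only [h1]
    rw [← ofAdd_sum]
    rfl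
  have hinj0 : ∀ v, (∀ j, d j (P v) = 1) → v = 0 := by
    intro v hv
    have h1 : Matrix.vecMul v Gm = 0 := by
      ext j
      have h2 := hv j
      rw [hdP, ofAdd_eq_one] at h2
      exact h2
    have h2 : Matrix.vecMul (Matrix.vecMul v Gm) N = v := by
      rw [Matrix.vecMul_vecMul, hN, Matrix.vecMul_one]
    rw [h1, Matrix.zero_vecMul] at h2
    exact h2.symm
  have hinj : Function.Injective P := by
    intro v w hvw
    have h0 : v + w = 0 := by
      apply hinj0
      intro j
      rw [hPadd, hvw, ← hPadd, hvv, hP0, map_one]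
    calc v = v + (w + w) := by rw [hvv, add_zero]
      _ = (v + w) + w := by rw [add_assoc]
      _ = w := by rw [h0, zero_add]
  refine ⟨?_, ?_⟩
  · rw [← Nat.card_congr (Equiv.ofBijective P ⟨hinj, hsurj⟩)]
    simp [Nat.card_eq_fintype_card]
  · intro a ha
    obtain ⟨v, rfl⟩ := hsurj a
    rw [hinj0 v ha, hP0]

/-- the commutation character against a fixed element -/
theorem exists_cj {G : Type*} [Group G] (z : G) (hz1 : z ≠ 1) (hz2 : z * z = 1)
    (hzc : ∀ g : G, g * z = z * g) (hor : ∀ g h : G, g * h = h * g ∨ g * h = z * (h * g)) (h : G) :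
    ∃ c : G →* Multiplicative (ZMod 2), ∀ g, (c g = 1 ↔ g * h = h * g) := by
  classical
  have hne : ∀ a : G, a * h = z * (h * a) → a * h ≠ h * a := by
    intro a ha hc
    rw [hc] at ha
    apply hz1
    have h1 : 1 * (h * a) = z * (h * a) := by rw [one_mul]; exact ha
    exact (mul_right_cancel h1).symm
  refine ⟨MonoidHom.mk' (fun g => Multiplicative.ofAdd (if g * h = h * g then (0 : ZMod 2) else 1)) ?_, ?_⟩
  · intro g g'
    rcases hor g h with h1 | h1 <;> rcases hor g' h with h2 | h2
    · have h3 : g * g' * h = h * (g * g') := by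
        rw [mul_assoc, h2, ← mul_assoc, h1, mul_assoc]
      simp only [if_pos h1, if_pos h2, if_pos h3]
      rfl
    · have h3 : g * g' * h = z * (h * (g * g')) := by
        rw [mul_assoc, h2, ← mul_assoc, hzc g, mul_assoc, ← mul_assoc g, h1, mul_assoc]
      simp only [if_pos h1, if_neg (hne _ h2), if_neg (hne _ h3)]
      rfl
    · have h3 : g * g' * h = z * (h * (g * g')) := by
        rw [mul_assoc, h2, ← mul_assoc, h1, mul_assoc, mul_assoc]
      simp only [if_neg (hne _ h1), if_pos h2, if_neg (hne _ h3)]
      rfl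
    · have h3 : g * g' * h = h * (g * g') := by
        rw [mul_assoc, h2, ← mul_assoc, hzc g, mul_assoc, ← mul_assoc g, h1, mul_assoc, ← mul_assoc,
          hz2, one_mul, mul_assoc]
      simp only [if_neg (hne _ h1), if_neg (hne _ h2), if_pos h3]
      rfl
  · intro g
    rw [MonoidHom.mk'_apply, ofAdd_eq_one]
    by_cases hg : g * h = h * g
    · simp [hg]
    · simp [hg]

/-- the generated case -/
theorem core {G : Type*} [Group G] {m : ℕ} (hm : 0 < m) (x : Fin m → G) (z : G)
    (hz1 : z ≠ 1) (hz2 : z * z = 1) (hzx : ∀ i, x i * z = z * x i)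
    (sq : Fin m → Bool) (hsq : ∀ i, x i * x i = if sq i then z else 1)
    (gram : Fin m → Fin m → Bool)
    (hcomm : ∀ i j, x i * x j = (if gram i j then z else 1) * (x j * x i))
    (N : Matrix (Fin m) (Fin m) (ZMod 2))
    (hN : Matrix.of (fun i j => if gram i j then (1 : ZMod 2) else 0) * N = 1)
    (hgen : Subgroup.closure (Set.range x ∪ {z}) = ⊤) :
    Cfsg.IsExtraspecial 2 G ∧ Nat.card G = 2 ^ (m + 1) := by
  classical
  have hzc : ∀ g : G, g * z = z * g := by
    intro g
    have hle : Subgroup.closure (Set.range x ∪ {z}) ≤ Subgroup.centralizer {z} := by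
      rw [Subgroup.closure_le]
      rintro t (⟨i, rfl⟩ | ht)
      · rw [SetLike.mem_coe, Subgroup.mem_centralizer_iff]
        intro h hh
        rw [Set.mem_singleton_iff] at hh
        rw [hh]; exact (hzx i).symm
      · rw [Set.mem_singleton_iff] at ht
        rw [ht, SetLike.mem_coe, Subgroup.mem_centralizer_iff]
        intro h hh
        rw [Set.mem_singleton_iff] at hh
        rw [hh]
    have hg : g ∈ Subgroup.centralizer {z} := hle (by rw [hgen]; exact Subgroup.mem_top g)
    rw [Subgroup.mem_centralizer_iff] at hg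
    exact (hg z rfl).symm
  have hZmem : ∀ g : G, g ∈ Subgroup.zpowers z ↔ g = 1 ∨ g = z := by
    intro g
    constructor
    · intro hg
      obtain ⟨k, rfl⟩ := Subgroup.mem_zpowers_iff.mp hg
      have h2 : z ^ (2 : ℤ) = 1 := by rw [zpow_two]; exact hz2
      rcases Int.even_or_odd' k with ⟨t, ht | ht⟩
      · left; rw [ht, zpow_mul, h2, one_zpow]
      · right; rw [ht, zpow_add, zpow_mul, h2, one_zpow, one_mul, zpow_one]
    · rintro (h | h)
      · rw [h]; exact Subgroup.one_mem _
      · rw [h]; exact Subgroup.mem_zpowers z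
  have hZcen : Subgroup.zpowers z ≤ Subgroup.center G := by
    rw [Subgroup.zpowers_le, Subgroup.mem_center_iff]
    exact hzc
  have hZn : (Subgroup.zpowers z).Normal := by
    refine ⟨fun n hn g => ?_⟩
    have h1 := Subgroup.mem_center_iff.mp (hZcen hn) g
    rw [h1, mul_assoc, mul_inv_cancel, mul_one]
    exact hn
  have hmkz : ((z : G) : G ⧸ Subgroup.zpowers z) = 1 :=
    (QuotientGroup.eq_one_iff z).mpr (Subgroup.mem_zpowers z)
  have hmkite : ∀ b : Bool, (((if b then z else 1 : G)) : G ⧸ Subgroup.zpowers z) = 1 := by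
    intro b; cases b
    · simp
    · simp [hmkz]
  let ybar : Fin m → G ⧸ Subgroup.zpowers z := fun i => ((x i : G) : G ⧸ Subgroup.zpowers z)
  have hgenA : Subgroup.closure (Set.range ybar) = ⊤ := by
    rw [eq_top_iff]
    intro a _
    obtain ⟨g, rfl⟩ := QuotientGroup.mk_surjective a
    have hle : Subgroup.closure (Set.range x ∪ {z}) ≤
        (Subgroup.closure (Set.range ybar)).comap (QuotientGroup.mk' (Subgroup.zpowers z)) := by
      rw [Subgroup.closure_le]
      rintro t (⟨i, rfl⟩ | ht)
      · exact Subgroup.subset_closure ⟨i, rfl⟩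
      · rw [Set.mem_singleton_iff] at ht
        rw [ht, SetLike.mem_coe, Subgroup.mem_comap, QuotientGroup.mk'_apply, hmkz]
        exact Subgroup.one_mem _
    exact hle (by rw [hgen]; exact Subgroup.mem_top g)
  have hAcomm : ∀ a b : G ⧸ Subgroup.zpowers z, a * b = b * a := by
    apply comm_of_closure (Set.range ybar) hgenA
    rintro _ ⟨i, rfl⟩ _ ⟨j, rfl⟩
    show ((x i : G) : G ⧸ Subgroup.zpowers z) * ((x j : G) : G ⧸ Subgroup.zpowers z)
      = ((x j : G) : G ⧸ Subgroup.zpowers z) * ((x i : G) : G ⧸ Subgroup.zpowers z)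
    rw [← QuotientGroup.mk_mul, hcomm i j, QuotientGroup.mk_mul, hmkite, one_mul,
      QuotientGroup.mk_mul]
  have hor : ∀ g h : G, g * h = h * g ∨ g * h = z * (h * g) := by
    intro g h
    have h1 : ((g * h : G) : G ⧸ Subgroup.zpowers z) = ((h * g : G) : G ⧸ Subgroup.zpowers z) := by
      rw [QuotientGroup.mk_mul, QuotientGroup.mk_mul]; exact hAcomm _ _
    rw [QuotientGroup.eq] at h1
    rcases (hZmem _).mp h1 with h2 | h2
    · left
      exact inv_mul_eq_one.mp h2
    · right
      have h3 : h * g = g * h * z := by rw [← h2]; group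
      rw [h3, ← hzc, mul_assoc, hz2, mul_one]
  let instA : CommGroup (G ⧸ Subgroup.zpowers z) :=
    { (QuotientGroup.Quotient.group (Subgroup.zpowers z)) with mul_comm := hAcomm }
  choose c hc using fun h => exists_cj z hz1 hz2 hzc hor h
  have hcz : ∀ j, Subgroup.zpowers z ≤ (c (x j)).ker := by
    intro j
    rw [Subgroup.zpowers_le, MonoidHom.mem_ker, hc]
    exact (hzx j).symm
  let d : Fin m → (G ⧸ Subgroup.zpowers z) →* Multiplicative (ZMod 2) :=
    fun j => QuotientGroup.lift (Subgroup.zpowers z) (c (x j)) (hcz j)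
  have hd : ∀ i j, d j (ybar i) = Multiplicative.ofAdd
      (Matrix.of (fun i j => if gram i j then (1 : ZMod 2) else 0) i j) := by
    intro i j
    show c (x j) (x i) = Multiplicative.ofAdd (if gram i j then (1 : ZMod 2) else 0)
    cases hg : gram i j
    · have h1 : x i * x j = x j * x i := by
        have h0 := hcomm i j
        rw [hg] at h0
        simpa using h0
      rw [(hc (x j) (x i)).mpr h1]; simp
    · have h1 : x i * x j = z * (x j * x i) := by
        have h0 := hcomm i j
        rw [hg] at h0
        simpa using h0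
      have h2 : c (x j) (x i) ≠ 1 := by
        intro h3
        have h4 := (hc (x j) (x i)).mp h3
        rw [h4] at h1
        apply hz1
        have h5 : 1 * (x j * x i) = z * (x j * x i) := by rw [one_mul]; exact h1
        exact (mul_right_cancel h5).symm
      rcases mult_zmod2_cases (c (x j) (x i)) with h3 | h3
      · exact absurd h3 h2
      · rw [h3]; simp
  have hyy : ∀ i, ybar i * ybar i = 1 := by
    intro i
    show ((x i : G) : G ⧸ Subgroup.zpowers z) * ((x i : G) : G ⧸ Subgroup.zpowers z) = 1
    rw [← QuotientGroup.mk_mul, hsq i, hmkite]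
  obtain ⟨hcardA, hkerA⟩ := elem_ab ybar hyy hgenA _ N hN d hd
  have hcardZ : Nat.card (Subgroup.zpowers z) = 2 := by
    rw [Nat.card_zpowers]
    exact orderOf_eq_prime (by rw [pow_two]; exact hz2) hz1
  have hcardG : Nat.card G = 2 ^ (m + 1) := by
    rw [Subgroup.card_eq_card_quotient_mul_card_subgroup (Subgroup.zpowers z), hcardA, hcardZ,
      pow_succ]
  have hcomm_gens : ∀ g : G, (∀ j, g * x j = x j * g) → g ∈ Subgroup.center G := by
    intro g hg
    rw [Subgroup.mem_center_iff]
    intro a
    have hle : Subgroup.closure (Set.range x ∪ {z}) ≤ Subgroup.centralizer {g} := by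
      rw [Subgroup.closure_le]
      rintro t (⟨i, rfl⟩ | ht)
      · rw [SetLike.mem_coe, Subgroup.mem_centralizer_iff]
        intro h hh
        rw [Set.mem_singleton_iff] at hh
        rw [hh]; exact hg i
      · rw [Set.mem_singleton_iff] at ht
        rw [ht, SetLike.mem_coe, Subgroup.mem_centralizer_iff]
        intro h hh
        rw [Set.mem_singleton_iff] at hh
        rw [hh]; exact hzc g
    have ha : a ∈ Subgroup.centralizer {g} := hle (by rw [hgen]; exact Subgroup.mem_top a)
    rw [Subgroup.mem_centralizer_iff] at ha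
    exact (ha g rfl).symm
  have hcenter : Subgroup.center G = Subgroup.zpowers z := by
    apply le_antisymm _ hZcen
    intro g hg
    have h1 : ∀ j, d j ((g : G) : G ⧸ Subgroup.zpowers z) = 1 := by
      intro j
      show c (x j) g = 1
      rw [hc]
      exact (Subgroup.mem_center_iff.mp hg (x j)).symm
    have h2 := hkerA _ h1
    exact (QuotientGroup.eq_one_iff g).mp h2
  have hcommle : commutator G ≤ Subgroup.zpowers z := by
    rw [commutator_def, Subgroup.commutator_le]
    intro g _ h _
    rw [hZmem, commutatorElement_def]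
    rcases hor g h with h1 | h1
    · left; rw [h1]; group
    · right; rw [h1]; group
  obtain ⟨i0, j0, hij⟩ : ∃ i j, gram i j = true := by
    by_contra hno
    have hall : ∀ i j, gram i j = false := by
      intro i j
      cases hg : gram i j
      · rfl
      · exact absurd ⟨i, j, hg⟩ hno
    have h1 : Matrix.of (fun i j => if gram i j then (1 : ZMod 2) else 0) = 0 := by
      ext i j
      rw [Matrix.of_apply, hall i j]; rfl
    have h2 := congrFun (congrFun hN ⟨0, hm⟩) ⟨0, hm⟩
    rw [h1, Matrix.zero_mul, Matrix.one_apply_eq] at h2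
    exact zero_ne_one h2
  have hx0 : x i0 * x j0 = z * (x j0 * x i0) := by
    have h0 := hcomm i0 j0
    rw [hij] at h0
    simpa using h0
  have hzcomm : z ∈ commutator G := by
    have h2 : z = ⁅x i0, x j0⁆ := by
      rw [commutatorElement_def, hx0]; group
    rw [h2, commutator_def]
    exact Subgroup.commutator_mem_commutator (Subgroup.mem_top _) (Subgroup.mem_top _)
  have hcommeq : commutator G = Subgroup.center G := by
    rw [hcenter]
    exact le_antisymm hcommle (Subgroup.zpowers_le.mpr hzcomm)
  have hfrat : frattini G = Subgroup.center G := by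
    apply le_antisymm
    · intro g hg
      apply hcomm_gens
      intro j
      rw [← hc]
      by_cases hker : (c (x j)).ker = ⊤
      · have h1 : g ∈ (c (x j)).ker := by rw [hker]; exact Subgroup.mem_top g
        exact MonoidHom.mem_ker.mp h1
      · have hco : IsCoatom (c (x j)).ker := by
          refine ⟨hker, fun H hH => ?_⟩
          obtain ⟨h, hhH, hhK⟩ := SetLike.exists_of_lt hH
          rw [eq_top_iff]
          intro a _
          rcases mult_zmod2_cases (c (x j) a) with h1 | h1
          · exact hH.le (MonoidHom.mem_ker.mpr h1)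
          · have h2 : c (x j) h = Multiplicative.ofAdd 1 := by
              rcases mult_zmod2_cases (c (x j) h) with h3 | h3
              · exact absurd (MonoidHom.mem_ker.mpr h3) hhK
              · exact h3
            have h3 : a * h⁻¹ ∈ (c (x j)).ker := by
              rw [MonoidHom.mem_ker, map_mul, map_inv, h1, h2, mul_inv_cancel]
            have h4 : a = (a * h⁻¹) * h := by group
            rw [h4]
            exact H.mul_mem (hH.le h3) hhH
        exact MonoidHom.mem_ker.mp (frattini_le_coatom hco hg)
    · rw [hcenter, Subgroup.zpowers_le]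
      show z ∈ Order.radical (Subgroup G)
      unfold Order.radical
      rw [Subgroup.mem_iInf]
      intro M
      rw [Subgroup.mem_iInf]
      intro hM
      have hM' : IsCoatom M := hM
      by_contra hzM
      have hlt : M < M ⊔ Subgroup.zpowers z := by
        apply lt_of_le_of_ne le_sup_left
        intro heq
        apply hzM
        rw [heq]
        exact (le_sup_right : Subgroup.zpowers z ≤ M ⊔ Subgroup.zpowers z) (Subgroup.mem_zpowers z)
      have htop : M ⊔ Subgroup.zpowers z = ⊤ := hM'.2 _ hlt
      have hGcomm : ∀ a b : G, a * b = b * a := by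
        apply comm_of_closure ((M : Set G) ∪ (Subgroup.zpowers z : Set G))
        · rw [Subgroup.closure_union, Subgroup.closure_eq, Subgroup.closure_eq, htop]
        · rintro s (hs | hs) t (ht | ht)
          · rcases hor s t with h1 | h1
            · exact h1
            · exfalso; apply hzM
              have h2 : z = s * t * (t * s)⁻¹ := by rw [h1]; group
              rw [h2]
              exact M.mul_mem (M.mul_mem hs ht) (M.inv_mem (M.mul_mem ht hs))
          · exact Subgroup.mem_center_iff.mp (hZcen ht) s
          · exact (Subgroup.mem_center_iff.mp (hZcen hs) t).symm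
          · exact Subgroup.mem_center_iff.mp (hZcen ht) s
      have h1 := hx0
      rw [hGcomm (x i0) (x j0)] at h1
      apply hz1
      have h5 : 1 * (x j0 * x i0) = z * (x j0 * x i0) := by rw [one_mul]; exact h1
      exact (mul_right_cancel h5).symm
  refine ⟨⟨⟨IsPGroup.of_card hcardG, hfrat, hcommeq⟩, ?_⟩, hcardG⟩
  rw [hcenter]; exact hcardZ

end Helper21E

/-- [E] a group generated by `x i` (`i < m`) and a central involution `z`, with the `x i` squaring into `⟨z⟩`
and commuting up to `z` according to a nonsingular Gram matrix, is extraspecial of order `2 ^ (m + 1)` -/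
theorem extraspecial_of_gens {G : Type*} [Group G] {m : ℕ} (hm : 0 < m) (x : Fin m → G) (z : G)
    (hz1 : z ≠ 1) (hz2 : z * z = 1) (hzx : ∀ i, x i * z = z * x i) (sq : Fin m → Bool)
    (hsq : ∀ i, x i * x i = if sq i then z else 1) (gram : Fin m → Fin m → Bool)
    (hcomm : ∀ i j, x i * x j = (if gram i j then z else 1) * (x j * x i))
    (N : Matrix (Fin m) (Fin m) (ZMod 2))
    (hN : Matrix.of (fun i j => if gram i j then (1 : ZMod 2) else 0) * N = 1) :
    Cfsg.IsExtraspecial 2 ↥(Subgroup.closure (Set.range x ∪ {z})) ∧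
      Nat.card ↥(Subgroup.closure (Set.range x ∪ {z})) = 2 ^ (m + 1) := by
  have hxQ : ∀ i, x i ∈ Subgroup.closure (Set.range x ∪ {z}) :=
    fun i => Subgroup.subset_closure (Or.inl ⟨i, rfl⟩)
  have hzQ : z ∈ Subgroup.closure (Set.range x ∪ {z}) := Subgroup.subset_closure (Or.inr rfl)
  let x' : Fin m → ↥(Subgroup.closure (Set.range x ∪ {z})) := fun i => ⟨x i, hxQ i⟩
  let z' : ↥(Subgroup.closure (Set.range x ∪ {z})) := ⟨z, hzQ⟩
  have hite : ∀ b : Bool, ((if b then z' else 1 : ↥(Subgroup.closure (Set.range x ∪ {z}))) : G)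
      = if b then z else 1 := by
    intro b; cases b <;> rfl
  apply Helper21E.core hm x' z' ?_ ?_ ?_ sq ?_ gram ?_ N hN ?_
  · intro h; apply hz1; exact congrArg Subtype.val h
  · exact Subtype.ext hz2
  · intro i; exact Subtype.ext (hzx i)
  · intro i
    apply Subtype.ext
    rw [hite]
    exact hsq i
  · intro i j
    apply Subtype.ext
    show x i * x j = ((if gram i j then z' else 1 : ↥(Subgroup.closure (Set.range x ∪ {z}))) : G)
      * (x j * x i)
    rw [hite]
    exact hcomm i j
  · have h := Subgroup.closure_closure_coe_preimage (k := Set.range x ∪ {z})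
    have hset : (Subtype.val : ↥(Subgroup.closure (Set.range x ∪ {z})) → G) ⁻¹' (Set.range x ∪ {z})
        = Set.range x' ∪ {z'} := by
      ext q
      constructor
      · rintro (⟨i, hi⟩ | hq)
        · left; exact ⟨i, Subtype.ext hi⟩
        · right; exact Subtype.ext hq
      · rintro (⟨i, rfl⟩ | hq)
        · left; exact ⟨i, rfl⟩
        · right
          rw [Set.mem_singleton_iff] at hq
          rw [hq]; rfl
    rw [← hset]; exact h

end Cfsg.Agent.Lib.Helper14.Co2C
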