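import Mathlib
import Cfsg.Agent.Lib.Helper14.Co2CDefs

/-!
# S2136 pieces [T] and [X] (helper21): the shape of S2136 is invariant under isomorphism

`isExtraspecial_of_mulEquiv` is helper1's proof (`Cfsg.Agent.Lib.Helper1.ESRep.isExtraspecial_of_mulEquiv` in
`Lib/Helper1/ExtraspecialRep.lean`), repeated here for `p = 2` to keep the imports light.
-/

set_option autoImplicit false

namespace Cfsg.Agent.Lib.Helper14.Co2C

namespace Helper21

theorem map_commutator_le' {A B : Type*} [Group A] [Group B] (f : A →* B) :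
    (commutator A).map f ≤ commutator B := by
  rw [commutator_def, Subgroup.map_commutator, commutator_def]
  exact Subgroup.commutator_mono le_top le_top

/-- extraspeciality is invariant under isomorphism (helper1's proof) -/
theorem isExtraspecial_of_mulEquiv' {p : ℕ} {P₁ P₂ : Type*} [Group P₁] [Group P₂] (e : P₁ ≃* P₂)
    (h : Cfsg.IsExtraspecial p P₁) : Cfsg.IsExtraspecial p P₂ := by
  have hcen : ∀ x : P₁, e x ∈ Subgroup.center P₂ ↔ x ∈ Subgroup.center P₁ := by
    intro x
    rw [Subgroup.mem_center_iff, Subgroup.mem_center_iff]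
    constructor
    · intro hx g
      apply e.injective
      rw [map_mul, map_mul]
      exact hx (e g)
    · intro hx g
      obtain ⟨g', rfl⟩ := e.surjective g
      rw [← map_mul, ← map_mul, hx g']
  have hfr : ∀ x : P₁, e x ∈ frattini P₂ ↔ x ∈ frattini P₁ := by
    intro x
    constructor
    · intro hx
      have h1 := frattini_le_comap_frattini_of_surjective (φ := e.symm.toMonoidHom)
        e.symm.surjective hx
      rw [Subgroup.mem_comap] at h1
      have h2 : e.symm.toMonoidHom (e x) = x := e.symm_apply_apply x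
      rwa [h2] at h1
    · intro hx
      exact frattini_le_comap_frattini_of_surjective (φ := e.toMonoidHom) e.surjective hx
  have hcm : ∀ x : P₁, e x ∈ commutator P₂ ↔ x ∈ commutator P₁ := by
    intro x
    constructor
    · intro hx
      have h1 := map_commutator_le' e.symm.toMonoidHom
        (Subgroup.mem_map_of_mem e.symm.toMonoidHom hx)
      have h2 : e.symm.toMonoidHom (e x) = x := e.symm_apply_apply x
      rwa [h2] at h1
    · intro hx
      exact map_commutator_le' e.toMonoidHom (Subgroup.mem_map_of_mem e.toMonoidHom hx)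
  obtain ⟨⟨hp, hfc, hcc⟩, hcard⟩ := h
  refine ⟨⟨hp.of_surjective e.toMonoidHom e.surjective, ?_, ?_⟩, ?_⟩
  · ext y
    obtain ⟨x, rfl⟩ := e.surjective y
    rw [hfr, hcen, hfc]
  · ext y
    obtain ⟨x, rfl⟩ := e.surjective y
    rw [hcm, hcen, hcc]
  · let eq : ↥(Subgroup.center P₁) ≃ ↥(Subgroup.center P₂) :=
      { toFun := fun c => ⟨e c.1, (hcen c.1).mpr c.2⟩
        invFun := fun d => ⟨e.symm d.1, (hcen (e.symm d.1)).mp (by
          rw [e.apply_symm_apply]; exact d.2)⟩
        left_inv := fun c => Subtype.ext (e.symm_apply_apply c.1)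
        right_inv := fun d => Subtype.ext (e.apply_symm_apply d.1) }
    rw [← Nat.card_congr eq]
    exact hcard

/-- image of the `p`-core under an isomorphism -/
theorem map_pCore {A B : Type*} [Group A] [Group B] (f : A ≃* B) (p : ℕ) :
    (Cfsg.pCore p A).map (f : A →* B) = Cfsg.pCore p B := by
  unfold Cfsg.pCore
  have h1 : (sSup {N : Subgroup A | N.Normal ∧ IsPGroup p N}).map (f : A →* B)
      = f.mapSubgroup (sSup {N : Subgroup A | N.Normal ∧ IsPGroup p N}) := rfl
  rw [h1, OrderIso.map_sSup, ← sSup_image]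
  congr 1
  ext N'
  constructor
  · rintro ⟨N, ⟨hN, hp⟩, rfl⟩
    refine ⟨?_, ?_⟩
    · exact Subgroup.Normal.map hN (f : A →* B) f.surjective
    · exact hp.map (f : A →* B)
  · rintro ⟨hN, hp⟩
    refine ⟨N'.comap (f : A →* B), ⟨?_, ?_⟩, ?_⟩
    · exact hN.comap (f : A →* B)
    · exact hp.comap_of_injective (f : A →* B) f.injective
    · exact Subgroup.map_comap_eq_self_of_surjective (f := (f : A →* B)) f.surjective N'

/-- image of the centraliser of an element under an isomorphism -/
theorem map_centralizer_singleton {G G' : Type*} [Group G] [Group G'] (e : G ≃* G') (t : G) :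
    (Subgroup.centralizer ({t} : Set G)).map (e : G →* G')
      = Subgroup.centralizer ({e t} : Set G') := by
  ext y
  constructor
  · rintro ⟨x, hx, rfl⟩
    rw [SetLike.mem_coe, Subgroup.mem_centralizer_iff] at hx
    rw [Subgroup.mem_centralizer_iff]
    intro h hh
    rw [Set.mem_singleton_iff] at hh
    rw [hh]
    have h1 := hx t rfl
    show e t * e x = e x * e t
    rw [← map_mul, ← map_mul, h1]
  · intro hy
    rw [Subgroup.mem_centralizer_iff] at hy
    refine ⟨e.symm y, ?_, e.apply_symm_apply y⟩
    rw [SetLike.mem_coe, Subgroup.mem_centralizer_iff]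
    intro h hh
    rw [Set.mem_singleton_iff] at hh
    rw [hh]
    apply e.injective
    rw [map_mul, map_mul, e.apply_symm_apply]
    exact hy (e t) rfl

end Helper21

/-- [X] extraspeciality (`p = 2`) is invariant under isomorphism -/
theorem isExtraspecial_of_mulEquiv {P P' : Type*} [Group P] [Group P'] (e : P ≃* P')
    (h : Cfsg.IsExtraspecial 2 P) : Cfsg.IsExtraspecial 2 P' :=
  Helper21.isExtraspecial_of_mulEquiv' e h

/-- [T] the shape of S2136 is invariant under isomorphism -/
theorem Shape.congr {G G' : Type*} [Group G] [Group G'] {S : Type*} [Group S] (e : G ≃* G')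
    (h : Shape G S) : Shape G' S := by
  obtain ⟨t, ht, hES, hcard, ⟨q⟩⟩ := h
  have hmap := Helper21.map_centralizer_singleton e t
  let eC : ↥(Subgroup.centralizer ({t} : Set G)) ≃* ↥(Subgroup.centralizer ({e t} : Set G')) :=
    (e.subgroupMap (Subgroup.centralizer ({t} : Set G))).trans (MulEquiv.subgroupCongr hmap)
  have hcore := Helper21.map_pCore eC 2
  let eQ : ↥(Cfsg.pCore 2 ↥(Subgroup.centralizer ({t} : Set G))) ≃*
      ↥(Cfsg.pCore 2 ↥(Subgroup.centralizer ({e t} : Set G'))) :=
    (eC.subgroupMap (Cfsg.pCore 2 _)).trans (MulEquiv.subgroupCongr hcore)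
  refine ⟨e t, ?_, ?_, ?_, ⟨?_⟩⟩
  · rw [MulEquiv.orderOf_eq]; exact ht
  · exact isExtraspecial_of_mulEquiv eQ hES
  · rw [← Nat.card_congr eQ.toEquiv]; exact hcard
  · exact (QuotientGroup.congr _ _ eC hcore).symm.trans q

end Cfsg.Agent.Lib.Helper14.Co2C
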