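import Mathlib
import Cfsg.Prelude.Def_GeometricClasses
import Cfsg.Agent.Lib.Helper13.TensorNM
import Cfsg.Agent.Lib.Helper15.MonoA
import Cfsg.Agent.Lib.Helper15.BlkA

/-!
# BlkMax FO-S (helper21, for architect helper15): block transvections belong to `SS`
-/

set_option autoImplicit false
set_option linter.unusedSectionVars false
set_option linter.unusedVariables false

namespace Cfsg.Agent.Lib.Helper21.BlkS

open Matrix Cfsg Cfsg.Geo Cfsg.Agent.Lib.Helper13.TNM Cfsg.Agent.Lib.Helper15.MonoMax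
  Cfsg.Agent.Lib.Helper15.BlkMax

section blocks
variable {t m : ℕ} {F : Type*} [Field F]

theorem tv_apply_of_ne (k : Fin t) (b θ : Fin t × Fin m → F) (hb : OnBlk k b) (hθ : OnBlk k θ)
    (a a' : Fin t × Fin m) (h : a.1 ≠ a'.1) : tv b θ a a' = 0 := by
  have hne : a ≠ a' := fun e => h (by rw [e])
  rw [tv, Matrix.add_apply, Matrix.one_apply_ne hne, zero_add, vecMulVec_apply]
  by_cases ha : a.1 = k
  · have : a'.1 ≠ k := fun e => h (by rw [ha, e])
    rw [hθ a' this, mul_zero]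
  · rw [hb a ha, zero_mul]

/-- block transvections belong to `SS` -/
theorem tvGL_mem_SS (k : Fin t) (b θ : Fin t × Fin m → F) (hb : OnBlk k b) (hθ : OnBlk k θ)
    (h : θ ⬝ᵥ b = 0) : tvGL b θ h ∈ SS t m F := by
  refine ⟨?_, tvGL_mem_SL b θ h⟩
  apply mem_decStab_of_blockMonomial (Prod.fst : Fin t × Fin m → Fin t) (tvGL b θ h) 1
  · intro a a' haa
    rw [tvGL_val]
    exact tv_apply_of_ne k b θ hb hθ a a' haa
  · intro a a' haa
    have hinv : (((tvGL b θ h)⁻¹ : GL (Fin t × Fin m) F) : Matrix (Fin t × Fin m) (Fin t × Fin m) F)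
        = tv b (-θ) := rfl
    rw [hinv]
    have hθ' : OnBlk k (-θ) := fun x hx => by rw [Pi.neg_apply, hθ x hx, neg_zero]
    exact tv_apply_of_ne k b (-θ) hb hθ' a a' haa

theorem inTv_of_onBlk {M : Subgroup (GL (Fin t × Fin m) F)} (hSM : SS t m F ≤ M) (k : Fin t)
    (b θ : Fin t × Fin m → F) (hb : OnBlk k b) (hθ : OnBlk k θ) (h : θ ⬝ᵥ b = 0) : InTv M b θ := by
  rw [inTv_iff M b θ h]
  exact hSM (tvGL_mem_SS k b θ hb hθ h)

end blocks

end Cfsg.Agent.Lib.Helper21.BlkS
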