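import Mathlib
import Cfsg.Prelude.Def_KGroupFacts
import Cfsg.Agent.Lib.Helper28.BSGSPerm

/-!
# S2080-FO2 (helper15's Out(Fi23) front): transport of `Out` along an isomorphism, and a simple
presented group with a nontrivial permutation model is the group generated by its tables
-/

set_option autoImplicit false

namespace Cfsg.Agent.Lib.Helper15.OutOne

open Cfsg.Agent.Lib.Helper28.BSGS

/-- isomorphic groups have outer automorphism groups of the same order
(the proof of `Cfsg.Agent.Lib.Helper28.HSB.out_card_congr`, copied to avoid its heavy imports) -/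
theorem out_card_congr' {G : Type*} {H : Type*} [Group G] [Group H] (e : G ≃* H) :
    Nat.card (Cfsg.Out G) = Nat.card (Cfsg.Out H) := by
  show Nat.card (MulAut G ⧸ Cfsg.Inn G) = Nat.card (MulAut H ⧸ Cfsg.Inn H)
  rw [← Subgroup.index_eq_card, ← Subgroup.index_eq_card,
    ← Subgroup.index_map_equiv (Cfsg.Inn G) (MulAut.congr e)]
  congr 1
  ext φ
  constructor
  · rintro ⟨ψ, ⟨g, rfl⟩, rfl⟩
    refine ⟨e g, ?_⟩
    ext x
    simp [MulAut.congr]
  · rintro ⟨h, rfl⟩
    refine ⟨MulAut.conj (e.symm h), ⟨e.symm h, rfl⟩, ?_⟩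
    ext x
    simp [MulAut.congr]

/-- a simple presented group with a nontrivial permutation model is isomorphic to the group
generated by the tables of its generators -/
theorem nonempty_equiv_genGroup {α : Type} (R : Set (FreeGroup α)) [IsSimpleGroup (PresentedGroup R)]
    (n w : ℕ) [NeZero n] (T : α → ℕ × ℕ) (φ : PresentedGroup R →* Equiv.Perm (Fin n))
    (hφ : ∀ x, φ (PresentedGroup.of x) = permOf n w (T x).1 (T x).2)
    (L : List α) (hL : ∀ x : α, x ∈ L) (x0 : α) (hne : permOf n w (T x0).1 (T x0).2 ≠ 1) :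
    Nonempty (PresentedGroup R ≃* genGroup n w (L.map T)) := by
  have hinj : Function.Injective φ := by
    rw [← MonoidHom.ker_eq_bot_iff]
    rcases (MonoidHom.normal_ker φ).eq_bot_or_eq_top with h | h
    · exact h
    · exfalso
      apply hne
      rw [← hφ x0, ← MonoidHom.mem_ker, h]
      exact Subgroup.mem_top _
  have hrange : φ.range = genGroup n w (L.map T) := by
    rw [MonoidHom.range_eq_map, ← PresentedGroup.closure_range_of, MonoidHom.map_closure]
    unfold genGroup
    congr 1
    ext s
    constructor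
    · rintro ⟨_, ⟨x, rfl⟩, rfl⟩
      show φ (PresentedGroup.of x) ∈ semGens n w (L.map T)
      rw [hφ x]
      exact mem_semGens n w (List.mem_map.mpr ⟨x, hL x, rfl⟩)
    · intro hs
      obtain ⟨g, hg, rfl⟩ := List.mem_map.mp hs
      obtain ⟨x, _, rfl⟩ := List.mem_map.mp hg
      exact ⟨PresentedGroup.of x, ⟨x, rfl⟩, hφ x⟩
  exact ⟨(MonoidHom.ofInjective hinj).trans (MulEquiv.subgroupCongr hrange)⟩

end Cfsg.Agent.Lib.Helper15.OutOne
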