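import Mathlib
import Cfsg.Agent.Lib.Helper15.S5670T4Defs
import Cfsg.Agent.Lib.Helper6.SUSimple

/-!
# S5670 FO-T4, piece T4-P0 `p0` (helper21, for helper15)
-/

set_option autoImplicit false

namespace Cfsg.Agent.Lib.Helper21.S5670T4P0

open Matrix Module
open Cfsg.Agent.Lib.Helper6 Cfsg.Agent.Lib.Helper6.SUG Cfsg.Agent.Lib.Helper13
open Cfsg.Agent.Lib.Helper15.S5670T4 Cfsg.Agent.S0779 Cfsg.Agent.S0781

variable {F : Type*} [Field F] [Fintype F] {a b n q : ℕ}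
variable {tp : (Fin a → F) → (Fin b → F) → (Fin n → F)} {M : Subgroup (GL (Fin n) F)}

local notation "hU" => Cfsg.hermForm a F q
local notation "hW" => Cfsg.hermForm b F q
local notation "hV" => Cfsg.hermForm n F q

theorem herm_single_single (hF : Fintype.card F = q ^ 2) (i j : Fin a) :
    hU (Pi.single i (1 : F)) (Pi.single j 1) = if i = j then 1 else 0 := by
  rw [herm_single_right hF]
  by_cases h : i = j
  · subst h; simp
  · rw [if_neg h, Pi.single_apply, if_neg (fun h' => h h'.symm)]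

theorem herm_pair (hF : Fintype.card F = q ^ 2) (i j : Fin a) (hij : i ≠ j) (α β γ δ : F) :
    hU (α • Pi.single i (1 : F) + β • Pi.single j 1) (γ • Pi.single i (1 : F) + δ • Pi.single j 1) =
      α * γ ^ q + β * δ ^ q := by
  simp only [herm_add_left, herm_add_right hF, herm_smul_left, herm_smul_right,
    herm_single_single hF, if_neg hij, if_neg hij.symm, if_true]
  ring

/-- T4-P0: the isotropic vectors of `⟨g₀,g₁⟩ ⊗ W` from the core for all hyperbolic pairs -/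
theorem p0 (hF : Fintype.card F = q ^ 2) (ha : 2 ≤ a) (hT : TP q tp)
    (hcore : ∀ e f : Fin a → F, hU e e = 0 → hU f f = 0 → hU e f = 1 → ∀ w w' : Fin b → F,
      hV (tp e w + tp f w') (tp e w + tp f w') = 0 → SuX q M (tp e w + tp f w')) :
    ∀ w w' : Fin b → F,
      hV (tp (Pi.single (⟨0, by omega⟩ : Fin a) 1) w + tp (Pi.single (⟨1, by omega⟩ : Fin a) 1) w')
        (tp (Pi.single (⟨0, by omega⟩ : Fin a) 1) w + tp (Pi.single (⟨1, by omega⟩ : Fin a) 1) w') = 0 →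
      SuX q M (tp (Pi.single (⟨0, by omega⟩ : Fin a) 1) w + tp (Pi.single (⟨1, by omega⟩ : Fin a) 1) w') := by
  intro w w' h
  obtain ⟨g₀, hg₀⟩ : ∃ g : Fin a → F, g = Pi.single (⟨0, by omega⟩ : Fin a) 1 := ⟨_, rfl⟩
  obtain ⟨g₁, hg₁⟩ : ∃ g : Fin a → F, g = Pi.single (⟨1, by omega⟩ : Fin a) 1 := ⟨_, rfl⟩
  have h01 : (⟨0, by omega⟩ : Fin a) ≠ ⟨1, by omega⟩ := by
    intro h'
    have := congrArg Fin.val h'
    simp at this
  rw [← hg₀, ← hg₁] at h ⊢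
  -- θ of norm -1
  obtain ⟨θ, hθ⟩ : ∃ θ : F, θ * θ ^ q = -1 := by
    have := Cfsg.Agent.Lib.Helper6.exists_norm (conjQ hF) (conjQ_ne_id hF) (conjQ_conjQ hF) (-1 : F)
      (neg_ne_zero.mpr one_ne_zero) (by rw [map_neg, map_one])
    obtain ⟨c, hc⟩ := this
    exact ⟨c, by rw [← hc, conjQ_apply]⟩
  have hθ0 : θ ≠ 0 := by
    intro h0
    rw [h0, zero_mul] at hθ
    exact one_ne_zero (neg_eq_zero.mp hθ.symm)
  -- x₀ not in F_q
  obtain ⟨x₀, hx₀⟩ : ∃ x : F, x ^ q ≠ x := by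
    by_contra hcon
    have hcon' : ∀ x : F, x ^ q = x := by
      intro x
      by_contra hx
      exact hcon ⟨x, hx⟩
    exact conjQ_ne_id hF (RingHom.ext fun x => by rw [conjQ_apply, hcon']; rfl)
  have hx00 : x₀ ≠ 0 := by
    intro h0
    apply hx₀
    rw [h0, zero_pow (q_pos hF).ne']
  obtain ⟨ζ, hζ⟩ : ∃ ζ : F, ζ = x₀ ^ q / x₀ := ⟨_, rfl⟩
  have hζ1 : ζ ≠ 1 := by
    intro h1
    apply hx₀
    rw [hζ, div_eq_one_iff_eq hx00] at h1
    exact h1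
  have hζq : ζ ^ q = x₀ / x₀ ^ q := by
    rw [hζ, div_pow, pow_q_q hF]
  have hxq0 : x₀ ^ q ≠ 0 := pow_ne_zero _ hx00
  have hζN : ζ * ζ ^ q = 1 := by
    rw [hζq, hζ]
    field_simp
  have hζq1 : 1 - ζ ^ q ≠ 0 := by
    intro h0
    apply hζ1
    have h1 : ζ ^ q = 1 := by linear_combination -h0
    have h2 := pow_q_q hF ζ
    rw [h1, one_pow] at h2
    exact h2.symm
  obtain ⟨l, hl⟩ : ∃ l : F, l = ((1 - ζ ^ q)⁻¹) ^ q := ⟨_, rfl⟩
  have hlq : l ^ q = (1 - ζ ^ q)⁻¹ := by rw [hl, pow_q_q hF]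
  have hl0 : l ≠ 0 := by
    rw [hl]
    exact pow_ne_zero _ (inv_ne_zero hζq1)
  -- the hyperbolic pair
  obtain ⟨e, he⟩ : ∃ e : Fin a → F, e = (1 : F) • g₀ + θ • g₁ := ⟨_, rfl⟩
  obtain ⟨f, hf⟩ : ∃ f : Fin a → F, f = l • g₀ + (l * ζ * θ) • g₁ := ⟨_, rfl⟩
  have hee : hU e e = 0 := by
    rw [he, hg₀, hg₁, herm_pair hF _ _ h01, one_pow, one_mul, hθ]
    ring
  have hff : hU f f = 0 := by
    rw [hf, hg₀, hg₁, herm_pair hF _ _ h01, mul_pow, mul_pow]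
    have : l * l ^ q + l * ζ * θ * (l ^ q * ζ ^ q * θ ^ q) =
        l * l ^ q * (1 + (ζ * ζ ^ q) * (θ * θ ^ q)) := by ring
    rw [this, hζN, hθ]
    ring
  have hef : hU e f = 1 := by
    rw [he, hf, hg₀, hg₁, herm_pair hF _ _ h01, mul_pow, mul_pow]
    have : 1 * l ^ q + θ * (l ^ q * ζ ^ q * θ ^ q) = l ^ q * (1 + ζ ^ q * (θ * θ ^ q)) := by ring
    rw [this, hθ, hlq]
    have : (1 + ζ ^ q * -1) = 1 - ζ ^ q := by ring
    rw [this, inv_mul_cancel₀ hζq1]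
  -- the new coordinates
  obtain ⟨c, hc⟩ : ∃ c : F, c = l * θ * (ζ - 1) := ⟨_, rfl⟩
  have hc0 : c ≠ 0 := by
    rw [hc]
    exact mul_ne_zero (mul_ne_zero hl0 hθ0) (sub_ne_zero.mpr hζ1)
  obtain ⟨w₂, hw₂⟩ : ∃ w₂ : Fin b → F, w₂ = c⁻¹ • (w' - θ • w) := ⟨_, rfl⟩
  obtain ⟨w₁, hw₁⟩ : ∃ w₁ : Fin b → F, w₁ = w - l • w₂ := ⟨_, rfl⟩
  have e1 : w₁ + l • w₂ = w := by rw [hw₁]; abel
  have e2 : θ • w₁ + (l * ζ * θ) • w₂ = w' := by
    have h1 : θ • w₁ + (l * ζ * θ) • w₂ = θ • w + c • w₂ := by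
      rw [hw₁, hc]
      ext i
      simp only [Pi.add_apply, Pi.smul_apply, Pi.sub_apply, smul_eq_mul]
      ring
    rw [h1, hw₂, smul_smul, mul_inv_cancel₀ hc0, one_smul]
    abel
  have key : tp g₀ w + tp g₁ w' = tp e w₁ + tp f w₂ := by
    rw [he, hf, hT.add_left, hT.add_left, hT.smul_left, hT.smul_left, hT.smul_left, hT.smul_left,
      one_smul]
    conv_lhs => rw [← e1, ← e2]
    rw [hT.add_right, hT.add_right, hT.smul_right, hT.smul_right, hT.smul_right]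
    abel
  rw [key] at h ⊢
  exact hcore e f hee hff hef w₁ w₂ h

end Cfsg.Agent.Lib.Helper21.S5670T4P0
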