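import Mathlib
import Cfsg.Agent.Lib.Helper15.S5670T4Defs
import Cfsg.Agent.Lib.Helper6.SUSimple
import Cfsg.Agent.Lib.Helper21.S5670T4P0

/-!
# S5670 FO-T4, piece T4-GROW `grow` (helper21, for helper15)
-/

set_option autoImplicit false

namespace Cfsg.Agent.Lib.Helper21.S5670T4GROW

open Matrix Module
open Cfsg.Agent.Lib.Helper6 Cfsg.Agent.Lib.Helper6.SUG Cfsg.Agent.Lib.Helper13
open Cfsg.Agent.Lib.Helper13.SUND Cfsg.Agent.Lib.Helper13.UND
open Cfsg.Agent.Lib.Helper15.S5670T4 Cfsg.Agent.S0779 Cfsg.Agent.S0781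
open Cfsg.Agent.Lib.Helper21.S5670T4P0

variable {F : Type*} [Field F] [Fintype F] {a b n q : ℕ}
variable {tp : (Fin a → F) → (Fin b → F) → (Fin n → F)} {M : Subgroup (GL (Fin n) F)}

local notation "hU" => Cfsg.hermForm a F q
local notation "hW" => Cfsg.hermForm b F q
local notation "hV" => Cfsg.hermForm n F q

/-- the cell vectors -/
def zc (tp : (Fin a → F) → (Fin b → F) → (Fin n → F)) (c : Fin a × Fin b) : Fin n → F :=
  tp (Pi.single c.1 1) (Pi.single c.2 1)

theorem zc_orth (hF : Fintype.card F = q ^ 2) (hT : TP q tp) (c c' : Fin a × Fin b) :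
    hV (zc tp c) (zc tp c') = if c = c' then 1 else 0 := by
  unfold zc
  rw [hT.herm, herm_single_single hF, herm_single_single hF]
  by_cases h1 : c.1 = c'.1
  · by_cases h2 : c.2 = c'.2
    · rw [if_pos h1, if_pos h2, if_pos (Prod.ext h1 h2), mul_one]
    · rw [if_neg h2, mul_zero, if_neg (fun h => h2 (congrArg Prod.snd h))]
  · rw [if_neg h1, zero_mul, if_neg (fun h => h1 (congrArg Prod.fst h))]

theorem perp_span (hF : Fintype.card F = q ^ 2) (hT : TP q tp) (T : Set (Fin a × Fin b))
    (c : Fin a × Fin b) (hc : c ∉ T) :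
    ∀ d ∈ Submodule.span F (zc tp '' T), hV (zc tp c) d = 0 := by
  intro d hd
  induction hd using Submodule.span_induction with
  | mem x hx =>
    obtain ⟨c', hc', rfl⟩ := hx
    rw [zc_orth hF hT, if_neg]
    intro h
    exact hc (h ▸ hc')
  | zero => exact herm_zero_right hF _
  | add x y _ _ hx hy => rw [herm_add_right hF, hx, hy, add_zero]
  | smul r x _ hx => rw [herm_smul_right, hx, mul_zero]

theorem tp_mem_span (hT : TP q tp) (i : Fin a) (w : Fin b → F) :
    tp (Pi.single i 1) w ∈ Submodule.span F (Set.range (zc tp)) := by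
  have hw : w = ∑ j, w j • Pi.single j (1 : F) := by
    ext k
    rw [Finset.sum_apply]
    simp only [Pi.smul_apply, smul_eq_mul, Pi.single_apply, mul_ite, mul_one, mul_zero]
    rw [Finset.sum_ite_eq]
    simp
  obtain ⟨L, hL⟩ : ∃ L : (Fin b → F) →ₗ[F] (Fin n → F), ∀ w, L w = tp (Pi.single i 1) w :=
    ⟨{ toFun := fun w => tp (Pi.single i 1) w
       map_add' := fun x y => hT.add_right _ x y
       map_smul' := fun c x => hT.smul_right c _ x }, fun _ => rfl⟩
  rw [← hL, hw, map_sum]
  apply Submodule.sum_mem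
  intro j _
  rw [map_smul, hL]
  exact Submodule.smul_mem _ _ (Submodule.subset_span ⟨(i, j), rfl⟩)

theorem span_top (hT : TP q tp) : Submodule.span F (Set.range (zc tp)) = ⊤ := by
  rw [eq_top_iff]
  intro x _
  obtain ⟨w, rfl⟩ := hT.span x
  apply Submodule.sum_mem
  intro i _
  exact tp_mem_span hT i (w i)

theorem ndOn_span (hF : Fintype.card F = q ^ 2) (hT : TP q tp) (T : Set (Fin a × Fin b)) :
    NDOn (hB n hF) (Submodule.span F (zc tp '' T)) := by
  intro s hs hs0
  by_contra hcon
  have hall : ∀ x ∈ Submodule.span F (zc tp '' T), hV x s = 0 := by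
    intro x hx
    by_contra hx0
    exact hcon ⟨x, hx, by rw [hB_apply]; exact hx0⟩
  have hcell : ∀ c, hV (zc tp c) s = 0 := by
    intro c
    by_cases hc : c ∈ T
    · exact hall _ (Submodule.subset_span ⟨c, hc, rfl⟩)
    · exact perp_span hF hT T c hc s hs
  have htop : ∀ y ∈ Submodule.span F (Set.range (zc tp)), hV y s = 0 := by
    intro y hy
    induction hy using Submodule.span_induction with
    | mem x hx =>
      obtain ⟨c, rfl⟩ := hx
      exact hcell c
    | zero => exact herm_zero_left _
    | add x y _ _ hx hy => rw [herm_add_left, hx, hy, add_zero]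
    | smul r x _ hx => rw [herm_smul_left, hx, mul_zero]
  obtain ⟨x, hx⟩ := (hB_isU (n := n) hF).nd s hs0
  apply hx
  rw [hB_apply]
  apply htop
  rw [span_top hT]
  exact Submodule.mem_top

theorem zc_linearIndependent (hF : Fintype.card F = q ^ 2) (hT : TP q tp) :
    LinearIndependent F (zc tp : Fin a × Fin b → (Fin n → F)) := by
  classical
  rw [linearIndependent_iff']
  intro s g hg c hc
  have h1 := congrArg (fun x => hV x (zc tp c)) hg
  beta_reduce at h1
  rw [herm_zero_left] at h1
  have h2 : hV (∑ i ∈ s, g i • zc tp i) (zc tp c) = ∑ i ∈ s, g i * hV (zc tp i) (zc tp c) := by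
    clear h1 hg hc
    induction s using Finset.induction_on with
    | empty => simp [herm_zero_left]
    | insert x s hx ih =>
      rw [Finset.sum_insert hx, Finset.sum_insert hx, herm_add_left, herm_smul_left, ih]
  rw [h2] at h1
  simp only [zc_orth hF hT] at h1
  rw [Finset.sum_eq_single c] at h1
  · simpa using h1
  · intro c' _ hc'
    rw [if_neg hc', mul_zero]
  · intro h
    exact absurd hc h

theorem four_le (hF : Fintype.card F = q ^ 2) (ha : 2 ≤ a) (hb : 2 ≤ b) (hT : TP q tp)
    (T : Set (Fin a × Fin b)) (hT0 : ∀ c : Fin a × Fin b, c.1.val < 2 → c ∈ T) :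
    4 ≤ finrank F (Submodule.span F (zc tp '' T)) := by
  obtain ⟨cell, hcell⟩ : ∃ cell : Fin 2 × Fin 2 → Fin a × Fin b,
      cell = fun k => (⟨k.1.val, by omega⟩, ⟨k.2.val, by omega⟩) := ⟨_, rfl⟩
  have hinj : Function.Injective cell := by
    intro k k' h
    rw [hcell] at h
    have h1 := congrArg (fun c : Fin a × Fin b => c.1.val) h
    have h2 := congrArg (fun c : Fin a × Fin b => c.2.val) h
    simp only at h1 h2
    exact Prod.ext (Fin.ext h1) (Fin.ext h2)
  have hli := (zc_linearIndependent hF hT).comp cell hinj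
  have h1 := finrank_span_eq_card hli
  rw [Fintype.card_prod, Fintype.card_fin] at h1
  have hle : Submodule.span F (Set.range (zc tp ∘ cell)) ≤ Submodule.span F (zc tp '' T) := by
    apply Submodule.span_mono
    rintro _ ⟨k, rfl⟩
    refine ⟨cell k, hT0 _ ?_, rfl⟩
    rw [hcell]
    exact k.1.isLt
  have h2 := Submodule.finrank_mono hle
  omega

/-- T4-GROW: cell by cell with `und_extend` -/
theorem grow (hF : Fintype.card F = q ^ 2) (ha : 2 ≤ a) (hb : 3 ≤ b) (hT : TP q tp)
    (hJ : ∀ u : Fin a → F, hU u u = 0 → InJ q M tp u)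
    (hP0 : ∀ w w' : Fin b → F,
      hV (tp (Pi.single (⟨0, by omega⟩ : Fin a) 1) w + tp (Pi.single (⟨1, by omega⟩ : Fin a) 1) w')
        (tp (Pi.single (⟨0, by omega⟩ : Fin a) 1) w + tp (Pi.single (⟨1, by omega⟩ : Fin a) 1) w') = 0 →
      SuX q M (tp (Pi.single (⟨0, by omega⟩ : Fin a) 1) w + tp (Pi.single (⟨1, by omega⟩ : Fin a) 1) w')) :
    ∀ x, hV x x = 0 → SuX q M x := by
  classical
  obtain ⟨T₀, hT₀⟩ : ∃ T₀ : Set (Fin a × Fin b), T₀ = {c | c.1.val < 2} := ⟨_, rfl⟩
  have tp0r : ∀ u : Fin a → F, tp u 0 = 0 := by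
    intro u
    have := hT.smul_right 0 u 0
    simpa using this
  -- the claim
  have claim : ∀ s : Finset (Fin a × Fin b),
      ∀ x ∈ Submodule.span F (zc tp '' (T₀ ∪ ↑s)), hV x x = 0 → SuX q M x := by
    intro s
    induction s using Finset.induction_on with
    | empty =>
      intro x hx hxx
      rw [Finset.coe_empty, Set.union_empty] at hx
      have hform : ∀ x ∈ Submodule.span F (zc tp '' T₀),
          ∃ w w' : Fin b → F, x = tp (Pi.single (⟨0, by omega⟩ : Fin a) 1) w +
          tp (Pi.single (⟨1, by omega⟩ : Fin a) 1) w' := by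
        intro x hx
        induction hx using Submodule.span_induction with
        | mem y hy =>
          obtain ⟨c, hc, rfl⟩ := hy
          rw [hT₀] at hc
          have hc' : c.1.val < 2 := hc
          have h01 : c.1.val = 0 ∨ c.1.val = 1 := by omega
          rcases h01 with h0 | h1
          · refine ⟨Pi.single c.2 1, 0, ?_⟩
            have : c.1 = ⟨0, by omega⟩ := Fin.ext h0
            unfold zc
            rw [tp0r, add_zero, this]
          · refine ⟨0, Pi.single c.2 1, ?_⟩
            have : c.1 = ⟨1, by omega⟩ := Fin.ext h1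
            unfold zc
            rw [tp0r, zero_add, this]
        | zero => exact ⟨0, 0, by rw [tp0r, tp0r, add_zero]⟩
        | add y y' _ _ hy hy' =>
          obtain ⟨w, w', rfl⟩ := hy
          obtain ⟨v, v', rfl⟩ := hy'
          refine ⟨w + v, w' + v', ?_⟩
          rw [hT.add_right, hT.add_right]
          abel
        | smul r y _ hy =>
          obtain ⟨w, w', rfl⟩ := hy
          refine ⟨r • w, r • w', ?_⟩
          rw [hT.smul_right, hT.smul_right, smul_add]
      obtain ⟨w, w', rfl⟩ := hform x hx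
      exact hP0 w w' hxx
    | insert c s hcs ih =>
      by_cases hcT : c ∈ T₀ ∪ (↑s : Set (Fin a × Fin b))
      · have : T₀ ∪ (↑(insert c s) : Set (Fin a × Fin b)) = T₀ ∪ ↑s := by
          rw [Finset.coe_insert, Set.union_insert, Set.insert_eq_of_mem hcT]
        rw [this]
        exact ih
      · have hset : T₀ ∪ (↑(insert c s) : Set (Fin a × Fin b)) = insert c (T₀ ∪ ↑s) := by
          rw [Finset.coe_insert, Set.union_insert]
        rw [hset, Set.image_insert_eq, Submodule.span_insert, sup_comm]
        have hc2 : ¬ c.1.val < 2 := by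
          intro h
          apply hcT
          left
          rw [hT₀]
          exact h
        -- θ of norm -1
        obtain ⟨θ, hθ⟩ : ∃ θ : F, θ * θ ^ q = -1 := by
          have := Cfsg.Agent.Lib.Helper6.exists_norm (conjQ hF) (conjQ_ne_id hF) (conjQ_conjQ hF) (-1 : F)
            (neg_ne_zero.mpr one_ne_zero) (by rw [map_neg, map_one])
          obtain ⟨c', hc'⟩ := this
          exact ⟨c', by rw [← hc', conjQ_apply]⟩
        have hne : c.1 ≠ (⟨0, by omega⟩ : Fin a) := by
          intro h
          apply hc2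
          rw [h]
          norm_num
        have hiso : hU ((1 : F) • Pi.single c.1 (1 : F) + θ • Pi.single (⟨0, by omega⟩ : Fin a) 1)
            ((1 : F) • Pi.single c.1 (1 : F) + θ • Pi.single (⟨0, by omega⟩ : Fin a) 1) = 0 := by
          rw [herm_pair hF _ _ hne, one_pow, one_mul, hθ]
          ring
        have hbX := hJ _ hiso (Pi.single c.2 1)
        refine und_extend hF (Submodule.span F (zc tp '' (T₀ ∪ ↑s))) (ndOn_span hF hT _)
          (four_le hF ha (by omega) hT _ (fun c' hc' => Or.inl (by rw [hT₀]; exact hc'))) ih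
          _ (θ • zc tp (⟨0, by omega⟩, c.2)) (zc tp c) hbX ?_ ?_ (perp_span hF hT _ c hcT) ?_
        · apply Submodule.smul_mem
          apply Submodule.subset_span
          refine ⟨(⟨0, by omega⟩, c.2), Or.inl ?_, rfl⟩
          rw [hT₀]
          show (0 : ℕ) < 2
          norm_num
        · unfold zc
          rw [hT.add_left, hT.smul_left, hT.smul_left, one_smul, add_comm]
        · rw [zc_orth hF hT, if_pos rfl]
          exact one_ne_zero
  intro x hxx
  apply claim Finset.univ x _ hxx
  have : T₀ ∪ (↑(Finset.univ : Finset (Fin a × Fin b)) : Set (Fin a × Fin b)) = Set.univ := by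
    rw [Finset.coe_univ, Set.union_univ]
  rw [this, Set.image_univ, span_top hT]
  exact Submodule.mem_top

end Cfsg.Agent.Lib.Helper21.S5670T4GROW
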