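import Cfsg.Agent.Lib.Helper28.BSGSPerm

/-!
# S2074-P3 (helper22's Out(Suz) front): kernel-friendly path certificates

A table pair is certified to be the product of a word in the generators (and their inverses) by
comparing its tables pointwise with the evaluation of the word; so it is a valid pair and lies in the
generated group.
-/

set_option autoImplicit false

namespace Cfsg.Agent.Lib.Helper22.SuzOut

open Cfsg.Agent.Lib.Helper28.BSGS MulAction

/-! ## P3: kernel-friendly path certificates -/

/-- kernel-friendly bounded quantifier (direct `Nat.rec`, fast in the kernel) -/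
noncomputable def allBelow (f : ℕ → Bool) (n : ℕ) : Bool :=
  Nat.rec (motive := fun _ => Bool) true (fun k ih => f k && ih) n

theorem allBelow_succ (f : ℕ → Bool) (n : ℕ) : allBelow f (n + 1) = (f n && allBelow f n) := rfl

theorem allBelow_spec {f : ℕ → Bool} {n : ℕ} (h : allBelow f n = true) : ∀ k < n, f k = true := by
  induction n with
  | zero => intro k hk; omega
  | succ m ih =>
    rw [allBelow_succ, Bool.and_eq_true] at h
    intro k hk
    rcases Nat.lt_succ_iff_lt_or_eq.mp hk with hlt | rfl
    · exact ih h.2 k hlt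
    · exact h.1

theorem allBelow_of {f : ℕ → Bool} {n : ℕ} (h : ∀ k < n, f k = true) : allBelow f n = true := by
  induction n with
  | zero => rfl
  | succ m ih =>
    rw [allBelow_succ, Bool.and_eq_true]
    exact ⟨h m (Nat.lt_succ_self m), ih fun k hk => h k (Nat.lt_succ_of_lt hk)⟩

/-- the table of the letter `c`: generator number `c / 2`, its inverse table if `c` is odd -/
def fwdT (gens : List (ℕ × ℕ)) (c : ℕ) : ℕ :=
  if c % 2 = 0 then (gens.getD (c / 2) (0, 0)).1 else (gens.getD (c / 2) (0, 0)).2

/-- the table of the inverse of the letter `c` -/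
def bwdT (gens : List (ℕ × ℕ)) (c : ℕ) : ℕ :=
  if c % 2 = 0 then (gens.getD (c / 2) (0, 0)).2 else (gens.getD (c / 2) (0, 0)).1

/-- image of the point `a` under the product of the letters (the head is the leftmost factor) -/
noncomputable def evalF (w : ℕ) (gens : List (ℕ × ℕ)) (cs : List ℕ) (a : ℕ) : ℕ :=
  List.rec (motive := fun _ => ℕ) a (fun c _ ih => look w (fwdT gens c) ih) cs

/-- image of the point `a` under the inverse of the product of the letters -/
noncomputable def evalB (w : ℕ) (gens : List (ℕ × ℕ)) (cs : List ℕ) (a : ℕ) : ℕ :=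
  List.rec (motive := fun _ => ℕ → ℕ) (fun a => a) (fun c _ ih a => ih (look w (bwdT gens c) a)) cs a

theorem evalF_nil (w : ℕ) (gens : List (ℕ × ℕ)) (a : ℕ) : evalF w gens [] a = a := rfl

theorem evalF_cons (w : ℕ) (gens : List (ℕ × ℕ)) (c : ℕ) (cs : List ℕ) (a : ℕ) :
    evalF w gens (c :: cs) a = look w (fwdT gens c) (evalF w gens cs a) := rfl

theorem evalB_nil (w : ℕ) (gens : List (ℕ × ℕ)) (a : ℕ) : evalB w gens [] a = a := rfl

theorem evalB_cons (w : ℕ) (gens : List (ℕ × ℕ)) (c : ℕ) (cs : List ℕ) (a : ℕ) :
    evalB w gens (c :: cs) a = evalB w gens cs (look w (bwdT gens c) a) := rfl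

/-- the permutation of a letter -/
def letterPerm (n w : ℕ) (gens : List (ℕ × ℕ)) (c : ℕ) : Equiv.Perm (Fin n) :=
  if c % 2 = 0 then permOf n w (gens.getD (c / 2) (0, 0)).1 (gens.getD (c / 2) (0, 0)).2
  else (permOf n w (gens.getD (c / 2) (0, 0)).1 (gens.getD (c / 2) (0, 0)).2)⁻¹

/-- the permutation of a path: the product of its letters -/
def pathPerm (n w : ℕ) (gens : List (ℕ × ℕ)) (cs : List ℕ) : Equiv.Perm (Fin n) :=
  (cs.map (letterPerm n w gens)).prod

theorem pathPerm_nil (n w : ℕ) (gens : List (ℕ × ℕ)) : pathPerm n w gens [] = 1 := rfl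

theorem pathPerm_cons (n w : ℕ) (gens : List (ℕ × ℕ)) (c : ℕ) (cs : List ℕ) :
    pathPerm n w gens (c :: cs) = letterPerm n w gens c * pathPerm n w gens cs := by
  unfold pathPerm
  rw [List.map_cons, List.prod_cons]

/-- the tables of the entry `e` are the tables of the product of the letters `cs` and of its inverse -/
noncomputable def pathOK (n w : ℕ) (gens : List (ℕ × ℕ)) (e : Entry) (cs : List ℕ) : Bool :=
  cs.all (fun c => Nat.blt (c / 2) gens.length) &&
  allBelow (fun a => Nat.beq (look w e.2.1 a) (evalF w gens cs a) &&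
    Nat.beq (look w e.2.2 a) (evalB w gens cs a)) n

/-- an in-range letter is a generator -/
theorem getD_mem_gens {gens : List (ℕ × ℕ)} {c : ℕ} (hc : c / 2 < gens.length) :
    gens.getD (c / 2) (0, 0) ∈ gens := by
  rw [List.getD_eq_getElem _ _ hc]
  exact List.getElem_mem hc

/-- the tables of an in-range letter -/
theorem letterPerm_spec (n w : ℕ) [NeZero n] (gens : List (ℕ × ℕ)) (hg : gensOK n w gens = true)
    {c : ℕ} (hc : c / 2 < gens.length) (a : Fin n) :
    (letterPerm n w gens c a).val = look w (fwdT gens c) a.val ∧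
      ((letterPerm n w gens c)⁻¹ a).val = look w (bwdT gens c) a.val := by
  have hp : pairOK n w (gens.getD (c / 2) (0, 0)).1 (gens.getD (c / 2) (0, 0)).2 = true :=
    gensOK_spec n w hg _ (getD_mem_gens hc)
  unfold letterPerm fwdT bwdT
  by_cases h0 : c % 2 = 0
  · rw [if_pos h0, if_pos h0, if_pos h0]
    exact ⟨permOf_apply hp a, permOf_inv_apply hp a⟩
  · rw [if_neg h0, if_neg h0, if_neg h0, inv_inv]
    exact ⟨permOf_inv_apply hp a, permOf_apply hp a⟩

/-- an in-range letter lies in the generated group -/
theorem letterPerm_mem (n w : ℕ) [NeZero n] (gens : List (ℕ × ℕ))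
    {c : ℕ} (hc : c / 2 < gens.length) : letterPerm n w gens c ∈ genGroup n w gens := by
  have hm : permOf n w (gens.getD (c / 2) (0, 0)).1 (gens.getD (c / 2) (0, 0)).2 ∈
      genGroup n w gens :=
    Subgroup.subset_closure (mem_semGens n w (getD_mem_gens hc))
  unfold letterPerm
  by_cases h0 : c % 2 = 0
  · rw [if_pos h0]; exact hm
  · rw [if_neg h0]; exact (genGroup n w gens).inv_mem hm

/-- the path permutation and its inverse are evaluated by `evalF`, `evalB` -/
theorem pathPerm_spec (n w : ℕ) [NeZero n] (gens : List (ℕ × ℕ)) (hg : gensOK n w gens = true) :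
    ∀ cs : List ℕ, (∀ c ∈ cs, c / 2 < gens.length) → ∀ a : Fin n,
      (pathPerm n w gens cs a).val = evalF w gens cs a.val ∧
        ((pathPerm n w gens cs)⁻¹ a).val = evalB w gens cs a.val := by
  intro cs
  induction cs with
  | nil =>
    intro _ a
    rw [pathPerm_nil, evalF_nil, evalB_nil, inv_one]
    exact ⟨rfl, rfl⟩
  | cons c cs ih =>
    intro hcs a
    have hc : c / 2 < gens.length := hcs c List.mem_cons_self
    have ih' := ih (fun c' hc' => hcs c' (List.mem_cons_of_mem _ hc'))
    rw [pathPerm_cons, evalF_cons, evalB_cons, mul_inv_rev, Equiv.Perm.mul_apply,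
      Equiv.Perm.mul_apply]
    constructor
    · rw [(letterPerm_spec n w gens hg hc _).1, (ih' a).1]
    · rw [(ih' _).2, (letterPerm_spec n w gens hg hc a).2]

theorem pathPerm_mem (n w : ℕ) [NeZero n] (gens : List (ℕ × ℕ)) (cs : List ℕ)
    (hcs : ∀ c ∈ cs, c / 2 < gens.length) : pathPerm n w gens cs ∈ genGroup n w gens := by
  unfold pathPerm
  apply Subgroup.list_prod_mem
  intro x hx
  obtain ⟨c, hc, rfl⟩ := List.mem_map.mp hx
  exact letterPerm_mem n w gens (hcs c hc)

theorem path_sound (n w : ℕ) [NeZero n] (gens : List (ℕ × ℕ)) (hg : gensOK n w gens = true)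
    (e : Entry) (cs : List ℕ) (h : pathOK n w gens e cs = true) :
    pairOK n w e.2.1 e.2.2 = true ∧ permOf n w e.2.1 e.2.2 = pathPerm n w gens cs ∧
      permOf n w e.2.1 e.2.2 ∈ genGroup n w gens := by
  unfold pathOK at h
  rw [Bool.and_eq_true] at h
  obtain ⟨h1, h2⟩ := h
  have hcs : ∀ c ∈ cs, c / 2 < gens.length := by
    intro c hc
    have := List.all_eq_true.mp h1 c hc
    exact Nat.blt_eq.mp this
  have htab : ∀ a : Fin n, look w e.2.1 a.val = (pathPerm n w gens cs a).val ∧
      look w e.2.2 a.val = ((pathPerm n w gens cs)⁻¹ a).val := by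
    intro a
    have := allBelow_spec h2 a.val a.isLt
    rw [Bool.and_eq_true] at this
    have hs := pathPerm_spec n w gens hg cs hcs a
    rw [hs.1, hs.2]
    exact ⟨Nat.eq_of_beq_eq_true this.1, Nat.eq_of_beq_eq_true this.2⟩
  have hpair : pairOK n w e.2.1 e.2.2 = true := by
    unfold pairOK
    rw [List.all_eq_true]
    intro a ha
    have han : a < n := List.mem_range.mp ha
    have ha1 := htab ⟨a, han⟩
    have hlt1 : look w e.2.1 a < n := by
      have := ha1.1
      simp only at this
      rw [this]
      exact (pathPerm n w gens cs ⟨a, han⟩).isLt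
    have hlt2 : look w e.2.2 a < n := by
      have := ha1.2
      simp only at this
      rw [this]
      exact ((pathPerm n w gens cs)⁻¹ ⟨a, han⟩).isLt
    have hb1 : look w e.2.2 (look w e.2.1 a) = a := by
      have h3 := (htab (pathPerm n w gens cs ⟨a, han⟩)).2
      have h4 : look w e.2.1 a = (pathPerm n w gens cs ⟨a, han⟩).val := ha1.1
      rw [h4, h3]
      exact congrArg Fin.val ((pathPerm n w gens cs).symm_apply_apply ⟨a, han⟩)
    have hb2 : look w e.2.1 (look w e.2.2 a) = a := by
      have h3 := (htab ((pathPerm n w gens cs)⁻¹ ⟨a, han⟩)).1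
      have h4 : look w e.2.2 a = ((pathPerm n w gens cs)⁻¹ ⟨a, han⟩).val := ha1.2
      rw [h4, h3]
      exact congrArg Fin.val ((pathPerm n w gens cs).apply_symm_apply ⟨a, han⟩)
    simp only [Bool.and_eq_true, decide_eq_true_eq, beq_iff_eq]
    exact ⟨⟨⟨hlt1, hb1⟩, hlt2⟩, hb2⟩
  have heq : permOf n w e.2.1 e.2.2 = pathPerm n w gens cs := by
    apply Equiv.ext
    intro a
    apply Fin.ext
    rw [permOf_apply hpair, (htab a).1]
  refine ⟨hpair, heq, ?_⟩
  rw [heq]
  exact pathPerm_mem n w gens cs hcs

/-- path certificates for a list of entries -/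
noncomputable def pathsOK (n w : ℕ) (gens : List (ℕ × ℕ)) : List Entry → List (List ℕ) → Bool
  | [], _ => true
  | _ :: _, [] => false
  | e :: es, cs :: css => pathOK n w gens e cs && pathsOK n w gens es css

theorem paths_sound (n w : ℕ) [NeZero n] (gens : List (ℕ × ℕ)) (hg : gensOK n w gens = true)
    (tr : List Entry) (css : List (List ℕ)) (h : pathsOK n w gens tr css = true) :
    ∀ e ∈ tr, pairOK n w e.2.1 e.2.2 = true ∧ permOf n w e.2.1 e.2.2 ∈ genGroup n w gens := by
  induction tr generalizing css with
  | nil => intro e he; exact absurd he List.not_mem_nil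
  | cons e0 es ih =>
    cases css with
    | nil => exact absurd h (by simp [pathsOK])
    | cons cs css =>
      have h' : (pathOK n w gens e0 cs && pathsOK n w gens es css) = true := h
      rw [Bool.and_eq_true] at h'
      intro e he
      rcases List.mem_cons.mp he with rfl | he'
      · have := path_sound n w gens hg e cs h'.1
        exact ⟨this.1, this.2.2⟩
      · exact ih css h'.2 e he'

/-- a sequence of new generators, each given by a path in the previous ones -/
noncomputable def seqOK (n w : ℕ) : List (ℕ × ℕ) → List ((ℕ × ℕ) × List ℕ) → Bool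
  | _, [] => true
  | known, (t, cs) :: rest => pathOK n w known (0, t.1, t.2) cs && seqOK n w (known ++ [t]) rest

/-- adjoining a table pair of the group does not change validity nor the group -/
theorem genGroup_snoc (n w : ℕ) [NeZero n] (known : List (ℕ × ℕ)) (t : ℕ × ℕ)
    (hk : gensOK n w known = true) (hp : pairOK n w t.1 t.2 = true)
    (hm : permOf n w t.1 t.2 ∈ genGroup n w known) :
    gensOK n w (known ++ [t]) = true ∧ genGroup n w (known ++ [t]) = genGroup n w known := by
  constructor
  · unfold gensOK at hk ⊢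
    rw [List.all_append, hk, Bool.true_and, List.all_cons, List.all_nil, Bool.and_true]
    exact hp
  · apply le_antisymm
    · unfold genGroup
      rw [Subgroup.closure_le]
      intro s hs
      obtain ⟨g, hg, rfl⟩ := List.mem_map.mp hs
      rcases List.mem_append.mp hg with hg' | hg'
      · exact Subgroup.subset_closure (mem_semGens n w hg')
      · rw [List.mem_singleton] at hg'
        subst hg'
        exact hm
    · unfold genGroup
      apply Subgroup.closure_mono
      intro s hs
      obtain ⟨g, hg, rfl⟩ := List.mem_map.mp hs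
      exact mem_semGens n w (List.mem_append_left _ hg)

theorem seq_sound (n w : ℕ) [NeZero n] (known : List (ℕ × ℕ)) (items : List ((ℕ × ℕ) × List ℕ))
    (hk : gensOK n w known = true) (h : seqOK n w known items = true) :
    gensOK n w (known ++ items.map (fun it => it.1)) = true ∧
      genGroup n w (known ++ items.map (fun it => it.1)) = genGroup n w known := by
  induction items generalizing known with
  | nil =>
    rw [List.map_nil, List.append_nil]
    exact ⟨hk, rfl⟩
  | cons it rest ih =>
    obtain ⟨t, cs⟩ := it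
    have h' : (pathOK n w known (0, t.1, t.2) cs && seqOK n w (known ++ [t]) rest) = true := h
    rw [Bool.and_eq_true] at h'
    have hps := path_sound n w known hk (0, t.1, t.2) cs h'.1
    have hsn := genGroup_snoc n w known t hk hps.1 hps.2.2
    have := ih (known ++ [t]) hsn.1 h'.2
    rw [List.map_cons, List.append_cons]
    exact ⟨this.1, this.2.trans hsn.2⟩

end Cfsg.Agent.Lib.Helper22.SuzOut
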