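import Mathlib
import Cfsg.Prelude.Def_GeometricClasses
import Cfsg.Agent.Lib.Helper7.AschDefs
import Cfsg.Agent.Lib.Helper17.AschODefs

/-!
# S5673, piece O4a `isOrthogonalMDecomposition_of_irr` (helper21, for helper17)
-/

set_option autoImplicit false

namespace Cfsg.Agent.Lib.Helper21.S5673O4a

open Matrix Cfsg Cfsg.Geo Cfsg.Agent.Lib.Helper7.Asch Cfsg.Agent.Lib.Helper17.AschO

variable {F : Type*} [Field F] {n : ℕ}

/-- an irreducible group stabilising an `m`-decomposition permutes its members transitively -/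
theorem exists_map_eq (H : Subgroup (GL (Fin n) F)) (hirr : Irr H) {t : ℕ} (k : ℕ)
    (D : Fin t → Submodule F (Fin n → F)) (hdec : IsMDecomposition k D)
    (hH : H ≤ decompositionStabilizer D) (i j : Fin t) :
    ∃ h ∈ H, (D i).map (Matrix.toLin' (h : Matrix (Fin n) (Fin n) F)) = D j := by
  classical
  have hne : ∀ l, D l ≠ ⊥ := by
    intro l h0
    have h1 := hdec.finrank_eq l
    rw [h0, finrank_bot] at h1
    have := hdec.pos
    omega
  obtain ⟨O, hO⟩ : ∃ O : Set (Fin t), O = {l | ∃ h ∈ H, (D i).map (Matrix.toLin' (h : Matrix (Fin n) (Fin n) F)) = D l} :=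
    ⟨_, rfl⟩
  have hiO : i ∈ O := by
    rw [hO]
    refine ⟨1, H.one_mem, ?_⟩
    rw [Units.val_one, Matrix.toLin'_one]
    exact Submodule.map_id _
  obtain ⟨W, hW⟩ : ∃ W : Submodule F (Fin n → F), W = ⨆ l ∈ O, D l := ⟨_, rfl⟩
  have hinv : ∀ s ∈ matrixSet H, W.map (Matrix.toLin' s) ≤ W := by
    rintro _ ⟨h, hh, rfl⟩
    obtain ⟨σ, hσ⟩ := hH hh
    rw [hW, Submodule.map_iSup]
    apply iSup_le
    intro l
    rw [Submodule.map_iSup]
    apply iSup_le
    intro hl
    beta_reduce
    rw [hσ l]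
    have hσl : σ l ∈ O := by
      rw [hO] at hl ⊢
      obtain ⟨h', hh', hmap⟩ := hl
      refine ⟨h * h', H.mul_mem hh hh', ?_⟩
      rw [Units.val_mul, Matrix.toLin'_mul, Submodule.map_comp, hmap, hσ l]
    exact le_iSup₂ (f := fun l (_ : l ∈ O) => D l) (σ l) hσl
  have hWtop : W = ⊤ := by
    rcases hirr W hinv with h0 | h1
    · exfalso
      apply hne i
      rw [eq_bot_iff, ← h0, hW]
      exact le_iSup₂ (f := fun l (_ : l ∈ O) => D l) i hiO
    · exact h1
  have hjO : j ∈ O := by
    by_contra hj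
    apply hne j
    have h1 : W ≤ ⨆ (l : Fin t) (_ : l ≠ j), D l := by
      rw [hW]
      apply iSup₂_le
      intro l hl
      have hlj : l ≠ j := fun h => hj (h ▸ hl)
      exact le_iSup₂ (f := fun l (_ : l ≠ j) => D l) l hlj
    have h2 := hdec.indep j
    rw [hWtop, top_le_iff] at h1
    rw [h1] at h2
    exact disjoint_top.mp h2
  rw [hO] at hjO
  exact hjO

variable [Fintype F] {Q : (Fin n → F) → F}

/-- **O4a** an irreducible group of isometries permutes the members of an invariant non-degenerate decomposition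
transitively (the sum of an orbit is invariant), so the members are pairwise isometric. -/
theorem isOrthogonalMDecomposition_of_irr (S : OSetup Q) (H : Subgroup (GL (Fin n) F))
    (hHI : H ≤ isometryGroup F Q) (hirr : Irr H) {t : ℕ} (k : ℕ) (D : Fin t → Submodule F (Fin n → F))
    (hD : IsNondegenerateMDecomposition (QuadraticMap.polar Q) k D) (hH : H ≤ decompositionStabilizer D) :
    IsOrthogonalMDecomposition Q k D := by
  refine ⟨hD, ?_⟩
  intro i j
  obtain ⟨h, hh, hmap⟩ := exists_map_eq H hirr k D hD.decomp hH i j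
  have hinj : Function.Injective (Matrix.toLin' (h : Matrix (Fin n) (Fin n) F)) := by
    intro x y hxy
    have h1 := congrArg (fun v => ((h⁻¹ : GL (Fin n) F) : Matrix (Fin n) (Fin n) F) *ᵥ v) hxy
    simp only [Matrix.toLin'_apply, Matrix.mulVec_mulVec] at h1
    rw [← Units.val_mul, inv_mul_cancel, Units.val_one, Matrix.one_mulVec, Matrix.one_mulVec] at h1
    exact h1
  refine ⟨(Submodule.equivMapOfInjective _ hinj (D i)).trans (LinearEquiv.ofEq _ _ hmap), ?_⟩
  intro w
  have h1 : (((Submodule.equivMapOfInjective _ hinj (D i)).trans (LinearEquiv.ofEq _ _ hmap)) w : Fin n → F) =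
      (h : Matrix (Fin n) (Fin n) F) *ᵥ (w : Fin n → F) := by
    rw [LinearEquiv.trans_apply, LinearEquiv.coe_ofEq_apply, Submodule.coe_equivMapOfInjective_apply,
      Matrix.toLin'_apply]
  rw [h1]
  exact hHI hh (w : Fin n → F) (w : Fin n → F)

end Cfsg.Agent.Lib.Helper21.S5673O4a
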