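import Mathlib
import Cfsg.Prelude.Def_GeometricClasses
import Cfsg.Agent.Lib.Helper7.AschDefs
import Cfsg.Agent.Lib.Helper12.AschG3
import Cfsg.Agent.Lib.Helper17.AschODefs

/-!
# S5673, piece O4b `inClassO_of_frame_not_prime` (helper21, for helper17), with OF-C5 as a hypothesis
-/

set_option autoImplicit false

namespace Cfsg.Agent.Lib.Helper21.S5673O4b

open Matrix Cfsg Cfsg.Geo Cfsg.Agent.Lib.Helper7.Asch Cfsg.Agent.Lib.Helper17.AschO

variable {F : Type*} [Field F] {n : ℕ}

theorem form_zero_left {f : (Fin n → F) → (Fin n → F) → F} (hb : IsBilinearForm f) (v : Fin n → F) :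
    f 0 v = 0 := by
  have := hb.smul_left 0 0 v
  simpa using this

theorem form_zero_right {f : (Fin n → F) → (Fin n → F) → F} (hb : IsBilinearForm f) (v : Fin n → F) :
    f v 0 = 0 := by
  have := hb.smul_right 0 v 0
  simpa using this

theorem form_sum_left {f : (Fin n → F) → (Fin n → F) → F} (hb : IsBilinearForm f) {κ : Type*}
    (s : Finset κ) (g : κ → Fin n → F) (v : Fin n → F) : f (∑ i ∈ s, g i) v = ∑ i ∈ s, f (g i) v := by
  classical
  induction s using Finset.induction_on with
  | empty => simp [form_zero_left hb]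
  | insert x s hx ih => rw [Finset.sum_insert hx, Finset.sum_insert hx, hb.add_left, ih]

theorem form_sum_right {f : (Fin n → F) → (Fin n → F) → F} (hb : IsBilinearForm f) {κ : Type*}
    (s : Finset κ) (g : κ → Fin n → F) (v : Fin n → F) : f v (∑ i ∈ s, g i) = ∑ i ∈ s, f v (g i) := by
  classical
  induction s using Finset.induction_on with
  | empty => simp [form_zero_right hb]
  | insert x s hx ih => rw [Finset.sum_insert hx, Finset.sum_insert hx, hb.add_right, ih]

theorem eq_sum_single (x : Fin n → F) : x = ∑ a, x a • (Pi.single a 1 : Fin n → F) := by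
  ext k
  rw [Finset.sum_apply]
  simp only [Pi.smul_apply, smul_eq_mul, Pi.single_apply, mul_ite, mul_one, mul_zero]
  rw [Finset.sum_ite_eq]
  simp

theorem bilin_expand {f : (Fin n → F) → (Fin n → F) → F} (hb : IsBilinearForm f) (x y : Fin n → F) :
    f x y = ∑ a, ∑ b, x a * gramMatrix f a b * y b := by
  conv_lhs => rw [eq_sum_single x, form_sum_left hb]
  apply Finset.sum_congr rfl
  intro a _
  rw [hb.smul_left]
  conv_lhs => rw [eq_sum_single y, form_sum_right hb, Finset.mul_sum]
  apply Finset.sum_congr rfl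
  intro b _
  rw [hb.smul_right]
  unfold gramMatrix
  ring

variable [Fintype F] {Q : (Fin n → F) → F}

theorem two_ne_zero_of_odd (hq : Odd (Fintype.card F)) : (2 : F) ≠ 0 := by
  intro h2
  have h1 : ringChar F = 2 := CharP.ringChar_of_prime_eq_zero Nat.prime_two (by exact_mod_cast h2)
  have h3 := FiniteField.even_card_of_char_two h1
  rcases hq with ⟨k, hk⟩
  omega

theorem polar_self_eq (hQ : IsNondegenerateQuadraticForm Q) (v : Fin n → F) :
    QuadraticMap.polar Q v v = 2 * Q v := by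
  unfold QuadraticMap.polar
  have h1 : v + v = (2 : F) • v := (two_smul F v).symm
  rw [h1, hQ.smul]
  ring

theorem bot_ne_top_of_not_prime (hq : ¬ (Fintype.card F).Prime) : (⊥ : Subfield F) ≠ ⊤ := by
  intro h
  apply hq
  obtain ⟨p, hp⟩ := CharP.exists F
  haveI := hp
  haveI : Fact p.Prime := ⟨CharP.char_is_prime F p⟩
  have h1 := Subfield.card_bot F p
  rw [h, Nat.card_congr (Subfield.topEquiv (K := F)).toEquiv, Nat.card_eq_fintype_card] at h1
  rw [h1]
  exact CharP.char_is_prime F p

/-- **O4b** an orthogonal frame over a NON-prime field: class 5 (through OF-C5, given as the hypothesis `ofc5`). -/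
theorem inClassO_of_frame_not_prime_aux (S : OSetup Q) (H : Subgroup (GL (Fin n) F)) (hHI : H ≤ isometryGroup F Q)
    {t : ℕ} (D : Fin t → Submodule F (Fin n → F)) (hD : IsOrthogonalMDecomposition Q 1 D)
    (hH : H ≤ decompositionStabilizer D) (hq : ¬ (Fintype.card F).Prime)
    (ofc5 : ∀ (F₁ : Subfield F) (r : ℕ), r.Prime → Fintype.card F = Nat.card F₁ ^ r →
      ∀ P₀ : GL (Fin n) F, H ≤ subfieldSubgroup F₁ P₀ → ∀ a : F, a ≠ 0 →
      ∀ X₁ : Matrix (Fin n) (Fin n) F, (∀ i j, X₁ i j ∈ F₁) →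
      (P₀ : Matrix (Fin n) (Fin n) F)ᵀ * gramMatrix (QuadraticMap.polar Q) * (P₀ : Matrix (Fin n) (Fin n) F) =
        a • X₁ → InClassO n Q H) : InClassO n Q H := by
  classical
  have hdec := hD.decomp.decomp
  have h2 : (2 : F) ≠ 0 := two_ne_zero_of_odd S.odd_card
  have hb := S.quad.polar_bilinear
  -- dimension count: t = n
  have hint : DirectSum.IsInternal D :=
    DirectSum.isInternal_submodule_of_iSupIndep_of_iSup_eq_top hdec.indep hdec.iSup_eq_top
  obtain ⟨bb, -⟩ : ∃ bb : ∀ i, Module.Basis (Fin 1) F (D i),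
      bb = fun i => Module.finBasisOfFinrankEq F (D i) (hdec.finrank_eq i) := ⟨_, rfl⟩
  have hcard : Fintype.card (Fin n) = t * 1 := by
    rw [← Module.finrank_fintype_fun_eq_card (R := F),
      Module.finrank_eq_card_basis (hint.collectedBasis bb)]
    simp only [Fintype.card_sigma, Fintype.card_fin, Finset.sum_const, Finset.card_univ,
      smul_eq_mul]
  have htn : t = n := by
    rw [Fintype.card_fin] at hcard
    omega
  subst htn
  -- the generators
  have ht2 := hdec.two_le
  obtain ⟨i₀⟩ : Nonempty (Fin t) := ⟨⟨0, by omega⟩⟩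
  obtain ⟨w₀, hw₀⟩ : ∃ w₀ : D i₀, w₀ ≠ 0 := by
    have h1 := hdec.finrank_eq i₀
    have : Nontrivial (D i₀) := Module.nontrivial_of_finrank_pos (R := F) (by omega)
    exact exists_ne 0
  choose ee hee using fun i => hD.isometric i₀ i
  obtain ⟨v, hv⟩ : ∃ v : Fin t → (Fin t → F), v = fun i => ((ee i w₀ : D i) : Fin t → F) := ⟨_, rfl⟩
  have hvD : ∀ i, v i ∈ D i := fun i => by rw [hv]; exact (ee i w₀).2
  have hv0 : ∀ i, v i ≠ 0 := by
    intro i h0
    apply hw₀
    have h1 : ee i w₀ = 0 := by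
      apply Subtype.ext
      rw [hv] at h0
      exact h0
    exact (ee i).map_eq_zero_iff.mp h1
  obtain ⟨c, hc⟩ : ∃ c : F, c = Q (w₀ : Fin t → F) := ⟨_, rfl⟩
  have hQv : ∀ i, Q (v i) = c := fun i => by rw [hv, hc]; exact hee i w₀
  have hgen : ∀ i, ∀ w ∈ D i, ∃ l : F, l • v i = w := by
    intro i w hw
    have h1 := (finrank_eq_one_iff_of_nonzero' (⟨v i, hvD i⟩ : D i)
      (fun h => hv0 i (congrArg Subtype.val h))).mp (hdec.finrank_eq i) ⟨w, hw⟩
    obtain ⟨l, hl⟩ := h1
    exact ⟨l, congrArg Subtype.val hl⟩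
  have hc0 : c ≠ 0 := by
    intro h0
    obtain ⟨⟨x, hxD, hx⟩, -⟩ := hD.decomp.nondegenerate i₀ (v i₀) (hvD i₀) (hv0 i₀)
    obtain ⟨l, rfl⟩ := hgen i₀ x hxD
    apply hx
    rw [hb.smul_left, polar_self_eq S.quad, hQv, h0, mul_zero, mul_zero]
  have hpol : ∀ i j, QuadraticMap.polar Q (v i) (v j) = if i = j then 2 * c else 0 := by
    intro i j
    by_cases hij : i = j
    · rw [if_pos hij, hij, polar_self_eq S.quad, hQv]
    · rw [if_neg hij]
      exact hD.decomp.orthogonal i j hij (v i) (hvD i) (v j) (hvD j)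
  have hli : LinearIndependent F v := by
    rw [linearIndependent_iff']
    intro s g hg j hj
    have h1 := congrArg (fun x => QuadraticMap.polar Q x (v j)) hg
    beta_reduce at h1
    rw [form_zero_left hb, form_sum_left hb] at h1
    have h3 : ∑ i ∈ s, QuadraticMap.polar Q (g i • v i) (v j) = g j * (2 * c) := by
      rw [Finset.sum_eq_single j]
      · rw [hb.smul_left, hpol, if_pos rfl]
      · intro i _ hij
        rw [hb.smul_left, hpol, if_neg hij, mul_zero]
      · intro h
        exact absurd hj h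
    rw [h3] at h1
    rcases mul_eq_zero.mp h1 with h4 | h4
    · exact h4
    · exact absurd h4 (mul_ne_zero h2 hc0)
  -- the matrix of the frame
  obtain ⟨A, hA⟩ : ∃ A : Matrix (Fin t) (Fin t) F, A = Matrix.of fun i j => v j i := ⟨_, rfl⟩
  have hAcol : ∀ j, A *ᵥ Pi.single j 1 = v j := by
    intro j
    rw [Matrix.mulVec_single_one, hA]
    rfl
  have hAunit : IsUnit A := by
    apply Matrix.linearIndependent_cols_iff_isUnit.mp
    have : A.col = v := by
      rw [hA]
      rfl
    rw [this]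
    exact hli
  obtain ⟨P₀, hP₀⟩ : ∃ P₀ : GL (Fin t) F, (P₀ : Matrix (Fin t) (Fin t) F) = A := ⟨hAunit.unit, rfl⟩
  have hPinv1 : A * ((P₀⁻¹ : GL (Fin t) F) : Matrix (Fin t) (Fin t) F) = 1 := by
    rw [← hP₀, ← Units.val_mul, mul_inv_cancel, Units.val_one]
  have hAdet : A.det ≠ 0 := by
    have := (Matrix.isUnit_iff_isUnit_det A).mp hAunit
    exact this.ne_zero
  -- the subfield
  obtain ⟨F₁, r, -, hr, hcard1⟩ :=
    Cfsg.Agent.Lib.Helper12.AschG3.exists_prime_index_subfield (⊥ : Subfield F) (bot_ne_top_of_not_prime hq)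
  refine ofc5 F₁ r hr hcard1 P₀ ?_ (2 * c) (mul_ne_zero h2 hc0) 1 ?_ ?_
  · -- H ≤ subfieldSubgroup
    intro h hh
    obtain ⟨σ, hσ⟩ := hH hh
    have hmem : ∀ l, (h : Matrix (Fin t) (Fin t) F) *ᵥ v l ∈ D (σ l) := by
      intro l
      rw [← hσ l, ← Matrix.toLin'_apply]
      exact Submodule.mem_map_of_mem (hvD l)
    choose lam hlam using fun l => hgen (σ l) _ (hmem l)
    have hlam2 : ∀ l, lam l = 1 ∨ lam l = -1 := by
      intro l
      have h1 : Q ((h : Matrix (Fin t) (Fin t) F) *ᵥ v l) = Q (v l) := hHI hh (v l) (v l)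
      rw [← hlam l, S.quad.smul, hQv, hQv] at h1
      have h3 : (lam l - 1) * (lam l + 1) = 0 := by
        have h4 : (lam l ^ 2 - 1) * c = 0 := by linear_combination h1
        rcases mul_eq_zero.mp h4 with h5 | h5
        · linear_combination h5
        · exact absurd h5 hc0
      rcases mul_eq_zero.mp h3 with h5 | h5
      · left; linear_combination h5
      · right; linear_combination h5
    obtain ⟨M', hM'⟩ : ∃ M' : Matrix (Fin t) (Fin t) F,
        M' = Matrix.of fun i j => (lam j • (Pi.single (σ j) (1 : F) : Fin t → F)) i := ⟨_, rfl⟩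
    have hM'col : ∀ j, M' *ᵥ Pi.single j 1 = lam j • (Pi.single (σ j) (1 : F) : Fin t → F) := by
      intro j
      rw [Matrix.mulVec_single_one, hM']
      rfl
    have hE1 : (h : Matrix (Fin t) (Fin t) F) * A = A * M' := by
      apply Matrix.ext_of_mulVec_single
      intro j
      rw [← Matrix.mulVec_mulVec, ← Matrix.mulVec_mulVec, hAcol, hM'col, Matrix.mulVec_smul, hAcol, hlam]
    have hM'mem : ∀ i j, M' i j ∈ F₁ := by
      intro i j
      rw [hM']
      simp only [Matrix.of_apply, Pi.smul_apply, smul_eq_mul, Pi.single_apply]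
      apply F₁.mul_mem
      · rcases hlam2 j with h1 | h1
        · rw [h1]; exact F₁.one_mem
        · rw [h1]; exact F₁.neg_mem F₁.one_mem
      · split_ifs
        · exact F₁.one_mem
        · exact F₁.zero_mem
    obtain ⟨M0, hM0⟩ : ∃ M0 : Matrix (Fin t) (Fin t) F₁, M0 = fun i j => ⟨M' i j, hM'mem i j⟩ := ⟨_, rfl⟩
    have hM0map : M0.map (F₁.subtype : F₁ →+* F) = M' := by
      ext i j
      rw [hM0]
      rfl
    have hdetM' : M'.det ≠ 0 := by
      have h1 := congrArg Matrix.det hE1
      rw [Matrix.det_mul, Matrix.det_mul] at h1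
      intro h0
      rw [h0, mul_zero] at h1
      rcases mul_eq_zero.mp h1 with h3 | h3
      · have : IsUnit (h : Matrix (Fin t) (Fin t) F).det := (Matrix.isUnit_iff_isUnit_det _).mp h.isUnit
        exact this.ne_zero h3
      · exact hAdet h3
    have hdet0 : M0.det ≠ 0 := by
      intro h0
      apply hdetM'
      rw [← hM0map, ← RingHom.mapMatrix_apply, ← RingHom.map_det, h0, map_zero]
    obtain ⟨g0, hg0⟩ : ∃ g0 : GL (Fin t) F₁, g0 = Matrix.GeneralLinearGroup.mkOfDetNeZero M0 hdet0 := ⟨_, rfl⟩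
    have hg0val : ((Matrix.GeneralLinearGroup.map (F₁.subtype : F₁ →+* F) g0 : GL (Fin t) F) :
        Matrix (Fin t) (Fin t) F) = M' := by
      rw [← hM0map, hg0]
      rfl
    unfold subfieldSubgroup
    rw [Subgroup.mem_map]
    refine ⟨Matrix.GeneralLinearGroup.map (F₁.subtype : F₁ →+* F) g0, Subgroup.mem_sup_left ⟨g0, rfl⟩, ?_⟩
    show P₀ * Matrix.GeneralLinearGroup.map (F₁.subtype : F₁ →+* F) g0 * P₀⁻¹ = h
    apply Units.ext
    rw [Units.val_mul, Units.val_mul, hg0val, hP₀, ← hE1, Matrix.mul_assoc, hPinv1, Matrix.mul_one]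
  · intro i j
    rw [Matrix.one_apply]
    split_ifs
    · exact F₁.one_mem
    · exact F₁.zero_mem
  · rw [hP₀]
    ext i j
    rw [Matrix.mul_apply]
    simp only [Matrix.mul_apply, Matrix.transpose_apply, Matrix.smul_apply, Matrix.one_apply, smul_eq_mul]
    have h1 := bilin_expand hb (v i) (v j)
    rw [hpol] at h1
    have h3 : ∑ x, (∑ x_1, A x_1 i * gramMatrix (QuadraticMap.polar Q) x_1 x) * A x j =
        ∑ a, ∑ b, v i a * gramMatrix (QuadraticMap.polar Q) a b * v j b := by
      rw [Finset.sum_comm]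
      apply Finset.sum_congr rfl
      intro a _
      rw [Finset.sum_mul]
      apply Finset.sum_congr rfl
      intro b _
      rw [hA]
      rfl
    rw [h3, ← h1]
    split_ifs <;> simp

end Cfsg.Agent.Lib.Helper21.S5673O4b
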