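import Mathlib

/-!
# S5673, piece OF-SQ `exists_sq_mul_mem` (helper21, for helper17)
-/

set_option autoImplicit false

namespace Cfsg.Agent.Lib.Helper21.S5673OFSQ

variable {F : Type*} [Field F] [Fintype F]

/-- **OF-SQ** (square classes).  `N` odd, `a^N u = v s²` with `u, v ∈ F₁ˣ`: some `μ² a` lies in `F₁`. -/
theorem exists_sq_mul_mem (hq : Odd (Fintype.card F)) (F₁ : Subfield F) (r : ℕ) (hr : r.Prime)
    (hc : Fintype.card F = Nat.card F₁ ^ r) (N : ℕ) (hN : Odd N) (a u v s : F) (ha : a ≠ 0) (hu : u ∈ F₁)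
    (hv : v ∈ F₁) (hu0 : u ≠ 0) (hv0 : v ≠ 0) (hs : s ≠ 0) (h : a ^ N * u = v * s ^ 2) :
    ∃ μ : F, μ ≠ 0 ∧ μ ^ 2 * a ∈ F₁ := by
  classical
  have key : ∀ b : F, b ≠ 0 → quadraticChar F b = 1 → ∃ c : F, c ≠ 0 ∧ b = c ^ 2 := by
    intro b hb h1
    obtain ⟨c, hc'⟩ := (quadraticChar_one_iff_isSquare hb).mp h1
    refine ⟨c, ?_, by rw [hc', sq]⟩
    intro h0
    rw [h0, mul_zero] at hc'
    exact hb hc'
  rcases quadraticChar_dichotomy ha with h1 | h1
  · obtain ⟨c, hc0, hca⟩ := key a ha h1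
    refine ⟨c⁻¹, inv_ne_zero hc0, ?_⟩
    rw [hca, inv_pow, inv_mul_cancel₀ (pow_ne_zero _ hc0)]
    exact F₁.one_mem
  · have h2 := congrArg (quadraticChar F) h
    rw [map_mul, map_mul, map_pow, map_pow, h1, quadraticChar_sq_one hs, mul_one, hN.neg_one_pow] at h2
    -- -χ(u) = χ(v)
    have hw0 : v * u⁻¹ ≠ 0 := mul_ne_zero hv0 (inv_ne_zero hu0)
    have hχw : quadraticChar F (a * (v * u⁻¹)⁻¹) = 1 := by
      rw [map_mul, h1]
      have h3 : quadraticChar F ((v * u⁻¹)⁻¹) = -1 := by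
        have h4 : (v * u⁻¹)⁻¹ = u * v⁻¹ := by
          rw [mul_inv, inv_inv, mul_comm]
        rw [h4, map_mul]
        have h5 : quadraticChar F (v⁻¹) = quadraticChar F v := by
          have h6 : quadraticChar F (v⁻¹) * quadraticChar F v = 1 := by
            rw [← map_mul, inv_mul_cancel₀ hv0, map_one]
          have h7 := quadraticChar_sq_one hv0
          rcases quadraticChar_dichotomy hv0 with h8 | h8
          · rw [h8, mul_one] at h6
            rw [h6, h8]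
          · rw [h8] at h6 ⊢
            linarith
        rw [h5, ← h2]
        have h9 := quadraticChar_sq_one hu0
        nlinarith
      rw [h3]
      norm_num
    obtain ⟨c, hc0, hca⟩ := key _ (mul_ne_zero ha (inv_ne_zero hw0)) hχw
    refine ⟨c⁻¹, inv_ne_zero hc0, ?_⟩
    have h10 : c⁻¹ ^ 2 * a = v * u⁻¹ := by
      have h11 : a = c ^ 2 * (v * u⁻¹) := by
        rw [← hca, mul_assoc, inv_mul_cancel₀ hw0, mul_one]
      rw [h11, inv_pow, ← mul_assoc, inv_mul_cancel₀ (pow_ne_zero _ hc0), one_mul]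
    rw [h10]
    exact F₁.mul_mem hv (F₁.inv_mem hu)

end Cfsg.Agent.Lib.Helper21.S5673OFSQ
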