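import Mathlib
import Cfsg.Prelude.Def_KGroupFacts
import Cfsg.Agent.H5.StemTC
import Cfsg.Agent.Lib.Helper1.O73MultEXGen

/-!
# S2101 piece [EX] (helper21): existence of the cover from a presentation with central twist

Generic existence via helper1's `Cover S e N` (`Lib/Helper1/O73MultEXGen`): the relators `R` (words in the letters
of `Cfsg.H5.TCk.ev`) on `t` generators present `G` (`hcard`, `hggen`, `hgrel`); `Γ := Cover S e N` with
`S j = R[j]` read in `FreeGroup (Fin t)`.
-/

set_option autoImplicit false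

namespace Cfsg.Agent.Lib.Helper16.G23M

open Cfsg Cfsg.H5.TCk Cfsg.H5.StemTC
open Cfsg.Agent.Lib.Helper2.O73Mult.Helper1

namespace Helper21X

theorem ev_congr_mem {Γ : Type*} [Group Γ] (g g' : ℕ → Γ) (t : ℕ) (h : ∀ i < t, g i = g' i)
    (w : List ℕ) (hw : ∀ l ∈ w, l < 2 * t) : ev g w = ev g' w := by
  induction w with
  | nil => rfl
  | cons l w ih =>
    have hl : l < 2 * t := hw l List.mem_cons_self
    have hl2 : l / 2 < t := by omega
    simp only [ev]
    rw [ih (fun l' hl' => hw l' (List.mem_cons_of_mem _ hl'))]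
    congr 1
    unfold gl
    rw [h _ hl2]

/-- the free generators as a sequence -/
def fgen (t : ℕ) : ℕ → FreeGroup (Fin t) := fun i => if h : i < t then FreeGroup.of ⟨i, h⟩ else 1

theorem lift_ev {H : Type*} [Group H] (t : ℕ) (h : ℕ → H) (w : List ℕ) (hw : ∀ l ∈ w, l < 2 * t) :
    FreeGroup.lift (fun i : Fin t => h i.val) (ev (fgen t) w) = ev h w := by
  rw [map_ev]
  apply ev_congr_mem _ _ t _ w hw
  intro i hi
  simp only [fgen, dif_pos hi, FreeGroup.lift_apply_of]

end Helper21X

open Helper21X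

/-- **[EX]** existence of a finite stem extension with kernel `C_N` from a presentation with central twist -/
theorem exists_stem_of_model {G : Type} [Group G] [Finite G] (t : ℕ) (R : List (List ℕ)) (e : List ℕ)
    (N : ℕ) (hN : 0 < N) (hR : ∀ r ∈ R, ∀ l ∈ r, l < 2 * t)
    (g : ℕ → G) (hggen : Subgroup.closure (Set.range fun i : Fin t => g i.val) = ⊤)
    (hgrel : ∀ r ∈ R, ev g r = 1)
    (hcard : ∀ (P : Type) [Group P] (p : ℕ → P),
      Subgroup.closure (Set.range fun i : Fin t => p i.val) = ⊤ → (∀ r ∈ R, ev p r = 1) →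
        Finite P ∧ Nat.card P ≤ Nat.card G)
    (hM : ∃ (Δ : Type) (_ : Group Δ) (d : ℕ → Δ) (z : Δ), (∀ i < t, z * d i = d i * z) ∧ z ^ N = 1 ∧
      (∀ m, 0 < m → m < N → z ^ m ≠ 1) ∧ ∀ j < R.length, ev d (R.getD j []) = z ^ (e.getD j 0))
    (hP : ∀ (Γ : Type) [Group Γ] (γ : ℕ → Γ) (ζ : Γ), (∀ i < t, ζ * γ i = γ i * ζ) → ζ ^ N = 1 →
      (∀ j < R.length, ev γ (R.getD j []) = ζ ^ (e.getD j 0)) → ζ ∈ commutator Γ) :
    ∃ (Γ : Type) (_ : Group Γ) (_ : Finite Γ) (σ : Γ →* G), IsStemExtension σ ∧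
      Nonempty (σ.ker ≃* Multiplicative (ZMod N)) := by
  classical
  let S : Fin R.length → FreeGroup (Fin t) := fun j => ev (fgen t) (R.get j)
  let e' : Fin R.length → ℕ := fun j => e.getD j.val 0
  let Rset : Set (FreeGroup (Fin t)) := Set.range S
  have h1 : ∀ i, S i ∈ Rset := fun i => Set.mem_range_self i
  have h2 : ∀ r ∈ Rset, ∃ i, r = S i := by
    rintro r ⟨i, rfl⟩
    exact ⟨i, rfl⟩
  have hRj : ∀ j : Fin R.length, ∀ l ∈ R.get j, l < 2 * t := fun j => hR _ (List.get_mem R j)
  have hgetD : ∀ j : Fin R.length, R.getD j.val [] = R.get j := by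
    intro j
    simp
  -- the presented group is `G`
  let pgen : ℕ → PresentedGroup Rset := fun i => PresentedGroup.mk Rset (fgen t i)
  have hpgen_rel : ∀ r ∈ R, ev pgen r = 1 := by
    intro r hr
    obtain ⟨j, hj⟩ := List.mem_iff_get.mp hr
    have h3 : ev pgen r = PresentedGroup.mk Rset (ev (fgen t) r) :=
      (map_ev (PresentedGroup.mk Rset) (fgen t) r).symm
    rw [h3, ← hj]
    exact PresentedGroup.one_of_mem (h1 j)
  have hpgen_of : ∀ i : Fin t, pgen i.val = PresentedGroup.of i := by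
    intro i
    show PresentedGroup.mk Rset (fgen t i.val) = PresentedGroup.of i
    simp only [fgen, dif_pos i.isLt]
    rfl
  have hpclos : Subgroup.closure (Set.range fun i : Fin t => pgen i.val) = ⊤ := by
    have h3 : (fun i : Fin t => pgen i.val) = (PresentedGroup.of : Fin t → PresentedGroup Rset) :=
      funext hpgen_of
    rw [h3]
    exact PresentedGroup.closure_range_of Rset
  obtain ⟨hPfin, hPcard⟩ := hcard (PresentedGroup Rset) pgen hpclos hpgen_rel
  have hlift : ∀ r ∈ Rset, FreeGroup.lift (fun i : Fin t => g i.val) r = 1 := by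
    rintro r ⟨j, rfl⟩
    show FreeGroup.lift (fun i : Fin t => g i.val) (ev (fgen t) (R.get j)) = 1
    rw [lift_ev t g _ (hRj j)]
    exact hgrel _ (List.get_mem R j)
  let θ0 : PresentedGroup Rset →* G := PresentedGroup.toGroup hlift
  have hθsurj : Function.Surjective θ0 := by
    rw [← MonoidHom.range_eq_top, eq_top_iff, ← hggen, Subgroup.closure_le]
    rintro x ⟨i, rfl⟩
    exact ⟨PresentedGroup.of i, PresentedGroup.toGroup.of hlift⟩
  have hθbij : Function.Bijective θ0 := hθsurj.bijective_of_nat_card_le hPcard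
  let θ : PresentedGroup Rset ≃* G := MulEquiv.ofBijective θ0 hθbij
  -- the cover
  have hfinP : Finite (PresentedGroup Rset) := hPfin
  have hfinΓ : Finite (Cover S e' N) := cover_finite S e' N h1 h2 hN
  let σ : Cover S e' N →* G := θ.toMonoidHom.comp (proj S e' N h1)
  have hker : σ.ker = Subgroup.zpowers (zeta S e' N) := by
    rw [← ker_proj S e' N h1 h2]
    ext x
    rw [MonoidHom.mem_ker, MonoidHom.mem_ker]
    show θ (proj S e' N h1 x) = 1 ↔ _
    exact θ.map_eq_one_iff
  -- the generators of the cover as a sequence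
  let γ : ℕ → Cover S e' N := fun i => PresentedGroup.mk _ (inc (Fin t) (fgen t i))
  have hγ : ∀ i (hi : i < t), γ i = gam S e' N ⟨i, hi⟩ := by
    intro i hi
    show PresentedGroup.mk _ (inc (Fin t) (fgen t i)) = gam S e' N ⟨i, hi⟩
    simp only [fgen, dif_pos hi, inc, FreeGroup.map.of]
    rfl
  have hγev : ∀ w : List ℕ, ev γ w = PresentedGroup.mk _ (inc (Fin t) (ev (fgen t) w)) := by
    intro w
    have h3 := map_ev ((PresentedGroup.mk (coverRels S e' N)).comp (inc (Fin t))) (fgen t) w
    exact h3.symm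
  have hzcomm : zeta S e' N ∈ commutator (Cover S e' N) := by
    apply hP (Cover S e' N) γ (zeta S e' N)
    · intro i hi
      rw [hγ i hi]
      exact zeta_comm S e' N ⟨i, hi⟩
    · exact zeta_pow S e' N
    · intro j hj
      have h3 := hgetD ⟨j, hj⟩
      simp only at h3
      rw [h3, hγev]
      exact rel_eq S e' N ⟨j, hj⟩
  have hstem : IsStemExtension σ := by
    refine ⟨θ.surjective.comp (proj_surjective S e' N h1), ?_, ?_⟩
    · rw [hker, Subgroup.zpowers_le]
      exact zeta_mem_center S e' N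
    · rw [hker, Subgroup.zpowers_le]
      exact hzcomm
  -- the order of `zeta`
  obtain ⟨Δ, instΔ, d, z, hzd, hzN, hzm, hzrel⟩ := hM
  have hrel' : ∀ i, FreeGroup.lift (fun i : Fin t => d i.val) (S i) = z ^ e' i := by
    intro j
    show FreeGroup.lift (fun i : Fin t => d i.val) (ev (fgen t) (R.get j)) = z ^ e.getD j.val 0
    rw [lift_ev t d _ (hRj j), ← hgetD j]
    exact hzrel j.val j.isLt
  let ρ : Cover S e' N →* Δ :=
    coverHom S e' N (fun i : Fin t => d i.val) z (fun a => hzd a.val a.isLt) hzN hrel'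
  have hρz : ρ (zeta S e' N) = z := coverHom_zeta S e' N _ z _ hzN hrel'
  have hord : orderOf (zeta S e' N) = N := by
    have hdvd : orderOf (zeta S e' N) ∣ N := orderOf_dvd_of_pow_eq_one (zeta_pow S e' N)
    have hpos : 0 < orderOf (zeta S e' N) := Nat.pos_of_dvd_of_pos hdvd hN
    have hle : orderOf (zeta S e' N) ≤ N := Nat.le_of_dvd hN hdvd
    rcases Nat.lt_or_ge (orderOf (zeta S e' N)) N with hlt | hge
    · exfalso
      apply hzm _ hpos hlt
      rw [← hρz, ← map_pow, pow_orderOf_eq_one, map_one]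
    · exact le_antisymm hle hge
  have hcardK : Nat.card (Subgroup.zpowers (zeta S e' N)) = N := by
    rw [Nat.card_zpowers, hord]
  have e2 := zmodCyclicMulEquiv (inferInstance : IsCyclic (Subgroup.zpowers (zeta S e' N)))
  rw [hcardK] at e2
  exact ⟨Cover S e' N, inferInstance, hfinΓ, σ, hstem, ⟨(MulEquiv.subgroupCongr hker).trans e2.symm⟩⟩

end Cfsg.Agent.Lib.Helper16.G23M
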