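import Mathlib

/-!
# S1237 FO-E3 (helper21, for architect helper16)

If all squares of a finite group `T` are central and `x * x = 1` has at most 4 solutions,
then `|T| < 64 |Z(T)|`.
-/

set_option autoImplicit false

namespace Cfsg.Agent.Lib.Helper21.S1237E3

open Subgroup

universe u

variable {T : Type u} [Group T]

/-- the commutator used here -/
def cm (a b : T) : T := a * b * a⁻¹ * b⁻¹

theorem cm_central (hsq : ∀ t : T, t * t ∈ center T) (t s : T) : cm t s ∈ center T := by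
  have h1 := hsq (t * s)
  have h2 := (center T).inv_mem (hsq t)
  have h3 := (center T).inv_mem (hsq s)
  have hc : (t * t)⁻¹ * s = s * (t * t)⁻¹ := ((mem_center_iff.mp h2) s).symm
  have : cm t s = (t * s) * (t * s) * (t * t)⁻¹ * (s * s)⁻¹ := by
    unfold cm
    calc t * s * t⁻¹ * s⁻¹ = t * s * t * ((t * t)⁻¹ * s) * (s * s)⁻¹ := by group
      _ = t * s * t * (s * (t * t)⁻¹) * (s * s)⁻¹ := by rw [hc]
      _ = (t * s) * (t * s) * (t * t)⁻¹ * (s * s)⁻¹ := by group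
  rw [this]
  exact mul_mem (mul_mem h1 h2) h3

theorem cm_comm_all (hsq : ∀ t : T, t * t ∈ center T) (t s g : T) : g * cm t s = cm t s * g :=
  mem_center_iff.mp (cm_central hsq t s) g

theorem cm_eq_one_iff (a b : T) : cm a b = 1 ↔ a * b = b * a := by
  unfold cm
  constructor
  · intro h
    have : a * b = (a * b * a⁻¹ * b⁻¹) * (b * a) := by group
    rw [this, h, one_mul]
  · intro h
    have : a * b * a⁻¹ * b⁻¹ = (a * b) * (b * a)⁻¹ := by group
    rw [this, h, mul_inv_cancel]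

theorem cm_self (a : T) : cm a a = 1 := (cm_eq_one_iff a a).mpr rfl

theorem cm_inv_swap (a b : T) : (cm b a)⁻¹ = cm a b := by unfold cm; group

theorem cm_mul_left (hsq : ∀ t : T, t * t ∈ center T) (a b c : T) :
    cm (a * b) c = cm a c * cm b c := by
  have h := cm_comm_all hsq b c a
  calc cm (a * b) c = a * cm b c * c * a⁻¹ * c⁻¹ := by unfold cm; group
    _ = cm b c * a * c * a⁻¹ * c⁻¹ := by rw [h]
    _ = cm b c * cm a c := by unfold cm; group
    _ = cm a c * cm b c := (cm_comm_all hsq a c (cm b c))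

theorem cm_sq (hsq : ∀ t : T, t * t ∈ center T) (t s : T) : cm t s * cm t s = 1 := by
  have h1 : cm (t * t) s = cm t s * cm t s := cm_mul_left hsq t t s
  rw [← h1, cm_eq_one_iff]
  exact ((mem_center_iff.mp (hsq t)) s).symm

theorem cm_inv (hsq : ∀ t : T, t * t ∈ center T) (t s : T) : (cm t s)⁻¹ = cm t s :=
  inv_eq_of_mul_eq_one_left (cm_sq hsq t s)

theorem cm_swap (hsq : ∀ t : T, t * t ∈ center T) (a b : T) : cm a b = cm b a := by
  rw [← cm_inv_swap a b, cm_inv hsq]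

theorem cm_mul_right (hsq : ∀ t : T, t * t ∈ center T) (a b c : T) :
    cm a (b * c) = cm a b * cm a c := by
  rw [cm_swap hsq a (b * c), cm_mul_left hsq, cm_swap hsq b a, cm_swap hsq c a]


/-- `t ↦ [t, x]` as a homomorphism -/
def cmHom (hsq : ∀ t : T, t * t ∈ center T) (x : T) : T →* T where
  toFun t := cm t x
  map_one' := by unfold cm; group
  map_mul' a b := cm_mul_left hsq a b x

theorem mem_ker_cmHom (hsq : ∀ t : T, t * t ∈ center T) (x t : T) :
    t ∈ (cmHom hsq x).ker ↔ t * x = x * t := by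
  rw [MonoidHom.mem_ker]
  exact cm_eq_one_iff t x

theorem card_le_four_of [Finite T] (hinv : Nat.card {x : T // x * x = 1} ≤ 4)
    (S : Set T) (hS : ∀ v ∈ S, v * v = 1) : Nat.card S ≤ 4 := by
  refine le_trans (Nat.card_le_card_of_injective
    (fun v : S => (⟨v.1, hS v.1 v.2⟩ : {x : T // x * x = 1})) ?_) hinv
  intro a b hab
  have h : a.1 = b.1 := congrArg (fun z : {x : T // x * x = 1} => z.1) hab
  exact Subtype.ext h

theorem card_le_four_ker [Finite T] (hsq : ∀ t : T, t * t ∈ center T)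
    (hinv : Nat.card {x : T // x * x = 1} ≤ 4) (x : T) :
    Nat.card T ≤ 4 * Nat.card (cmHom hsq x).ker := by
  have h1 := Subgroup.card_mul_index (cmHom hsq x).ker
  rw [Subgroup.index_ker] at h1
  have h2 : Nat.card (cmHom hsq x).range ≤ 4 := by
    refine card_le_four_of hinv ((cmHom hsq x).range : Set T) ?_
    rintro v ⟨t, rfl⟩
    exact cm_sq hsq t x
  calc Nat.card T = Nat.card (cmHom hsq x).ker * Nat.card (cmHom hsq x).range := h1.symm
    _ ≤ Nat.card (cmHom hsq x).ker * 4 := Nat.mul_le_mul_left _ h2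
    _ = 4 * Nat.card (cmHom hsq x).ker := Nat.mul_comm _ _

theorem two_mul_card_le_of_lt [Finite T] {H K : Subgroup T} (h : H < K) :
    2 * Nat.card H ≤ Nat.card K := by
  obtain ⟨m, hm⟩ := Subgroup.card_dvd_of_le h.le
  have hK : 0 < Nat.card K := Nat.card_pos
  have hH : 0 < Nat.card H := Nat.card_pos
  have hm0 : m ≠ 0 := by
    rintro rfl
    rw [Nat.mul_zero] at hm
    omega
  have hm1 : m ≠ 1 := by
    rintro rfl
    rw [Nat.mul_one] at hm
    have := Subgroup.eq_of_le_of_card_ge h.le (le_of_eq hm)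
    exact h.ne this
  have : 2 ≤ m := by omega
  calc 2 * Nat.card H = Nat.card H * 2 := Nat.mul_comm _ _
    _ ≤ Nat.card H * m := Nat.mul_le_mul_left _ this
    _ = Nat.card K := hm.symm

theorem card_sup_zpowers_le [Finite T] (hsq : ∀ t : T, t * t ∈ center T) (H : Subgroup T)
    (hZ : center T ≤ H) (y : T) : Nat.card ↥(H ⊔ zpowers y) ≤ 2 * Nat.card H := by
  classical
  have hconj : ∀ g h : T, h ∈ H → g * h * g⁻¹ ∈ H := by
    intro g h hh
    have : g * h * g⁻¹ = cm g h * h := by unfold cm; group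
    rw [this]; exact H.mul_mem (hZ (cm_central hsq g h)) hh
  let K : Subgroup T :=
    { carrier := {t | t ∈ H ∨ y⁻¹ * t ∈ H}
      one_mem' := Or.inl H.one_mem
      mul_mem' := by
        rintro a b (ha | ha) (hb | hb)
        · exact Or.inl (H.mul_mem ha hb)
        · right
          have : y⁻¹ * (a * b) = (y⁻¹ * a * y⁻¹⁻¹) * (y⁻¹ * b) := by group
          rw [this]; exact H.mul_mem (hconj _ _ ha) hb
        · right
          have : y⁻¹ * (a * b) = (y⁻¹ * a) * b := by group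
          rw [this]; exact H.mul_mem ha hb
        · left
          have : a * b = (y * y) * (y⁻¹ * (y⁻¹ * a) * y⁻¹⁻¹) * (y⁻¹ * b) := by group
          rw [this]; exact H.mul_mem (H.mul_mem (hZ (hsq y)) (hconj _ _ ha)) hb
      inv_mem' := by
        rintro a (ha | ha)
        · exact Or.inl (H.inv_mem ha)
        · right
          have : y⁻¹ * a⁻¹ = (y * y)⁻¹ * (y * (y⁻¹ * a)⁻¹ * y⁻¹) := by group
          rw [this]
          exact H.mul_mem (H.inv_mem (hZ (hsq y))) (hconj _ _ (H.inv_mem ha)) }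
  have hle : H ⊔ zpowers y ≤ K := by
    refine sup_le (fun h hh => Or.inl hh) ?_
    rw [zpowers_le]
    refine Or.inr ?_
    rw [inv_mul_cancel]; exact H.one_mem
  have h1 : Nat.card ↥(H ⊔ zpowers y) ≤ Nat.card ↥K := Subgroup.card_le_of_le hle
  have hsub : (K : Set T) ⊆ (H : Set T) ∪ (fun h => y * h) '' (H : Set T) := by
    rintro t (ht | ht)
    · exact Or.inl ht
    · exact Or.inr ⟨y⁻¹ * t, ht, by group⟩
  have h2 : Nat.card ↥K = (K : Set T).ncard := Nat.card_coe_set_eq (K : Set T)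
  have h3 : Nat.card ↥H = (H : Set T).ncard := Nat.card_coe_set_eq (H : Set T)
  have h4 : (K : Set T).ncard ≤ ((H : Set T) ∪ (fun h => y * h) '' (H : Set T)).ncard :=
    Set.ncard_le_ncard hsub (Set.toFinite _)
  have h5 := Set.ncard_union_le (H : Set T) ((fun h => y * h) '' (H : Set T))
  have h6 := Set.ncard_image_le (f := fun h => y * h) (Set.toFinite (H : Set T))
  omega


/-- three distinct non-trivial solutions of `v * v = 1` (out of at most four) multiply to `1` -/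
theorem prod_eq_of_distinct [Finite T] (hinv : Nat.card {x : T // x * x = 1} ≤ 4)
    (a b c : T) (ha : a * a = 1) (hb : b * b = 1) (hc : c * c = 1) (hab : a * b = b * a)
    (ha1 : a ≠ 1) (hb1 : b ≠ 1) (hc1 : c ≠ 1) (hab' : a ≠ b) (hac : a ≠ c) (hbc : b ≠ c) :
    a * b = c := by
  classical
  by_contra h
  have hd : (a * b) * (a * b) = 1 := by
    calc a * b * (a * b) = a * (b * a) * b := by group
      _ = a * (a * b) * b := by rw [hab]
      _ = (a * a) * (b * b) := by group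
      _ = 1 := by rw [ha, hb, one_mul]
  have hd1 : a * b ≠ 1 := by
    intro h1
    have hb' : b⁻¹ = b := inv_eq_of_mul_eq_one_left hb
    have : a = b := by rw [← hb']; exact eq_inv_of_mul_eq_one_left h1
    exact hab' this
  have hda : a * b ≠ a := by
    intro h1
    exact hb1 (mul_eq_left.mp h1)
  have hdb : a * b ≠ b := by
    intro h1
    exact ha1 (mul_eq_right.mp h1)
  let s : Finset T := {1, a, b, c, a * b}
  have hcard : s.card = 5 := by
    have e1 : c ∉ ({a * b} : Finset T) := by simp [Ne.symm h]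
    have e2 : b ∉ ({c, a * b} : Finset T) := by simp [hbc, Ne.symm hdb]
    have e3 : a ∉ ({b, c, a * b} : Finset T) := by simp [hab', hac, Ne.symm hda]
    have e4 : (1 : T) ∉ ({a, b, c, a * b} : Finset T) := by
      simp [Ne.symm ha1, Ne.symm hb1, Ne.symm hc1, Ne.symm hd1]
    show (insert 1 (insert a (insert b (insert c {a * b}))) : Finset T).card = 5
    rw [Finset.card_insert_of_notMem e4, Finset.card_insert_of_notMem e3,
      Finset.card_insert_of_notMem e2, Finset.card_insert_of_notMem e1, Finset.card_singleton]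
  have hs : ∀ v ∈ s, v * v = 1 := by
    intro v hv
    simp only [s, Finset.mem_insert, Finset.mem_singleton] at hv
    rcases hv with rfl | rfl | rfl | rfl | rfl
    · exact one_mul 1
    · exact ha
    · exact hb
    · exact hc
    · exact hd
  have h5 : Nat.card s ≤ 4 := by
    refine le_trans (Nat.card_le_card_of_injective
      (fun v : s => (⟨v.1, hs v.1 v.2⟩ : {x : T // x * x = 1})) ?_) hinv
    intro p q hpq
    have h : p.1 = q.1 := congrArg (fun z : {x : T // x * x = 1} => z.1) hpq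
    exact Subtype.ext h
  rw [Nat.card_eq_finsetCard, hcard] at h5
  omega

theorem exists_pair [Finite T] (hsq : ∀ t : T, t * t ∈ center T)
    (hinv : Nat.card {x : T // x * x = 1} ≤ 4) (Z₁ C₁ : Subgroup T)
    (y₁ y₂ y₃ : T) (h1 : y₁ ∈ C₁) (h2 : y₂ ∈ C₁) (h3 : y₃ ∈ C₁)
    (I1 : y₁ ∉ Z₁) (I2 : y₂ ∉ Z₁ ⊔ zpowers y₁) (I3 : y₃ ∉ Z₁ ⊔ zpowers y₁ ⊔ zpowers y₂) :
    ∃ u w, u ∈ C₁ ∧ w ∈ C₁ ∧ u * w = w * u ∧ u ∉ Z₁ ∧ w ∉ Z₁ ⊔ zpowers u := by
  have hZW : Z₁ ≤ Z₁ ⊔ zpowers y₁ ⊔ zpowers y₂ := le_trans le_sup_left le_sup_left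
  have hy1W : y₁ ∈ Z₁ ⊔ zpowers y₁ ⊔ zpowers y₂ :=
    (le_sup_left : Z₁ ⊔ zpowers y₁ ≤ _) ((le_sup_right : zpowers y₁ ≤ _) (mem_zpowers y₁))
  have hy2W : y₂ ∈ Z₁ ⊔ zpowers y₁ ⊔ zpowers y₂ :=
    (le_sup_right : zpowers y₂ ≤ _) (mem_zpowers y₂)
  have hsupW : ∀ (H : Subgroup T) (v : T), H ≤ Z₁ ⊔ zpowers y₁ ⊔ zpowers y₂ →
      v ∈ Z₁ ⊔ zpowers y₁ ⊔ zpowers y₂ → H ⊔ zpowers v ≤ Z₁ ⊔ zpowers y₁ ⊔ zpowers y₂ :=
    fun H v hH hv => sup_le hH (zpowers_le.mpr hv)
  have hy1Z : y₁ ∈ Z₁ ⊔ zpowers y₁ := (le_sup_right : zpowers y₁ ≤ _) (mem_zpowers y₁)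
  have sqa := cm_sq hsq y₁ y₂
  have sqb := cm_sq hsq y₁ y₃
  have sqc := cm_sq hsq y₂ y₃
  -- `y₁ y₂ ∉ Z₁`
  have hu12 : y₁ * y₂ ∉ Z₁ := by
    intro h
    apply I2
    have : y₂ = y₁⁻¹ * (y₁ * y₂) := by group
    rw [this]
    exact mul_mem (inv_mem hy1Z) ((le_sup_left : Z₁ ≤ Z₁ ⊔ zpowers y₁) h)
  by_cases ha : cm y₁ y₂ = 1
  · exact ⟨y₁, y₂, h1, h2, (cm_eq_one_iff _ _).mp ha, I1, I2⟩
  by_cases hb : cm y₁ y₃ = 1
  · exact ⟨y₁, y₃, h1, h3, (cm_eq_one_iff _ _).mp hb, I1, fun h => I3 (le_sup_left (a := Z₁ ⊔ zpowers y₁) h)⟩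
  by_cases hc : cm y₂ y₃ = 1
  · exact ⟨y₂, y₃, h2, h3, (cm_eq_one_iff _ _).mp hc,
      fun h => I2 ((le_sup_left : Z₁ ≤ Z₁ ⊔ zpowers y₁) h),
      fun h => I3 (hsupW Z₁ y₂ hZW hy2W h)⟩
  by_cases hab : cm y₁ y₂ = cm y₁ y₃
  · refine ⟨y₁, y₂ * y₃, h1, mul_mem h2 h3, ?_, I1, ?_⟩
    · rw [← cm_eq_one_iff, cm_mul_right hsq, ← hab]; exact sqa
    · intro h
      apply I3
      have : y₃ = y₂⁻¹ * (y₂ * y₃) := by group
      rw [this]
      exact mul_mem (inv_mem hy2W) (le_sup_left (a := Z₁ ⊔ zpowers y₁) h)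
  by_cases hac : cm y₁ y₂ = cm y₂ y₃
  · refine ⟨y₂, y₁ * y₃, h2, mul_mem h1 h3, ?_,
      fun h => I2 ((le_sup_left : Z₁ ≤ Z₁ ⊔ zpowers y₁) h), ?_⟩
    · rw [← cm_eq_one_iff, cm_mul_right hsq, cm_swap hsq y₂ y₁, ← hac]; exact sqa
    · intro h
      apply I3
      have : y₃ = y₁⁻¹ * (y₁ * y₃) := by group
      rw [this]
      exact mul_mem (inv_mem hy1W) (hsupW Z₁ y₂ hZW hy2W h)
  by_cases hbc : cm y₁ y₃ = cm y₂ y₃
  · refine ⟨y₁ * y₂, y₃, mul_mem h1 h2, h3, ?_, hu12, ?_⟩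
    · rw [← cm_eq_one_iff, cm_mul_left hsq, ← hbc]; exact sqb
    · intro h
      exact I3 (hsupW Z₁ (y₁ * y₂) hZW (mul_mem hy1W hy2W) h)
  · have habc : cm y₁ y₂ * cm y₁ y₃ = cm y₂ y₃ :=
      prod_eq_of_distinct hinv _ _ _ sqa sqb sqc (cm_comm_all hsq y₁ y₃ (cm y₁ y₂)) ha hb hc hab hac hbc
    refine ⟨y₁ * y₂, y₂ * y₃, mul_mem h1 h2, mul_mem h2 h3, ?_, hu12, ?_⟩
    · rw [← cm_eq_one_iff, cm_mul_left hsq, cm_mul_right hsq, cm_mul_right hsq, cm_self, one_mul,
        habc]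
      exact sqc
    · intro h
      apply I3
      have : y₃ = y₂⁻¹ * (y₂ * y₃) := by group
      rw [this]
      exact mul_mem (inv_mem hy2W) (hsupW Z₁ (y₁ * y₂) hZW (mul_mem hy1W hy2W) h)


/-- **S1237 FO-E3**. -/
theorem card_lt_of_sq_central [Finite T] (hsq : ∀ t : T, t * t ∈ center T)
    (hinv : Nat.card {x : T // x * x = 1} ≤ 4) : Nat.card T < 64 * Nat.card (center T) := by
  by_contra hcon
  rw [not_lt] at hcon
  have hZpos : 0 < Nat.card (center T) := Nat.card_pos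
  have hne : ¬ (⊤ : Subgroup T) ≤ center T := by
    intro h
    have h1 := Subgroup.card_le_of_le h
    rw [Subgroup.card_top] at h1
    omega
  obtain ⟨x, -, hx⟩ := SetLike.not_le_iff_exists.mp hne
  have hC₁card := card_le_four_ker hsq hinv x
  have hmemC : ∀ t, t ∈ (cmHom hsq x).ker ↔ t * x = x * t := mem_ker_cmHom hsq x
  generalize (cmHom hsq x).ker = C₁ at hC₁card hmemC
  have hZC : center T ≤ C₁ := fun z hz => (hmemC z).2 ((mem_center_iff.mp hz x)).symm
  have hxC : x ∈ C₁ := (hmemC x).2 rfl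
  have hZ₁C : center T ⊔ zpowers x ≤ C₁ := sup_le hZC (zpowers_le.mpr hxC)
  have hZ₁card : Nat.card ↥(center T ⊔ zpowers x) ≤ 2 * Nat.card (center T) :=
    card_sup_zpowers_le hsq _ le_rfl x
  generalize hZ₁ : center T ⊔ zpowers x = Z₁ at hZ₁C hZ₁card
  have hZZ₁ : center T ≤ Z₁ := hZ₁ ▸ le_sup_left
  have hxZ₁ : x ∈ Z₁ := hZ₁ ▸ (le_sup_right : zpowers x ≤ _) (mem_zpowers x)
  -- y₁
  have e1 : ¬ C₁ ≤ Z₁ := by
    intro h
    have := Subgroup.card_le_of_le h
    omega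
  obtain ⟨y₁, hy₁C, hy₁⟩ := SetLike.not_le_iff_exists.mp e1
  have hZ₂card : Nat.card ↥(Z₁ ⊔ zpowers y₁) ≤ 2 * Nat.card Z₁ :=
    card_sup_zpowers_le hsq _ hZZ₁ y₁
  have e2 : ¬ C₁ ≤ Z₁ ⊔ zpowers y₁ := by
    intro h
    have := Subgroup.card_le_of_le h
    omega
  obtain ⟨y₂, hy₂C, hy₂⟩ := SetLike.not_le_iff_exists.mp e2
  have hZ₃card : Nat.card ↥(Z₁ ⊔ zpowers y₁ ⊔ zpowers y₂) ≤ 2 * Nat.card ↥(Z₁ ⊔ zpowers y₁) :=
    card_sup_zpowers_le hsq _ (le_trans hZZ₁ le_sup_left) y₂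
  have e3 : ¬ C₁ ≤ Z₁ ⊔ zpowers y₁ ⊔ zpowers y₂ := by
    intro h
    have := Subgroup.card_le_of_le h
    omega
  obtain ⟨y₃, hy₃C, hy₃⟩ := SetLike.not_le_iff_exists.mp e3
  obtain ⟨u, w, huC, hwC, huw, hu, hw⟩ :=
    exists_pair hsq hinv Z₁ C₁ y₁ y₂ y₃ hy₁C hy₂C hy₃C hy₁ hy₂ hy₃
  -- the chain `Z < Z₁ < Z₁⟨u⟩ < A`
  have c1 : center T < Z₁ := lt_of_le_of_ne hZZ₁ (fun h => hx (h ▸ hxZ₁))
  have c2 : Z₁ < Z₁ ⊔ zpowers u :=
    lt_of_le_of_ne le_sup_left
      (fun h => hu (h ▸ (le_sup_right : zpowers u ≤ Z₁ ⊔ zpowers u) (mem_zpowers u)))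
  have c3 : Z₁ ⊔ zpowers u < Z₁ ⊔ zpowers u ⊔ zpowers w :=
    lt_of_le_of_ne le_sup_left
      (fun h => hw (h ▸ (le_sup_right : zpowers w ≤ Z₁ ⊔ zpowers u ⊔ zpowers w) (mem_zpowers w)))
  have k1 := two_mul_card_le_of_lt c1
  have k2 := two_mul_card_le_of_lt c2
  have k3 := two_mul_card_le_of_lt c3
  -- commutativity of `A`
  have hux : u * x = x * u := (hmemC u).1 huC
  have hwx : w * x = x * w := (hmemC w).1 hwC
  have hgen : ∀ s : T, s * x = x * s → s * u = u * s → s * w = w * s →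
      Z₁ ⊔ zpowers u ⊔ zpowers w ≤ centralizer {s} := by
    intro s h1 h2 h3
    have hm : ∀ g : T, g * s = s * g → g ∈ centralizer ({s} : Set T) := by
      intro g hg
      rw [mem_centralizer_iff]
      intro h hh
      rw [Set.mem_singleton_iff] at hh
      rw [hh]; exact hg.symm
    refine sup_le (sup_le ?_ (zpowers_le.mpr (hm u h2.symm))) (zpowers_le.mpr (hm w h3.symm))
    rw [← hZ₁]
    exact sup_le (center_le_centralizer _) (zpowers_le.mpr (hm x h1.symm))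
  have hcomm1 : ∀ g : T, g ∈ centralizer ({x} : Set T) → g * x = x * g := by
    intro g hg
    exact ((mem_centralizer_iff.mp hg) x rfl).symm
  have hAx : ∀ s ∈ Z₁ ⊔ zpowers u ⊔ zpowers w, s * x = x * s := by
    intro s hs
    have := hgen x rfl hux.symm hwx.symm hs
    exact ((mem_centralizer_iff.mp this) x rfl).symm
  have hAu : ∀ s ∈ Z₁ ⊔ zpowers u ⊔ zpowers w, s * u = u * s := by
    intro s hs
    have := hgen u hux rfl huw hs
    exact ((mem_centralizer_iff.mp this) u rfl).symm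
  have hAw : ∀ s ∈ Z₁ ⊔ zpowers u ⊔ zpowers w, s * w = w * s := by
    intro s hs
    have := hgen w hwx huw.symm rfl hs
    exact ((mem_centralizer_iff.mp this) w rfl).symm
  have hAcomm : ∀ s ∈ Z₁ ⊔ zpowers u ⊔ zpowers w, ∀ t ∈ Z₁ ⊔ zpowers u ⊔ zpowers w,
      s * t = t * s := by
    intro s hs t ht
    have := hgen s (hAx s hs) (hAu s hs) (hAw s hs) ht
    exact ((mem_centralizer_iff.mp this) s rfl)
  generalize Z₁ ⊔ zpowers u ⊔ zpowers w = A at k3 hAcomm
  -- the squaring homomorphism on `A`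
  let sq : ↥A →* T :=
    { toFun := fun s => (s : T) * (s : T)
      map_one' := by simp
      map_mul' := fun s t => by
        have h := hAcomm s.1 s.2 t.1 t.2
        show ((s * t : ↥A) : T) * ((s * t : ↥A) : T) = _
        rw [Subgroup.coe_mul]
        calc (s : T) * t * (s * t) = s * (t * s) * t := by group
          _ = s * (s * t) * t := by rw [← h]
          _ = (s : T) * s * (t * t) := by group }
  have hk : Nat.card sq.ker ≤ 4 := by
    refine le_trans (Nat.card_le_card_of_injective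
      (fun v : sq.ker => (⟨((v : ↥A) : T), (MonoidHom.mem_ker.mp v.2)⟩ :
        {x : T // x * x = 1})) ?_) hinv
    intro p q hpq
    have h : ((p : ↥A) : T) = ((q : ↥A) : T) :=
      congrArg (fun z : {x : T // x * x = 1} => z.1) hpq
    exact Subtype.ext (Subtype.ext h)
  have hr : Nat.card sq.range ≤ Nat.card (center T) := by
    apply Subgroup.card_le_of_le
    rintro v ⟨s, rfl⟩
    exact hsq s.1
  have hidx := Subgroup.card_mul_index sq.ker
  rw [Subgroup.index_ker] at hidx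
  have : Nat.card ↥A ≤ 4 * Nat.card (center T) := by
    rw [← hidx]
    exact Nat.mul_le_mul hk hr
  omega

end Cfsg.Agent.Lib.Helper21.S1237E3
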