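import Mathlib
import Cfsg.Prelude.Def_GeometricClasses
import Cfsg.Agent.Lib.Helper16.TensDefs
import Cfsg.Agent.Lib.Helper15.MonoA
import Cfsg.Agent.Lib.Helper21.BlkTV

/-!
# S5637 FO-TRANS (helper21, for architect helper16): `N0 ∩ SL` is transitive on the standard
hyperplane-type subspaces `hyp ψ`
-/

set_option autoImplicit false
set_option linter.unusedSectionVars false
set_option linter.unusedVariables false

namespace Cfsg.Agent.Lib.Helper21.S5637TRANS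

open Matrix Module Cfsg.Agent.Lib.Helper16.Tens
open scoped Kronecker

variable {F : Type*} [Field F] {a b : ℕ}

/-- a determinant-one matrix mapping `ψ'` to a multiple of `ψ` -/
theorem exists_det_one_map (ψ ψ' : Fin b → F) (hψ : ψ ≠ 0) :
    ∃ (T : Matrix (Fin b) (Fin b) F) (c : F), T.det = 1 ∧ T *ᵥ ψ' = c • ψ := by
  by_cases h : ψ ∈ Submodule.span F {ψ - ψ'}
  · obtain ⟨μ, hμ⟩ := Submodule.mem_span_singleton.mp h
    have hμ0 : μ ≠ 0 := by
      rintro rfl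
      rw [zero_smul] at hμ
      exact hψ hμ.symm
    refine ⟨1, (μ - 1) / μ, Matrix.det_one, ?_⟩
    rw [Matrix.one_mulVec]
    have h1 : μ • ψ' = (μ - 1) • ψ := by
      rw [smul_sub] at hμ
      rw [sub_smul, one_smul]
      calc μ • ψ' = μ • ψ - (μ • ψ - μ • ψ') := by abel
        _ = μ • ψ - ψ := by rw [hμ]
    have h2 : ψ' = μ⁻¹ • (μ • ψ') := by rw [smul_smul, inv_mul_cancel₀ hμ0, one_smul]
    rw [h2, h1, smul_smul]
    congr 1
    field_simp
  · obtain ⟨φ, hφ1, hφ2⟩ :=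
      Cfsg.Agent.Lib.Helper21.BlkTV.exists_dual_vec (Submodule.span F {ψ - ψ'}) ψ h
    have hφd : φ ⬝ᵥ (ψ - ψ') = 0 := hφ2 _ (Submodule.mem_span_singleton_self _)
    have hφ' : φ ⬝ᵥ ψ' = 1 := by
      rw [dotProduct_sub, hφ1] at hφd
      exact (sub_eq_zero.mp hφd).symm
    refine ⟨Cfsg.Agent.Lib.Helper15.MonoMax.tv (ψ - ψ') φ, 1,
      Cfsg.Agent.Lib.Helper15.MonoMax.tv_det _ _ hφd, ?_⟩
    rw [Cfsg.Agent.Lib.Helper15.MonoMax.tv_mulVec, hφ', one_smul, one_smul]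
    abel

theorem one_kron_mulVec (B : Matrix (Fin b) (Fin b) F) (v : Fin a × Fin b → F) (i : Fin a)
    (j : Fin b) :
    (((1 : Matrix (Fin a) (Fin a) F) ⊗ₖ B) *ᵥ v) (i, j) = ∑ j', B j j' * v (i, j') := by
  simp only [Matrix.mulVec, dotProduct, Matrix.kroneckerMap_apply, Fintype.sum_prod_type,
    Matrix.one_apply]
  rw [Finset.sum_eq_single i]
  · simp
  · intro i' _ hi'
    simp [Ne.symm hi']
  · simp

theorem ctr_one_kron (B : Matrix (Fin b) (Fin b) F) (ψ' : Fin b → F) (v : Fin a × Fin b → F) :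
    ctr ψ' (((1 : Matrix (Fin a) (Fin a) F) ⊗ₖ B) *ᵥ v) = ctr (Bᵀ *ᵥ ψ') v := by
  funext i
  rw [ctr_apply, ctr_apply]
  simp only [one_kron_mulVec]
  simp only [Matrix.mulVec, dotProduct, Matrix.transpose_apply]
  simp only [Finset.sum_mul, Finset.mul_sum]
  rw [Finset.sum_comm]
  apply Finset.sum_congr rfl
  intro j' _
  apply Finset.sum_congr rfl
  intro j _
  ring

/-- FO-TRANS -/
theorem exists_kron_img_hyp (hb : 2 ≤ b) (ψ ψ' : Fin b → F) (hψ : ψ ≠ 0) (hψ' : ψ' ≠ 0) :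
    ∃ n : GL (Fin a × Fin b) F, n ∈ Cfsg.Geo.kroneckerSubgroup a b F ∧
      n ∈ Cfsg.Geo.specialLinear (Fin a × Fin b) F ∧ img n (hyp ψ) = hyp ψ' := by
  obtain ⟨T, c, hT, hTψ⟩ := exists_det_one_map ψ ψ' hψ
  have hB : IsUnit (Tᵀ).det := by rw [Matrix.det_transpose, hT]; exact isUnit_one
  have hdet : ((1 : Matrix (Fin a) (Fin a) F) ⊗ₖ Tᵀ).det = 1 := by
    rw [Matrix.det_kronecker, Matrix.det_one, one_pow, one_mul, Matrix.det_transpose, hT, one_pow]
  have hN : IsUnit ((1 : Matrix (Fin a) (Fin a) F) ⊗ₖ Tᵀ).det := by rw [hdet]; exact isUnit_one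
  let n : GL (Fin a × Fin b) F := Matrix.GeneralLinearGroup.mk'' _ hN
  have hnval : (n : Matrix (Fin a × Fin b) (Fin a × Fin b) F) =
      (1 : Matrix (Fin a) (Fin a) F) ⊗ₖ Tᵀ := rfl
  refine ⟨n, ?_, ?_, ?_⟩
  · rw [mem_kron_iff]
    exact ⟨1, Matrix.GeneralLinearGroup.mk'' _ hB, by rw [hnval, Units.val_one]; rfl⟩
  · rw [mem_SL_iff, hnval, hdet]
  · apply Submodule.eq_of_le_of_finrank_eq
    · rintro _ ⟨v, hv, rfl⟩
      rw [mem_hyp_iff]
      change ctr ψ' (act n v) = 0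
      rw [act_apply, hnval, ctr_one_kron, Matrix.transpose_transpose, hTψ, ctr_smul,
        (mem_hyp_iff ψ v).mp hv, smul_zero]
    · have h1 := finrank_hyp (a := a) hψ
      have h2 := finrank_hyp (a := a) hψ'
      rw [finrank_img]
      omega

end Cfsg.Agent.Lib.Helper21.S5637TRANS
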