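import Mathlib
import Cfsg.Agent.Lib.Helper17.ExtFDefs

/-!
# S5886 FO-Ea (helper21, for architect helper17): `L`-linear algebra on `Fin n → F`
-/

set_option autoImplicit false
set_option linter.unusedSectionVars false
set_option linter.style.haveILetI false
set_option linter.unusedVariables false

namespace Cfsg.Agent.Lib.Helper21.S5886E

open Matrix Module Cfsg.Agent.Lib.Helper17.ExtF

variable {F : Type*} [Field F] [Fintype F] {L : Type*} [Field L] [Algebra F L] {n : ℕ}
  (ρ : L →ₐ[F] Matrix (Fin n) (Fin n) F) {r : ℕ}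

/-- the `L`-module structure on column vectors given by `ρ` -/
@[reducible] noncomputable def modL : Module L (Fin n → F) :=
  Module.compHom (Fin n → F)
    (((Matrix.toLinAlgEquiv' (R := F) (n := Fin n)).toAlgHom.comp ρ).toRingHom)

theorem modL_smul (a : L) (v : Fin n → F) : (modL ρ).toSMul.smul a v = ρ a *ᵥ v := rfl

theorem modL_tower : @IsScalarTower F L (Fin n → F) _ (modL ρ).toSMul _ := by
  letI := modL ρ
  refine ⟨fun c a v => ?_⟩
  change ρ (c • a) *ᵥ v = c • (ρ a *ᵥ v)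
  rw [map_smul, Matrix.smul_mulVec]

omit [Fintype F] in
theorem orb_injective {v : Fin n → F} (hv : v ≠ 0) : Function.Injective (orb ρ v) := by
  rw [← LinearMap.ker_eq_bot, LinearMap.ker_eq_bot']
  intro a ha
  by_contra hne
  apply hv
  have h1 : v = ρ a⁻¹ *ᵥ (ρ a *ᵥ v) := by
    rw [← rho_mul_mulVec, inv_mul_cancel₀ hne, rho_one_mulVec]
  have h2 : ρ a *ᵥ v = 0 := ha
  rw [h1, h2, Matrix.mulVec_zero]

theorem finrank_pt (hrk : finrank F L = r) (hr : 0 < r) {v : Fin n → F} (hv : v ≠ 0) :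
    finrank F ↥(pt ρ v) = r := by
  rw [← hrk]
  exact LinearMap.finrank_range_of_inj (orb_injective ρ hv)

/-- the tower law for `Fin n → F` -/
theorem finrank_mul (hrk : finrank F L = r) :
    letI := modL ρ
    r * finrank L (Fin n → F) = n := by
  letI := modL ρ
  haveI := modL_tower ρ
  have h := Module.finrank_mul_finrank F L (Fin n → F)
  rw [hrk, Module.finrank_fin_fun] at h
  exact h

include ρ in
theorem finrank_dvd (hrk : finrank F L = r) (hr : 0 < r) : r ∣ n :=
  ⟨_, (finrank_mul ρ hrk).symm⟩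

/-- an `L`-linear functional, restricted to `F`, is `Lin` -/
theorem lin_of_linear :
    letI := modL ρ
    haveI := modL_tower ρ
    ∀ f : (Fin n → F) →ₗ[L] L, Lin ρ (f.restrictScalars F) := by
  letI := modL ρ
  haveI := modL_tower ρ
  intro f a v
  show f (ρ a *ᵥ v) = a * f v
  exact f.map_smul a v


/-- `pt ρ e` as an `L`-submodule -/
theorem mem_span_iff (e u : Fin n → F) :
    letI := modL ρ
    u ∈ Submodule.span L ({e} : Set (Fin n → F)) ↔ u ∈ pt ρ e := by
  letI := modL ρ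
  rw [Submodule.mem_span_singleton, mem_pt]
  exact Iff.rfl

/-- E1 -/
theorem exists_lin_sep (hrk : finrank F L = r) (hr : 0 < r) (e u : Fin n → F) (hu : u ∉ pt ρ e) :
    ∃ χ : (Fin n → F) →ₗ[F] L, Lin ρ χ ∧ χ e = 0 ∧ χ u = 1 := by
  letI := modL ρ
  haveI := modL_tower ρ
  have hu' : u ∉ Submodule.span L ({e} : Set (Fin n → F)) := fun h => hu ((mem_span_iff ρ e u).mp h)
  obtain ⟨f, hfu, hle⟩ := Submodule.exists_le_ker_of_notMem hu'
  refine ⟨((f u)⁻¹ • f).restrictScalars F, lin_of_linear ρ _, ?_, ?_⟩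
  · have he : f e = 0 := hle (Submodule.subset_span (Set.mem_singleton e))
    simp [he]
  · simp [hfu]

/-- E2 -/
theorem exists_lin_two (hrk : finrank F L = r) (hr : 0 < r) (hn : 3 * r ≤ n) (v₁ w : Fin n → F) :
    ∃ ψ : (Fin n → F) →ₗ[F] L, Lin ρ ψ ∧ ψ v₁ = 0 ∧ ψ w = 0 ∧ ∃ e, ψ e = 1 := by
  classical
  letI := modL ρ
  haveI := modL_tower ρ
  haveI : Module.Finite F L := Module.finite_of_finrank_pos (by rw [hrk]; exact hr)
  haveI : Module.Finite L (Fin n → F) := Module.Finite.right F L (Fin n → F)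
  have hmul := finrank_mul ρ hrk
  have hd : 3 ≤ finrank L (Fin n → F) := by
    by_contra hlt
    have hlt := not_le.mp hlt
    have : r * finrank L (Fin n → F) ≤ r * 2 := Nat.mul_le_mul_left r (by omega)
    omega
  have hspan : finrank L ↥(Submodule.span L ({v₁, w} : Set (Fin n → F))) ≤ 2 := by
    have h := finrank_span_finset_le_card (R := L) ({v₁, w} : Finset (Fin n → F))
    have hc : ({v₁, w} : Finset (Fin n → F)).card ≤ 2 := Finset.card_le_two
    have hcoe : ((({v₁, w} : Finset (Fin n → F)) : Set (Fin n → F))) = {v₁, w} := by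
      simp
    rw [hcoe] at h
    have h' : finrank L ↥(Submodule.span L ({v₁, w} : Set (Fin n → F))) ≤
        ({v₁, w} : Finset (Fin n → F)).card := h
    omega
  have hne : Submodule.span L ({v₁, w} : Set (Fin n → F)) ≠ ⊤ := by
    intro h
    rw [h, finrank_top] at hspan
    omega
  obtain ⟨x, hx⟩ : ∃ x : Fin n → F, x ∉ Submodule.span L ({v₁, w} : Set (Fin n → F)) := by
    by_contra hall
    apply hne
    rw [eq_top_iff]
    intro x _
    by_contra hx
    exact hall ⟨x, hx⟩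
  obtain ⟨f, hfx, hle⟩ := Submodule.exists_le_ker_of_notMem hx
  refine ⟨((f x)⁻¹ • f).restrictScalars F, lin_of_linear ρ _, ?_, ?_, x, ?_⟩
  · have h0 : f v₁ = 0 := hle (Submodule.subset_span (by simp))
    simp [h0]
  · have h0 : f w = 0 := hle (Submodule.subset_span (by simp))
    simp [h0]
  · simp [hfx]

/-- E3 -/
theorem exists_common_one (ψ ψ' : (Fin n → F) →ₗ[F] L) (hψ : Lin ρ ψ) (hψ' : Lin ρ ψ')
    (h1 : ∃ e, ψ e = 1) (h1' : ∃ e, ψ' e = 1) (hnp : ¬ ∃ c : L, ∀ v, ψ' v = c * ψ v) :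
    ∃ e, ψ e = 1 ∧ ψ' e = 1 := by
  obtain ⟨e₁, he₁⟩ := h1
  obtain ⟨v, hv0, hvd⟩ : ∃ v, ψ v = 0 ∧ ψ' v ≠ 0 := by
    by_contra hall
    apply hnp
    refine ⟨ψ' e₁, fun v => ?_⟩
    have hk : ψ (v - ρ (ψ v) *ᵥ e₁) = 0 := by
      rw [map_sub, hψ, he₁, mul_one, sub_self]
    have hk' : ψ' (v - ρ (ψ v) *ᵥ e₁) = 0 := by
      by_contra hne
      exact hall ⟨_, hk, hne⟩
    rw [map_sub, hψ', sub_eq_zero] at hk'
    rw [hk', mul_comm]
  refine ⟨e₁ + ρ ((1 - ψ' e₁) / ψ' v) *ᵥ v, ?_, ?_⟩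
  · rw [map_add, hψ, hv0, mul_zero, add_zero, he₁]
  · rw [map_add, hψ', div_mul_cancel₀ _ hvd]
    ring


/-- E0 : coordinates when `n = 2r` -/
theorem exists_coords (hrk : finrank F L = r) (hr : 0 < r) (hn : n = 2 * r) (v₁ w : Fin n → F)
    (hv₁ : v₁ ≠ 0) (hw : w ∉ pt ρ v₁) :
    ∃ π ψ : (Fin n → F) →ₗ[F] L, Lin ρ π ∧ Lin ρ ψ ∧
      (∀ v, v = ρ (π v) *ᵥ v₁ + ρ (ψ v) *ᵥ w) ∧ π v₁ = 1 ∧ π w = 0 ∧ ψ v₁ = 0 ∧ ψ w = 1 := by
  classical
  letI := modL ρ
  haveI := modL_tower ρ
  haveI : Module.Finite F L := Module.finite_of_finrank_pos (by rw [hrk]; exact hr)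
  haveI : Module.Finite L (Fin n → F) := Module.Finite.right F L (Fin n → F)
  have hmul := finrank_mul ρ hrk
  have hd : finrank L (Fin n → F) = 2 := by
    have h1 : r * finrank L (Fin n → F) = r * 2 := by rw [hmul, hn, Nat.mul_comm]
    exact Nat.eq_of_mul_eq_mul_left hr h1
  have hli : LinearIndependent L ![v₁, w] := by
    rw [LinearIndependent.pair_iff]
    intro s t hst
    have ht : t = 0 := by
      by_contra ht
      apply hw
      refine ⟨-(t⁻¹ * s), ?_⟩
      have h1 : t • w = -(s • v₁) := eq_neg_of_add_eq_zero_right hst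
      have h2 : w = t⁻¹ • (t • w) := by rw [smul_smul, inv_mul_cancel₀ ht, one_smul]
      rw [h2, h1, smul_neg, smul_smul, ← neg_smul]
      rfl
    rw [ht, zero_smul, add_zero] at hst
    rcases smul_eq_zero.mp hst with h | h
    · exact ⟨h, ht⟩
    · exact absurd h hv₁
  have hcard : Fintype.card (Fin 2) = finrank L (Fin n → F) := by rw [hd]; rfl
  let b := basisOfLinearIndependentOfCardEqFinrank hli hcard
  have hb : ⇑b = ![v₁, w] := coe_basisOfLinearIndependentOfCardEqFinrank hli hcard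
  have hb0 : b 0 = v₁ := by rw [hb]; rfl
  have hb1 : b 1 = w := by rw [hb]; rfl
  refine ⟨(b.coord 0).restrictScalars F, (b.coord 1).restrictScalars F, lin_of_linear ρ _,
    lin_of_linear ρ _, ?_, ?_, ?_, ?_, ?_⟩
  · intro v
    have h := b.sum_repr v
    rw [Fin.sum_univ_two, hb0, hb1] at h
    exact h.symm
  · show b.coord 0 v₁ = 1
    rw [← hb0, Basis.coord_apply, Basis.repr_self, Finsupp.single_eq_same]
  · show b.coord 0 w = 0
    rw [← hb1, Basis.coord_apply, Basis.repr_self, Finsupp.single_apply, if_neg (by decide)]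
  · show b.coord 1 v₁ = 0
    rw [← hb0, Basis.coord_apply, Basis.repr_self, Finsupp.single_apply, if_neg (by decide)]
  · show b.coord 1 w = 1
    rw [← hb1, Basis.coord_apply, Basis.repr_self, Finsupp.single_eq_same]

end Cfsg.Agent.Lib.Helper21.S5886E
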