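import Mathlib
import Cfsg.Agent.Lib.Helper21.SuzD

set_option autoImplicit false
set_option linter.style.haveILetI false
set_option linter.unusedSectionVars false

namespace Cfsg.Agent.Lib.Helper21.Suz

open Subgroup

universe u

theorem eq_one_of_odd_of_pow {H : Type*} [Group H] {b : H} {k : ℕ} (hb : Odd (orderOf b))
    (hk : b ^ (2 ^ k) = 1) : b = 1 := by
  have h1 : orderOf b ∣ 2 ^ k := orderOf_dvd_of_pow_eq_one hk
  have h2 : Nat.Coprime (orderOf b) (2 ^ k) :=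
    Nat.Coprime.pow_right k (Nat.Coprime.symm (Nat.coprime_two_left.mpr hb))
  have h3 : orderOf b = 1 := Nat.Coprime.eq_one_of_dvd h2 h1
  exact orderOf_eq_one_iff.mp h3

/-- In a `Good` decomposition the 2-elements lie in `L`. -/
theorem good_two_elt_mem {H : Type*} [Group H] {L B : Subgroup H} (hL : L.Normal) (hB : B.Normal)
    (hdis : L ⊓ B = ⊥) (hsup : L ⊔ B = ⊤) (hodd : ∀ b ∈ B, Odd (orderOf b))
    {y : H} {k : ℕ} (hy : y ^ (2 ^ k) = 1) : y ∈ L := by
  have hy' : y ∈ L ⊔ B := by rw [hsup]; exact Subgroup.mem_top y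
  haveI := hB
  obtain ⟨l, hl, b, hb, rfl⟩ := Subgroup.mem_sup_of_normal_right.mp hy'
  have hcomm : Commute l b :=
    Subgroup.commute_of_normal_of_disjoint L B hL hB (disjoint_iff.mpr hdis) l b hl hb
  rw [hcomm.mul_pow] at hy
  have h1 : b ^ (2 ^ k) ∈ L ⊓ B := by
    refine ⟨?_, B.pow_mem hb _⟩
    have : b ^ (2 ^ k) = (l ^ (2 ^ k))⁻¹ := eq_inv_of_mul_eq_one_right hy
    rw [this]
    exact L.inv_mem (L.pow_mem hl _)
  rw [hdis, Subgroup.mem_bot] at h1
  rw [eq_one_of_odd_of_pow (hodd b hb) h1, mul_one]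
  exact hl

theorem pow_two_pow_eq_one_of_mem_sylow {H : Type*} [Group H] (Q : Sylow 2 H) {x : H}
    (hx : x ∈ Q) : ∃ k : ℕ, x ^ (2 ^ k) = 1 := by
  obtain ⟨k, hk⟩ := Q.isPGroup' ⟨x, hx⟩
  exact ⟨k, by simpa using congrArg Subtype.val hk⟩

/-- A `Good` group generated by its Sylow 2-subgroups is a BSW group. -/
theorem bsw_of_good_of_gen {H : Type*} [Group H] (hG : Good H)
    (hgen : (⨆ Q : Sylow 2 H, (Q : Subgroup H)) = ⊤) : BSW H := by
  obtain ⟨L, B, hL, hB, hdis, hsup, -, hodd, hbsw⟩ := hG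
  have hLtop : L = ⊤ := by
    rw [eq_top_iff, ← hgen]
    apply iSup_le
    intro Q x hx
    obtain ⟨k, hk⟩ := pow_two_pow_eq_one_of_mem_sylow Q hx
    exact good_two_elt_mem hL hB hdis hsup hodd hk
  intro t ht c hc
  exact hbsw t (hLtop ▸ Subgroup.mem_top t) ht c (hLtop ▸ Subgroup.mem_top c) hc

end Cfsg.Agent.Lib.Helper21.Suz
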