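import Mathlib
import Cfsg.Agent.Lib.Helper21.SuzE

set_option autoImplicit false
set_option linter.style.haveILetI false
set_option linter.unusedSectionVars false

namespace Cfsg.Agent.Lib.Helper21.Suz

open Subgroup

universe u

variable {G : Type u} [Group G] [Finite G]

theorem ICA.subgroup (h : ICA G) (K : Subgroup G) : ICA ↥K := by
  intro t ht a b ha hb
  apply Subtype.ext
  have ht' : orderOf (t : G) = 2 := by rw [Subgroup.orderOf_coe]; exact ht
  exact h (t : G) ht' a b (congrArg Subtype.val ha) (congrArg Subtype.val hb)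

theorem smul_subtype_eq_iff (K : Subgroup G) (R R' : Sylow 2 G) (hR : (R : Subgroup G) ≤ K)
    (hR' : (R' : Subgroup G) ≤ K) (l : K) :
    l • R.subtype hR = R'.subtype hR' ↔ (l : G) • R = R' := by
  rw [Sylow.smul_subtype hR l]
  constructor
  · intro h1
    exact Sylow.subtype_injective h1
  · intro h1
    have : l • R = R' := h1
    subst this
    rfl

theorem not_cyclic_subtype (K : Subgroup G) (P : Sylow 2 G) (hP : (P : Subgroup G) ≤ K)
    (hnc : ¬ IsCyclic (P : Subgroup G)) : ¬ IsCyclic ((P.subtype hP : Sylow 2 K) : Subgroup K) := by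
  intro hc
  apply hnc
  rw [Sylow.coe_subtype] at hc
  exact isCyclic_of_surjective (Subgroup.subgroupOfEquivOfLe hP).toMonoidHom
    (Subgroup.subgroupOfEquivOfLe hP).surjective

theorem not_normal_subtype (K : Subgroup G) (hK : ∀ Q : Sylow 2 G, (Q : Subgroup G) ≤ K)
    (P : Sylow 2 G) (hnn : ¬ (P : Subgroup G).Normal) :
    ¬ ((P.subtype (hK P) : Sylow 2 K) : Subgroup K).Normal := by
  haveI : Fact (Nat.Prime 2) := ⟨Nat.prime_two⟩
  intro hN
  apply hnn
  have hall : ∀ Q : Sylow 2 G, Q = P := by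
    intro Q
    obtain ⟨l, hl⟩ := MulAction.exists_smul_eq K (P.subtype (hK P)) (Q.subtype (hK Q))
    haveI := hN
    rw [Sylow.smul_eq_of_normal] at hl
    exact (Sylow.subtype_injective hl).symm
  rw [← Subgroup.normalizer_eq_top_iff, eq_top_iff]
  intro g _
  exact mem_normalizer_sylow_iff.mpr (hall (g • P))


theorem exists_sylow_ne (P : Sylow 2 G) (hnn : ¬ (P : Subgroup G).Normal) :
    ∃ Q : Sylow 2 G, Q ≠ P := by
  by_contra hall
  push Not at hall
  apply hnn
  rw [← Subgroup.normalizer_eq_top_iff, eq_top_iff]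
  intro g _
  exact mem_normalizer_sylow_iff.mpr (hall (g • P))

/-- odd part / 2-part: `x ^ m` is a 2-element with `m` odd -/
theorem exists_odd_pow_two_elt (x : G) : ∃ m k : ℕ, Odd m ∧ (x ^ m) ^ (2 ^ k) = 1 := by
  have hpos : orderOf x ≠ 0 := (orderOf_pos x).ne'
  obtain ⟨k, m, hm, hkm⟩ := Nat.exists_eq_two_pow_mul_odd hpos
  refine ⟨m, k, hm, ?_⟩
  rw [← pow_mul, mul_comm, ← hkm, pow_orderOf_eq_one]

theorem odd_orderOf_of_pow_eq_one {x : G} {m : ℕ} (hm : Odd m) (hx : x ^ m = 1) :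
    Odd (orderOf x) :=
  Odd.of_dvd_nat hm (orderOf_dvd_of_pow_eq_one hx)

/-- elements of the core of `N(P)`: odd order, centralize `P` -/
theorem core_props (h : ICA G) (P : Sylow 2 G) (hnn : ¬ (P : Subgroup G).Normal) :
    ∀ x ∈ (normalizer ((P : Subgroup G) : Set G)).normalCore,
      Odd (orderOf x) ∧ ∀ y ∈ P, x * y = y * x := by
  have hodd : ∀ x ∈ (normalizer ((P : Subgroup G) : Set G)).normalCore, Odd (orderOf x) := by
    intro x hx
    obtain ⟨Q, hQ⟩ := exists_sylow_ne P hnn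
    obtain ⟨m, k, hm, hmk⟩ := exists_odd_pow_two_elt x
    have hxm : x ^ m ∈ (normalizer ((P : Subgroup G) : Set G)).normalCore :=
      Subgroup.pow_mem _ hx m
    have h1 := (mem_normalCore_normalizer_iff P (x ^ m)).mp hxm
    have hP : x ^ m ∈ P := mem_sylow_of_normalizer P (mem_normalizer_sylow_iff.mpr (h1 P)) hmk
    have hQ' : x ^ m ∈ Q := mem_sylow_of_normalizer Q (mem_normalizer_sylow_iff.mpr (h1 Q)) hmk
    have : x ^ m = 1 := by
      by_contra hne
      exact hQ (sylow_TI h P Q hne hP hQ').symm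
    exact odd_orderOf_of_pow_eq_one hm this
  intro x hx
  refine ⟨hodd x hx, fun y hy => ?_⟩
  have hxN : x ∈ normalizer ((P : Subgroup G) : Set G) :=
    Subgroup.normalCore_le _ hx
  have hz1 : x * y * x⁻¹ * y⁻¹ ∈ P := by
    have : x * y * x⁻¹ ∈ P := (Subgroup.mem_normalizer_iff.mp hxN y).mp hy
    exact Subgroup.mul_mem _ this (Subgroup.inv_mem _ hy)
  have hz2 : x * y * x⁻¹ * y⁻¹ ∈ (normalizer ((P : Subgroup G) : Set G)).normalCore := by
    have hn : ((normalizer ((P : Subgroup G) : Set G)).normalCore).Normal := inferInstance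
    have : y * x⁻¹ * y⁻¹ ∈ (normalizer ((P : Subgroup G) : Set G)).normalCore :=
      hn.conj_mem _ (Subgroup.inv_mem _ hx) y
    have h3 := Subgroup.mul_mem _ hx this
    have : x * (y * x⁻¹ * y⁻¹) = x * y * x⁻¹ * y⁻¹ := by group
    rwa [this] at h3
  obtain ⟨k, hk⟩ := pow_two_pow_eq_one_of_mem_sylow P hz1
  have := eq_one_of_odd_of_pow (hodd _ hz2) hk
  have h4 : x * y = (x * y * x⁻¹ * y⁻¹) * (y * x) := by group
  rw [h4, this, one_mul]


theorem case1 (IH : IHyp G) (h : ICA G) (P : Sylow 2 G)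
    (hnc : ¬ IsCyclic (P : Subgroup G)) (hnn : ¬ (P : Subgroup G).Normal)
    (hgen : (⨆ Q : Sylow 2 G, (Q : Subgroup G)) ≠ ⊤) : Good G := by
  haveI : Fact (Nat.Prime 2) := ⟨Nat.prime_two⟩
  set L₁ : Subgroup G := ⨆ Q : Sylow 2 G, (Q : Subgroup G) with hL₁
  have hQL : ∀ Q : Sylow 2 G, (Q : Subgroup G) ≤ L₁ := fun Q => le_iSup (fun Q : Sylow 2 G => (Q : Subgroup G)) Q
  -- normality
  have hLn : L₁.Normal := by
    refine ⟨fun n hn g => ?_⟩
    have hle : L₁ ≤ L₁.comap (MulAut.conj g).toMonoidHom := by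
      apply iSup_le
      intro Q x hx
      rw [Subgroup.mem_comap]
      have : g * x * g⁻¹ ∈ g • Q := smul_mem_smul_sylow hx
      simpa [MulAut.conj_apply] using hQL (g • Q) this
    have := hle hn
    rw [Subgroup.mem_comap] at this
    simpa [MulAut.conj_apply] using this
  -- induction hypothesis on L₁
  have hcard : Nat.card L₁ < Nat.card G := by
    have h1 : Nat.card L₁ ≤ Nat.card G := Subgroup.card_le_card_group L₁
    have h2 : Nat.card L₁ ≠ Nat.card G := fun heq => hgen ((Subgroup.card_eq_iff_eq_top L₁).mp heq)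
    omega
  set T : Sylow 2 L₁ := P.subtype (hQL P) with hT
  have hTnc := not_cyclic_subtype L₁ P (hQL P) hnc
  have hTnn := not_normal_subtype L₁ hQL P hnn
  have hgood := IH L₁ hcard (h.subgroup L₁) T hTnc hTnn
  have hgenL : (⨆ Q' : Sylow 2 L₁, (Q' : Subgroup L₁)) = ⊤ := by
    rw [eq_top_iff]
    intro y _
    have hy : (y : G) ∈ L₁ := y.2
    have hle : L₁ ≤ (⨆ Q' : Sylow 2 L₁, (Q' : Subgroup L₁)).map L₁.subtype := by
      apply iSup_le
      intro Q x hx
      refine ⟨⟨x, hQL Q hx⟩, ?_, rfl⟩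
      have : (⟨x, hQL Q hx⟩ : L₁) ∈ ((Q.subtype (hQL Q) : Sylow 2 L₁) : Subgroup L₁) := by
        rw [Sylow.coe_subtype, Subgroup.mem_subgroupOf]; exact hx
      exact (le_iSup (fun Q' : Sylow 2 L₁ => (Q' : Subgroup L₁)) (Q.subtype (hQL Q))) this
    obtain ⟨y', hy', hyy'⟩ := hle hy
    have : y' = y := Subtype.ext hyy'
    rwa [this] at hy'
  have hBL : BSW L₁ := bsw_of_good_of_gen hgood hgenL
  have hBLG : ∀ t ∈ L₁, orderOf t = 2 → ∀ c ∈ L₁, t * c = c * t → c * c = 1 := by
    intro t ht hto c hc htc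
    have := hBL ⟨t, ht⟩ (by rw [← Subgroup.orderOf_coe]; exact hto) ⟨c, hc⟩ (Subtype.ext htc)
    exact congrArg Subtype.val this
  -- an involution of P, exponent 2
  have hne := sylow_ne_bot_of_not_normal P hnn
  obtain ⟨s₀, hs₀P, hs₀⟩ := exists_invol_of_pgroup (P : Subgroup G) P.isPGroup' hne
  have hexp : ∀ x ∈ P, x * x = 1 := fun x hx =>
    hBLG s₀ (hQL P hs₀P) hs₀ x (hQL P hx) (sylow_comm h P s₀ hs₀P x hx)
  -- transitivity of P on the other Sylows
  have htrans : ∀ R R' : Sylow 2 G, R ≠ P → R' ≠ P → ∃ t ∈ P, t • R = R' := by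
    intro R R' hR hR'
    obtain ⟨l, hl⟩ := MulAction.exists_smul_eq L₁ T (R.subtype (hQL R))
    obtain ⟨l', hl'⟩ := MulAction.exists_smul_eq L₁ T (R'.subtype (hQL R'))
    have hlT : l • T ≠ T := by
      rw [hl]; intro heq; exact hR (Sylow.subtype_injective heq)
    have hl'T : l' • T ≠ T := by
      rw [hl']; intro heq; exact hR' (Sylow.subtype_injective heq)
    obtain ⟨t, htT, ht⟩ := (bsw_facts hBL T hTnc hTnn).1 l l' hlT hl'T
    rw [mul_smul, hl, hl'] at ht
    refine ⟨(t : G), ?_, (smul_subtype_eq_iff L₁ R R' (hQL R) (hQL R') t).mp ht⟩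
    have : t ∈ ((P.subtype (hQL P) : Sylow 2 L₁) : Subgroup L₁) := htT
    rw [Sylow.coe_subtype, Subgroup.mem_subgroupOf] at this
    exact this
  set N : Subgroup G := (normalizer ((P : Subgroup G) : Set G)).normalCore with hN
  have hcore := core_props h P hnn
  -- Bset ⊆ N
  have hBN : ∀ b : G, Odd (orderOf b) → (∀ x ∈ P, b * x = x * b) → b ∈ N := by
    intro b hbo hbP
    rw [hN, mem_normalCore_normalizer_iff]
    have hbPfix : b • P = P := by
      apply mem_normalizer_sylow_iff.mp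
      apply Subgroup.centralizer_le_normalizer
      rw [Subgroup.mem_centralizer_iff]
      intro x hx; exact (hbP x hx).symm
    intro R
    by_cases hRP : R = P
    · rw [hRP]; exact hbPfix
    · have hbR : b • R ≠ P := by
        intro heq
        apply hRP
        have : R = b⁻¹ • P := by rw [← heq, ← mul_smul, inv_mul_cancel, one_smul]
        rw [this, ← hbPfix, ← mul_smul, inv_mul_cancel, one_smul, hbPfix]
      obtain ⟨t, htP, ht⟩ := htrans R (b • R) hRP hbR
      -- a := t⁻¹ * b fixes R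
      have ha : (t⁻¹ * b) • R = R := by rw [mul_smul, ← ht, ← mul_smul, inv_mul_cancel, one_smul]
      have hcomm : Commute t⁻¹ b := by
        have := hbP t htP
        exact (Commute.inv_left (show Commute t b from this.symm))
      obtain ⟨m, rfl⟩ : ∃ m, orderOf b = m := ⟨_, rfl⟩
      have hpow : (t⁻¹ * b) ^ orderOf b = t⁻¹ := by
        rw [hcomm.mul_pow, pow_orderOf_eq_one, mul_one]
        have htt : t⁻¹ * t⁻¹ = 1 := by
          have := hexp t htP
          rw [← mul_inv_rev, this, inv_one]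
        obtain ⟨j, hj⟩ := hbo
        rw [hj, pow_succ, pow_mul, pow_two, htt, one_pow, one_mul]
      have hfix : t⁻¹ • R = R := by
        rw [← hpow]
        have : ∀ n : ℕ, ((t⁻¹ * b) ^ n) • R = R := by
          intro n
          induction n with
          | zero => simp
          | succ n ih => rw [pow_succ, mul_smul, ha, ih]
        exact this _
      have htR : t⁻¹ ∈ R := by
        apply mem_sylow_of_normalizer R (mem_normalizer_sylow_iff.mpr hfix) (k := 1)
        rw [pow_one, pow_two]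
        have := hexp t htP
        rw [← mul_inv_rev, this, inv_one]
      have ht1 : t⁻¹ = 1 := by
        by_contra hne1
        exact hRP (sylow_TI h R P hne1 htR (Subgroup.inv_mem _ htP))
      have : t = 1 := by rw [← inv_inv t, ht1, inv_one]
      rw [← ht, this, one_smul]
  -- A(P) ∩ N(Q) ⊆ N
  have hAQ : ∀ (Q : Sylow 2 G), Q ≠ P → ∀ a : G, (∀ x ∈ P, a * x = x * a) → a • Q = Q → a ∈ N := by
    intro Q hQ a haP haQ
    obtain ⟨m, k, hm, hmk⟩ := exists_odd_pow_two_elt a
    have h1 : a ^ m ∈ P := by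
      apply mem_sylow_of_normalizer P ?_ hmk
      apply Subgroup.centralizer_le_normalizer
      rw [Subgroup.mem_centralizer_iff]
      intro x hx
      have : Commute a x := haP x hx
      exact ((this.pow_left m).eq).symm
    have h2 : a ^ m ∈ Q := by
      apply mem_sylow_of_normalizer Q ?_ hmk
      apply mem_normalizer_sylow_iff.mpr
      have : ∀ n : ℕ, (a ^ n) • Q = Q := by
        intro n
        induction n with
        | zero => simp
        | succ n ih => rw [pow_succ, mul_smul, haQ, ih]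
      exact this m
    have h3 : a ^ m = 1 := by
      by_contra hne1
      exact hQ (sylow_TI h P Q hne1 h1 h2).symm
    exact hBN a (odd_orderOf_of_pow_eq_one hm h3) haP
  obtain ⟨Q₀, hQ₀⟩ := exists_sylow_ne P hnn
  refine ⟨L₁, N, hLn, inferInstance, ?_, ?_, ?_, fun b hb => (hcore b hb).1, hBLG⟩
  · -- L₁ ⊓ N = ⊥
    rw [eq_bot_iff]
    intro x hx
    rw [Subgroup.mem_bot]
    have hxx : x * x = 1 :=
      hBLG s₀ (hQL P hs₀P) hs₀ x hx.1 ((hcore x hx.2).2 s₀ hs₀P).symm
    exact eq_one_of_odd_of_pow (k := 1) (hcore x hx.2).1 (by rw [pow_one, pow_two]; exact hxx)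
  · -- L₁ ⊔ N = ⊤
    rw [eq_top_iff]
    intro g _
    -- step A
    obtain ⟨l, hl⟩ := MulAction.exists_smul_eq L₁ T ((g • P).subtype (hQL (g • P)))
    have hlP : (l : G) • P = g • P := (smul_subtype_eq_iff L₁ P (g • P) (hQL P) (hQL _) l).mp hl
    set m := (l : G)⁻¹ * g with hm
    have hmP : m • P = P := by rw [hm, mul_smul, ← hlP, ← mul_smul, inv_mul_cancel, one_smul]
    -- step B
    have hmQ : m • Q₀ ≠ P := by
      intro heq
      apply hQ₀
      have : Q₀ = m⁻¹ • P := by rw [← heq, ← mul_smul, inv_mul_cancel, one_smul]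
      rw [this, ← hmP, ← mul_smul, inv_mul_cancel, one_smul, hmP]
    obtain ⟨t, htP, ht⟩ := htrans Q₀ (m • Q₀) hQ₀ hmQ
    set d := t⁻¹ * m with hd
    have hdP : d • P = P := by
      rw [hd, mul_smul, hmP]
      exact mem_normalizer_sylow_iff.mp (Subgroup.le_normalizer (Subgroup.inv_mem _ htP))
    have hdQ : d • Q₀ = Q₀ := by rw [hd, mul_smul, ← ht, ← mul_smul, inv_mul_cancel, one_smul]
    -- step C
    have hs' : orderOf (d * s₀ * d⁻¹) = 2 := by rw [orderOf_conj']; exact hs₀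
    have hs'P : d * s₀ * d⁻¹ ∈ P := by
      have := smul_mem_smul_sylow (g := d) hs₀P
      rwa [hdP] at this
    set T₀ : Sylow 2 L₁ := Q₀.subtype (hQL Q₀) with hT₀
    have hTT₀ : T ≠ T₀ := fun heq => hQ₀ (Sylow.subtype_injective heq).symm
    obtain ⟨u, hu, huT⟩ := exists_swap (h.subgroup L₁) T T₀ hTnn hTT₀
    have hs₀L : orderOf (⟨s₀, hQL P hs₀P⟩ : L₁) = 2 := by rw [← Subgroup.orderOf_coe]; exact hs₀
    have hs'L : orderOf (⟨d * s₀ * d⁻¹, hQL P hs'P⟩ : L₁) = 2 := by
      rw [← Subgroup.orderOf_coe]; exact hs'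
    have hmemT : ∀ x (hx : x ∈ P), (⟨x, hQL P hx⟩ : L₁) ∈ T := by
      intro x hx
      change (⟨x, hQL P hx⟩ : L₁) ∈ ((P.subtype (hQL P) : Sylow 2 L₁) : Subgroup L₁)
      rw [Sylow.coe_subtype, Subgroup.mem_subgroupOf]; exact hx
    obtain ⟨dL, hdLT, hdLT₀, hdLs⟩ := trans_invol (h.subgroup L₁) T T₀ hTnn hu huT hTT₀
      hs₀L (hmemT s₀ hs₀P) hs'L (hmemT _ hs'P)
    have hdLP : (dL : G) • P = P := (smul_subtype_eq_iff L₁ P P (hQL P) (hQL P) dL).mp hdLT
    have hdLQ : (dL : G) • Q₀ = Q₀ := (smul_subtype_eq_iff L₁ Q₀ Q₀ (hQL Q₀) (hQL Q₀) dL).mp hdLT₀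
    have hdLs' : (dL : G) * s₀ * (dL : G)⁻¹ = d * s₀ * d⁻¹ := by
      have := congrArg Subtype.val hdLs
      simpa using this
    set e := (dL : G)⁻¹ * d with he
    have hes : s₀ * e = e * s₀ := by
      have h1 : e * s₀ * e⁻¹ = s₀ := by
        rw [he]
        have : (dL : G)⁻¹ * d * s₀ * ((dL : G)⁻¹ * d)⁻¹ = (dL : G)⁻¹ * (d * s₀ * d⁻¹) * (dL : G) := by
          group
        rw [this, ← hdLs']; group
      have h2 : e * s₀ = s₀ * e := by
        have := congrArg (fun z => z * e) h1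
        simpa [mul_assoc] using this
      exact h2.symm
    have heP : ∀ x ∈ P, e * x = x * e := cent_invol h P hs₀ hs₀P hes
    have heQ : e • Q₀ = Q₀ := by
      rw [he, mul_smul, hdQ]
      have : (dL : G)⁻¹ • Q₀ = (dL : G)⁻¹ • ((dL : G) • Q₀) := by rw [hdLQ]
      rw [this, ← mul_smul, inv_mul_cancel, one_smul]
    have heN : e ∈ N := hAQ Q₀ hQ₀ e heP heQ
    -- assemble
    have hg : g = (l : G) * (t * ((dL : G) * e)) := by
      rw [he, hd, hm]; group
    rw [hg]
    have hL : L₁ ≤ L₁ ⊔ N := le_sup_left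
    have hNle : N ≤ L₁ ⊔ N := le_sup_right
    exact Subgroup.mul_mem _ (hL l.2) (Subgroup.mul_mem _ (hL (hQL P htP))
      (Subgroup.mul_mem _ (hL dL.2) (hNle heN)))
  · -- N abelian
    intro a ha b hb
    exact h s₀ hs₀ a b ((hcore a ha).2 s₀ hs₀P).symm ((hcore b hb).2 s₀ hs₀P).symm

end Cfsg.Agent.Lib.Helper21.Suz
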