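import Mathlib
import Cfsg.Agent.Lib.Helper21.SuzF
import Cfsg.Agent.Lib.Helper3.CardSL
import Cfsg.Agent.S1230

set_option autoImplicit false
set_option linter.style.haveILetI false
set_option linter.unusedSectionVars false

namespace Cfsg.Agent.Lib.Helper21.Suz

open Subgroup

universe u

variable {G : Type u} [Group G] [Finite G]

/-- `PSL₂(F) ≃* SL₂(F)` in characteristic 2 -/
noncomputable def pslEquivSL (F : Type) [Field F] [CharP F 2] :
    Matrix.ProjectiveSpecialLinearGroup (Fin 2) F ≃* Matrix.SpecialLinearGroup (Fin 2) F :=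
  (QuotientGroup.quotientMulEquivOfEq
    (Cfsg.Agent.Lib.Helper3.CardSL.center_SL2_eq_bot (F := F))).trans QuotientGroup.quotientBot

theorem final_of_good (hG : Good G) (P : Sylow 2 G)
    (hnc : ¬ IsCyclic (P : Subgroup G)) (hnn : ¬ (P : Subgroup G).Normal) :
    ∃ (F : Type) (_ : Field F) (_ : Fintype F) (A : Type) (_ : CommGroup A) (_ : Finite A),
      CharP F 2 ∧ Odd (Nat.card A) ∧
        Nonempty (G ≃* Matrix.SpecialLinearGroup (Fin 2) F × A) := by
  haveI : Fact (Nat.Prime 2) := ⟨Nat.prime_two⟩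
  obtain ⟨L, B, hL, hB, hdis, hsup, hBcomm, hBodd, hbsw⟩ := hG
  have hQL : ∀ Q : Sylow 2 G, (Q : Subgroup G) ≤ L := by
    intro Q x hx
    obtain ⟨k, hk⟩ := pow_two_pow_eq_one_of_mem_sylow Q hx
    exact good_two_elt_mem hL hB hdis hsup hBodd hk
  set T : Sylow 2 L := P.subtype (hQL P) with hT
  have hTnc := not_cyclic_subtype L P (hQL P) hnc
  have hTnn := not_normal_subtype L hQL P hnn
  have hBL : BSW L := by
    intro t ht c hc
    have := hbsw (t : G) t.2 (by rw [Subgroup.orderOf_coe]; exact ht) (c : G) c.2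
      (congrArg Subtype.val hc)
    exact Subtype.ext this
  obtain ⟨F, iF, iFT, hcardF, ⟨eL⟩⟩ := Cfsg.Agent.S1230.result T hTnc hTnn hBL.hC
  -- characteristic 2
  have hchar : CharP F 2 := by
    apply ringChar.of_eq
    rw [FiniteField.even_card_iff_char_two, hcardF]
    have hne : (T : Subgroup L) ≠ ⊥ := sylow_ne_bot_of_not_normal T hTnn
    rcases T.isPGroup'.card_eq_or_dvd with h1 | h1
    · exact absurd (Subgroup.card_eq_one.mp h1) hne
    · exact Nat.mod_eq_zero_of_dvd h1
  -- internal direct product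
  have hcomm : ∀ (l : L) (b : B), Commute (L.subtype l) (B.subtype b) := fun l b =>
    Subgroup.commute_of_normal_of_disjoint L B hL hB (disjoint_iff.mpr hdis) l b l.2 b.2
  let f : L × B →* G := MonoidHom.noncommCoprod L.subtype B.subtype hcomm
  have hf : ∀ x : L × B, f x = (x.1 : G) * (x.2 : G) := fun x => rfl
  have hfinj : Function.Injective f := by
    rw [injective_iff_map_eq_one]
    rintro ⟨l, b⟩ hlb
    rw [hf] at hlb
    have h1 : (l : G) = (b : G)⁻¹ := eq_inv_of_mul_eq_one_left hlb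
    have h2 : (l : G) ∈ L ⊓ B := ⟨l.2, by rw [h1]; exact B.inv_mem b.2⟩
    rw [hdis, Subgroup.mem_bot] at h2
    have h3 : (b : G) = 1 := by rw [h2, one_mul] at hlb; exact hlb
    exact Prod.ext (Subtype.ext h2) (Subtype.ext h3)
  have hfsurj : Function.Surjective f := by
    intro g
    have hg : g ∈ L ⊔ B := by rw [hsup]; exact Subgroup.mem_top g
    haveI := hB
    obtain ⟨l, hl, b, hb, rfl⟩ := Subgroup.mem_sup_of_normal_right.mp hg
    exact ⟨(⟨l, hl⟩, ⟨b, hb⟩), rfl⟩
  let e : L × B ≃* G := MulEquiv.ofBijective f ⟨hfinj, hfsurj⟩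
  -- commutative structure on B, shrunk to Type
  letI : CommGroup B :=
    { (inferInstance : Group B) with
      mul_comm := fun a b => Subtype.ext (hBcomm a a.2 b b.2) }
  let A := Shrink.{0} B
  have hAfin : Finite A := Finite.of_equiv B (equivShrink.{0} B)
  let φ : A ≃* B := Shrink.mulEquiv
  have hAodd : Odd (Nat.card A) := by
    rw [Nat.card_congr φ.toEquiv]
    by_contra hev
    rw [Nat.not_odd_iff_even] at hev
    obtain ⟨x, hx⟩ := exists_prime_orderOf_dvd_card' 2 (even_iff_two_dvd.mp hev)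
    have := hBodd (x : G) x.2
    rw [Subgroup.orderOf_coe, hx] at this
    exact absurd this (by decide)
  haveI := hchar
  refine ⟨F, iF, iFT, A, inferInstance, hAfin, hchar, hAodd, ⟨?_⟩⟩
  exact e.symm.trans (MulEquiv.prodCongr (eL.trans (pslEquivSL F)) φ.symm)

end Cfsg.Agent.Lib.Helper21.Suz
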