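import Mathlib
import Cfsg.Agent.Lib.Helper1.Frattini

set_option autoImplicit false

namespace Cfsg.Agent.Lib.Helper21

open Cfsg.Agent.Lib.Helper1

/-- An automorphism of prime order `q ≠ p` of a finite `p`-group `V` of exponent `p`
(commutative), acting nontrivially: `q ∣ p ^ i - 1` for some `1 ≤ i` with `p ^ i ∣ |V|`. -/
theorem exists_dvd_pow_sub_one_of_aut {p q : ℕ} [Fact p.Prime] [Fact q.Prime] (hqp : q ≠ p)
    {V : Type*} [Group V] [Finite V] (hV : IsPGroup p V) (φ : V →* V)
    (hφq : ∀ v, φ^[q] v = v) (hφ1 : ∃ v, φ v ≠ v) :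
    ∃ i : ℕ, 1 ≤ i ∧ p ^ i ∣ Nat.card V ∧ q ∣ p ^ i - 1 := by
  classical
  have hp : p.Prime := Fact.out
  have hq : q.Prime := Fact.out
  haveI : Fintype V := Fintype.ofFinite V
  let F : Subgroup V := φ.eqLocus (MonoidHom.id V)
  have hFmem : ∀ v, v ∈ F ↔ φ v = v := fun v => Iff.rfl
  have hFtop : F ≠ ⊤ := by
    intro h
    obtain ⟨v, hv⟩ := hφ1
    apply hv
    rw [← hFmem, h]; trivial
  obtain ⟨d', hd'⟩ := IsPGroup.iff_card.mp hV
  obtain ⟨c, hc⟩ := IsPGroup.iff_card.mp (hV.to_subgroup F)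
  have hcd : c < d' := by
    have h1 : Nat.card F < Nat.card V := by
      rcases lt_or_ge (Nat.card F) (Nat.card V) with h | h
      · exact h
      · exfalso
        exact hFtop (Subgroup.eq_top_of_le_card _ h)
    rw [hc, hd'] at h1
    exact (Nat.pow_lt_pow_iff_right hp.one_lt).mp h1
  -- counting fixed points
  let f : Function.End V := (φ : V → V)
  have hf : f ^ q ^ 1 = 1 := by
    rw [pow_one]
    have : ∀ n : ℕ, (f ^ n : Function.End V) = (φ : V → V)^[n] := by
      intro n
      induction n with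
      | zero => rfl
      | succ n ih =>
        rw [pow_succ', ih, Function.iterate_succ']
        rfl
    rw [this]
    funext v
    exact hφq v
  have hcount := Equiv.Perm.card_fixedPoints_modEq (f := f) hf
  have hfix : Fintype.card (Function.fixedPoints f) = Nat.card F := by
    rw [Nat.card_eq_fintype_card]
    apply Fintype.card_congr
    exact Equiv.subtypeEquivRight (fun v => Iff.rfl)
  rw [hfix, ← Nat.card_eq_fintype_card, hd', hc] at hcount
  refine ⟨d' - c, by omega, ?_, ?_⟩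
  · rw [hd']; exact pow_dvd_pow p (by omega)
  · have h1 : (q : ℕ) ∣ p ^ d' - p ^ c := (Nat.modEq_iff_dvd' (Nat.pow_le_pow_right hp.pos hcd.le)).mp hcount.symm
    have h2 : p ^ d' - p ^ c = p ^ c * (p ^ (d' - c) - 1) := by
      rw [Nat.mul_sub, mul_one, ← pow_add]
      congr 2
      omega
    rw [h2] at h1
    have hcop : Nat.Coprime q (p ^ c) := Nat.Coprime.pow_right _ ((Nat.coprime_primes hq hp).mpr hqp)
    exact hcop.dvd_of_dvd_mul_left h1

/-- an element outside a subgroup `C`, of minimal order among elements of `N` outside `C`, has prime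
power order `q ^ k` and `x ^ q ∈ C`. -/
theorem exists_prime_pow_order_not_mem {G : Type*} [Group G] [Finite G] (N C : Subgroup G)
    (hNC : ¬ N ≤ C) :
    ∃ (x : G) (q k : ℕ), q.Prime ∧ x ∈ N ∧ x ∉ C ∧ orderOf x = q ^ k ∧ x ^ q ∈ C := by
  classical
  have hex : ∃ n : ℕ, ∃ x : G, x ∈ N ∧ x ∉ C ∧ orderOf x = n := by
    obtain ⟨x, hxN, hxC⟩ := SetLike.not_le_iff_exists.mp hNC
    exact ⟨_, x, hxN, hxC, rfl⟩
  obtain ⟨x, hxN, hxC, hxo⟩ := Nat.find_spec hex
  have hmin : ∀ y : G, y ∈ N → y ∉ C → orderOf x ≤ orderOf y := by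
    intro y hyN hyC
    rw [hxo]
    exact Nat.find_min' hex ⟨y, hyN, hyC, rfl⟩
  have hx1 : orderOf x ≠ 1 := by
    intro h
    rw [orderOf_eq_one_iff] at h
    rw [h] at hxC
    exact hxC C.one_mem
  have hpowC : ∀ r : ℕ, r.Prime → r ∣ orderOf x → x ^ r ∈ C := by
    intro r hr hrd
    by_contra hnot
    have h1 := hmin (x ^ r) (N.pow_mem hxN r) hnot
    rw [orderOf_pow_of_dvd hr.ne_zero hrd] at h1
    have hpos := orderOf_pos x
    have := Nat.div_lt_self hpos hr.one_lt
    omega
  set q := Nat.minFac (orderOf x) with hq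
  have hqp : q.Prime := Nat.minFac_prime hx1
  have hqd : q ∣ orderOf x := Nat.minFac_dvd _
  -- only one prime divides the order
  have hunique : ∀ r : ℕ, r.Prime → r ∣ orderOf x → r = q := by
    intro r hr hrd
    by_contra hne
    have hcop : IsCoprime (r : ℤ) (q : ℤ) :=
      Nat.isCoprime_iff_coprime.mpr ((Nat.coprime_primes hr hqp).mpr hne)
    obtain ⟨a, b, hab⟩ := hcop
    apply hxC
    have : x = (x ^ r) ^ a * (x ^ q) ^ b := by
      rw [← zpow_natCast x r, ← zpow_natCast x q, ← zpow_mul, ← zpow_mul, ← zpow_add,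
        mul_comm (r : ℤ), mul_comm (q : ℤ), hab, zpow_one]
    rw [this]
    exact C.mul_mem (C.zpow_mem (hpowC r hr hrd) a) (C.zpow_mem (hpowC q hqp hqd) b)
  refine ⟨x, q, (orderOf x).factorization q, hqp, hxN, hxC, ?_, hpowC q hqp hqd⟩
  have hpos : orderOf x ≠ 0 := (orderOf_pos x).ne'
  apply Nat.eq_pow_of_factorization_eq_single hpos
  ext r
  by_cases hr : r = q
  · subst hr; simp
  · rw [Finsupp.single_apply, if_neg (Ne.symm hr)]
    by_contra hne
    have hrprime : r.Prime := Nat.prime_of_mem_primeFactors (Nat.support_factorization _ ▸ Finsupp.mem_support_iff.mpr hne)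
    have hrd : r ∣ orderOf x := Nat.dvd_of_factorization_pos hne
    exact hr (hunique r hrprime hrd)

/-- If `N_G(P) ≰ C_G(P)` for an abelian Sylow `p`-subgroup `P`, some prime `q ≠ p` dividing `|G|`
divides `p ^ i - 1` with `1 ≤ i ≤ rank P` and `p ^ i ∣ |P|`. -/
theorem exists_prime_of_not_normalizer_le_centralizer {G : Type*} [Group G] [Finite G] {p : ℕ}
    [Fact p.Prime] (P : Sylow p G) (hab : IsMulCommutative (P : Subgroup G))
    (hNC : ¬ Subgroup.normalizer ((P : Subgroup G) : Set G) ≤ Subgroup.centralizer ((P : Subgroup G) : Set G)) :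
    ∃ q i : ℕ, q.Prime ∧ q ≠ p ∧ q ∣ Nat.card G ∧ 1 ≤ i ∧ i ≤ Group.rank (P : Subgroup G) ∧
      p ^ i ∣ Nat.card (P : Subgroup G) ∧ q ∣ p ^ i - 1 := by
  classical
  have hp : p.Prime := Fact.out
  obtain ⟨x, q, k, hq, hxN, hxC, hxo, hxq⟩ := exists_prime_pow_order_not_mem _ _ hNC
  haveI : Fact q.Prime := ⟨hq⟩
  have hPC : (P : Subgroup G) ≤ Subgroup.centralizer ((P : Subgroup G) : Set G) := by
    intro a ha
    rw [Subgroup.mem_centralizer_iff]
    intro b hb
    exact congrArg Subtype.val (hab.is_comm.comm ⟨b, hb⟩ ⟨a, ha⟩)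
  -- `q ≠ p`
  have hqp : q ≠ p := by
    rintro rfl
    apply hxC
    apply hPC
    have hz : IsPGroup q (Subgroup.zpowers x) := IsPGroup.of_card (n := k) (by rw [Nat.card_zpowers, hxo])
    have hle : Subgroup.zpowers x ≤ Subgroup.normalizer ((P : Subgroup G) : Set G) := by
      rw [Subgroup.zpowers_le]; exact hxN
    have hsup : IsPGroup q ((Subgroup.zpowers x ⊔ (P : Subgroup G) : Subgroup G)) :=
      hz.to_sup_of_normal_right' P.2 hle
    have := P.3 hsup le_sup_right
    rw [← this]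
    exact le_sup_left (a := Subgroup.zpowers x) (Subgroup.mem_zpowers x)
  have hqG : q ∣ Nat.card G := by
    have h1 : orderOf x ∣ Nat.card G := orderOf_dvd_natCard x
    rw [hxo] at h1
    have hk : k ≠ 0 := by
      rintro rfl
      rw [pow_zero, orderOf_eq_one_iff] at hxo
      rw [hxo] at hxC
      exact hxC (Subgroup.one_mem _)
    exact (dvd_pow_self q hk).trans h1
  -- the action on `P / Φ(P)`
  set Φ' : Subgroup G := (frattini ↥(P : Subgroup G)).map (P : Subgroup G).subtype with hΦ'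
  have hxΦ : x ∈ Subgroup.normalizer (Φ' : Set G) :=
    normalizer_le_normalizer_map_of_characteristic _ _ hxN
  -- `x` does not act trivially modulo `Φ`
  have hnontriv : ∃ k0 ∈ (P : Subgroup G), x * k0 * x⁻¹ * k0⁻¹ ∉ Φ' := by
    by_contra hcon
    push Not at hcon
    apply hxC
    have hA : Subgroup.zpowers x ≤ Subgroup.centralizer ((P : Subgroup G) : Set G) := by
      apply le_centralizer_of_commutator_le_frattini (Subgroup.zpowers x) (P : Subgroup G)
      · rw [Subgroup.zpowers_le]; exact hxN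
      · rw [Nat.card_zpowers, hxo]
        obtain ⟨j, hj⟩ := IsPGroup.iff_card.mp (P.2.to_subgroup (frattini ↥(P : Subgroup G)))
        rw [hj]
        exact Nat.Coprime.pow _ _ ((Nat.coprime_primes hq hp).mpr hqp)
      · intro a ha
        rw [← mem_powers_iff_mem_zpowers] at ha
        obtain ⟨j, rfl⟩ := ha
        induction j with
        | zero =>
          intro b _
          simp only [pow_zero, one_mul, inv_one, mul_one, mul_inv_cancel]
          exact Subgroup.one_mem _
        | succ j ih =>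
          intro b hb
          have h1 := ih b hb
          have h2 := hcon b hb
          have h3 : x * (x ^ j * b * (x ^ j)⁻¹ * b⁻¹) * x⁻¹ ∈ Φ' :=
            (Subgroup.mem_normalizer_iff.mp hxΦ _).mp h1
          have e1 : x ^ (j + 1) * b * (x ^ (j + 1))⁻¹ * b⁻¹ =
              (x * (x ^ j * b * (x ^ j)⁻¹ * b⁻¹) * x⁻¹) * (x * b * x⁻¹ * b⁻¹) := by
            rw [pow_succ']; group
          rw [e1]
          exact Subgroup.mul_mem _ h3 h2
    exact hA (Subgroup.mem_zpowers x)
  obtain ⟨k0, hk0P, hk0⟩ := hnontriv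
  -- the induced automorphism of `V = P / Φ(P)`
  let φ : ↥(P : Subgroup G) ≃* ↥(P : Subgroup G) := conjNormalizer (P : Subgroup G) x hxN
  have hφ : ∀ a : ↥(P : Subgroup G), ((φ a : ↥(P : Subgroup G)) : G) = x * a * x⁻¹ := fun a => rfl
  have hchar : frattini ↥(P : Subgroup G) ≤ (frattini ↥(P : Subgroup G)).comap φ.toMonoidHom := by
    have := (Subgroup.characteristic_iff_comap_eq.mp (frattini_characteristic (G := ↥(P : Subgroup G)))) φ
    exact this.symm.le
  let φbar : (↥(P : Subgroup G) ⧸ frattini ↥(P : Subgroup G)) →* (↥(P : Subgroup G) ⧸ frattini ↥(P : Subgroup G)) :=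
    QuotientGroup.map _ _ φ.toMonoidHom hchar
  have hφbar : ∀ a : ↥(P : Subgroup G), φbar (QuotientGroup.mk a) = QuotientGroup.mk (φ a) := fun a => rfl
  have hVp : IsPGroup p (↥(P : Subgroup G) ⧸ frattini ↥(P : Subgroup G)) := P.2.to_quotient _
  have hiter1 : ∀ (n : ℕ) (a : ↥(P : Subgroup G)), (φbar^[n]) (QuotientGroup.mk a) =
      QuotientGroup.mk (φ^[n] a) := by
    intro n
    induction n with
    | zero => intro a; rfl
    | succ n ih =>
      intro a
      rw [Function.iterate_succ_apply', ih, hφbar, Function.iterate_succ_apply']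
  have hiter2 : ∀ (n : ℕ) (a : ↥(P : Subgroup G)), ((φ^[n] a : ↥(P : Subgroup G)) : G) =
      x ^ n * a * (x ^ n)⁻¹ := by
    intro n
    induction n with
    | zero => intro a; simp
    | succ n ih =>
      intro a
      rw [Function.iterate_succ_apply', hφ, ih, pow_succ']
      group
  have hφq : ∀ v, φbar^[q] v = v := by
    intro v
    obtain ⟨a, rfl⟩ := QuotientGroup.mk_surjective v
    rw [hiter1]
    congr 1
    apply Subtype.ext
    rw [hiter2]
    have := (Subgroup.mem_centralizer_iff.mp hxq) a a.2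
    rw [← this, mul_inv_cancel_right]
  have hφ1 : ∃ v, φbar v ≠ v := by
    refine ⟨QuotientGroup.mk ⟨k0, hk0P⟩, ?_⟩
    rw [hφbar]
    intro heq
    rw [QuotientGroup.eq] at heq
    apply hk0
    -- `(φ k0)⁻¹ * k0 ∈ Φ`, hence the commutator is in `Φ'`
    have h1 : (φ ⟨k0, hk0P⟩) * (⟨k0, hk0P⟩ : ↥(P : Subgroup G))⁻¹ ∈ frattini ↥(P : Subgroup G) := by
      have h2 := Subgroup.inv_mem _ heq
      have h3 := (inferInstance : (frattini ↥(P : Subgroup G)).Normal).conj_mem _ h2 (φ ⟨k0, hk0P⟩)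
      have e : (φ ⟨k0, hk0P⟩) * ((φ ⟨k0, hk0P⟩)⁻¹ * (⟨k0, hk0P⟩ : ↥(P : Subgroup G)))⁻¹ * (φ ⟨k0, hk0P⟩)⁻¹ =
          (φ ⟨k0, hk0P⟩) * (⟨k0, hk0P⟩ : ↥(P : Subgroup G))⁻¹ := by group
      rwa [e] at h3
    refine ⟨_, h1, ?_⟩
    simp only [Subgroup.subtype_apply, Subgroup.coe_mul, Subgroup.coe_inv, hφ]
  obtain ⟨i, hi1, hi2, hi3⟩ := exists_dvd_pow_sub_one_of_aut hqp hVp φbar hφq hφ1
  refine ⟨q, i, hq, hqp, hqG, hi1, ?_, ?_, hi3⟩
  · -- `i ≤ rank P`
    have hexp : ∀ v : ↥(P : Subgroup G) ⧸ frattini ↥(P : Subgroup G), v ^ p = 1 := by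
      intro v
      obtain ⟨a, rfl⟩ := QuotientGroup.mk_surjective v
      rw [← QuotientGroup.mk_pow, QuotientGroup.eq_one_iff]
      exact IsPGroup.pow_mem_frattini P.2 a
    have hcommV : ∀ u v : ↥(P : Subgroup G) ⧸ frattini ↥(P : Subgroup G), u * v = v * u := by
      intro u v
      obtain ⟨a, rfl⟩ := QuotientGroup.mk_surjective u
      obtain ⟨b, rfl⟩ := QuotientGroup.mk_surjective v
      rw [← QuotientGroup.mk_mul, ← QuotientGroup.mk_mul, hab.is_comm.comm a b]
    letI : CommGroup (↥(P : Subgroup G) ⧸ frattini ↥(P : Subgroup G)) :=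
      { (inferInstance : Group (↥(P : Subgroup G) ⧸ frattini ↥(P : Subgroup G))) with mul_comm := hcommV }
    have h1 : Nat.card (↥(P : Subgroup G) ⧸ frattini ↥(P : Subgroup G)) ∣
        p ^ Group.rank (↥(P : Subgroup G) ⧸ frattini ↥(P : Subgroup G)) :=
      card_dvd_exponent_pow_rank' _ hexp
    have h2 : Group.rank (↥(P : Subgroup G) ⧸ frattini ↥(P : Subgroup G)) ≤ Group.rank ↥(P : Subgroup G) :=
      Group.rank_le_of_surjective (QuotientGroup.mk' (frattini ↥(P : Subgroup G)))
        (QuotientGroup.mk'_surjective _)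
    have h3 := hi2.trans h1
    have h4 := (Nat.pow_dvd_pow_iff_le_right hp.one_lt).mp h3
    exact h4.trans h2
  · exact hi2.trans (Subgroup.card_quotient_dvd_card _)

end Cfsg.Agent.Lib.Helper21
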