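import Mathlib

/-!
# Derangement classes in affine-type permutation groups

Affine part of the "primitive groups with one / two classes of derangements" project:

* `derClasses_eq_one_of_sharp`: a sharply 2-transitive group has exactly one class of derangements;
* `sharp_of_derClasses_eq_one`: a group with a regular abelian normal subgroup and exactly one class
  of derangements is sharply 2-transitive;
* `affine_two_classes`: the dichotomy for two classes of derangements.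
-/

namespace Cfsg.Agent.Lib.Helper21.AffineDer

open MulAction

/-- the type of conjugacy classes of derangements, as it is written in the statements -/
abbrev DC (G : Type*) (Ω : Type*) [Group G] [MulAction G Ω] : Type _ :=
  {c : ConjClasses G // ∃ g : G, ConjClasses.mk g = c ∧ ∀ ω : Ω, g • ω ≠ ω}

section general

variable {G : Type*} [Group G] {Ω : Type*} [MulAction G Ω]

theorem inv_smul_of_smul {h : G} {a : Ω} (ha : h • a = a) : h⁻¹ • a = a :=
  inv_smul_eq_iff.mpr ha.symm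

/-- conjugates of derangements are derangements -/
theorem der_conj {d : G} (hd : ∀ ω : Ω, d • ω ≠ ω) (g : G) :
    ∀ ω : Ω, (g * d * g⁻¹) • ω ≠ ω := by
  intro ω h
  apply hd (g⁻¹ • ω)
  have h1 : g⁻¹ • ((g * d * g⁻¹) • ω) = g⁻¹ • ω := by rw [h]
  rw [mul_smul, mul_smul, inv_smul_smul] at h1
  exact h1

theorem der_of_isConj {d d' : G} (hd : ∀ ω : Ω, d • ω ≠ ω) (h : IsConj d d') :
    ∀ ω : Ω, d' • ω ≠ ω := by
  obtain ⟨c, rfl⟩ := isConj_iff.mp h
  exact der_conj hd c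

theorem isConj_of_card_one (h1 : Nat.card (DC G Ω) = 1) {d d' : G}
    (hd : ∀ ω : Ω, d • ω ≠ ω) (hd' : ∀ ω : Ω, d' • ω ≠ ω) : IsConj d d' := by
  have hsub : Subsingleton (DC G Ω) := (Nat.card_eq_one_iff_unique.mp h1).1
  have h := Subsingleton.elim (⟨ConjClasses.mk d, d, rfl, hd⟩ : DC G Ω)
    ⟨ConjClasses.mk d', d', rfl, hd'⟩
  exact ConjClasses.mk_eq_mk_iff_isConj.mp (congrArg Subtype.val h)

theorem card_one_of_isConj {d : G} (hd : ∀ ω : Ω, d • ω ≠ ω)
    (hall : ∀ d' : G, (∀ ω : Ω, d' • ω ≠ ω) → IsConj d d') : Nat.card (DC G Ω) = 1 := by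
  rw [Nat.card_eq_one_iff_unique]
  refine ⟨⟨?_⟩, ⟨⟨ConjClasses.mk d, d, rfl, hd⟩⟩⟩
  rintro ⟨_, x, rfl, hx⟩ ⟨_, y, rfl, hy⟩
  apply Subtype.ext
  exact ConjClasses.mk_eq_mk_iff_isConj.mpr ((hall x hx).symm.trans (hall y hy))

theorem two_classes (h2 : Nat.card (DC G Ω) = 2) :
    ∃ d₁ d₂ : G, (∀ ω : Ω, d₁ • ω ≠ ω) ∧ (∀ ω : Ω, d₂ • ω ≠ ω) ∧ ¬ IsConj d₁ d₂ ∧
      ∀ d : G, (∀ ω : Ω, d • ω ≠ ω) → IsConj d₁ d ∨ IsConj d₂ d := by
  obtain ⟨⟨_, d₁, rfl, hd₁⟩, ⟨_, d₂, rfl, hd₂⟩, hne, huniv⟩ := Nat.card_eq_two_iff.mp h2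
  refine ⟨d₁, d₂, hd₁, hd₂, ?_, ?_⟩
  · intro hc
    apply hne
    apply Subtype.ext
    exact ConjClasses.mk_eq_mk_iff_isConj.mpr hc
  · intro d hd
    have hmem : (⟨ConjClasses.mk d, d, rfl, hd⟩ : DC G Ω) ∈ (Set.univ : Set (DC G Ω)) :=
      Set.mem_univ _
    rw [← huniv] at hmem
    simp only [Set.mem_insert_iff, Set.mem_singleton_iff] at hmem
    rcases hmem with h | h
    · left
      exact (ConjClasses.mk_eq_mk_iff_isConj.mp (congrArg Subtype.val h)).symm
    · right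
      exact (ConjClasses.mk_eq_mk_iff_isConj.mp (congrArg Subtype.val h)).symm

/-- in a group where nonidentity elements fix at most one point, conjugation of a
point-moving element by the point stabilizer is injective -/
theorem ncard_conj_image
    (hs : ∀ g : G, g ≠ 1 → ∀ a b : Ω, a ≠ b → g • a = a → g • b ≠ b)
    (α : Ω) {d : G} (hd : d • α ≠ α) :
    ((fun h : G => h * d * h⁻¹) '' (MulAction.stabilizer G α : Set G)).ncard =
      Nat.card (MulAction.stabilizer G α) := by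
  rw [Set.InjOn.ncard_image]
  · rw [← Nat.card_coe_set_eq]
    rfl
  · intro h hh h' hh' heq
    have hh1 : h • α = α := hh
    have hh'1 : h' • α = α := hh'
    have heq' : h * d * h⁻¹ = h' * d * h'⁻¹ := heq
    by_contra hne
    obtain ⟨k, hk⟩ : ∃ k : G, k = h'⁻¹ * h := ⟨_, rfl⟩
    have hk1 : k ≠ 1 := by
      intro hk1
      rw [hk, inv_mul_eq_one] at hk1
      exact hne hk1.symm
    have hkα : k • α = α := by
      rw [hk, mul_smul, hh1, inv_smul_of_smul hh'1]
    have hkd : k * d = d * k := by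
      calc k * d = h'⁻¹ * (h * d * h⁻¹) * h := by rw [hk]; group
        _ = h'⁻¹ * (h' * d * h'⁻¹) * h := by rw [heq']
        _ = d * k := by rw [hk]; group
    have hkdα : k • (d • α) = d • α := by
      rw [← mul_smul, hkd, mul_smul, hkα]
    exact hs k hk1 α (d • α) (Ne.symm hd) hkα hkdα

end general

section regular

variable {G : Type*} [Group G] {Ω : Type*} [MulAction G Ω] (N : Subgroup G)

/-- nonidentity elements of a semiregular subgroup are derangements -/
theorem N_der (hreg : ∀ ω : Ω, MulAction.stabilizer N ω = ⊥) {n : G} (hn : n ∈ N) (hn1 : n ≠ 1)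
    (ω : Ω) : n • ω ≠ ω := by
  intro h
  have hmem : (⟨n, hn⟩ : N) ∈ MulAction.stabilizer N ω := by
    rw [MulAction.mem_stabilizer_iff]
    exact h
  rw [hreg ω, Subgroup.mem_bot] at hmem
  exact hn1 (congrArg Subtype.val hmem)

theorem N_reg_eq (hreg : ∀ ω : Ω, MulAction.stabilizer N ω = ⊥) {x y : G} (hx : x ∈ N)
    (hy : y ∈ N) (a : Ω) (h : x • a = y • a) : x = y := by
  by_contra hne
  have h1 : y⁻¹ * x ≠ 1 := fun h1 => hne (inv_mul_eq_one.mp h1).symm
  apply N_der N hreg (N.mul_mem (N.inv_mem hy) hx) h1 a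
  rw [mul_smul, h, inv_smul_smul]

theorem exists_N_smul (htr : MulAction.IsPretransitive N Ω) (a b : Ω) :
    ∃ n ∈ N, n • a = b := by
  obtain ⟨n, hn⟩ := htr.exists_smul_eq a b
  exact ⟨n, n.2, hn⟩

/-- `G = N G_a` -/
theorem exists_factor (htr : MulAction.IsPretransitive N Ω) (g : G) (a : Ω) :
    ∃ m ∈ N, ∃ h : G, h • a = a ∧ g = m * h := by
  obtain ⟨m, hm, hma⟩ := exists_N_smul N htr a (g • a)
  refine ⟨m, hm, m⁻¹ * g, ?_, by group⟩
  rw [mul_smul, ← hma, inv_smul_smul]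

/-- conjugation of an element of the abelian normal transitive `N` by `g` can be realized
by an element of the point stabilizer. -/
theorem conj_eq_stab_conj [hNn : N.Normal] (hab : IsMulCommutative N)
    (htr : MulAction.IsPretransitive N Ω) {n : G} (hn : n ∈ N) (g : G) (a : Ω) :
    ∃ h : G, h • a = a ∧ g * n * g⁻¹ = h * n * h⁻¹ := by
  obtain ⟨m, hm, h, hha, rfl⟩ := exists_factor N htr g a
  refine ⟨h, hha, ?_⟩
  have hc : h * n * h⁻¹ ∈ N := hNn.conj_mem n hn h
  have hcomm : m * (h * n * h⁻¹) = (h * n * h⁻¹) * m :=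
    congrArg Subtype.val (hab.is_comm.comm ⟨m, hm⟩ ⟨_, hc⟩)
  calc m * h * n * (m * h)⁻¹ = m * (h * n * h⁻¹) * m⁻¹ := by group
    _ = (h * n * h⁻¹) * m * m⁻¹ := by rw [hcomm]
    _ = h * n * h⁻¹ := by group

/-- KEY: a nonidentity element with two fixed points yields a derangement outside `N`. -/
theorem exists_der_not_mem [Finite G] [hNn : N.Normal] (htr : MulAction.IsPretransitive N Ω)
    (hreg : ∀ ω : Ω, MulAction.stabilizer N ω = ⊥) {g : G} (hg : g ≠ 1) {a b : Ω}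
    (hab' : a ≠ b) (ha : g • a = a) (hb : g • b = b) :
    ∃ d : G, (∀ ω : Ω, d • ω ≠ ω) ∧ d ∉ N := by
  classical
  obtain ⟨n₀, hn₀, hn₀a⟩ := exists_N_smul N htr a b
  have hn₀1 : n₀ ≠ 1 := by
    rintro rfl
    rw [one_smul] at hn₀a
    exact hab' hn₀a
  have hga : g⁻¹ • a = a := inv_smul_of_smul ha
  have hnorm : ∀ y : N, (y : G) * (g * y * g⁻¹)⁻¹ ∈ N := fun y =>
    N.mul_mem y.2 (N.inv_mem (hNn.conj_mem y y.2 g))
  obtain ⟨f, hf⟩ : ∃ f : N → N, ∀ y : N, ((f y : N) : G) = (y : G) * (g * y * g⁻¹)⁻¹ :=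
    ⟨fun y => ⟨(y : G) * (g * y * g⁻¹)⁻¹, hnorm y⟩, fun y => rfl⟩
  have hconj : g * n₀ * g⁻¹ = n₀ := by
    apply N_reg_eq N hreg (hNn.conj_mem n₀ hn₀ g) hn₀ a
    rw [mul_smul, mul_smul, hga, hn₀a, hb]
  have hninj : ¬ Function.Injective f := by
    intro hinj
    have h1 : f ⟨n₀, hn₀⟩ = f 1 := by
      apply Subtype.ext
      rw [hf, hf]
      show n₀ * (g * n₀ * g⁻¹)⁻¹ = ((1 : N) : G) * (g * ((1 : N) : G) * g⁻¹)⁻¹
      rw [hconj, Subgroup.coe_one]
      group
    have h2 := hinj h1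
    exact hn₀1 (congrArg Subtype.val h2)
  have hnsurj : ¬ Function.Surjective f := fun hs =>
    hninj (Finite.injective_iff_surjective.mpr hs)
  rw [Function.Surjective] at hnsurj
  push_neg at hnsurj
  obtain ⟨x, hx⟩ := hnsurj
  refine ⟨x * g, ?_, ?_⟩
  · intro ω hω
    obtain ⟨y, hy, rfl⟩ := exists_N_smul N htr a ω
    apply hx ⟨y, hy⟩
    apply Subtype.ext
    rw [hf]
    show y * (g * y * g⁻¹)⁻¹ = x
    have h1 : ((x : G) * (g * y * g⁻¹)) • a = y • a := by
      calc ((x : G) * (g * y * g⁻¹)) • a = ((x : G) * g) • y • (g⁻¹ • a) := by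
            simp only [mul_smul]
        _ = ((x : G) * g) • y • a := by rw [hga]
        _ = y • a := hω
    have h2 : (x : G) * (g * y * g⁻¹) = y :=
      N_reg_eq N hreg (N.mul_mem x.2 (hNn.conj_mem y hy g)) hy a h1
    have h3 : (x : G) = y * (g * y * g⁻¹)⁻¹ := by
      rw [eq_mul_inv_iff_mul_eq]
      exact h2
    exact h3.symm
  · intro hmem
    have hgN : g ∈ N := by
      have h1 := N.mul_mem (N.inv_mem x.2) hmem
      rwa [inv_mul_cancel_left] at h1
    exact N_der N hreg hgN hg a ha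

/-- if all nonidentity elements of `N` are conjugate, point stabilizers are transitive
on the remaining points -/
theorem stab_trans_of_conj [hNn : N.Normal] (hab : IsMulCommutative N)
    (htr : MulAction.IsPretransitive N Ω)
    (hconj : ∀ n ∈ N, n ≠ 1 → ∀ n' ∈ N, n' ≠ 1 → IsConj n n') (a b c : Ω) (hb : b ≠ a)
    (hc : c ≠ a) : ∃ h : G, h • a = a ∧ h • b = c := by
  obtain ⟨n, hn, hna⟩ := exists_N_smul N htr a b
  obtain ⟨n', hn', hn'a⟩ := exists_N_smul N htr a c
  have hn1 : n ≠ 1 := by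
    rintro rfl
    rw [one_smul] at hna
    exact hb hna.symm
  have hn'1 : n' ≠ 1 := by
    rintro rfl
    rw [one_smul] at hn'a
    exact hc hn'a.symm
  obtain ⟨g, hg⟩ := isConj_iff.mp (hconj n hn hn1 n' hn' hn'1)
  obtain ⟨h, hha, hh⟩ := conj_eq_stab_conj N hab htr hn g a
  refine ⟨h, hha, ?_⟩
  have hha' : h⁻¹ • a = a := inv_smul_of_smul hha
  calc h • b = h • n • a := by rw [hna]
    _ = (h * n * h⁻¹) • a := by rw [mul_smul, mul_smul, hha']
    _ = n' • a := by rw [← hh, hg]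
    _ = c := hn'a

theorem two_trans_of_conj [hNn : N.Normal] (hab : IsMulCommutative N)
    (htr : MulAction.IsPretransitive N Ω)
    (hconj : ∀ n ∈ N, n ≠ 1 → ∀ n' ∈ N, n' ≠ 1 → IsConj n n') :
    MulAction.IsMultiplyPretransitive G Ω 2 := by
  rw [MulAction.is_two_pretransitive_iff]
  intro a b c d hab' hcd
  obtain ⟨m, hm, hma⟩ := exists_N_smul N htr a c
  have hmb : m • b ≠ c := by
    intro h
    rw [← hma] at h
    exact hab' (MulAction.injective m h).symm
  obtain ⟨h, hhc, hh⟩ := stab_trans_of_conj N hab htr hconj c (m • b) d hmb (Ne.symm hcd)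
  refine ⟨h * m, ?_, ?_⟩
  · rw [mul_smul, hma, hhc]
  · rw [mul_smul, hh]

theorem card_N_eq [Fintype Ω] (htr : MulAction.IsPretransitive N Ω)
    (hreg : ∀ ω : Ω, MulAction.stabilizer N ω = ⊥) (α : Ω) : Nat.card N = Fintype.card Ω := by
  rw [← Nat.card_eq_fintype_card]
  apply Nat.card_congr
  exact Equiv.ofBijective (fun n : N => (n : G) • α)
    ⟨fun x y h => Subtype.ext (N_reg_eq N hreg x.2 y.2 α h), fun ω => by
      obtain ⟨n, hn, h⟩ := exists_N_smul N htr α ω
      exact ⟨⟨n, hn⟩, h⟩⟩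

end regular

section main

variable {G : Type*} [Group G] [Finite G] {Ω : Type*} [Fintype Ω] [MulAction G Ω]

/-- (A) a sharply 2-transitive group has exactly one class of derangements -/
theorem derClasses_eq_one_of_sharp (hΩ : 2 ≤ Fintype.card Ω)
    (h2 : MulAction.IsMultiplyPretransitive G Ω 2)
    (hs : ∀ g : G, g ≠ 1 → ∀ a b : Ω, a ≠ b → g • a = a → g • b ≠ b) :
    Nat.card {c : ConjClasses G // ∃ g : G, ConjClasses.mk g = c ∧ ∀ ω : Ω, g • ω ≠ ω} = 1 := by
  classical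
  haveI : Fintype G := Fintype.ofFinite G
  haveI : MulAction.IsPretransitive G Ω := MulAction.isPretransitive_of_is_two_pretransitive
  obtain ⟨a⟩ : Nonempty Ω := Fintype.card_pos_iff.mp (by omega)
  -- Burnside
  have hB := MulAction.sum_card_fixedBy_eq_card_orbits_mul_card_group G Ω
  have hsubs : Subsingleton (Quotient (MulAction.orbitRel G Ω)) :=
    (MulAction.pretransitive_iff_subsingleton_quotient G Ω).mp inferInstance
  have hne : Nonempty (Quotient (MulAction.orbitRel G Ω)) := ⟨Quotient.mk _ a⟩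
  have hq1 : Fintype.card (Quotient (MulAction.orbitRel G Ω)) = 1 :=
    le_antisymm (Fintype.card_le_one_iff_subsingleton.mpr hsubs) Fintype.card_pos
  rw [hq1, one_mul] at hB
  have hB' : ∑ g : G, Nat.card (MulAction.fixedBy Ω g) = Fintype.card G := by
    rw [← hB]
    exact Finset.sum_congr rfl (fun g _ => Nat.card_eq_fintype_card)
  have hid : ∀ g : G, Nat.card (MulAction.fixedBy Ω g) +
      (if (∀ ω : Ω, g • ω ≠ ω) then 1 else 0) =
      1 + (if g = 1 then Fintype.card Ω - 1 else 0) := by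
    intro g
    by_cases hg : g = 1
    · subst hg
      have h1 : Nat.card (MulAction.fixedBy Ω (1 : G)) = Fintype.card Ω := by
        rw [← Nat.card_eq_fintype_card]
        exact Nat.card_congr (Equiv.subtypeUnivEquiv (fun x => one_smul G x))
      have h2 : ¬ (∀ ω : Ω, (1 : G) • ω ≠ ω) := fun h => h a (one_smul G a)
      rw [h1, if_neg h2, if_pos rfl]
      omega
    · rw [if_neg hg]
      by_cases hd : ∀ ω : Ω, g • ω ≠ ω
      · rw [if_pos hd]
        have h0 : Nat.card (MulAction.fixedBy Ω g) = 0 :=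
          Nat.card_eq_zero.mpr (Or.inl ⟨fun x => hd x.1 x.2⟩)
        omega
      · rw [if_neg hd]
        push_neg at hd
        obtain ⟨ω, hω⟩ := hd
        have h1 : Nat.card (MulAction.fixedBy Ω g) = 1 := by
          rw [Nat.card_eq_one_iff_unique]
          refine ⟨⟨fun x y => ?_⟩, ⟨⟨ω, hω⟩⟩⟩
          by_contra hxy
          exact hs g hg x.1 y.1 (fun h => hxy (Subtype.ext h)) x.2 y.2
        omega
  have hsum : ∑ g : G, (Nat.card (MulAction.fixedBy Ω g) +
      (if (∀ ω : Ω, g • ω ≠ ω) then 1 else 0)) =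
      ∑ g : G, (1 + (if g = 1 then Fintype.card Ω - 1 else 0)) :=
    Finset.sum_congr rfl (fun g _ => hid g)
  have hDer : Nat.card {g : G // ∀ ω : Ω, g • ω ≠ ω} = Fintype.card Ω - 1 := by
    have e1 : ∑ g : G, (if (∀ ω : Ω, g • ω ≠ ω) then 1 else 0) =
        Fintype.card {g : G // ∀ ω : Ω, g • ω ≠ ω} := by
      rw [Fintype.card_subtype, Finset.sum_boole]
      simp
    have e2 : ∑ g : G, (if g = 1 then Fintype.card Ω - 1 else 0) = Fintype.card Ω - 1 := by
      rw [Finset.sum_ite_eq']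
      simp
    have e3 : ∑ _g : G, 1 = Fintype.card G := by simp
    rw [Finset.sum_add_distrib, Finset.sum_add_distrib, hB', e1, e2, e3] at hsum
    rw [Nat.card_eq_fintype_card]
    omega
  have hpos : 0 < Nat.card {g : G // ∀ ω : Ω, g • ω ≠ ω} := by omega
  obtain ⟨⟨d, hd⟩⟩ := (Nat.card_pos_iff.mp hpos).1
  have hex : ∀ b : {b : Ω // b ≠ a}, ∃ h : G, h • a = a ∧ h • (d • a) = b.1 := fun b =>
    (MulAction.is_two_pretransitive_iff.mp h2) (Ne.symm (hd a)) (Ne.symm b.2)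
  choose H hH1 hH2 using hex
  obtain ⟨Φ, hΦ⟩ : ∃ Φ : {b : Ω // b ≠ a} → {g : G // ∀ ω : Ω, g • ω ≠ ω},
      ∀ b, (Φ b).1 = H b * d * (H b)⁻¹ :=
    ⟨fun b => ⟨H b * d * (H b)⁻¹, der_conj hd (H b)⟩, fun b => rfl⟩
  have hΦa : ∀ b, (Φ b).1 • a = b.1 := by
    intro b
    rw [hΦ, mul_smul, mul_smul, inv_smul_of_smul (hH1 b), hH2 b]
  have hΦinj : Function.Injective Φ := by
    intro b b' h
    apply Subtype.ext
    rw [← hΦa b, ← hΦa b', h]
  have hcardeq : Nat.card {b : Ω // b ≠ a} = Nat.card {g : G // ∀ ω : Ω, g • ω ≠ ω} := by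
    rw [hDer, Nat.card_eq_fintype_card]
    simp [Fintype.card_subtype, Finset.filter_ne']
  have hΦsurj : Function.Surjective Φ :=
    (Function.Injective.bijective_of_nat_card_le hΦinj hcardeq.ge).2
  refine card_one_of_isConj (G := G) (Ω := Ω) hd ?_
  intro d' hd'
  obtain ⟨b, hb⟩ := hΦsurj ⟨d', hd'⟩
  have h1 : H b * d * (H b)⁻¹ = d' := by
    rw [← hΦ b, hb]
  exact isConj_iff.mpr ⟨H b, h1⟩

/-- (B) one class of derangements + regular abelian normal subgroup ⇒ sharply 2-transitive -/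
theorem sharp_of_derClasses_eq_one (N : Subgroup G) [N.Normal] (hN : N ≠ ⊥)
    (hab : IsMulCommutative N) (htr : MulAction.IsPretransitive N Ω)
    (hreg : ∀ ω : Ω, MulAction.stabilizer N ω = ⊥)
    (h1 : Nat.card {c : ConjClasses G // ∃ g : G, ConjClasses.mk g = c ∧ ∀ ω : Ω, g • ω ≠ ω} = 1) :
    MulAction.IsMultiplyPretransitive G Ω 2 ∧
      ∀ g : G, g ≠ 1 → ∀ a b : Ω, a ≠ b → g • a = a → g • b ≠ b := by
  obtain ⟨⟨n₀, hn₀⟩, hn₀1'⟩ := Subgroup.ne_bot_iff_exists_ne_one.mp hN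
  have hn₀1 : n₀ ≠ 1 := fun h => hn₀1' (Subtype.ext h)
  have hn₀d : ∀ ω : Ω, n₀ • ω ≠ ω := N_der N hreg hn₀ hn₀1
  have hallN : ∀ d : G, (∀ ω : Ω, d • ω ≠ ω) → d ∈ N := by
    intro d hd
    obtain ⟨c, rfl⟩ := isConj_iff.mp (isConj_of_card_one (G := G) (Ω := Ω) h1 hn₀d hd)
    exact ‹N.Normal›.conj_mem n₀ hn₀ c
  have hconj : ∀ n ∈ N, n ≠ 1 → ∀ n' ∈ N, n' ≠ 1 → IsConj n n' := by
    intro n hn hn1 n' hn' hn'1
    exact isConj_of_card_one (G := G) (Ω := Ω) h1 (N_der N hreg hn hn1) (N_der N hreg hn' hn'1)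
  refine ⟨two_trans_of_conj N hab htr hconj, ?_⟩
  intro g hg a b hab' ha hb
  obtain ⟨d, hd, hdN⟩ := exists_der_not_mem N htr hreg hg hab' ha hb
  exact hdN (hallN d hd)

/-- (C) two classes of derangements + regular abelian normal subgroup -/
theorem affine_two_classes (N : Subgroup G) [N.Normal] (hN : N ≠ ⊥)
    (hab : IsMulCommutative N) (htr : MulAction.IsPretransitive N Ω)
    (hreg : ∀ ω : Ω, MulAction.stabilizer N ω = ⊥)
    (h2 : Nat.card {c : ConjClasses G // ∃ g : G, ConjClasses.mk g = c ∧ ∀ ω : Ω, g • ω ≠ ω} = 2)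
    (α : Ω) :
    ((∀ g : G, g ≠ 1 → Nat.card (MulAction.fixedBy Ω g) ≤ 1) ∧ ¬ 2 ∣ Fintype.card Ω ∧
        2 * Nat.card (MulAction.stabilizer G α) = Fintype.card Ω - 1) ∨
      (MulAction.IsMultiplyPretransitive G Ω 2 ∧
        ∃ g : G, g ≠ 1 ∧ 2 ≤ Nat.card (MulAction.fixedBy Ω g)) := by
  classical
  obtain ⟨d₁, d₂, hd₁, hd₂, hnc, hall⟩ := two_classes (G := G) (Ω := Ω) h2
  obtain ⟨⟨n₀, hn₀⟩, hn₀1'⟩ := Subgroup.ne_bot_iff_exists_ne_one.mp hN
  have hn₀1 : n₀ ≠ 1 := fun h => hn₀1' (Subtype.ext h)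
  have hn₀α : n₀ • α ≠ α := N_der N hreg hn₀ hn₀1 α
  have hΩ : 2 ≤ Fintype.card Ω :=
    Fintype.one_lt_card_iff_nontrivial.mpr ⟨⟨n₀ • α, α, hn₀α⟩⟩
  by_cases hcase : ∃ d₀ : G, (∀ ω : Ω, d₀ • ω ≠ ω) ∧ d₀ ∉ N
  · right
    obtain ⟨d₀, hd₀, hd₀N⟩ := hcase
    have hnot : ∀ n ∈ N, ¬ IsConj n d₀ := by
      intro n hn hc
      obtain ⟨c, rfl⟩ := isConj_iff.mp hc
      exact hd₀N (‹N.Normal›.conj_mem n hn c)
    have hconj : ∀ n ∈ N, n ≠ 1 → ∀ n' ∈ N, n' ≠ 1 → IsConj n n' := by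
      intro n hn hn1 n' hn' hn'1
      have hdn := N_der (Ω := Ω) N hreg hn hn1
      have hdn' := N_der (Ω := Ω) N hreg hn' hn'1
      rcases hall d₀ hd₀ with h0 | h0
      · have e1 : IsConj d₂ n :=
          (hall n hdn).resolve_left (fun h => hnot n hn (h.symm.trans h0))
        have e2 : IsConj d₂ n' :=
          (hall n' hdn').resolve_left (fun h => hnot n' hn' (h.symm.trans h0))
        exact e1.symm.trans e2
      · have e1 : IsConj d₁ n :=
          (hall n hdn).resolve_right (fun h => hnot n hn (h.symm.trans h0))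
        have e2 : IsConj d₁ n' :=
          (hall n' hdn').resolve_right (fun h => hnot n' hn' (h.symm.trans h0))
        exact e1.symm.trans e2
    have h2t : MulAction.IsMultiplyPretransitive G Ω 2 := two_trans_of_conj N hab htr hconj
    refine ⟨h2t, ?_⟩
    by_contra hno
    push_neg at hno
    have hs : ∀ g : G, g ≠ 1 → ∀ a b : Ω, a ≠ b → g • a = a → g • b ≠ b := by
      intro g hg a b hab' ha hb
      have h2le : 1 < Nat.card (MulAction.fixedBy Ω g) := by
        have hnt : Nontrivial (MulAction.fixedBy Ω g) :=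
          ⟨⟨⟨a, ha⟩, ⟨b, hb⟩, fun h => hab' (congrArg Subtype.val h)⟩⟩
        exact Finite.one_lt_card_iff_nontrivial.mpr hnt
      have := hno g hg
      omega
    have hone := derClasses_eq_one_of_sharp hΩ h2t hs
    exact absurd (hone.symm.trans h2) (by norm_num)
  · left
    push_neg at hcase
    have hs : ∀ g : G, g ≠ 1 → ∀ a b : Ω, a ≠ b → g • a = a → g • b ≠ b := by
      intro g hg a b hab' ha hb
      obtain ⟨d, hd, hdN⟩ := exists_der_not_mem N htr hreg hg hab' ha hb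
      exact hdN (hcase d hd)
    have hle : ∀ g : G, g ≠ 1 → Nat.card (MulAction.fixedBy Ω g) ≤ 1 := by
      intro g hg
      rw [Finite.card_le_one_iff_subsingleton]
      refine ⟨fun x y => ?_⟩
      by_contra hxy
      exact hs g hg x.1 y.1 (fun h => hxy (Subtype.ext h)) x.2 y.2
    have hd₁N : d₁ ∈ N := hcase d₁ hd₁
    have hd₂N : d₂ ∈ N := hcase d₂ hd₂
    have hne1 : ∀ d : G, (∀ ω : Ω, d • ω ≠ ω) → ∀ h : G, h * d * h⁻¹ ≠ 1 := by
      intro d hd h h1
      rw [conj_eq_one_iff] at h1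
      exact hd α (by rw [h1, one_smul])
    have hu : ((fun h : G => h * d₁ * h⁻¹) '' (MulAction.stabilizer G α : Set G)) ∪
        ((fun h : G => h * d₂ * h⁻¹) '' (MulAction.stabilizer G α : Set G)) =
        (N : Set G) \ {1} := by
      ext x
      constructor
      · rintro (⟨h, -, rfl⟩ | ⟨h, -, rfl⟩)
        · exact ⟨‹N.Normal›.conj_mem d₁ hd₁N h, hne1 d₁ hd₁ h⟩
        · exact ⟨‹N.Normal›.conj_mem d₂ hd₂N h, hne1 d₂ hd₂ h⟩
      · rintro ⟨hxN, hx1⟩
        have hx1' : x ≠ 1 := hx1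
        have hxd := N_der (Ω := Ω) N hreg hxN hx1'
        rcases hall x hxd with hc | hc
        · left
          obtain ⟨g, hg⟩ := isConj_iff.mp hc
          obtain ⟨h, hha, hh⟩ := conj_eq_stab_conj N hab htr hd₁N g α
          exact ⟨h, hha, by rw [← hg, hh]⟩
        · right
          obtain ⟨g, hg⟩ := isConj_iff.mp hc
          obtain ⟨h, hha, hh⟩ := conj_eq_stab_conj N hab htr hd₂N g α
          exact ⟨h, hha, by rw [← hg, hh]⟩
    have hdisj : Disjoint ((fun h : G => h * d₁ * h⁻¹) '' (MulAction.stabilizer G α : Set G))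
        ((fun h : G => h * d₂ * h⁻¹) '' (MulAction.stabilizer G α : Set G)) := by
      rw [Set.disjoint_left]
      rintro x ⟨h, -, rfl⟩ ⟨h', -, heq⟩
      have heq' : h' * d₂ * h'⁻¹ = h * d₁ * h⁻¹ := heq
      apply hnc
      rw [isConj_iff]
      refine ⟨h'⁻¹ * h, ?_⟩
      calc h'⁻¹ * h * d₁ * (h'⁻¹ * h)⁻¹ = h'⁻¹ * (h * d₁ * h⁻¹) * h' := by group
        _ = h'⁻¹ * (h' * d₂ * h'⁻¹) * h' := by rw [heq']
        _ = d₂ := by group
    have c1 := ncard_conj_image hs α (hd₁ α)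
    have c2 := ncard_conj_image hs α (hd₂ α)
    have hN1 : ((N : Set G) \ {1}).ncard = Fintype.card Ω - 1 := by
      rw [Set.ncard_sdiff_singleton_of_mem (show (1 : G) ∈ (N : Set G) from N.one_mem),
        ← Nat.card_coe_set_eq]
      have hc : Nat.card (↥(N : Set G)) = Fintype.card Ω := card_N_eq N htr hreg α
      rw [hc]
    have hcount : 2 * Nat.card (MulAction.stabilizer G α) = Fintype.card Ω - 1 := by
      rw [← hN1, ← hu, Set.ncard_union_eq hdisj (Set.toFinite _) (Set.toFinite _), c1, c2]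
      ring
    refine ⟨hle, ?_, hcount⟩
    omega

end main

end Cfsg.Agent.Lib.Helper21.AffineDer
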