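import Mathlib

/-!
# Order and element orders of the alternating group `A_n`

* `two_mul_card_alt`: `2 * |A_n| = n!`.
* `prime_dvd_card_alt`, `prime_sq_not_dvd_card_alt`: a prime `3 ≤ p ≤ n < 2p` divides `|A_n|` exactly once.
* `no_order_pq`: for distinct primes `p, q` with `n < p + q`, no element of `A_n` has order `p * q`.
-/

namespace Cfsg.Agent.Lib.Helper21.AltSpec

open Equiv

theorem two_mul_card_alt (n : ℕ) (hn : 2 ≤ n) :
    2 * Nat.card ↥(alternatingGroup (Fin n)) = n.factorial := by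
  haveI : Nontrivial (Fin n) := Fin.nontrivial_iff_two_le.mpr hn
  rw [two_mul_nat_card_alternatingGroup, Nat.card_eq_fintype_card, Fintype.card_perm,
    Fintype.card_fin]

theorem prime_dvd_card_alt {n p : ℕ} (hp : p.Prime) (h3 : 3 ≤ p) (hpn : p ≤ n) :
    p ∣ Nat.card ↥(alternatingGroup (Fin n)) := by
  have h := two_mul_card_alt n (by omega)
  have hd : p ∣ 2 * Nat.card ↥(alternatingGroup (Fin n)) := by
    rw [h]; exact (Nat.Prime.dvd_factorial hp).2 hpn
  rcases (Nat.Prime.dvd_mul hp).1 hd with h2 | h2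
  · have := Nat.le_of_dvd (by norm_num) h2; omega
  · exact h2

theorem prime_sq_not_dvd_card_alt {n p : ℕ} (hp : p.Prime) (h3 : 3 ≤ p) (hpn : p ≤ n)
    (hnp : n < 2 * p) : ¬ p ^ 2 ∣ Nat.card ↥(alternatingGroup (Fin n)) := by
  intro hd
  have h := two_mul_card_alt n (by omega)
  have hd2 : p ^ 2 ∣ n.factorial := by rw [← h]; exact Dvd.dvd.mul_left hd 2
  have hlog : Nat.log p n < 2 := by
    apply Nat.log_lt_of_lt_pow (by omega)
    nlinarith
  rw [Nat.Prime.pow_dvd_factorial_iff hp hlog] at hd2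
  have hsum : ∑ i ∈ Finset.Ico 1 2, n / p ^ i = n / p := by simp
  rw [hsum] at hd2
  have : n / p < 2 := Nat.div_lt_of_lt_mul (by omega)
  omega

theorem no_order_pq_perm {n p q : ℕ} (hp : p.Prime) (hq : q.Prime) (hpq : p ≠ q) (hsum : n < p + q)
    (σ : Perm (Fin n)) : orderOf σ ≠ p * q := by
  intro ho
  have hcop : Nat.Coprime p q := (Nat.coprime_primes hp hq).2 hpq
  -- a cycle length divisible by a prime divisor of the order
  have hex : ∀ r s : ℕ, r.Prime → orderOf σ = r * s → 0 < s → ∃ a ∈ σ.cycleType, r ∣ a := by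
    intro r s hr hrs hs
    by_contra hcon
    push Not at hcon
    have hdvd : σ.cycleType.lcm ∣ s := by
      rw [Multiset.lcm_dvd]
      intro b hb
      have hb1 : b ∣ r * s := hrs ▸ Equiv.Perm.dvd_of_mem_cycleType hb
      have hco : Nat.Coprime b r := ((Nat.Prime.coprime_iff_not_dvd hr).2 (hcon b hb)).symm
      exact Nat.Coprime.dvd_of_dvd_mul_left hco hb1
    rw [Equiv.Perm.lcm_cycleType, hrs] at hdvd
    have h1 := Nat.le_of_dvd hs hdvd
    have h2 := hr.two_le
    nlinarith
  obtain ⟨a, ha, hpa⟩ := hex p q hp ho hq.pos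
  obtain ⟨a', ha', hqa'⟩ := hex q p hq (by rw [ho, mul_comm]) hp.pos
  have hle : σ.cycleType.sum ≤ n := by
    have := Equiv.Perm.sum_cycleType_le σ
    rwa [Fintype.card_fin] at this
  have hapos : 0 < a := by have := Equiv.Perm.two_le_of_mem_cycleType ha; omega
  have ha'pos : 0 < a' := by have := Equiv.Perm.two_le_of_mem_cycleType ha'; omega
  have hpa_le : p ≤ a := Nat.le_of_dvd hapos hpa
  have hqa'_le : q ≤ a' := Nat.le_of_dvd ha'pos hqa'
  by_cases haa : a' = a
  · subst haa
    have hpq_dvd : p * q ∣ a' := Nat.Coprime.mul_dvd_of_dvd_of_dvd hcop hpa hqa'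
    have h1 : p * q ≤ a' := Nat.le_of_dvd hapos hpq_dvd
    have h2 : a' ≤ σ.cycleType.sum := Multiset.le_sum_of_mem ha
    have h3 := hp.two_le
    have h4 := hq.two_le
    nlinarith
  · obtain ⟨t, ht⟩ := Multiset.exists_cons_of_mem ha
    have ha't : a' ∈ t := by
      rw [ht, Multiset.mem_cons] at ha'
      rcases ha' with h | h
      · exact absurd h haa
      · exact h
    have h2 : a' ≤ t.sum := Multiset.le_sum_of_mem ha't
    rw [ht, Multiset.sum_cons] at hle
    omega

theorem no_order_pq {n p q : ℕ} (hp : p.Prime) (hq : q.Prime) (hpq : p ≠ q) (hsum : n < p + q)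
    (g : ↥(alternatingGroup (Fin n))) : orderOf g ≠ p * q := by
  rw [← Subgroup.orderOf_coe]
  exact no_order_pq_perm hp hq hpq hsum (g : Perm (Fin n))

end Cfsg.Agent.Lib.Helper21.AltSpec
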