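import Mathlib
import Cfsg.Prelude.Def_OddOrderLocal

/-!
# Hypothesis-props used in the formalization of S1430 (B&G 13.6-13.7, 14.2(a),(b))

`SP G` : sigma-partition (B&G 13.9): non-conjugate maximal subgroups have disjoint `σ`.
`LN G` : "Lemma N": for `s ∈ β(M)` every nontrivial `s`-subgroup of `M` has its normalizer in `M`.
Both are being proved unconditionally (helper2); they are hypotheses here so that work can proceed.
-/

namespace Cfsg.Agent.Lib.Helper21.BG1430

variable (G : Type*) [Group G]

/-- sigma-partition as a hypothesis. -/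
def SP : Prop :=
  ∀ M H : Subgroup G, IsCoatom M → IsCoatom H →
    (∀ g : G, H ≠ M.map (MulAut.conj g).toMonoidHom) →
    ∀ q : ℕ, q ∈ Cfsg.sigma M → q ∉ Cfsg.sigma H

/-- Lemma N as a hypothesis. -/
def LN : Prop :=
  ∀ M T : Subgroup G, IsCoatom M → ∀ s : ℕ, s ∈ Cfsg.beta M → IsPGroup s T → T ≠ ⊥ → T ≤ M →
    Subgroup.normalizer (T : Set G) ≤ M

end Cfsg.Agent.Lib.Helper21.BG1430
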