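import Mathlib
import Cfsg.Agent.Lib.Helper3.BG13NE
import Cfsg.Agent.Lib.Helper22.BG139
import Cfsg.Agent.Lib.Helper9.BG1430a

/-!
# S1430, Case II, Step 5 of "(II-α) impossible": the `ξ`-configuration is contradictory

Two non-conjugate maximal subgroups `M`, `H` share a subgroup `R` of prime order `r ∈ τ₁(M) ∩ τ₁(H)`
with `C_{M_β}(R) ≠ 1 ≠ C_{H_β}(R)`, and the `σ'`-parts of `C_M(R)`, `C_H(R)` are controlled.
Contradiction by the HZ trick (B&G 13.8/13.9, helper2's steps (2)-(5)).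
-/

set_option autoImplicit false
open Cfsg
open Cfsg.Agent.Lib.Helper10.BG Cfsg.Agent.Lib.Helper10 Cfsg.Agent.Lib.Helper9.BGExc

namespace Cfsg.Agent.Lib.Helper21.BG1430

variable {G : Type*} [Group G] [Finite G]

theorem false_of_xi (hG : IsMinSimpleOddOrder G) {M H R : Subgroup G} (hM : IsCoatom M)
    (hH : IsCoatom H) (hnc : ∀ g : G, H ≠ M.map (MulAut.conj g).toMonoidHom) {r : ℕ}
    [Fact r.Prime] (hR : Nat.card R = r) (hRM : R ≤ M) (hRH : R ≤ H) (hrM : r ∈ tau1 M)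
    (hrH : r ∈ tau1 H)
    (hYM : piCoreOf (beta M) M ⊓ Subgroup.centralizer (R : Set G) ≠ ⊥)
    (hYH : piCoreOf (beta H) H ⊓ Subgroup.centralizer (R : Set G) ≠ ⊥)
    (h1 : ∀ X : Subgroup G, X ≤ M ⊓ Subgroup.centralizer (R : Set G) → ∀ t : ℕ, t.Prime →
      t ∣ Nat.card X → t ∈ sigma M ∨ t ∈ tau1 H)
    (h2 : ∀ X : Subgroup G, X ≤ H ⊓ Subgroup.centralizer (R : Set G) → ∀ t : ℕ, t.Prime →
      t ∣ Nat.card X → t ∈ sigma H ∨ t ∈ tau1 M) : False := by
  classical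
  have hrp : r.Prime := Fact.out
  have hRp : IsPGroup r R := IsPGroup.of_card (n := 1) (by rw [hR, pow_one])
  have hR1 : R ≠ ⊥ := ne_bot_of_card_prime hR
  have hRtop : R ≠ ⊤ := Cfsg.Agent.Lib.Lead.BGTrans.pgroup_ne_top hG.2 hRp
  obtain ⟨L, hL, hNL⟩ :=
    exists_isCoatom_ge (Cfsg.Agent.Lib.Lead.BGTrans.normalizer_ne_top hG.2 hR1 hRtop)
  have hCL : Subgroup.centralizer (R : Set G) ≤ L :=
    (Subgroup.centralizer_le_normalizer _).trans hNL
  have hCs : Group.IsSolvable (Subgroup.centralizer (R : Set G)) :=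
    isSolvable_of_ne_top hG (ne_top_of_le_isCoatom hL hCL)
  -- the Sylow subgroup `T` on the `M` side
  obtain ⟨t, ht, htd⟩ : ∃ t : ℕ, t.Prime ∧
      t ∣ Nat.card (piCoreOf (beta M) M ⊓ Subgroup.centralizer (R : Set G) : Subgroup G) := by
    apply Nat.exists_prime_and_dvd
    intro h
    exact hYM (Subgroup.card_eq_one.mp h)
  have : Fact t.Prime := ⟨ht⟩
  obtain ⟨T, hT⟩ := exists_isSylowIn t (piCoreOf (beta M) M ⊓ Subgroup.centralizer (R : Set G))
  have hT1 : T ≠ ⊥ := hT.ne_bot_of_dvd htd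
  obtain ⟨htβ, hTL, hTc⟩ := Cfsg.Agent.Lib.Helper3.BG13NE.isSylowIn_of_centralizer_beta hG hM hL
    hrM hRM hR hNL hT hT1
  -- the Sylow subgroup `T'` on the `H` side
  obtain ⟨t', ht', htd'⟩ : ∃ t' : ℕ, t'.Prime ∧
      t' ∣ Nat.card (piCoreOf (beta H) H ⊓ Subgroup.centralizer (R : Set G) : Subgroup G) := by
    apply Nat.exists_prime_and_dvd
    intro h
    exact hYH (Subgroup.card_eq_one.mp h)
  have : Fact t'.Prime := ⟨ht'⟩
  obtain ⟨T', hT'⟩ := exists_isSylowIn t' (piCoreOf (beta H) H ⊓ Subgroup.centralizer (R : Set G))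
  have hT'1 : T' ≠ ⊥ := hT'.ne_bot_of_dvd htd'
  obtain ⟨htβ', hT'L, hT'c⟩ := Cfsg.Agent.Lib.Helper3.BG13NE.isSylowIn_of_centralizer_beta hG hH hL
    hrH hRH hR hNL hT' hT'1
  have htσ : t ∈ sigma M := alpha_subset_sigma hG hM htβ.1
  have htσ' : t' ∈ sigma H := alpha_subset_sigma hG hH htβ'.1
  have hne : t ≠ t' := by
    rintro rfl
    exact Cfsg.Agent.Lib.Helper9.BG1430a.not_mem_sigma_of_not_conj hG hM hH hnc htσ htσ'
  have hTC : T ≤ Subgroup.centralizer (R : Set G) := hT.le.trans inf_le_right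
  have hT'C : T' ≤ Subgroup.centralizer (R : Set G) := hT'.le.trans inf_le_right
  have hTsC : IsSylowIn t T (Subgroup.centralizer (R : Set G)) := hTL.of_le hTC hCL
  have hT'sC : IsSylowIn t' T' (Subgroup.centralizer (R : Set G)) := hT'L.of_le hT'C hCL
  obtain ⟨c, hc, hcase⟩ :=
    Cfsg.Agent.Lib.Helper22.BG139.exists_conj_normalizes hCs hne hTsC hT'sC hTc hT'c
  have hTM : T ≤ M := hT.le.trans (inf_le_left.trans
    ((Cfsg.Agent.Lib.Helper7.BG13.betaCore_le_sigmaCore hG hM).trans (sigmaCore_le M)))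
  have hT'H : T' ≤ H := hT'.le.trans (inf_le_left.trans
    ((Cfsg.Agent.Lib.Helper7.BG13.betaCore_le_sigmaCore hG hH).trans (sigmaCore_le H)))
  rcases hcase with h | h
  · have hN : Subgroup.normalizer (T : Set G) ≤ M :=
      Cfsg.Agent.Lib.Helper3.BG13NE.normalizer_le_of_mem_beta hG hM htβ hT.isPGroup hT1 hTM
    have hX : cj c T' ≤ M ⊓ Subgroup.centralizer (R : Set G) :=
      le_inf (h.trans hN) (cj_le_of_mem hc hT'C)
    have hd : t' ∣ Nat.card (cj c T') := by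
      rw [card_cj]
      exact Cfsg.Agent.Lib.Helper3.BG13NE.dvd_card_of_pgroup_ne_bot le_rfl hT'.isPGroup hT'1
    rcases h1 _ hX t' ht' hd with h3 | h3
    · exact Cfsg.Agent.Lib.Helper9.BG1430a.not_mem_sigma_of_not_conj hG hM hH hnc h3 htσ'
    · exact h3.2.1 htσ'
  · have h' : cj c⁻¹ T ≤ Subgroup.normalizer (T' : Set G) := by
      have := le_normalizer_cj (g := c⁻¹) h
      rwa [cj_inv_cj] at this
    have hN : Subgroup.normalizer (T' : Set G) ≤ H :=
      Cfsg.Agent.Lib.Helper3.BG13NE.normalizer_le_of_mem_beta hG hH htβ' hT'.isPGroup hT'1 hT'H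
    have hX : cj c⁻¹ T ≤ H ⊓ Subgroup.centralizer (R : Set G) :=
      le_inf (h'.trans hN) (cj_le_of_mem (inv_mem hc) hTC)
    have hd : t ∣ Nat.card (cj c⁻¹ T) := by
      rw [card_cj]
      exact Cfsg.Agent.Lib.Helper3.BG13NE.dvd_card_of_pgroup_ne_bot le_rfl hT.isPGroup hT1
    rcases h2 _ hX t ht hd with h3 | h3
    · exact Cfsg.Agent.Lib.Helper9.BG1430a.not_mem_sigma_of_not_conj hG hM hH hnc htσ h3
    · exact h3.2.1 htσ

end Cfsg.Agent.Lib.Helper21.BG1430
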