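import Mathlib
import Cfsg.Agent.Lib.Helper21.BG1430Frob
import Cfsg.Agent.Lib.Helper19.BG12B
import Cfsg.Agent.S1417
import Cfsg.Agent.S1418
import Cfsg.Agent.S1423
import Cfsg.Agent.S1545

/-!
# S1435 (B&G Cor. 14.8): the configuration (Hyp) is impossible, Steps 1 and 2

`H` maximal, `l ∈ τ₂(H)`, `A ≤ H` elementary abelian of order `l²`, `K ≤ H` of prime order `k ∉ σ(H)`
normalizing `A` and regular on `H_σ`.
* Step 2 (`false_of_fpf`): `K` cannot act fixed-point-freely on `A`.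
* Step 1 (`not_mem_sigma_of_moves`): if `c ∈ A` centralizes `H_σ`, `K` normalizes but does not
  centralize `⟨c⟩`, and `N_G(A) ≤ L`, then `k ∉ σ(L)`.
See `notes/BG_S1435_Hyp_kill_helper21.md`.
-/

set_option autoImplicit false
open Cfsg
open Cfsg.Agent.Lib.Helper10.BG Cfsg.Agent.Lib.Helper10 Cfsg.Agent.Lib.Helper9.BGExc

namespace Cfsg.Agent.Lib.Helper21.BG1435

variable {G : Type*} [Group G] [Finite G]

/-- **Step 2.** -/
theorem false_of_fpf (hG : IsMinSimpleOddOrder G) {H A K : Subgroup G} (hH : IsCoatom H)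
    {l k : ℕ} [Fact l.Prime] [Fact k.Prime] (hl : l ∈ tau2 H) (hAH : A ≤ H)
    (hAe : IsElementaryAbelian l A) (hAc : Nat.card A = l ^ 2) (hK : Nat.card K = k)
    (hKH : K ≤ H) (hkσ : k ∉ sigma H) (hKA : K ≤ Subgroup.normalizer (A : Set G))
    (hreg : sigmaCore H ⊓ Subgroup.centralizer (K : Set G) = ⊥)
    (hfpf : A ⊓ Subgroup.centralizer (K : Set G) = ⊥) : False := by
  classical
  have hlp : l.Prime := Fact.out
  have hkp : k.Prime := Fact.out
  have hlσ : l ∉ sigma H := hl.2.1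
  have hCA : sigmaCore H ⊓ Subgroup.centralizer (A : Set G) = ⊥ :=
    (Cfsg.Agent.S1417.result hG H hH l hl A ⟨hAH, hAe, hAc⟩).2.2.2.1
  have hA1 : A ≠ ⊥ := by
    intro h
    rw [h, Subgroup.card_bot] at hAc
    have : 1 < l ^ 2 := Nat.one_lt_pow (by norm_num) hlp.one_lt
    omega
  have hK1 : K ≠ ⊥ := ne_bot_of_card_prime hK
  have hKcomm : ∀ x ∈ K, x ∈ Subgroup.centralizer (K : Set G) := by
    intro x hx
    by_cases hx1 : x = 1
    · rw [hx1]; exact one_mem _
    · exact Cfsg.Agent.Lib.Helper21.BG1430.mem_centralizer_of_commute_prime hK hx hx1 rfl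
  have hAK : A ⊓ K = ⊥ := by
    rw [eq_bot_iff]
    intro x hx
    rw [← hfpf]
    exact ⟨hx.1, hKcomm x hx.2⟩
  have hJσ : ∀ q : ℕ, q.Prime → q ∣ Nat.card (A ⊔ K : Subgroup G) → q ∉ sigma H := by
    intro q hq hd
    have h1 := hd.trans (Cfsg.Agent.Lib.Helper9.card_sup_dvd_of_le_normalizer hKA)
    rw [hAc, hK] at h1
    rcases (Nat.Prime.dvd_mul hq).mp h1 with h | h
    · rwa [(Nat.prime_dvd_prime_iff_eq hq hlp).mp (hq.dvd_of_dvd_pow h)]
    · rwa [(Nat.prime_dvd_prime_iff_eq hq hkp).mp h]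
  have hJH : A ⊔ K ≤ H := sup_le hAH hKH
  have hcop : (Nat.card (sigmaCore H)).Coprime (Nat.card (A ⊔ K : Subgroup G)) :=
    (Cfsg.Agent.Lib.Helper19.BGCompl.coprime_card_sigmaCore_of hG hH hJσ).symm
  have hmain := Cfsg.Agent.S1545.result A K (sigmaCore H) hA1 hK1 hAK
    (fun e he u hu => ((Subgroup.mem_normalizer_iff.mp (hKA he)) u).mp hu)
    (fun e he he1 u hu hc => by
      have h1 : u ∈ Subgroup.centralizer (K : Set G) :=
        Cfsg.Agent.Lib.Helper21.BG1430.mem_centralizer_of_commute_prime hK he he1 hc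
      have h2 : u ∈ A ⊓ Subgroup.centralizer (K : Set G) := ⟨hu, h1⟩
      rw [hfpf] at h2
      exact Subgroup.mem_bot.mp h2)
    (fun x hx h hh =>
      ((Subgroup.mem_normalizer_iff.mp (le_normalizer_sigmaCore H (hJH hx))) h).mp hh)
    (Subgroup.disjoint_of_coprime_natCard hcop).eq_bot
    (isSolvable_of_ne_top hG (ne_top_of_le_isCoatom hH (sigmaCore_le H))) hcop
  rw [hreg, hCA, Subgroup.card_bot, one_pow, one_mul] at hmain
  have h1 : Nat.card (sigmaCore H) = 1 := Nat.eq_one_of_mul_eq_one_left hmain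
  exact sigmaCore_ne_bot hG hH (Subgroup.card_eq_one.mp h1)

/-- **Step 1.** -/
theorem not_mem_sigma_of_moves (hG : IsMinSimpleOddOrder G) {H L A K : Subgroup G}
    (hH : IsCoatom H) (hL : IsCoatom L) {l k : ℕ} [Fact l.Prime] [Fact k.Prime]
    (hl : l ∈ tau2 H) (hAH : A ≤ H) (hAe : IsElementaryAbelian l A) (hAc : Nat.card A = l ^ 2)
    (hNA : Subgroup.normalizer (A : Set G) ≤ L) {c : G} (hcA : c ∈ A) (hc1 : c ≠ 1)
    (hcσ : sigmaCore H ≤ Subgroup.centralizer ({c} : Set G))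
    (hK : Nat.card K = k) (hKL : K ≤ L)
    (hKc : K ≤ Subgroup.normalizer ((Subgroup.zpowers c : Subgroup G) : Set G))
    (hnc : ¬ K ≤ Subgroup.centralizer ((Subgroup.zpowers c : Subgroup G) : Set G)) :
    k ∉ sigma L := by
  classical
  intro hkσ
  have hlp : l.Prime := Fact.out
  have hlσL : l ∈ sigma L :=
    Cfsg.Agent.Lib.Helper19.BG12.mem_sigma_of_normalizer_elem_le hG hL hAe hAc hNA
  have hAL : A ≤ L := Subgroup.le_normalizer.trans hNA
  have hAp : IsPGroup l A := IsPGroup.of_card (n := 2) hAc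
  have hKp : IsPGroup k K := IsPGroup.of_card (n := 1) (by rw [hK, pow_one])
  have hAσ : A ≤ sigmaCore L := pgroup_le_sigmaCore hG hL hlσL hAp hAL
  have hKσ : K ≤ sigmaCore L := pgroup_le_sigmaCore hG hL hkσ hKp hKL
  have hne : L ≠ H := by
    rintro rfl
    exact hl.2.1 hlσL
  -- order of `c`
  have hco : orderOf c = l := by
    have h1 : orderOf c ∣ l := orderOf_dvd_of_pow_eq_one (hAe.2 c hcA)
    rcases (Nat.dvd_prime hlp).mp h1 with h | h
    · exact absurd (orderOf_eq_one_iff.mp h) hc1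
    · exact h
  have hcard : Nat.card (Subgroup.zpowers c) = l := by rw [Nat.card_zpowers, hco]
  -- `⟨c⟩ ≤ (L_σ)'`
  obtain ⟨κ, hκK, hκ⟩ : ∃ κ ∈ K, κ ∉ Subgroup.centralizer ((Subgroup.zpowers c : Subgroup G) : Set G) := by
    by_contra hcon
    push Not at hcon
    exact hnc hcon
  have hκc : κ * c * κ⁻¹ ∈ Subgroup.zpowers c :=
    ((Subgroup.mem_normalizer_iff.mp (hKc hκK)) c).mp (Subgroup.mem_zpowers c)
  have hd : κ * c * κ⁻¹ * c⁻¹ ∈ Subgroup.zpowers c :=
    mul_mem hκc (inv_mem (Subgroup.mem_zpowers c))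
  have hzc : Subgroup.centralizer ((Subgroup.zpowers c : Subgroup G) : Set G) =
      Subgroup.centralizer ({c} : Set G) := by
    rw [Subgroup.zpowers_eq_closure, Subgroup.centralizer_closure]
  have hκ' : ¬ c * κ = κ * c := by
    intro h
    apply hκ
    rw [hzc]
    exact Subgroup.mem_centralizer_singleton_iff.mpr h.symm
  have hd1 : κ * c * κ⁻¹ * c⁻¹ ≠ 1 := by
    intro h
    apply hκ'
    have h2 : κ * c * κ⁻¹ = c := by
      have := mul_inv_eq_one.mp h
      exact this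
    calc c * κ = κ * c * κ⁻¹ * κ := by rw [h2]
      _ = κ * c := by group
  have hzd : Subgroup.zpowers (κ * c * κ⁻¹ * c⁻¹) = Subgroup.zpowers c := by
    apply Subgroup.eq_of_le_of_card_ge (Subgroup.zpowers_le.mpr hd)
    rw [hcard, Nat.card_zpowers]
    have h1 : orderOf (κ * c * κ⁻¹ * c⁻¹) ∣ l := by
      rw [← hcard]
      exact Subgroup.orderOf_dvd_natCard _ hd
    rcases (Nat.dvd_prime hlp).mp h1 with h | h
    · exact absurd (orderOf_eq_one_iff.mp h) hd1
    · exact h.ge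
  have hcomm : Subgroup.zpowers c ≤ ⁅sigmaCore L, sigmaCore L⁆ := by
    rw [← hzd, Subgroup.zpowers_le]
    have := Subgroup.commutator_mem_commutator (hKσ hκK) (hAσ hcA)
    rwa [commutatorElement_def] at this
  have hzL : Subgroup.zpowers c ≤ L := (Subgroup.zpowers_le.mpr hcA).trans hAL
  obtain ⟨⟨hCL, -⟩, -⟩ := Cfsg.Agent.S1423.result hG L hL l hlσL (Subgroup.zpowers c) hzL hcard
    (Classical.arbitrary _) (Or.inr hcomm)
  have h1 : sigmaCore H ≤ L := by
    rw [hzc] at hCL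
    exact hcσ.trans hCL
  have h2 : sigmaCore H ⊓ L = ⊥ :=
    (Cfsg.Agent.S1417.result hG H hH l hl A ⟨hAH, hAe, hAc⟩).2.2.2.2.1 L hL hne hAL
  rw [inf_eq_left.mpr h1] at h2
  exact sigmaCore_ne_bot hG hH h2

end Cfsg.Agent.Lib.Helper21.BG1435
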