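import Mathlib
import Cfsg.Agent.Lib.Helper21.BG1435H
import Cfsg.Agent.Lib.Helper1.Nilpotent
import Cfsg.Agent.Lib.Helper1.BGSigmaDecomp
import Cfsg.Agent.Lib.Helper1.BGStubs2
import Cfsg.Agent.Lib.Helper25.BG1431
import Cfsg.Agent.Lib.Helper29.BG95a
import Cfsg.Agent.S1429

/-!
# S1435 (B&G Cor. 14.8): the configuration (Hyp) is impossible, Step 3 (core)

See `notes/BG_S1435_Hyp_kill_helper21.md`, Step 3 (c), (d).
-/

set_option autoImplicit false
open Cfsg
open Cfsg.Agent.Lib.Helper10.BG Cfsg.Agent.Lib.Helper10 Cfsg.Agent.Lib.Helper9.BGExc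

namespace Cfsg.Agent.Lib.Helper21.BG1435

variable {G : Type*} [Group G] [Finite G]

/-- a nilpotent subgroup `N` whose order is divisible by the prime `l` has a central element of
order `l`. -/
theorem exists_central_orderOf_eq {N : Subgroup G} (hnil : Group.IsNilpotent N) {l : ℕ}
    [Fact l.Prime] (hl : l ∣ Nat.card N) :
    ∃ w ∈ N, orderOf w = l ∧ N ≤ Subgroup.centralizer ({w} : Set G) := by
  classical
  let P : Sylow l N := default
  have hPn : (P : Subgroup N).Normal := inferInstance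
  have hP1 : (P : Subgroup N) ≠ ⊥ := P.ne_bot_of_dvd_card hl
  have hQ1 : (P : Subgroup N) ⊓ Subgroup.center N ≠ ⊥ :=
    Cfsg.Agent.Lib.Helper1.inf_center_ne_bot_of_normal (P : Subgroup N) hP1
  have hQp : IsPGroup l ((P : Subgroup N) ⊓ Subgroup.center N : Subgroup N) :=
    P.isPGroup'.to_le inf_le_left
  have hd : l ∣ Nat.card ((P : Subgroup N) ⊓ Subgroup.center N : Subgroup N) := by
    rcases hQp.card_eq_or_dvd with h | h
    · exact absurd (Subgroup.card_eq_one.mp h) hQ1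
    · exact h
  obtain ⟨x, hx⟩ := exists_prime_orderOf_dvd_card' (G := ((P : Subgroup N) ⊓ Subgroup.center N : Subgroup N)) l hd
  refine ⟨((x : N) : G), (x : N).2, ?_, ?_⟩
  · rw [Subgroup.orderOf_coe, Subgroup.orderOf_coe, hx]
  · intro n hn
    rw [Subgroup.mem_centralizer_singleton_iff]
    have hxc : (x : N) ∈ Subgroup.center N := x.2.2
    have := (Subgroup.mem_center_iff.mp hxc) ⟨n, hn⟩
    have h2 := congrArg (Subtype.val) this
    simpa using h2

/-- **Step 3 (core).** -/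
theorem false_of_fixed (hG : IsMinSimpleOddOrder G) {H L EH A K UL : Subgroup G}
    (hH : IsCoatom H) (hL : IsCoatom L) (hEH : IsComplIn EH (sigmaCore H) H)
    {l k : ℕ} [Fact l.Prime] [Fact k.Prime] (hl : l ∈ tau2 H) (hAE : A ≤ EH)
    (hAe : IsElementaryAbelian l A) (hAc : Nat.card A = l ^ 2)
    (hNA : Subgroup.normalizer (A : Set G) ≤ L) {c : G} (hcA : c ∈ A) (hc1 : c ≠ 1)
    (hcσ : sigmaCore H ≤ Subgroup.centralizer ({c} : Set G))
    (hK : Nat.card K = k)
    (hKc : K ≤ Subgroup.normalizer ((Subgroup.zpowers c : Subgroup G) : Set G))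
    (hnc : ¬ K ≤ Subgroup.centralizer ((Subgroup.zpowers c : Subgroup G) : Set G))
    (hKU : IsSigmaDecomposition L K UL) (hU1 : UL ≠ ⊥)
    (h31 : Cfsg.Agent.Lib.Helper1.BGStubs2.P1431 G)
    (h53 : Cfsg.Agent.Lib.Helper1.BGStubs2.P1353 G)
    (hX : A ⊓ Subgroup.centralizer (K : Set G) ≠ ⊥) : False := by
  classical
  have hlp : l.Prime := Fact.out
  have hkp : k.Prime := Fact.out
  have hAH : A ≤ H := hAE.trans hEH.1
  have hlσL : l ∈ sigma L :=
    Cfsg.Agent.Lib.Helper19.BG12.mem_sigma_of_normalizer_elem_le hG hL hAe hAc hNA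
  have hAL : A ≤ L := Subgroup.le_normalizer.trans hNA
  have hAp : IsPGroup l A := IsPGroup.of_card (n := 2) hAc
  have hAσ : A ≤ sigmaCore L := pgroup_le_sigmaCore hG hL hlσL hAp hAL
  have hne : L ≠ H := by
    rintro rfl
    exact hl.2.1 hlσL
  have hKL : K ≤ L := hKU.hall.1
  have hUL : UL ≤ L := hKU.compl.1
  have hK1 : K ≠ ⊥ := ne_bot_of_card_prime hK
  obtain ⟨⟨-, hsub⟩, ⟨hCA, hHN, -⟩, huniq⟩ :=
    Cfsg.Agent.S1418.result hG H hH EH hEH l hl A ⟨hAE, hAe, hAc⟩
  have hco : orderOf c = l := by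
    have h1 : orderOf c ∣ l := orderOf_dvd_of_pow_eq_one (hAe.2 c hcA)
    rcases (Nat.dvd_prime hlp).mp h1 with h | h
    · exact absurd (orderOf_eq_one_iff.mp h) hc1
    · exact h
  have hcard : Nat.card (Subgroup.zpowers c) = l := by rw [Nat.card_zpowers, hco]
  have hzc : Subgroup.centralizer ((Subgroup.zpowers c : Subgroup G) : Set G) =
      Subgroup.centralizer ({c} : Set G) := by
    rw [Subgroup.zpowers_eq_closure, Subgroup.centralizer_closure]
  have hCcH : Subgroup.centralizer ({c} : Set G) ≤ H := by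
    have h1 : sigmaCore H ⊓ Subgroup.centralizer ((Subgroup.zpowers c : Subgroup G) : Set G) ≠ ⊥ := by
      rw [hzc, inf_eq_left.mpr hcσ]
      exact sigmaCore_ne_bot hG hH
    have := (huniq (Subgroup.zpowers c) (Subgroup.zpowers_le.mpr hcA) hcard h1).1
    rwa [hzc] at this
  -- a prime `r` of `U_L`, and a Sylow `r`-subgroup `T` of `U_L`, which is Sylow in `L`
  obtain ⟨r, hr, hrd⟩ : ∃ r : ℕ, r.Prime ∧ r ∣ Nat.card UL :=
    Nat.exists_prime_and_dvd (fun h => hU1 (Subgroup.card_eq_one.mp h))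
  have : Fact r.Prime := ⟨hr⟩
  have hrσ : r ∉ sigma L :=
    Cfsg.Agent.Lib.Helper1.BGSigmaDecomp.not_mem_sigma_of_dvd_card_U hG hL hKU hr hrd
  have hrκ : r ∉ kappa L :=
    Cfsg.Agent.Lib.Helper1.BGSigmaDecomp.not_mem_kappa_of_dvd_card_U hG hL hKU hr hrd
  have hrL : r ∣ Nat.card L := hrd.trans (Subgroup.card_dvd_of_le hUL)
  have hP1 : ¬ (∀ q : ℕ, q.Prime → q ∣ Nat.card L → q ∉ sigma L → q ∈ kappa L) :=
    fun h => hrκ (h r hr hrL hrσ)
  obtain ⟨T, hT⟩ := exists_isSylowIn r UL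
  have hrel : UL.relIndex L = Nat.card K * Nat.card (sigmaCore L) := by
    have h1 := Cfsg.Agent.Lib.Helper12.card_mul_relIndex_eq hUL
    have : Nat.card UL * UL.relIndex L = Nat.card UL * (Nat.card K * Nat.card (sigmaCore L)) := by
      rw [h1, Cfsg.Agent.Lib.Helper1.BGSigmaDecomp.card_eq hG hL hKU]; ring
    exact Nat.eq_of_mul_eq_mul_left Nat.card_pos this
  have hTL : IsSylowIn r T L := by
    apply Cfsg.Agent.Lib.Helper10.BG.IsSylowIn.of_not_dvd_relIndex hT hUL
    rw [hrel]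
    intro hd
    rcases (Nat.Prime.dvd_mul hr).mp hd with h | h
    · exact hrκ (hKU.hall.2.1 r hr h)
    · exact hrσ (mem_sigma_of_dvd_card_sigmaCore hG hL hr h)
  have hSmap : ((hTL.toSylow : Sylow r ↥L) : Subgroup ↥L).map L.subtype = T := by
    rw [hTL.coe_toSylow]
    exact Subgroup.map_subgroupOf_eq_of_le (hT.le.trans hUL)
  obtain ⟨-, h29, hnil⟩ := Cfsg.Agent.S1429.result hG L hL hP1 r hrL
    (fun h => h.elim hrσ hrκ) hTL.toSylow
  rw [hSmap] at h29
  -- elements of order dividing `l` centralizing `L_σ` lie in `A`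
  have hkey : ∀ z : G, z ^ l = 1 → z ∈ Subgroup.centralizer ((sigmaCore L : Subgroup G) : Set G) →
      z ∈ A := by
    intro z hz hzc'
    by_cases hz1 : z = 1
    · rw [hz1]; exact one_mem _
    have hzA : z ∈ Subgroup.centralizer (A : Set G) := by
      rw [Subgroup.mem_centralizer_iff]
      intro a ha
      exact (Subgroup.mem_centralizer_iff.mp hzc') a (hAσ ha)
    have hzE : z ∈ EH := by
      have := hCA hzA
      rwa [hHN] at this
    have hzo : orderOf z = l := by
      have h1 : orderOf z ∣ l := orderOf_dvd_of_pow_eq_one hz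
      rcases (Nat.dvd_prime hlp).mp h1 with h | h
      · exact absurd (orderOf_eq_one_iff.mp h) hz1
      · exact h
    exact hsub (Subgroup.zpowers z) (Subgroup.zpowers_le.mpr hzE)
      (by rw [Nat.card_zpowers, hzo]) (Subgroup.mem_zpowers z)
  have hLnσ : L ≤ Subgroup.normalizer ((sigmaCore L : Subgroup G) : Set G) :=
    le_normalizer_sigmaCore L
  have hLnC : L ≤ Subgroup.normalizer
      ((Subgroup.centralizer ((sigmaCore L : Subgroup G) : Set G) : Subgroup G) : Set G) :=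
    le_normalizer_centralizer hLnσ
  -- the normal subgroup `W`
  have hWn : L ≤ Subgroup.normalizer (((sigmaCore L ⊓
      Subgroup.centralizer ((sigmaCore L : Subgroup G) : Set G)) ⊓ A : Subgroup G) : Set G) := by
    apply Cfsg.Agent.Lib.Helper10.BG.le_normalizer_of_conj_mem
    intro m hm w hw
    have h1 : m * w * m⁻¹ ∈ sigmaCore L :=
      ((Subgroup.mem_normalizer_iff.mp (hLnσ hm)) w).mp hw.1.1
    have h2 : m * w * m⁻¹ ∈ Subgroup.centralizer ((sigmaCore L : Subgroup G) : Set G) :=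
      ((Subgroup.mem_normalizer_iff.mp (hLnC hm)) w).mp hw.1.2
    refine ⟨⟨h1, h2⟩, hkey _ ?_ h2⟩
    rw [conj_pow, hAe.2 w hw.2]
    group
  -- `L_σ` has a central element of order `l`
  have hlLσ : l ∣ Nat.card (sigmaCore L) := by
    have h1 := Subgroup.card_dvd_of_le hAσ
    rw [hAc] at h1
    exact (dvd_pow_self l (by norm_num)).trans h1
  obtain ⟨w0, hw0σ, hw0o, hw0c⟩ := exists_central_orderOf_eq hnil hlLσ
  have hw0C : w0 ∈ Subgroup.centralizer ((sigmaCore L : Subgroup G) : Set G) := by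
    rw [Subgroup.mem_centralizer_iff]
    intro s hs
    exact (Subgroup.mem_centralizer_singleton_iff.mp (hw0c hs))
  have hw0A : w0 ∈ A := hkey w0 (by rw [← hw0o]; exact pow_orderOf_eq_one w0) hw0C
  have hw01 : w0 ≠ 1 := by
    intro h
    rw [h, orderOf_one] at hw0o
    exact hlp.one_lt.ne hw0o
  -- `c ∉ C(K)`
  have hcK : c ∉ Subgroup.centralizer (K : Set G) := by
    intro h
    apply hnc
    rw [Subgroup.le_centralizer_iff]
    exact Subgroup.zpowers_le.mpr h
  have hXp : IsPGroup l (A ⊓ Subgroup.centralizer (K : Set G) : Subgroup G) := hAp.to_le inf_le_left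
  have hXσ : A ⊓ Subgroup.centralizer (K : Set G) ≤ sigmaCore L ⊓ Subgroup.centralizer (K : Set G) :=
    inf_le_inf_right _ hAσ
  -- `c` does not centralize `L_σ`
  have hcC : c ∉ Subgroup.centralizer ((sigmaCore L : Subgroup G) : Set G) := by
    intro hc
    have h1 : sigmaCore L ≤ H := by
      refine le_trans ?_ hCcH
      intro s hs
      exact Subgroup.mem_centralizer_singleton_iff.mpr ((Subgroup.mem_centralizer_iff.mp hc) s hs)
    have hd : l ∣ Nat.card (sigmaCore L ⊓ Subgroup.centralizer (K : Set G) : Subgroup G) :=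
      Cfsg.Agent.Lib.Helper3.BG13NE.dvd_card_of_pgroup_ne_bot hXσ hXp hX
    obtain ⟨huq, hSL, -⟩ := (h31 L hL K hKU.hall hK1).2.2.1 l hlp hd default
    have hSH : ((default : Sylow l ↥(sigmaCore L)) : Subgroup ↥(sigmaCore L)).map
        (sigmaCore L).subtype ≤ H := (Subgroup.map_subtype_le _).trans h1
    exact hne (huq.unique ⟨hL, hSL⟩ ⟨hH, hSH⟩)
  -- `X = C_A(K)` has order `l`
  have hcardX : Nat.card (A ⊓ Subgroup.centralizer (K : Set G) : Subgroup G) = l := by
    have h1 : Nat.card (A ⊓ Subgroup.centralizer (K : Set G) : Subgroup G) ∣ l ^ 2 := by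
      rw [← hAc]; exact Subgroup.card_dvd_of_le inf_le_left
    obtain ⟨j, hj, hj2⟩ := (Nat.dvd_prime_pow hlp).mp h1
    interval_cases j
    · rw [pow_zero] at hj2
      exact absurd (Subgroup.card_eq_one.mp hj2) hX
    · rw [hj2, pow_one]
    · exfalso
      have : A ⊓ Subgroup.centralizer (K : Set G) = A :=
        Subgroup.eq_of_le_of_card_ge inf_le_left (by rw [hj2, hAc])
      have hc' : c ∈ A ⊓ Subgroup.centralizer (K : Set G) := by rw [this]; exact hcA
      exact hcK hc'.2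
  have hcomm : ∀ a ∈ A, ∀ b ∈ A, a * b = b * a := by
    intro a ha b hb
    have := hAe.1.is_comm.comm ⟨a, ha⟩ ⟨b, hb⟩
    exact congrArg Subtype.val this
  have hzA : Subgroup.zpowers c ≤ A := Subgroup.zpowers_le.mpr hcA
  -- `A = ⟨c⟩ X`
  have hAJ : Subgroup.zpowers c ⊔ (A ⊓ Subgroup.centralizer (K : Set G)) = A := by
    apply Subgroup.eq_of_le_of_card_ge (sup_le hzA inf_le_left)
    have h1 : Nat.card (Subgroup.zpowers c ⊔ (A ⊓ Subgroup.centralizer (K : Set G)) : Subgroup G) ∣ l ^ 2 := by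
      rw [← hAc]; exact Subgroup.card_dvd_of_le (sup_le hzA inf_le_left)
    obtain ⟨j, hj, hj2⟩ := (Nat.dvd_prime_pow hlp).mp h1
    rw [hAc, hj2]
    interval_cases j
    · exfalso
      rw [pow_zero] at hj2
      have := Subgroup.card_eq_one.mp hj2
      exact hX (le_bot_iff.mp (this ▸ le_sup_right))
    · exfalso
      rw [pow_one] at hj2
      have h2 : Subgroup.zpowers c = Subgroup.zpowers c ⊔ (A ⊓ Subgroup.centralizer (K : Set G)) :=
        Subgroup.eq_of_le_of_card_ge le_sup_left (by rw [hj2, hcard])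
      have h3 : A ⊓ Subgroup.centralizer (K : Set G) ≤ Subgroup.zpowers c := by
        rw [h2]; exact le_sup_right
      have h4 : A ⊓ Subgroup.centralizer (K : Set G) = Subgroup.zpowers c :=
        Subgroup.eq_of_le_of_card_ge h3 (by rw [hcard, hcardX])
      have hc' : c ∈ A ⊓ Subgroup.centralizer (K : Set G) := by rw [h4]; exact Subgroup.mem_zpowers c
      exact hcK hc'.2
    · exact le_rfl
  -- `W ≤ C(K)`
  have hWK : (sigmaCore L ⊓ Subgroup.centralizer ((sigmaCore L : Subgroup G) : Set G)) ⊓ A ≤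
      Subgroup.centralizer (K : Set G) := by
    intro w hw
    rw [Subgroup.mem_centralizer_iff]
    intro κ hκ
    have hwJ : w ∈ Subgroup.zpowers c ⊔ (A ⊓ Subgroup.centralizer (K : Set G)) := by
      rw [hAJ]; exact hw.2
    have hcomm' : ∀ a ∈ Subgroup.zpowers c, ∀ b ∈ (A ⊓ Subgroup.centralizer (K : Set G) : Subgroup G),
        a * b = b * a := fun a ha b hb => hcomm a (hzA ha) b hb.1
    obtain ⟨a, ha, x, hx, rfl⟩ := mem_sup_of_commute' hcomm' hwJ
    have hκx : κ * x = x * κ := (Subgroup.mem_centralizer_iff.mp hx.2) κ hκ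
    have hκa : κ * a * κ⁻¹ ∈ Subgroup.zpowers c :=
      ((Subgroup.mem_normalizer_iff.mp (hKc hκ)) a).mp ha
    have hd_eq : κ * (a * x) * κ⁻¹ * (a * x)⁻¹ = κ * a * κ⁻¹ * a⁻¹ := by
      have h1 : κ * (a * x) * κ⁻¹ = κ * a * κ⁻¹ * x := by
        calc κ * (a * x) * κ⁻¹ = κ * a * (x * κ⁻¹) := by group
          _ = κ * a * (κ⁻¹ * x) := by
            have : x * κ⁻¹ = κ⁻¹ * x := by
              calc x * κ⁻¹ = κ⁻¹ * (κ * x) * κ⁻¹ := by group
                _ = κ⁻¹ * (x * κ) * κ⁻¹ := by rw [hκx]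
                _ = κ⁻¹ * x := by group
            rw [this]
          _ = κ * a * κ⁻¹ * x := by group
      rw [h1, mul_inv_rev]
      have h2 : x * (x⁻¹ * a⁻¹) = a⁻¹ := by group
      rw [mul_assoc, h2]
    have hdW : κ * (a * x) * κ⁻¹ * (a * x)⁻¹ ∈ (sigmaCore L ⊓
        Subgroup.centralizer ((sigmaCore L : Subgroup G) : Set G)) ⊓ A :=
      mul_mem (((Subgroup.mem_normalizer_iff.mp (hWn (hKL hκ))) _).mp hw) (inv_mem hw)
    have hdz : κ * (a * x) * κ⁻¹ * (a * x)⁻¹ ∈ Subgroup.zpowers c := by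
      rw [hd_eq]; exact mul_mem hκa (inv_mem ha)
    by_contra hne'
    have hd1 : κ * (a * x) * κ⁻¹ * (a * x)⁻¹ ≠ 1 := by
      intro h
      apply hne'
      have h2 : κ * (a * x) * κ⁻¹ = a * x := mul_inv_eq_one.mp h
      calc κ * (a * x) = κ * (a * x) * κ⁻¹ * κ := by group
        _ = a * x * κ := by rw [h2]
    have hzd : Subgroup.zpowers (κ * (a * x) * κ⁻¹ * (a * x)⁻¹) = Subgroup.zpowers c := by
      apply Subgroup.eq_of_le_of_card_ge (Subgroup.zpowers_le.mpr hdz)
      rw [hcard, Nat.card_zpowers]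
      have h1 : orderOf (κ * (a * x) * κ⁻¹ * (a * x)⁻¹) ∣ l := by
        rw [← hcard]
        exact Subgroup.orderOf_dvd_natCard _ hdz
      rcases (Nat.dvd_prime hlp).mp h1 with h | h
      · exact absurd (orderOf_eq_one_iff.mp h) hd1
      · exact h.ge
    have hcW : c ∈ (sigmaCore L ⊓
        Subgroup.centralizer ((sigmaCore L : Subgroup G) : Set G)) ⊓ A := by
      have : Subgroup.zpowers c ≤ _ := hzd ▸ Subgroup.zpowers_le.mpr hdW
      exact this (Subgroup.mem_zpowers c)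
    exact hcC hcW.1.2
  -- `W = X`, so `X` is normal in `L`
  have hWX : (sigmaCore L ⊓ Subgroup.centralizer ((sigmaCore L : Subgroup G) : Set G)) ⊓ A =
      A ⊓ Subgroup.centralizer (K : Set G) := by
    apply Subgroup.eq_of_le_of_card_ge (le_inf inf_le_right hWK)
    rw [hcardX]
    have hW1 : (sigmaCore L ⊓ Subgroup.centralizer ((sigmaCore L : Subgroup G) : Set G)) ⊓ A ≠ ⊥ := by
      intro h
      have : w0 ∈ (sigmaCore L ⊓ Subgroup.centralizer ((sigmaCore L : Subgroup G) : Set G)) ⊓ A :=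
        ⟨⟨hw0σ, hw0C⟩, hw0A⟩
      rw [h] at this
      exact hw01 (Subgroup.mem_bot.mp this)
    exact Nat.le_of_dvd Nat.card_pos
      (Cfsg.Agent.Lib.Helper3.BG13NE.dvd_card_of_pgroup_ne_bot le_rfl (hAp.to_le inf_le_right) hW1)
  have hXn : L ≤ Subgroup.normalizer ((A ⊓ Subgroup.centralizer (K : Set G) : Subgroup G) : Set G) := by
    rw [← hWX]; exact hWn
  have hXcyc : IsCyclic ↥(A ⊓ Subgroup.centralizer (K : Set G) : Subgroup G) := by
    have : Fact (Nat.card ↥(A ⊓ Subgroup.centralizer (K : Set G) : Subgroup G)).Prime := ⟨hcardX ▸ hlp⟩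
    exact isCyclic_of_prime_card rfl
  have hL' : ⁅L, L⁆ ≤ Subgroup.centralizer ((A ⊓ Subgroup.centralizer (K : Set G) : Subgroup G) : Set G) :=
    Cfsg.Agent.Lib.Helper29.BG95.commutator_le_centralizer_of_isCyclic hXcyc hXn
  -- `U_L ≤ L'`
  obtain ⟨κ, hκ1⟩ := Subgroup.ne_bot_iff_exists_ne_one.mp hK1
  have hκK' : (κ : G) ∈ K := κ.2
  have hκ1' : (κ : G) ≠ 1 := fun h => hκ1 (Subtype.ext h)
  have hUL' : UL ≤ ⁅L, L⁆ :=
    Cfsg.Agent.Lib.Helper25.BG1431.U_le_commutator' hUL hKL hKU.normal hκK'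
      (h53 L hL K UL hKU κ hκK' hκ1')
  -- contradiction with S1429
  have hXle : A ⊓ Subgroup.centralizer (K : Set G) ≤ sigmaCore L ⊓ Subgroup.centralizer
      ((Subgroup.closure {x : G | x ∈ T ∧ x ^ r = 1} : Subgroup G) : Set G) := by
    refine le_inf (inf_le_left.trans hAσ) ?_
    rw [Subgroup.le_centralizer_iff]
    refine le_trans ?_ (hUL'.trans hL')
    rw [Subgroup.closure_le]
    intro x hx
    exact hT.le hx.1
  rw [h29] at hXle
  exact hX (le_bot_iff.mp hXle)

end Cfsg.Agent.Lib.Helper21.BG1435
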