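import Mathlib
import Cfsg.Prelude
import Cfsg.Agent.Lib.Helper11.BGFourteenD
import Cfsg.Agent.Lib.Helper7.BGTypesD
import Cfsg.Agent.S1375
import Cfsg.Agent.S1432
import Cfsg.Agent.S1438
import Cfsg.Agent.S1362
import Cfsg.Agent.S1434
import Cfsg.Agent.S1366
import Cfsg.Agent.S1354
import Cfsg.Agent.S1378
import Cfsg.Agent.S1430
import Cfsg.Agent.Lib.Helper2.BG14W
import Cfsg.Agent.Lib.Helper1.BGConjEq

/-!
# Peterfalvi (8.?) / B & G 16.1: the Dade hypothesis for `A₀(M)` (helper21), part A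

Generic lemmas: restriction of the Dade hypothesis to an invariant subset, the set normaliser of an
`M`-invariant subset of `M`, and the classification of the elements of `A₀(M)`.
-/

set_option autoImplicit false
set_option linter.style.haveILetI false
open Cfsg
open Cfsg.Agent.Lib.Helper10.BG
open Cfsg.Agent.Lib.Helper9.BGExc
open Cfsg.Agent.Lib.Helper11.BG14D
open Cfsg.Agent.Lib.Helper22 (IsPiElt)
open Cfsg.Agent.Lib.Helper11.BG14 (orderOf_pow_div exists_kappa_hall_ge)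
open Cfsg.Agent.Lib.Helper11.BG14C (supportR_eq_bot_of_le)

namespace Cfsg.Agent.Lib.Helper21.BG1537

variable {G : Type*} [Group G] [Finite G]

omit [Finite G] in
/-- the Dade hypothesis passes to `L`-invariant subsets. -/
theorem dade_mono {A B : Set G} {L : Subgroup G} {H : G → Subgroup G}
    (h : DadeHypothesis B L H) (hAB : A ⊆ B)
    (hinv : ∀ x ∈ L, ∀ a ∈ A, x * a * x⁻¹ ∈ A) : DadeHypothesis A L H where
  one_not_mem := fun h1 => h.one_not_mem (hAB h1)
  subset := fun a ha => h.subset (hAB ha)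
  conj_mem := hinv
  fusion := fun a ha g hg => h.fusion a (hAB ha) g (hAB hg)
  le_centralizer := fun a ha => h.le_centralizer a (hAB ha)
  conj_mem_H := fun a ha => h.conj_mem_H a (hAB ha)
  inf_eq_bot := fun a ha => h.inf_eq_bot a (hAB ha)
  sup_eq := fun a ha => h.sup_eq a (hAB ha)
  coprime := fun a ha b hb => h.coprime a (hAB ha) b (hAB hb)

/-- the set normaliser of a nonempty `M`-invariant subset of `M ∖ {1}` is `M`. -/
theorem normalizer_eq_of_invariant (hG : IsMinSimpleOddOrder G) {M : Subgroup G} (hM : IsCoatom M)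
    {A : Set G} (hsub : A ⊆ (M : Set G)) (h1 : (1 : G) ∉ A) (hne : A.Nonempty)
    (hinv : ∀ x ∈ M, ∀ a ∈ A, x * a * x⁻¹ ∈ A) : Subgroup.normalizer A = M := by
  have hMN : M ≤ Subgroup.normalizer A := by
    intro x hx
    rw [Subgroup.mem_set_normalizer_iff]
    intro n
    refine ⟨fun hn => hinv x hx n hn, fun hn => ?_⟩
    have h2 := hinv x⁻¹ (M.inv_mem hx) _ hn
    have h3 : x⁻¹ * (x * n * x⁻¹) * x⁻¹⁻¹ = n := by group
    rwa [h3] at h2
  have hcl : Subgroup.closure A ≤ M := (Subgroup.closure_le M).mpr hsub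
  have hcl1 : Subgroup.closure A ≠ ⊥ := by
    obtain ⟨a, ha⟩ := hne
    intro hb
    have h2 : a ∈ Subgroup.closure A := Subgroup.subset_closure ha
    rw [hb, Subgroup.mem_bot] at h2
    exact h1 (h2 ▸ ha)
  have hNN : Subgroup.normalizer A ≤ Subgroup.normalizer ((Subgroup.closure A : Subgroup G) : Set G) := by
    intro g hg
    rw [Subgroup.mem_set_normalizer_iff] at hg
    have key : ∀ g : G, (∀ n, n ∈ A ↔ g * n * g⁻¹ ∈ A) →
        ∀ n ∈ Subgroup.closure A, g * n * g⁻¹ ∈ Subgroup.closure A := by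
      intro g hg n hn
      have h2 : Subgroup.closure A ≤ (Subgroup.closure A).comap (MulAut.conj g).toMonoidHom := by
        rw [Subgroup.closure_le]
        intro a ha
        simp only [Subgroup.coe_comap, Set.mem_preimage, MulEquiv.coe_toMonoidHom,
          MulAut.conj_apply, SetLike.mem_coe]
        exact Subgroup.subset_closure ((hg a).mp ha)
      have h3 := h2 hn
      simpa using h3
    rw [Subgroup.mem_normalizer_iff]
    intro n
    refine ⟨key g hg n, fun hn => ?_⟩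
    have hg' : ∀ n, n ∈ A ↔ g⁻¹ * n * g⁻¹⁻¹ ∈ A := by
      intro n
      rw [hg (g⁻¹ * n * g⁻¹⁻¹)]
      have : g * (g⁻¹ * n * g⁻¹⁻¹) * g⁻¹ = n := by group
      rw [this]
    have h2 := key g⁻¹ hg' _ hn
    have h3 : g⁻¹ * (g * n * g⁻¹) * g⁻¹⁻¹ = n := by group
    rwa [h3] at h2
  have hMcl : M ≤ Subgroup.normalizer ((Subgroup.closure A : Subgroup G) : Set G) := hMN.trans hNN
  have h5 := normalizer_eq_of_isCoatom' hG hM hcl1 hcl hMcl
  exact le_antisymm (h5 ▸ hNN) hMN


/-- the frozen row S1436 (a), as a hypothesis. -/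
def P1436a (G : Type*) [Group G] [Finite G] : Prop :=
  ∀ (M : Subgroup G), IsCoatom M → ∀ x : G, x ∈ sigmaCore M → x ≠ 1 →
    ¬ Subgroup.centralizer ({x} : Set G) ≤ M → ∀ N : Subgroup G, IsCoatom N →
    Subgroup.centralizer ({x} : Set G) ≤ N →
    (∃ p ∈ sigma N, p ∣ Nat.card M) → kappa M = ∅ ∧ tau2 M = ∅

/-- an element of `M` outside `M_σ` has a prime divisor of its order outside `σ(M)`. -/
theorem exists_prime_not_sigma (hG : IsMinSimpleOddOrder G) {M : Subgroup G} (hM : IsCoatom M)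
    {a : G} (haM : a ∈ M) (haσ : a ∉ sigmaCore M) :
    ∃ p : ℕ, p.Prime ∧ p ∣ orderOf a ∧ p ∉ sigma M := by
  by_contra hcon
  push Not at hcon
  exact haσ (mem_sigmaCore_of_isPiElt hG hM haM (fun q hq hd => hcon q hq hd))

omit [Finite G] in
theorem conj_pow' (m a : G) (n : ℕ) : m⁻¹ * a ^ n * m = (m⁻¹ * a * m) ^ n := by
  induction n with
  | zero => simp
  | succ n ih => rw [pow_succ, pow_succ, ← ih]; group

omit [Finite G] in
theorem conj_pow'' (g a : G) (n : ℕ) : g * a ^ n * g⁻¹ = (g * a * g⁻¹) ^ n := by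
  induction n with
  | zero => simp
  | succ n ih => rw [pow_succ, pow_succ, ← ih]; group

/-- **Classification of the elements of `A₀(M)` outside `M_σ`.** -/
theorem classify (hG : IsMinSimpleOddOrder G) {M K U : Subgroup G} (hM : IsCoatom M)
    (hKU : IsSigmaDecomposition M K U) {a : G} (ha : a ∈ sigmaA0 M K) (haσ : a ∉ sigmaCore M) :
    Subgroup.centralizer ({a} : Set G) ≤ M ∧
      ((K ≠ ⊥ ∧ ∃ m ∈ M, m⁻¹ * a * m ∈ Zh M K) ∨
       ∃ p : ℕ, p.Prime ∧ p ∣ orderOf a ∧ p ∈ tau2 M ∧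
         Subgroup.centralizer ({a ^ (orderOf a / p)} : Set G) ≤ M ∧
         ∀ L : Subgroup G, IsCoatom L →
           Subgroup.centralizer ({a ^ (orderOf a / p)} : Set G) ≤ L → L = M) := by
  obtain ⟨⟨haM, y, hy, hy1, hay⟩, hnK⟩ := ha
  obtain ⟨p, hp, hpa, hpσ⟩ := exists_prime_not_sigma hG hM haM haσ
  haveI : Fact p.Prime := ⟨hp⟩
  have hwo : orderOf (a ^ (orderOf a / p)) = p := orderOf_pow_div hpa
  have hw1 : a ^ (orderOf a / p) ≠ 1 := by
    intro h
    rw [h, orderOf_one] at hwo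
    exact hp.one_lt.ne hwo
  have hwM : a ^ (orderOf a / p) ∈ M := M.pow_mem haM _
  have hcomm : Commute a y := hay
  have hwy : a ^ (orderOf a / p) * y = y * a ^ (orderOf a / p) := (hcomm.pow_left _).eq
  have hwC : a ^ (orderOf a / p) ∈ M ⊓ Subgroup.centralizer ({y} : Set G) :=
    Subgroup.mem_inf.mpr ⟨hwM, Subgroup.mem_centralizer_singleton_iff.mpr hwy⟩
  have hwσ : ∀ q : ℕ, q.Prime → q ∣ orderOf (a ^ (orderOf a / p)) → q ∉ sigma M := by
    intro q hq hd
    rw [hwo] at hd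
    rw [(Nat.prime_dvd_prime_iff_eq hq hp).mp hd]
    exact hpσ
  have hCaw : Subgroup.centralizer ({a} : Set G) ≤
      Subgroup.centralizer ({a ^ (orderOf a / p)} : Set G) :=
    Cfsg.Agent.Lib.Helper2.BG14T.centralizer_le_centralizer_pow a _
  rcases Cfsg.Agent.S1432.result hG M hM y hy hy1 _ hwC hw1 hwσ with ⟨hκ, -⟩ | ⟨hτ, -, hCw, huniq⟩
  · -- the `κ` alternative
    have hpκ : p ∈ kappa M := hκ p hp (by rw [hwo])
    obtain ⟨K₀, hK₀, hle⟩ := exists_kappa_hall_ge hG hM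
      (Subgroup.zpowers_le.mpr hwM) (fun q hq hd => by
        rw [Nat.card_zpowers, hwo] at hd
        rw [(Nat.prime_dvd_prime_iff_eq hq hp).mp hd]
        exact hpκ)
    obtain ⟨m, hm, hK₀eq⟩ := kappa_hall_conj hG hM hKU.hall hK₀
    have hwK₀ : a ^ (orderOf a / p) ∈ cj m K := hK₀eq ▸ hle (Subgroup.mem_zpowers _)
    have hkK : (m⁻¹ * a * m) ^ (orderOf a / p) ∈ K := by
      rw [← conj_pow']
      exact mem_cj.mp hwK₀
    have hk1 : (m⁻¹ * a * m) ^ (orderOf a / p) ≠ 1 := by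
      rw [← conj_pow']
      intro h
      apply hw1
      have : a ^ (orderOf a / p) = m * (m⁻¹ * a ^ (orderOf a / p) * m) * m⁻¹ := by group
      rw [this, h]; group
    have hK1 : K ≠ ⊥ := by
      intro h
      rw [h, Subgroup.mem_bot] at hkK
      exact hk1 hkK
    have ha'M : m⁻¹ * a * m ∈ M := M.mul_mem (M.mul_mem (M.inv_mem hm) haM) hm
    have h54 := (Cfsg.Agent.S1354.result hG M hM K hKU.cyclic hKU.hall).2 hK1 _ hkK hk1
    have ha'C : m⁻¹ * a * m ∈ K ⊔ (sigmaCore M ⊓ Subgroup.centralizer (K : Set G)) := by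
      rw [← h54]
      refine Subgroup.mem_inf.mpr ⟨ha'M, Subgroup.mem_centralizer_singleton_iff.mpr ?_⟩
      exact ((Commute.refl (m⁻¹ * a * m)).pow_right _).eq
    have ha'K : m⁻¹ * a * m ∉ K := by
      intro h
      apply hnK
      refine ⟨m⁻¹ * a * m, h, ?_, m, hm, by group⟩
      intro h1
      rw [h1, one_pow] at hk1
      exact hk1 rfl
    have ha'S : m⁻¹ * a * m ∉ sigmaCore M ⊓ Subgroup.centralizer (K : Set G) := by
      intro h
      have h2 : (m⁻¹ * a * m) ^ (orderOf a / p) ∈ sigmaCore M :=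
        (sigmaCore M).pow_mem (Subgroup.mem_inf.mp h).1 _
      have h3 : orderOf ((m⁻¹ * a * m) ^ (orderOf a / p)) = p := by
        rw [← conj_pow']
        have : m⁻¹ * a ^ (orderOf a / p) * m = m⁻¹ * a ^ (orderOf a / p) * m⁻¹⁻¹ := by group
        rw [this, orderOf_conj', hwo]
      exact hpσ (mem_sigma_of_mem_sigmaCore hG hM h2 hp (by rw [h3]))
    have hz : m⁻¹ * a * m ∈ Zh M K := by
      refine ⟨ha'C, ?_⟩
      rintro (h | h)
      · exact ha'K h
      · exact ha'S h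
    refine ⟨?_, Or.inl ⟨hK1, m, hm, hz⟩⟩
    -- `C_G(a) ≤ M`
    obtain ⟨Mstar, ⟨hMst, hKst, hKstH⟩, -⟩ := Cfsg.Agent.S1366.result hG M hM K U hKU hK1
    have h34 := (Cfsg.Agent.S1434.result hG M hM K U hKU hK1 Mstar hMst hKst hKstH).2.2.1
    have hcommKS : ∀ x ∈ K, ∀ y' ∈ sigmaCore M ⊓ Subgroup.centralizer (K : Set G),
        x * y' = y' * x := by
      intro x hx y' hy'
      exact (Subgroup.mem_centralizer_iff.mp (Subgroup.mem_inf.mp hy').2) x hx
    obtain ⟨x, hx, y', hy', hxy⟩ := mem_sup_of_commute' hcommKS ha'C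
    have hx1 : x ≠ 1 := by
      intro h
      apply ha'S
      rw [hxy, h, one_mul]; exact hy'
    have hy'1 : y' ≠ 1 := by
      intro h
      apply ha'K
      rw [hxy, h, mul_one]; exact hx
    have hC' : Subgroup.centralizer ({m⁻¹ * a * m} : Set G) ≤ M := by
      rw [hxy, (h34 x hx hx1 y' hy' hy'1).2.2]
      exact sup_le hKU.hall.1 (inf_le_left.trans (sigmaCore_le M))
    intro c hc
    have h1 : m⁻¹ * c * m ∈ Subgroup.centralizer ({m⁻¹ * a * m} : Set G) := by
      rw [Subgroup.mem_centralizer_singleton_iff] at hc ⊢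
      calc m⁻¹ * c * m * (m⁻¹ * a * m) = m⁻¹ * (c * a) * m := by group
        _ = m⁻¹ * (a * c) * m := by rw [hc]
        _ = m⁻¹ * a * m * (m⁻¹ * c * m) := by group
    have h2 := hC' h1
    have : c = m * (m⁻¹ * c * m) * m⁻¹ := by group
    rw [this]
    exact M.mul_mem (M.mul_mem hm h2) (M.inv_mem hm)
  · -- the `τ₂` alternative
    have hpτ : p ∈ tau2 M := hτ p hp (by rw [hwo])
    exact ⟨hCaw.trans hCw, Or.inr ⟨p, hp, hpa, hpτ, hCw, huniq⟩⟩

end Cfsg.Agent.Lib.Helper21.BG1537
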