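import Mathlib
import Cfsg.Prelude
import Cfsg.Agent.Lib.Helper21.BG1537A
import Cfsg.Agent.Lib.Helper2.BG14X

/-!
# The Dade hypothesis for `A₀(M)` (helper21), part B: the master statement

`dade_sigmaA0`: for a maximal subgroup `M = K U M_σ`, the Dade hypothesis holds for
`A₀(M) ∖ {1}` (B & G's set `sigmaA0 M K`), `M` and `a ↦ R(a) = supportR M a`,
relative to the frozen row S1436 (a).
-/

set_option autoImplicit false
set_option linter.style.haveILetI false
open Cfsg
open Cfsg.Agent.Lib.Helper10.BG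
open Cfsg.Agent.Lib.Helper9.BGExc
open Cfsg.Agent.Lib.Helper11.BG14D
open Cfsg.Agent.Lib.Helper22 (IsPiElt)
open Cfsg.Agent.Lib.Helper11.BG14 (orderOf_pow_div)
open Cfsg.Agent.Lib.Helper11.BG14C (supportR_eq_bot_of_le)

namespace Cfsg.Agent.Lib.Helper21.BG1537

variable {G : Type*} [Group G] [Finite G]

omit [Finite G] in
/-- `A₀(M) ∖ {1}` is `M`-invariant. -/
theorem conj_mem_sigmaA0 {M K : Subgroup G} {x a : G} (hx : x ∈ M)
    (ha : a ∈ sigmaA0 M K \ {1}) : x * a * x⁻¹ ∈ sigmaA0 M K \ {1} := by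
  obtain ⟨⟨⟨haM, y, hy, hy1, hay⟩, hnK⟩, ha1⟩ := ha
  refine ⟨⟨⟨M.mul_mem (M.mul_mem hx haM) (M.inv_mem hx), x * y * x⁻¹, ?_, ?_, ?_⟩, ?_⟩, ?_⟩
  · have h1 := le_normalizer_sigmaCore M hx
    exact (Subgroup.mem_normalizer_iff.mp h1 y).mp hy
  · intro h
    apply hy1
    have : y = x⁻¹ * (x * y * x⁻¹) * x := by group
    rw [this, h]; group
  · calc x * a * x⁻¹ * (x * y * x⁻¹) = x * (a * y) * x⁻¹ := by group
      _ = x * (y * a) * x⁻¹ := by rw [hay]
      _ = x * y * x⁻¹ * (x * a * x⁻¹) := by group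
  · rintro ⟨k, hk, hk1, m, hm, he⟩
    apply hnK
    refine ⟨k, hk, hk1, x⁻¹ * m, M.mul_mem (M.inv_mem hx) hm, ?_⟩
    have : a = x⁻¹ * (x * a * x⁻¹) * x := by group
    rw [this, he]; group
  · intro h
    apply ha1
    have h' : x * a * x⁻¹ = 1 := h
    have : a = x⁻¹ * (x * a * x⁻¹) * x := by group
    rw [Set.mem_singleton_iff, this, h']; group

/-- fusion in `A₀(M)` is controlled by `M`. -/
theorem fusion_sigmaA0 (hG : IsMinSimpleOddOrder G) {M K U : Subgroup G} (hM : IsCoatom M)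
    (hKU : IsSigmaDecomposition M K U) {a : G} (ha : a ∈ sigmaA0 M K \ {1}) (g : G)
    (hb : g * a * g⁻¹ ∈ sigmaA0 M K \ {1}) : ∃ x ∈ M, x * a * x⁻¹ = g * a * g⁻¹ := by
  have hbM : g * a * g⁻¹ ∈ M := hb.1.1.1
  by_cases haσ : a ∈ sigmaCore M
  · -- `a ∈ M_σ`
    have hbσ : g * a * g⁻¹ ∈ sigmaCore M := by
      apply mem_sigmaCore_of_isPiElt hG hM hbM
      intro q hq hd
      rw [orderOf_conj'] at hd
      exact mem_sigma_of_mem_sigmaCore hG hM haσ hq hd
    have hcop : (Nat.card (sigmaCore M)).Coprime ((sigmaCore M).relIndex (sigmaCore M)) := by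
      rw [Subgroup.relIndex_self]; exact Nat.coprime_one_right _
    obtain ⟨n, hn, hne⟩ := (Cfsg.Agent.S1438.result hG M hM (sigmaCore M) le_rfl
      (sigmaCore_ne_bot hG hM) hcop).2 a haσ g hbσ
    exact ⟨n, (Subgroup.mem_inf.mp hn).1, hne⟩
  · obtain ⟨hCa, hcase⟩ := classify hG hM hKU ha.1 haσ
    suffices hgM : g ∈ M from ⟨g, hgM, rfl⟩
    rcases hcase with ⟨hK1, m, hm, hz⟩ | ⟨p, hp, hpa, hpτ, hCw, huniq⟩
    · -- `Ẑ` case
      by_contra hg
      obtain ⟨Mstar, ⟨hMst, hKst, hKstH⟩, -⟩ := Cfsg.Agent.S1366.result hG M hM K U hKU hK1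
      have h34 := (Cfsg.Agent.S1434.result hG M hM K U hKU hK1 Mstar hMst hKst hKstH).2.2.2.1
      have hg' : m⁻¹ * g⁻¹ ∉ M := by
        intro h
        apply hg
        have h2 := M.mul_mem hm h
        have h3 : m * (m⁻¹ * g⁻¹) = g⁻¹ := by group
        rw [h3] at h2
        exact M.inv_mem_iff.mp h2
      apply h34 (m⁻¹ * g⁻¹) hg' (m⁻¹ * a * m) hz
      apply mem_cj.mpr
      have : (m⁻¹ * g⁻¹)⁻¹ * (m⁻¹ * a * m) * (m⁻¹ * g⁻¹) = g * a * g⁻¹ := by group
      rw [this]; exact hbM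
    · -- `τ₂` case
      haveI : Fact p.Prime := ⟨hp⟩
      obtain ⟨⟨⟨-, yb, hyb, hyb1, hbyb⟩, -⟩, -⟩ := hb
      have hob : orderOf (g * a * g⁻¹) = orderOf a := orderOf_conj' g a
      have hwb : (g * a * g⁻¹) ^ (orderOf a / p) = g * a ^ (orderOf a / p) * g⁻¹ :=
        (conj_pow'' g a _).symm
      have hwo : orderOf (a ^ (orderOf a / p)) = p := orderOf_pow_div hpa
      have hwbo : orderOf ((g * a * g⁻¹) ^ (orderOf a / p)) = p := by
        rw [hwb, orderOf_conj', hwo]
      have hwb1 : (g * a * g⁻¹) ^ (orderOf a / p) ≠ 1 := by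
        intro h
        rw [h, orderOf_one] at hwbo
        exact hp.one_lt.ne hwbo
      have hcomm : Commute (g * a * g⁻¹) yb := hbyb
      have hwbC : (g * a * g⁻¹) ^ (orderOf a / p) ∈ M ⊓ Subgroup.centralizer ({yb} : Set G) :=
        Subgroup.mem_inf.mpr ⟨M.pow_mem hbM _,
          Subgroup.mem_centralizer_singleton_iff.mpr (hcomm.pow_left _).eq⟩
      have hwbσ : ∀ q : ℕ, q.Prime → q ∣ orderOf ((g * a * g⁻¹) ^ (orderOf a / p)) →
          q ∉ sigma M := by
        intro q hq hd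
        rw [hwbo] at hd
        rw [(Nat.prime_dvd_prime_iff_eq hq hp).mp hd]
        exact hpτ.2.1
      have huniqb : ∀ L : Subgroup G, IsCoatom L →
          Subgroup.centralizer ({(g * a * g⁻¹) ^ (orderOf a / p)} : Set G) ≤ L → L = M := by
        rcases Cfsg.Agent.S1432.result hG M hM yb hyb hyb1 _ hwbC hwb1 hwbσ with
          ⟨hκ, -⟩ | ⟨-, -, -, hu⟩
        · exact absurd (hκ p hp (by rw [hwbo]))
            (Cfsg.Agent.Lib.Helper2.BG14T.not_mem_kappa_of_mem_tau2 hpτ)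
        · exact hu
      have hle : Subgroup.centralizer ({(g * a * g⁻¹) ^ (orderOf a / p)} : Set G) ≤ cj g M := by
        intro c hc
        apply mem_cj.mpr
        apply hCw
        rw [hwb] at hc
        rw [Subgroup.mem_centralizer_singleton_iff] at hc ⊢
        calc g⁻¹ * c * g * a ^ (orderOf a / p)
            = g⁻¹ * (c * (g * a ^ (orderOf a / p) * g⁻¹)) * g := by group
          _ = g⁻¹ * (g * a ^ (orderOf a / p) * g⁻¹ * c) * g := by rw [hc]
          _ = a ^ (orderOf a / p) * (g⁻¹ * c * g) := by group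
      have heq := huniqb (cj g M) (isCoatom_map_conj g hM) hle
      exact mem_of_map_conj_eq_self hG hM heq


/-- the value of `R(a)` for `a ∈ A₀(M)`: trivial unless `a ∈ M_σ` and `C_G(a) ≰ M`. -/
theorem supportR_cases' (hG : IsMinSimpleOddOrder G) {M K U : Subgroup G} (hM : IsCoatom M)
    (hKU : IsSigmaDecomposition M K U) {a : G} (ha : a ∈ sigmaA0 M K \ {1}) :
    (Subgroup.centralizer ({a} : Set G) ≤ M ∧ supportR M a = ⊥) ∨
    (a ∈ sigmaCore M ∧ ¬ Subgroup.centralizer ({a} : Set G) ≤ M ∧ ∃ (N : Subgroup G) (q : ℕ),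
      IsCoatom N ∧ Cfsg.Agent.Lib.Helper2.BG14T.Data M N a q ∧
      supportR M a = sigmaCore N ⊓ Subgroup.centralizer ({a} : Set G)) := by
  by_cases haσ : a ∈ sigmaCore M
  · rcases Cfsg.Agent.Lib.Helper2.BG14T.supportR_cases hG
      (Cfsg.Agent.Lib.Helper2.BG14T.h30c_of_p1430 (Cfsg.Agent.S1430.result hG)) hM haσ ha.2
      with h | ⟨h1, N, q, -, -, hN, -, hD, h2⟩
    · exact Or.inl h
    · exact Or.inr ⟨haσ, h1, N, q, hN, hD, h2⟩
  · have hC := (classify hG hM hKU ha.1 haσ).1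
    exact Or.inl ⟨hC, supportR_eq_bot_of_le hC⟩

/-- **The Dade hypothesis for `A₀(M)`** (B & G 16.1 / Peterfalvi 8.?), relative to S1436 (a). -/
theorem dade_sigmaA0 (hG : IsMinSimpleOddOrder G) (h36 : P1436a G) {M K U : Subgroup G}
    (hM : IsCoatom M) (hKU : IsSigmaDecomposition M K U) :
    DadeHypothesis (sigmaA0 M K \ {1}) M (supportR M) where
  one_not_mem := fun h => h.2 rfl
  subset := fun a ha => ha.1.1.1
  conj_mem := fun x hx a ha => conj_mem_sigmaA0 hx ha
  fusion := fun a ha g hb => fusion_sigmaA0 hG hM hKU ha g hb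
  le_centralizer := fun a _ => Cfsg.Agent.Lib.Helper1.BGConjEq.supportR_le_centralizer M a
  conj_mem_H := by
    intro a ha c hc u hu
    rcases supportR_cases' hG hM hKU ha with ⟨-, h⟩ | ⟨-, -, N, q, hN, hD, h⟩
    · rw [h, Subgroup.mem_bot] at hu
      rw [hu, mul_one, mul_inv_cancel]; exact one_mem _
    · rw [h] at hu ⊢
      obtain ⟨hu1, hu2⟩ := Subgroup.mem_inf.mp hu
      refine Subgroup.mem_inf.mpr ⟨?_, ?_⟩
      · have h1 := le_normalizer_sigmaCore N (hD.cent_le hc)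
        exact (Subgroup.mem_normalizer_iff.mp h1 u).mp hu1
      · exact Subgroup.mul_mem _ (Subgroup.mul_mem _ hc hu2) (Subgroup.inv_mem _ hc)
  inf_eq_bot := by
    intro a ha
    rcases supportR_cases' hG hM hKU ha with ⟨-, h⟩ | ⟨-, -, N, q, hN, hD, h⟩
    · rw [h]; exact bot_inf_eq _
    · rw [h, eq_bot_iff, ← hD.disj]
      exact inf_le_inf inf_le_left inf_le_left
  sup_eq := by
    intro a ha
    rcases supportR_cases' hG hM hKU ha with ⟨hC, h⟩ | ⟨-, -, N, q, hN, hD, h⟩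
    · rw [h, bot_sup_eq]; exact inf_eq_right.mpr hC
    · rw [h]
      apply le_antisymm (sup_le inf_le_right inf_le_right)
      intro c hc
      obtain ⟨a', ha', b', hb', he⟩ := hD.complC.2.2.2 c hc
      rw [he]
      exact Subgroup.mul_mem _ (Subgroup.mem_sup_right ha') (Subgroup.mem_sup_left hb')
  coprime := by
    intro a ha b hb
    rcases supportR_cases' hG hM hKU ha with ⟨-, h⟩ | ⟨haσ, hCa, N, q, hN, hD, h⟩
    · rw [h, Subgroup.card_bot]; exact Nat.coprime_one_left _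
    · apply Nat.Coprime.symm
      apply Nat.coprime_of_dvd
      intro r hr hd1 hd2
      -- `r ∈ σ(N)` divides `|M|`
      have hrN : r ∈ sigma N := by
        apply mem_sigma_of_dvd_card_sigmaCore hG hN hr
        rw [h] at hd2
        exact hd2.trans (Subgroup.card_dvd_of_le inf_le_left)
      have hrM : r ∣ Nat.card M := hd1.trans (Subgroup.card_dvd_of_le inf_le_left)
      obtain ⟨hκ, hτ⟩ := h36 M hM a haσ ha.2 hCa N hN hD.cent_le ⟨r, hrN, hrM⟩
      -- no `σ(M)'`-element of `M` centralizes a non-identity element of `M_σ`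
      have key : ∀ y ∈ sigmaCore M, y ≠ 1 → ∀ w ∈ M, w * y = y * w → w ≠ 1 →
          (∀ s : ℕ, s.Prime → s ∣ orderOf w → s ∉ sigma M) → False := by
        intro y hy hy1 w hw hwy hw1 hwσ
        obtain ⟨s, hs, hsw⟩ := exists_prime_dvd_orderOf hw1
        rcases Cfsg.Agent.S1432.result hG M hM y hy hy1 w
          (Subgroup.mem_inf.mpr ⟨hw, Subgroup.mem_centralizer_singleton_iff.mpr hwy⟩) hw1 hwσ with
          ⟨h1, -⟩ | ⟨h1, -⟩
        · have := h1 s hs hsw
          rw [hκ] at this; exact this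
        · have := h1 s hs hsw
          rw [hτ] at this; exact this
      have hrσ : r ∉ sigma M := by
        intro hrσ
        obtain ⟨g', hg'⟩ := (Cfsg.Agent.S1378.result hG).2 M N hM hN ⟨r, hrσ, hrN⟩
        exact hD.nconj g' hg'
      by_cases hbσ : b ∈ sigmaCore M
      · haveI : Fact r.Prime := ⟨hr⟩
        obtain ⟨w, hw⟩ := exists_prime_orderOf_dvd_card' r hd1
        have hwC := w.2
        apply key b hbσ hb.2 (w : G) (Subgroup.mem_inf.mp hwC).1
          (Subgroup.mem_centralizer_singleton_iff.mp (Subgroup.mem_inf.mp hwC).2)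
        · intro h1
          have h2 : w = 1 := Subtype.ext h1
          rw [h2, orderOf_one] at hw
          exact hr.one_lt.ne hw
        · intro s hs hd
          rw [Subgroup.orderOf_coe, hw] at hd
          rw [(Nat.prime_dvd_prime_iff_eq hs hr).mp hd]
          exact hrσ
      · obtain ⟨⟨⟨hbM, y, hy, hy1, hby⟩, -⟩, -⟩ := hb
        obtain ⟨s, hs, hsb, hsσ⟩ := exists_prime_not_sigma hG hM hbM hbσ
        have hwo : orderOf (b ^ (orderOf b / s)) = s := orderOf_pow_div hsb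
        have hcomm : Commute b y := hby
        apply key y hy hy1 (b ^ (orderOf b / s)) (M.pow_mem hbM _) (hcomm.pow_left _).eq
        · intro h1
          rw [h1, orderOf_one] at hwo
          exact hs.one_lt.ne hwo
        · intro t ht hd
          rw [hwo] at hd
          rw [(Nat.prime_dvd_prime_iff_eq ht hs).mp hd]
          exact hsσ

end Cfsg.Agent.Lib.Helper21.BG1537
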