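import Mathlib
import Cfsg.Prelude
import Cfsg.Agent.Lib.Helper21.BG1537B
import Cfsg.Agent.Lib.Helper7.BGTypesF
import Cfsg.Agent.Lib.Helper1.BG153
import Cfsg.Agent.S1351
import Cfsg.Agent.S1352
import Cfsg.Agent.S1355
import Cfsg.Agent.S1357
import Cfsg.Agent.S1363
import Cfsg.Agent.S1364
import Cfsg.Agent.S1365
import Cfsg.Agent.S1382

/-!
# The Dade hypothesis for `A₁(M)`, `A(M)`, `A₀(M)` (frozen row S1537), helper21, part C

The three sets of the "types" vocabulary are `M`-invariant nonempty subsets of B & G's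
`A₀(M) ∖ {1} = sigmaA0 M K ∖ {1}`; the statement then follows from `dade_sigmaA0`.
-/

set_option autoImplicit false
set_option linter.style.haveILetI false
open Cfsg
open Cfsg.Agent.Lib.Helper10.BG
open Cfsg.Agent.Lib.Helper9.BGExc
open Cfsg.Agent.Lib.Helper11.BG14D
open Cfsg.Agent.Lib.Helper7.BGTypes

namespace Cfsg.Agent.Lib.Helper21.BG1537

variable {G : Type*} [Group G] [Finite G]

/-- `M_s = M_σ` for every maximal subgroup. -/
theorem typeCore_eq_sigmaCore (hG : IsMinSimpleOddOrder G) {M : Subgroup G} (hM : IsCoatom M) :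
    typeCore M = sigmaCore M := by
  by_cases h : IsOfTypeIII M ∨ IsOfTypeIV M
  · rw [typeCore_eq_pos h]
    exact commutator_eq_sigmaCore_of_typeIII_IV hG
      (fun M hM => Cfsg.Agent.S1351.result hG M hM)
      (fun M hM K hKc hK => Cfsg.Agent.S1352.result hG M hM K hKc hK)
      (fun M hM K U hKU hne => Cfsg.Agent.S1357.result hG M hM K U hKU hne)
      (fun M hM K U hKU hK1 => Cfsg.Agent.S1363.result hG M hM K U hKU hK1)
      (fun M hM K U hKU hK1 => Cfsg.Agent.S1365.result hG M hM K U hKU hK1) hM h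
  · rw [typeCore_eq_neg h]
    by_contra hne
    apply h
    obtain ⟨K, U, hKU⟩ := Cfsg.Agent.Lib.Helper1.BG153.exists_decomp hG hM
    obtain ⟨hU, -, hKp⟩ := Cfsg.Agent.S1357.result hG M hM K U hKU hne
    have hK1 : K ≠ ⊥ := by
      intro hb
      rw [hb, Subgroup.card_bot] at hKp
      exact Nat.not_prime_one hKp
    exact (Cfsg.Agent.S1382.result hG M hM K U hKU).mpr ⟨hK1, hU, hne⟩

/-- no non-identity element of `M_σ` is `M`-conjugate into `K`; more generally no element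
whose order is divisible by a prime of `σ(M)`. -/
theorem not_conj_K_of_sigma_prime {M K : Subgroup G} (hK : IsPiHallOf (kappa M) K M) {a : G}
    {s : ℕ} (hs : s.Prime) (hsa : s ∣ orderOf a) (hsσ : s ∈ sigma M) :
    a ∉ {a | ∃ k ∈ K, k ≠ 1 ∧ ∃ m ∈ M, a = m * k * m⁻¹} := by
  rintro ⟨k, hk, -, m, -, rfl⟩
  rw [orderOf_conj'] at hsa
  have h1 : s ∈ kappa M := hK.2.1 s hs (hsa.trans (Subgroup.orderOf_dvd_natCard _ hk))
  exact h1.2.2.1 hsσ

/-- `A₁(M) ⊆ A₀(M) ∖ {1}`. -/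
theorem typeA1_subset (hG : IsMinSimpleOddOrder G) {M K U : Subgroup G} (hM : IsCoatom M)
    (hKU : IsSigmaDecomposition M K U) : typeA1 M ⊆ sigmaA0 M K \ {1} := by
  intro a ha
  obtain ⟨haS, ha1⟩ := ha
  rw [SetLike.mem_coe, typeCore_eq_sigmaCore hG hM] at haS
  have ha1' : a ≠ 1 := ha1
  refine ⟨⟨⟨sigmaCore_le M haS, a, haS, ha1', rfl⟩, ?_⟩, ha1⟩
  obtain ⟨s, hs, hsa⟩ := exists_prime_dvd_orderOf ha1'
  exact not_conj_K_of_sigma_prime hKU.hall hs hsa (mem_sigma_of_mem_sigmaCore hG hM haS hs hsa)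

/-- a non-identity element of `M'` is not conjugate into `K`. -/
theorem not_conj_K_of_mem_commutator (hG : IsMinSimpleOddOrder G) {M K U : Subgroup G}
    (hM : IsCoatom M) (hKU : IsSigmaDecomposition M K U) {a : G} (ha : a ∈ ⁅M, M⁆) :
    a ∉ {a | ∃ k ∈ K, k ≠ 1 ∧ ∃ m ∈ M, a = m * k * m⁻¹} := by
  rintro ⟨k, hk, hk1, m, hm, rfl⟩
  have hK1 : K ≠ ⊥ := by
    intro hb
    rw [hb, Subgroup.mem_bot] at hk
    exact hk1 hk
  obtain ⟨Mstar, ⟨hMst, hKst, hKstH⟩, -⟩ := Cfsg.Agent.S1366.result hG M hM K U hKU hK1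
  have h34 := (Cfsg.Agent.S1434.result hG M hM K U hKU hK1 Mstar hMst hKst hKstH).1
  obtain ⟨s, hs, hsk⟩ := exists_prime_dvd_orderOf hk1
  have h1 : s ∈ kappa M := hKU.hall.2.1 s hs (hsk.trans (Subgroup.orderOf_dvd_natCard _ hk))
  rw [h34] at h1
  apply h1.2.2.2.1
  have h2 : s ∣ orderOf (m * k * m⁻¹) := by rw [orderOf_conj']; exact hsk
  exact h2.trans (Subgroup.orderOf_dvd_natCard _ ha)

/-- `M` of Type I has `K = 1`. -/
theorem K_eq_bot_of_typeI (hG : IsMinSimpleOddOrder G) {M K : Subgroup G} (hM : IsCoatom M)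
    (hK : IsPiHallOf (kappa M) K M) (hI : IsOfTypeI M) : K = ⊥ := by
  by_contra hK1
  obtain ⟨⟨k, hk⟩, hk1'⟩ := (Subgroup.ne_bot_iff_exists_ne_one).mp hK1
  have hk1 : k ≠ 1 := fun h => hk1' (Subtype.ext h)
  obtain ⟨s, hs, hsk⟩ := exists_prime_dvd_orderOf hk1
  have h1 : s ∈ kappa M := hK.2.1 s hs (hsk.trans (Subgroup.orderOf_dvd_natCard _ hk))
  exact not_typeI_of_kappa_nonempty hG
    (fun M hM => Cfsg.Agent.S1351.result hG M hM)
    (fun M hM K hKc hK => Cfsg.Agent.S1352.result hG M hM K hKc hK)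
    (fun M hM K U hKU hne => Cfsg.Agent.S1357.result hG M hM K U hKU hne)
    (fun M hM K U hKU hK1 => Cfsg.Agent.S1364.result hG M hM K U hKU hK1) hM h1 hI


omit [Finite G] in
theorem conj_mem_commutator {M : Subgroup G} {x a : G} (hx : x ∈ M) (ha : a ∈ ⁅M, M⁆) :
    x * a * x⁻¹ ∈ ⁅M, M⁆ := by
  have h : (⁅M, M⁆ : Subgroup G) ≤ (⁅M, M⁆ : Subgroup G).comap (MulAut.conj x).toMonoidHom := by
    rw [Subgroup.commutator_le]
    intro k hk b hb
    simp only [Subgroup.mem_comap, MulEquiv.coe_toMonoidHom, MulAut.conj_apply]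
    have h1 : x * (k * b * k⁻¹ * b⁻¹) * x⁻¹ =
        (x * k * x⁻¹) * (x * b * x⁻¹) * (x * k * x⁻¹)⁻¹ * (x * b * x⁻¹)⁻¹ := by group
    rw [commutatorElement_def, h1, ← commutatorElement_def]
    exact Subgroup.commutator_mem_commutator (M.mul_mem (M.mul_mem hx hk) (M.inv_mem hx))
      (M.mul_mem (M.mul_mem hx hb) (M.inv_mem hx))
  simpa using h ha

omit [Finite G] in
theorem conj_ne_one {x a : G} (ha : a ≠ 1) : x * a * x⁻¹ ≠ 1 := by
  intro h
  apply ha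
  have h3 : a = x⁻¹ * (x * a * x⁻¹) * x := by group
  rw [h3, h]; group

omit [Finite G] in
theorem conj_commute {x a y : G} (h : a * y = y * a) :
    x * a * x⁻¹ * (x * y * x⁻¹) = x * y * x⁻¹ * (x * a * x⁻¹) := by
  calc x * a * x⁻¹ * (x * y * x⁻¹) = x * (a * y) * x⁻¹ := by group
    _ = x * (y * a) * x⁻¹ := by rw [h]
    _ = x * y * x⁻¹ * (x * a * x⁻¹) := by group

/-- `A(M) ⊆ A₀(M) ∖ {1}`. -/
theorem typeA_subset (hG : IsMinSimpleOddOrder G) {M K U : Subgroup G} (hM : IsCoatom M)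
    (hKU : IsSigmaDecomposition M K U) : typeA M ⊆ sigmaA0 M K \ {1} := by
  intro a ha
  unfold typeA at ha
  split_ifs at ha with hI
  · obtain ⟨haM, ha1, x, hx, hx1, hax⟩ := ha
    have hK : K = ⊥ := K_eq_bot_of_typeI hG hM hKU.hall hI
    refine ⟨⟨⟨haM, x, Cfsg.Agent.Lib.Helper1.BGFthm.fittingHallOf_le_sigmaCore hG hM hx, hx1, hax⟩,
      ?_⟩, ha1⟩
    rintro ⟨k, hk, hk1, -⟩
    rw [hK, Subgroup.mem_bot] at hk
    exact hk1 hk
  · obtain ⟨haM', ha1, x, hx, hx1, hax⟩ := ha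
    rw [typeCore_eq_sigmaCore hG hM] at hx
    exact ⟨⟨⟨commutator_le_self M haM', x, hx, hx1, hax⟩,
      not_conj_K_of_mem_commutator hG hM hKU haM'⟩, ha1⟩

/-- `A₀(M) ⊆ A₀(M) ∖ {1}` (types vocabulary versus B & G's vocabulary). -/
theorem typeA0_subset (hG : IsMinSimpleOddOrder G) {M K U : Subgroup G} (hM : IsCoatom M)
    (hKU : IsSigmaDecomposition M K U) : typeA0 M ⊆ sigmaA0 M K \ {1} := by
  intro v hv
  rcases hv with hv | ⟨-, W₁, U', W₂, hP, m, hm, w, hw, hw1, hw2, rfl⟩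
  · exact typeA_subset hG hM hKU hv
  · obtain ⟨-, -, hdisj, hcomm, -, -⟩ := hP.selfNormalizing
    obtain ⟨w₁, hw₁, w₂, hw₂, rfl⟩ := mem_sup_of_commute' hcomm hw
    have hw₂1 : w₂ ≠ 1 := by
      intro h
      apply hw1
      rw [h, mul_one]; exact hw₁
    have hw₂σ : w₂ ∈ sigmaCore M :=
      Cfsg.Agent.Lib.Helper1.BGFthm.fittingHallOf_le_sigmaCore hG hM
        (Subgroup.mem_inf.mp (hP.W₂_le hw₂)).1
    have hwM : w₁ * w₂ ∈ M := M.mul_mem (hP.W₁_compl.2.1 hw₁) (sigmaCore_le M hw₂σ)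
    have hc12 : Commute w₁ w₂ := hcomm w₁ hw₁ w₂ hw₂
    obtain ⟨s, hs, hsw₂⟩ := exists_prime_dvd_orderOf hw₂1
    have hsσ : s ∈ sigma M := mem_sigma_of_mem_sigmaCore hG hM hw₂σ hs hsw₂
    have hdvd : orderOf w₂ ∣ orderOf (w₁ * w₂) := by
      apply orderOf_dvd_of_pow_eq_one
      have h1 : (w₁ * w₂) ^ orderOf (w₁ * w₂) = 1 := pow_orderOf_eq_one _
      rw [hc12.mul_pow] at h1
      have h2 : w₂ ^ orderOf (w₁ * w₂) ∈ W₁ ⊓ W₂ := by
        refine Subgroup.mem_inf.mpr ⟨?_, W₂.pow_mem hw₂ _⟩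
        rw [eq_inv_of_mul_eq_one_right h1]
        exact W₁.inv_mem (W₁.pow_mem hw₁ _)
      rw [hdisj, Subgroup.mem_bot] at h2
      exact h2
    have hv1 : m * (w₁ * w₂) * m⁻¹ ≠ 1 := by
      intro h
      apply hw2
      have h3 : w₁ * w₂ = m⁻¹ * (m * (w₁ * w₂) * m⁻¹) * m := by group
      rw [h3, h]
      simp
    refine ⟨⟨⟨M.mul_mem (M.mul_mem hm hwM) (M.inv_mem hm), m * w₂ * m⁻¹, ?_, ?_, ?_⟩, ?_⟩, hv1⟩
    · exact (Subgroup.mem_normalizer_iff.mp (le_normalizer_sigmaCore M hm) w₂).mp hw₂σ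
    · intro h
      apply hw₂1
      have h3 : w₂ = m⁻¹ * (m * w₂ * m⁻¹) * m := by group
      rw [h3, h]; group
    · apply conj_commute
      rw [mul_assoc, ← mul_assoc w₂ w₁ w₂, ← hc12.eq, mul_assoc]
    · apply not_conj_K_of_sigma_prime hKU.hall hs _ hsσ
      rw [orderOf_conj']
      exact hsw₂.trans hdvd

/-- `A₁(M)` is `M`-invariant. -/
theorem conj_mem_typeA1 {M : Subgroup G} {x a : G} (hx : x ∈ M) (ha : a ∈ typeA1 M) :
    x * a * x⁻¹ ∈ typeA1 M := by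
  obtain ⟨haS, ha1⟩ := ha
  refine ⟨?_, conj_ne_one ha1⟩
  have hn : M ≤ Subgroup.normalizer (typeCore M : Set G) := by
    unfold typeCore
    split_ifs
    · intro y hy
      rw [Subgroup.mem_normalizer_iff]
      intro n
      refine ⟨fun hn => conj_mem_commutator hy hn, fun hn => ?_⟩
      have h2 := conj_mem_commutator (M.inv_mem hy) hn
      have h3 : y⁻¹ * (y * n * y⁻¹) * y⁻¹⁻¹ = n := by group
      rwa [h3] at h2
    · exact Cfsg.Agent.Lib.Helper7.BGTypes.le_normalizer_fittingHallOf M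
  exact (Subgroup.mem_normalizer_iff.mp (hn hx) a).mp haS

/-- `A(M)` is `M`-invariant. -/
theorem conj_mem_typeA {M : Subgroup G} {x a : G} (hx : x ∈ M) (ha : a ∈ typeA M) :
    x * a * x⁻¹ ∈ typeA M := by
  unfold typeA at ha ⊢
  split_ifs at ha ⊢ with hI
  · obtain ⟨haM, ha1, y, hy, hy1, hay⟩ := ha
    refine ⟨M.mul_mem (M.mul_mem hx haM) (M.inv_mem hx), conj_ne_one ha1, x * y * x⁻¹, ?_,
      conj_ne_one hy1, conj_commute hay⟩
    exact (Subgroup.mem_normalizer_iff.mp (Cfsg.Agent.Lib.Helper7.BGTypes.le_normalizer_fittingHallOf M hx) y).mp hy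
  · obtain ⟨haM, ha1, y, hy, hy1, hay⟩ := ha
    refine ⟨conj_mem_commutator hx haM, conj_ne_one ha1, x * y * x⁻¹, ?_,
      conj_ne_one hy1, conj_commute hay⟩
    have h2 : x * y * x⁻¹ ∈ typeA1 M := conj_mem_typeA1 hx ⟨hy, hy1⟩
    exact h2.1

/-- `A₀(M)` is `M`-invariant. -/
theorem conj_mem_typeA0 {M : Subgroup G} {x a : G} (hx : x ∈ M) (ha : a ∈ typeA0 M) :
    x * a * x⁻¹ ∈ typeA0 M := by
  rcases ha with ha | ⟨hnI, W₁, U', W₂, hP, m, hm, w, hw, hw1, hw2, rfl⟩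
  · exact Or.inl (conj_mem_typeA hx ha)
  · refine Or.inr ⟨hnI, W₁, U', W₂, hP, x * m, M.mul_mem hx hm, w, hw, hw1, hw2, ?_⟩
    group

/-- **The frozen row S1537**, relative to S1436 (a). -/
theorem s1537_of (hG : IsMinSimpleOddOrder G) (h36 : P1436a G)
    (M : Subgroup G) (hM : IsCoatom M) (A : Set G)
    (hA : A = typeA1 M ∨ A = typeA M ∨ A = typeA0 M) :
    Subgroup.normalizer A = M ∧ DadeHypothesis A M (supportR M) := by
  obtain ⟨K, U, hKU⟩ := Cfsg.Agent.Lib.Helper1.BG153.exists_decomp hG hM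
  have hD := dade_sigmaA0 hG h36 hM hKU
  -- a non-identity element of `M_σ`
  obtain ⟨⟨z, hz⟩, hz1'⟩ := (Subgroup.ne_bot_iff_exists_ne_one).mp (sigmaCore_ne_bot hG hM)
  have hz1 : z ≠ 1 := fun h => hz1' (Subtype.ext h)
  have hz1A : z ∈ typeA1 M := by
    refine ⟨?_, hz1⟩
    rw [SetLike.mem_coe, typeCore_eq_sigmaCore hG hM]; exact hz
  obtain ⟨⟨f, hf⟩, hf1'⟩ := (Subgroup.ne_bot_iff_exists_ne_one).mp
    (Cfsg.Agent.S1355.result hG M hM).1
  have hf1 : f ≠ 1 := fun h => hf1' (Subtype.ext h)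
  have hzA : (typeA M).Nonempty := by
    unfold typeA
    split_ifs with hI
    · exact ⟨f, Cfsg.Agent.Lib.Helper7.BGTypes.fittingHallOf_le M hf, hf1, f, hf, hf1, rfl⟩
    · refine ⟨z, (Cfsg.Agent.S1355.result hG M hM).2.2.1 hz, hz1, z, ?_, hz1, rfl⟩
      rw [typeCore_eq_sigmaCore hG hM]; exact hz
  have sub : ∀ B : Set G, B ⊆ sigmaA0 M K \ {1} → B ⊆ (M : Set G) ∧ (1 : G) ∉ B :=
    fun B hB => ⟨fun b hb => (hB hb).1.1.1, fun h => (hB h).2 rfl⟩
  rcases hA with rfl | rfl | rfl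
  · have hs := typeA1_subset hG hM hKU
    exact ⟨normalizer_eq_of_invariant hG hM (sub _ hs).1 (sub _ hs).2 ⟨z, hz1A⟩
      (fun x hx a ha => conj_mem_typeA1 hx ha),
      dade_mono hD hs (fun x hx a ha => conj_mem_typeA1 hx ha)⟩
  · have hs := typeA_subset hG hM hKU
    exact ⟨normalizer_eq_of_invariant hG hM (sub _ hs).1 (sub _ hs).2 hzA
      (fun x hx a ha => conj_mem_typeA hx ha),
      dade_mono hD hs (fun x hx a ha => conj_mem_typeA hx ha)⟩
  · have hs := typeA0_subset hG hM hKU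
    obtain ⟨a0, ha0⟩ := hzA
    exact ⟨normalizer_eq_of_invariant hG hM (sub _ hs).1 (sub _ hs).2 ⟨a0, Or.inl ha0⟩
      (fun x hx a ha => conj_mem_typeA0 hx ha),
      dade_mono hD hs (fun x hx a ha => conj_mem_typeA0 hx ha)⟩

end Cfsg.Agent.Lib.Helper21.BG1537
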