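import Cfsg.Agent.Lib.Helper11.ClassSum
import Cfsg.Agent.Lib.Helper2.Column

/-!
# Class multiplication constants through characters (helper21)

`card_pairs_mul_card` : `#{(s,s') : s ~ t, s' ~ t, s s' = x} * |G| = |t^G|^2 * ∑_χ χ(t)^2 χ(x⁻¹)/χ(1)`.
-/

set_option autoImplicit false

namespace Cfsg.Agent.Lib.Helper21.BSWCount

open Cfsg
open Cfsg.Agent.Lib.Helper2
open Cfsg.Agent.Lib.Helper11
open scoped ComplexConjugate

section A

variable {G : Type*} [Group G] [Fintype G]

open Classical in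
/-- `|G| * [g = 1] = ∑_χ χ(g) χ(1)`. -/
theorem sum_irr_mul_one [Fintype (IrrCharacter G)] (g : G) :
    ∑ χ : IrrCharacter G, (χ : G → ℂ) g * (χ : G → ℂ) 1
      = if g = 1 then (Nat.card G : ℂ) else 0 := by
  have h := column_orthogonality g (1 : G)
  have h1 : ∀ χ : IrrCharacter G, conj ((χ : G → ℂ) 1) = (χ : G → ℂ) 1 := by
    intro χ
    obtain ⟨n, _, hn⟩ := IsIrrCharacter.apply_one χ.2
    rw [hn]
    simp
  have h2 : ∑ χ : IrrCharacter G, (χ : G → ℂ) g * conj ((χ : G → ℂ) 1)
      = ∑ χ : IrrCharacter G, (χ : G → ℂ) g * (χ : G → ℂ) 1 := by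
    apply Finset.sum_congr rfl
    intro χ _
    rw [h1 χ]
  rw [← h2, h]
  by_cases hg : g = 1
  · subst hg
    rw [if_pos (IsConj.refl _), if_pos rfl]
    congr 1
    have : Subgroup.centralizer ({(1 : G)} : Set G) = ⊤ := by
      ext y
      simp [Subgroup.mem_centralizer_iff]
    rw [this, Subgroup.card_top]
  · rw [if_neg hg, if_neg]
    intro hc
    apply hg
    rw [isConj_iff] at hc
    obtain ⟨c, hc⟩ := hc
    have : g = c⁻¹ * 1 * c := by rw [← hc]; group
    rw [this]; group

open Classical in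
/-- double class sum of an irreducible character. -/
theorem sum_sum_isConj_irr (χ : IrrCharacter G) (t y : G) :
    ∑ s ∈ Finset.univ.filter (fun s : G => IsConj t s),
      ∑ s' ∈ Finset.univ.filter (fun s : G => IsConj t s), (χ : G → ℂ) (y * s * s')
      = ((Finset.univ.filter (fun s : G => IsConj t s)).card : ℂ) ^ 2
          * ((χ : G → ℂ) t * (χ : G → ℂ) t * (χ : G → ℂ) y) / ((χ : G → ℂ) 1) ^ 2 := by
  obtain ⟨n, ρ, hirr, hρ⟩ := χ.2
  have := hirr
  have hfin : (Module.finrank ℂ (Fin n → ℂ) : ℂ) = (χ : G → ℂ) 1 := by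
    rw [← hρ]
    simp [Representation.character]
  have hne : (χ : G → ℂ) 1 ≠ 0 := IsIrrCharacter.apply_one_ne_zero χ.2
  have h1 : ∀ s : G, ∑ s' ∈ Finset.univ.filter (fun s : G => IsConj t s),
      (χ : G → ℂ) (y * s * s')
      = ((Finset.univ.filter (fun s : G => IsConj t s)).card : ℂ) * (χ : G → ℂ) (y * s)
          * (χ : G → ℂ) t / (χ : G → ℂ) 1 := by
    intro s
    have := sum_isConj_char_mul ρ (y * s) t
    rw [hρ, hfin] at this
    exact this
  rw [Finset.sum_congr rfl (fun s _ => h1 s)]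
  have h2 := sum_isConj_char_mul ρ y t
  rw [hρ, hfin] at h2
  have h3 : ∑ s ∈ Finset.univ.filter (fun s : G => IsConj t s),
      ((Finset.univ.filter (fun s : G => IsConj t s)).card : ℂ) * (χ : G → ℂ) (y * s)
          * (χ : G → ℂ) t / (χ : G → ℂ) 1
      = ((Finset.univ.filter (fun s : G => IsConj t s)).card : ℂ) * (χ : G → ℂ) t / (χ : G → ℂ) 1
          * ∑ s ∈ Finset.univ.filter (fun s : G => IsConj t s), (χ : G → ℂ) (y * s) := by
    rw [Finset.mul_sum]
    apply Finset.sum_congr rfl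
    intro s _
    ring
  rw [h3, h2]
  field_simp

open Classical in
/-- **Class multiplication constant**: the number of pairs `(s, s')` of conjugates of `t` with
`s * s' = x`, through the irreducible characters. -/
theorem card_pairs_mul_card [Fintype (IrrCharacter G)] (t x : G) :
    (Nat.card {s : G × G // IsConj t s.1 ∧ IsConj t s.2 ∧ s.1 * s.2 = x} : ℂ) * (Nat.card G : ℂ)
      = ((Finset.univ.filter (fun s : G => IsConj t s)).card : ℂ) ^ 2
          * ∑ χ : IrrCharacter G,
              (χ : G → ℂ) t * (χ : G → ℂ) t * (χ : G → ℂ) x⁻¹ / (χ : G → ℂ) 1 := by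
  set K := Finset.univ.filter (fun s : G => IsConj t s) with hK
  -- the count as a double sum of indicators
  have hcount : (Nat.card {s : G × G // IsConj t s.1 ∧ IsConj t s.2 ∧ s.1 * s.2 = x} : ℂ)
      = ∑ s ∈ K, ∑ s' ∈ K, (if x⁻¹ * s * s' = 1 then (1 : ℂ) else 0) := by
    rw [Nat.card_eq_fintype_card, Fintype.card_subtype, Finset.card_filter]
    push_cast
    rw [Fintype.sum_prod_type, hK, Finset.sum_filter]
    apply Finset.sum_congr rfl
    intro s _
    by_cases hs : IsConj t s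
    · rw [if_pos hs, Finset.sum_filter]
      apply Finset.sum_congr rfl
      intro s' _
      by_cases hs' : IsConj t s'
      · rw [if_pos hs']
        have : x⁻¹ * s * s' = 1 ↔ s * s' = x := by
          constructor
          · intro h
            have : x * (x⁻¹ * s * s') = x * 1 := by rw [h]
            rw [mul_one] at this
            rw [← this]; group
          · intro h
            rw [mul_assoc, h, inv_mul_cancel]
        by_cases h : s * s' = x
        · rw [if_pos (this.2 h), if_pos ⟨hs, hs', h⟩]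
        · rw [if_neg (fun h' => h (this.1 h')), if_neg (fun h' => h h'.2.2)]
      · rw [if_neg hs', if_neg (fun h' => hs' h'.2.1)]
    · rw [if_neg hs]
      apply Finset.sum_eq_zero
      intro s' _
      rw [if_neg (fun h' => hs h'.1)]
  rw [hcount, Finset.sum_mul]
  have h1 : ∀ s ∈ K, (∑ s' ∈ K, (if x⁻¹ * s * s' = 1 then (1 : ℂ) else 0)) * (Nat.card G : ℂ)
      = ∑ s' ∈ K, ∑ χ : IrrCharacter G, (χ : G → ℂ) (x⁻¹ * s * s') * (χ : G → ℂ) 1 := by
    intro s _
    rw [Finset.sum_mul]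
    apply Finset.sum_congr rfl
    intro s' _
    rw [sum_irr_mul_one]
    by_cases h : x⁻¹ * s * s' = 1
    · rw [if_pos h, if_pos h, one_mul]
    · rw [if_neg h, if_neg h, zero_mul]
  rw [Finset.sum_congr rfl h1]
  have h2 : ∑ s ∈ K, ∑ s' ∈ K, ∑ χ : IrrCharacter G,
      (χ : G → ℂ) (x⁻¹ * s * s') * (χ : G → ℂ) 1
      = ∑ χ : IrrCharacter G, (χ : G → ℂ) 1 *
          ∑ s ∈ K, ∑ s' ∈ K, (χ : G → ℂ) (x⁻¹ * s * s') := by
    have : ∀ s ∈ K, ∑ s' ∈ K, ∑ χ : IrrCharacter G,
        (χ : G → ℂ) (x⁻¹ * s * s') * (χ : G → ℂ) 1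
        = ∑ χ : IrrCharacter G, ∑ s' ∈ K, (χ : G → ℂ) (x⁻¹ * s * s') * (χ : G → ℂ) 1 := by
      intro s _
      rw [Finset.sum_comm]
    rw [Finset.sum_congr rfl this, Finset.sum_comm]
    apply Finset.sum_congr rfl
    intro χ _
    rw [Finset.mul_sum]
    apply Finset.sum_congr rfl
    intro s _
    rw [Finset.mul_sum]
    apply Finset.sum_congr rfl
    intro s' _
    ring
  rw [h2, Finset.mul_sum]
  apply Finset.sum_congr rfl
  intro χ _
  rw [sum_sum_isConj_irr χ t x⁻¹]
  have hne : (χ : G → ℂ) 1 ≠ 0 := IsIrrCharacter.apply_one_ne_zero χ.2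
  rw [← hK]
  field_simp

end A

end Cfsg.Agent.Lib.Helper21.BSWCount
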