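import Mathlib
import Cfsg.Prelude.Def_Characters

/-!
# Averages of a character over subgroups (helper21)

For a character `χ` of `G` and subgroups `H ≤ K`, the averages of `χ` over `K` and `H` are natural
numbers `a ≤ b` (dimensions of the fixed spaces).  Applied to `⊥ ≤ ⟨t⟩` and `P ≤ P⟨t⟩` this gives the
integrality, parity and size of `χ(t)` for an involution `t`.
-/

set_option autoImplicit false

namespace Cfsg.Agent.Lib.Helper21.BSWCount

open Module

section C

variable {G : Type*} [Group G]

theorem sum_char_eq_card_mul_finrank_invariants {V : Type*} [AddCommGroup V] [Module ℂ V]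
    [FiniteDimensional ℂ V] [Fintype G] (ρ : Representation ℂ G V) :
    ∑ g : G, ρ.character g
      = (Fintype.card G : ℂ) * (finrank ℂ (Representation.invariants ρ) : ℂ) := by
  have hne : (Fintype.card G : ℂ) ≠ 0 := by
    have : 0 < Fintype.card G := Fintype.card_pos
    exact_mod_cast this.ne'
  haveI : Invertible (Fintype.card G : ℂ) := invertibleOfNonzero hne
  have h := (Representation.isProj_averageMap ρ).trace
  rw [← h]
  simp [Representation.character, GroupAlgebra.average, _root_.map_sum]

/-- Averages of a character over nested subgroups. -/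
theorem exists_avg_le {χ : G → ℂ} (hχ : Cfsg.IsCharacter G χ) (H K : Subgroup G) [Fintype H]
    [Fintype K] (hHK : H ≤ K) :
    ∃ a b : ℕ, a ≤ b ∧ ∑ k : K, χ (k : G) = (Fintype.card K : ℂ) * (a : ℂ) ∧
      ∑ h : H, χ (h : G) = (Fintype.card H : ℂ) * (b : ℂ) := by
  obtain ⟨n, ρ, rfl⟩ := hχ
  set σK : Representation ℂ K (Fin n → ℂ) := ρ.comp K.subtype with hσK
  set σH : Representation ℂ H (Fin n → ℂ) := ρ.comp H.subtype with hσH
  refine ⟨finrank ℂ (Representation.invariants σK), finrank ℂ (Representation.invariants σH),
    ?_, ?_, ?_⟩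
  · apply Submodule.finrank_mono
    intro v hv
    rw [Representation.mem_invariants] at hv ⊢
    intro h
    exact hv ⟨(h : G), hHK h.2⟩
  · rw [← sum_char_eq_card_mul_finrank_invariants σK]
    rfl
  · rw [← sum_char_eq_card_mul_finrank_invariants σH]
    rfl

end C

end Cfsg.Agent.Lib.Helper21.BSWCount
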