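import Cfsg.Agent.Lib.Helper21.BSWCountB
import Cfsg.Agent.Lib.Helper21.BSWCountC
import Cfsg.Agent.Lib.Helper2.CharBasic

/-!
# Character values at an involution inverting an element of odd order (helper21)
-/

set_option autoImplicit false

namespace Cfsg.Agent.Lib.Helper21.BSWCount

open Cfsg
open Cfsg.Agent.Lib.Helper2

section D

variable {G : Type*} [Group G]

/-- The dihedral subgroup `⟨x⟩ ∪ t⟨x⟩`. -/
def dihSub (t x : G) (ht : t * t = 1) (htx : t * x * t⁻¹ = x⁻¹) : Subgroup G where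
  carrier := {g | g ∈ Subgroup.zpowers x ∨ t⁻¹ * g ∈ Subgroup.zpowers x}
  one_mem' := Or.inl (Subgroup.one_mem _)
  mul_mem' := by
    have htinv : t⁻¹ = t := inv_eq_of_mul_eq_one_left ht
    rintro a b (ha | ha) (hb | hb)
    · exact Or.inl (Subgroup.mul_mem _ ha hb)
    · right
      -- t⁻¹ a b = (t⁻¹ a t) (t⁻¹ b)
      have h1 : t⁻¹ * a * t ∈ Subgroup.zpowers x := by
        have := conj_inv_of_mem_zpowers htx ha
        have h2 : t⁻¹ * a * t = a⁻¹ := by
          rw [← this]; rw [htinv]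
        rw [h2]
        exact Subgroup.inv_mem _ ha
      have : t⁻¹ * (a * b) = (t⁻¹ * a * t) * (t⁻¹ * b) := by group
      rw [this]
      exact Subgroup.mul_mem _ h1 hb
    · right
      have : t⁻¹ * (a * b) = (t⁻¹ * a) * b := by group
      rw [this]
      exact Subgroup.mul_mem _ ha hb
    · left
      -- a b = t (t⁻¹ a) t (t⁻¹ b); t y t = y⁻¹ (t t)...
      set y := t⁻¹ * a with hy
      set z := t⁻¹ * b with hz
      have ha' : a = t * y := by rw [hy]; group
      have hb' : b = t * z := by rw [hz]; group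
      have h1 := conj_inv_of_mem_zpowers htx ha
      have : a * b = (t * y * t⁻¹) * (t * t) * z := by rw [ha', hb']; group
      rw [this, h1, ht, mul_one]
      exact Subgroup.mul_mem _ (Subgroup.inv_mem _ ha) hb
  inv_mem' := by
    have htinv : t⁻¹ = t := inv_eq_of_mul_eq_one_left ht
    rintro a (ha | ha)
    · exact Or.inl (Subgroup.inv_mem _ ha)
    · right
      set y := t⁻¹ * a with hy
      have ha' : a = t * y := by rw [hy]; group
      have h1 := conj_inv_of_mem_zpowers htx (Subgroup.inv_mem _ ha)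
      have e1 : t⁻¹ * a⁻¹ = t⁻¹ * (y⁻¹ * t⁻¹) := by rw [ha']; group
      have e2 : t⁻¹ * (y⁻¹ * t⁻¹) = t * y⁻¹ * t⁻¹ := by
        nth_rewrite 1 [htinv]; group
      rw [e1, e2, h1, inv_inv]
      exact ha

theorem mem_dihSub {t x : G} (ht : t * t = 1) (htx : t * x * t⁻¹ = x⁻¹) (g : G) :
    g ∈ dihSub t x ht htx ↔ g ∈ Subgroup.zpowers x ∨ t⁻¹ * g ∈ Subgroup.zpowers x := Iff.rfl

theorem zpowers_le_dihSub {t x : G} (ht : t * t = 1) (htx : t * x * t⁻¹ = x⁻¹) :
    Subgroup.zpowers x ≤ dihSub t x ht htx := fun _ hg => Or.inl hg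

theorem not_mem_zpowers_of_odd {t x : G} (hodd : Odd (orderOf x)) (ht : t * t = 1) (ht1 : t ≠ 1) :
    t ∉ Subgroup.zpowers x := by
  intro h
  obtain ⟨k, hk⟩ := hodd
  have h1 : t ^ orderOf x = 1 := by
    obtain ⟨j, rfl⟩ := Subgroup.mem_zpowers_iff.1 h
    rw [← zpow_natCast, ← zpow_mul, mul_comm, zpow_mul, zpow_natCast, pow_orderOf_eq_one, one_zpow]
  rw [hk, pow_succ, pow_mul, pow_two, ht, one_pow, one_mul] at h1
  exact ht1 h1

/-- The sum of a class function over the dihedral subgroup. -/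
theorem sum_dihSub [Finite G] {t x : G} (hodd : Odd (orderOf x)) (ht : t * t = 1) (ht1 : t ≠ 1)
    (htx : t * x * t⁻¹ = x⁻¹) (χ : G → ℂ) (hχ : ∀ g h : G, χ (h * g * h⁻¹) = χ g)
    [Fintype (dihSub t x ht htx)] [Fintype (Subgroup.zpowers x)] :
    ∑ g : dihSub t x ht htx, χ (g : G)
      = ∑ y : Subgroup.zpowers x, χ (y : G) + (Fintype.card (Subgroup.zpowers x) : ℂ) * χ t := by
  classical
  have htinv : t⁻¹ = t := inv_eq_of_mul_eq_one_left ht
  have hnot := not_mem_zpowers_of_odd hodd ht ht1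
  let e : (Subgroup.zpowers x) ⊕ (Subgroup.zpowers x) ≃ dihSub t x ht htx :=
    { toFun := fun s => Sum.elim (fun y : Subgroup.zpowers x => ⟨(y : G), Or.inl y.2⟩)
        (fun y : Subgroup.zpowers x =>
          ⟨t * (y : G), Or.inr (by rw [inv_mul_cancel_left]; exact y.2)⟩) s
      invFun := fun g => if h : (g : G) ∈ Subgroup.zpowers x then Sum.inl ⟨g, h⟩
        else Sum.inr ⟨t⁻¹ * g, (g.2.resolve_left h)⟩
      left_inv := by
        rintro (y | y)
        · simp
        · have : t * (y : G) ∉ Subgroup.zpowers x := by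
            intro h
            apply hnot
            have := Subgroup.mul_mem _ h (Subgroup.inv_mem _ y.2)
            simpa using this
          simp [this]
      right_inv := by
        intro g
        by_cases h : (g : G) ∈ Subgroup.zpowers x
        · simp [h]
        · simp [h] }
  rw [← Equiv.sum_comp e, Fintype.sum_sum_type]
  congr 1
  have : ∀ y : Subgroup.zpowers x, χ ((e (Sum.inr y) : dihSub t x ht htx) : G) = χ t := by
    intro y
    show χ (t * (y : G)) = χ t
    obtain ⟨c, hc⟩ := isConj_iff.1 (isConj_mul_of_mem_zpowers hodd htx y.2)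
    rw [← hc, hχ]
  rw [Finset.sum_congr rfl (fun y _ => this y), Finset.sum_const, Finset.card_univ, nsmul_eq_mul]

theorem card_dihSub [Finite G] {t x : G} (hodd : Odd (orderOf x)) (ht : t * t = 1) (ht1 : t ≠ 1)
    (htx : t * x * t⁻¹ = x⁻¹) [Fintype (dihSub t x ht htx)] [Fintype (Subgroup.zpowers x)] :
    (Fintype.card (dihSub t x ht htx) : ℂ) = 2 * (Fintype.card (Subgroup.zpowers x) : ℂ) := by
  have h := sum_dihSub hodd ht ht1 htx (fun _ => (1 : ℂ)) (fun _ _ => rfl)
  simp only [Finset.sum_const, Finset.card_univ, nsmul_eq_mul, mul_one] at h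
  rw [h]; ring

/-- **Values at the inverting involution**: `χ(t) = 2a - ℓ` with `a ≤ ℓ`, where `ℓ` is the
multiplicity of the trivial character in `χ|_{⟨x⟩}`. -/
theorem exists_value_at_involution [Finite G] {t x : G} (hodd : Odd (orderOf x)) (ht : t * t = 1)
    (ht1 : t ≠ 1) (htx : t * x * t⁻¹ = x⁻¹) {χ : G → ℂ} (hχ : IsCharacter G χ)
    [Fintype (Subgroup.zpowers x)] :
    ∃ a l : ℕ, a ≤ l ∧
      ∑ y : Subgroup.zpowers x, χ (y : G) = (orderOf x : ℂ) * (l : ℂ) ∧
      χ t = 2 * (a : ℂ) - (l : ℂ) := by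
  classical
  haveI : Fintype (dihSub t x ht htx) := Fintype.ofFinite _
  obtain ⟨a, l, hal, hK, hH⟩ := exists_avg_le hχ (Subgroup.zpowers x) (dihSub t x ht htx)
    (zpowers_le_dihSub ht htx)
  have hcf : ∀ g h : G, χ (h * g * h⁻¹) = χ g := IsCharacter.isClassFunction hχ
  rw [sum_dihSub hodd ht ht1 htx χ hcf, card_dihSub hodd ht ht1 htx, hH] at hK
  have hcard : (Fintype.card (Subgroup.zpowers x) : ℂ) = (orderOf x : ℂ) := by
    rw [← Nat.card_eq_fintype_card, Nat.card_zpowers]
  have hne : (Fintype.card (Subgroup.zpowers x) : ℂ) ≠ 0 := by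
    rw [hcard]
    have : 0 < orderOf x := hodd.pos
    exact_mod_cast this.ne'
  refine ⟨a, l, hal, by rw [hH, hcard], ?_⟩
  have h1 : (Fintype.card (Subgroup.zpowers x) : ℂ) * ((l : ℂ) + χ t)
      = (Fintype.card (Subgroup.zpowers x) : ℂ) * (2 * (a : ℂ)) := by
    rw [mul_add, hK]; ring
  have h2 := mul_left_cancel₀ hne h1
  rw [← h2]; ring

end D

end Cfsg.Agent.Lib.Helper21.BSWCount
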