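import Cfsg.Agent.Lib.Helper21.BSWCountD
import Cfsg.Agent.Lib.Helper2.Integrality

/-!
# Rational values on a self-centralising subgroup of prime order with full normaliser

* `isConj_of_card_normalizer`: if `|P| = p`, `C(x) = P = ⟨x⟩` and `|N(P)| = p (p - 1)` then all
  nonidentity elements of `P` are conjugate to `x`.
* `exists_int_value`: in that situation every character takes a constant integer value `m`
  on `P \ {1}`, with `d + (p - 1) m = p l` and `χ(t) = 2 a - l` at an inverting involution.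
* `sq_sum_four`: nonzero integers whose squares sum to `4`.
-/

set_option autoImplicit false

open Cfsg
open Cfsg.Agent.Lib.Helper2

namespace Cfsg.Agent.Lib.Helper21.BSWCount

variable {G : Type*} [Group G]

theorem isConj_of_card_normalizer [Finite G] (P : Subgroup G) {p : ℕ} (hp : p.Prime)
    (hP : Nat.card P = p) (hN : Nat.card (Subgroup.normalizer (P : Set G)) = p * (p - 1))
    {x : G} (hx : Subgroup.zpowers x = P)
    (hC : Subgroup.centralizer ({x} : Set G) = Subgroup.zpowers x)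
    {y : G} (hy : y ∈ P) (hy1 : y ≠ 1) : IsConj x y := by
  classical
  haveI : Fintype G := Fintype.ofFinite G
  set s : Finset G := Finset.univ.filter (fun n => n ∈ Subgroup.normalizer (P : Set G)) with hs
  set Ps : Finset G := Finset.univ.filter (fun n => n ∈ P) with hPs
  have hscard : s.card = p * (p - 1) := by
    rw [← hN, Nat.card_eq_fintype_card, Fintype.card_subtype]
  have hPcard : Ps.card = p := by
    rw [← hP, Nat.card_eq_fintype_card, Fintype.card_subtype]
  have hx1 : x ≠ 1 := by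
    intro h
    rw [h, Subgroup.zpowers_one_eq_bot] at hx
    rw [← hx, Subgroup.card_bot] at hP
    exact hp.one_lt.ne hP
  have hxP : x ∈ P := by rw [← hx]; exact Subgroup.mem_zpowers x
  let f : G → G := fun n => n * x * n⁻¹
  have himg : s.image f ⊆ Ps.erase 1 := by
    intro z hz
    obtain ⟨n, hn, rfl⟩ := Finset.mem_image.1 hz
    rw [Finset.mem_erase]
    refine ⟨?_, ?_⟩
    · intro h
      apply hx1
      have : n * x * n⁻¹ = 1 := h
      calc x = n⁻¹ * (n * x * n⁻¹) * n := by group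
        _ = 1 := by rw [this]; group
    · rw [hs, Finset.mem_filter] at hn
      rw [hPs, Finset.mem_filter]
      exact ⟨Finset.mem_univ _, (Subgroup.mem_normalizer_iff.1 hn.2 x).1 hxP⟩
  have hfib : ∀ a ∈ s.image f, (s.filter (fun n => f n = a)).card ≤ p := by
    intro a ha
    obtain ⟨n₀, hn₀, rfl⟩ := Finset.mem_image.1 ha
    rw [← hPcard]
    apply Finset.card_le_card_of_injOn (fun n => n₀⁻¹ * n)
    · intro n hn
      have hn' := (Finset.mem_filter.1 (Finset.mem_coe.1 hn)).2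
      have hfn : n * x * n⁻¹ = n₀ * x * n₀⁻¹ := hn'
      have hcomm : (n₀⁻¹ * n) * x = x * (n₀⁻¹ * n) := by
        calc (n₀⁻¹ * n) * x = n₀⁻¹ * (n * x * n⁻¹) * n := by group
          _ = n₀⁻¹ * (n₀ * x * n₀⁻¹) * n := by rw [hfn]
          _ = x * (n₀⁻¹ * n) := by group
      have hmem : n₀⁻¹ * n ∈ Subgroup.centralizer ({x} : Set G) := by
        rw [Subgroup.mem_centralizer_iff]
        intro z hz
        rw [Set.mem_singleton_iff] at hz
        rw [hz]
        exact hcomm.symm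
      rw [hC, hx] at hmem
      simp only [hPs, Finset.coe_filter, Finset.mem_univ, true_and, Set.mem_ofPred_eq]
      exact hmem
    · intro a _ b _ h
      exact mul_left_cancel h
  have h1 := Finset.card_le_mul_card_image s p hfib
  have h2 : p - 1 ≤ (s.image f).card := by
    rw [hscard] at h1
    exact Nat.le_of_mul_le_mul_left h1 hp.pos
  have h3 : (Ps.erase 1).card = p - 1 := by
    rw [Finset.card_erase_of_mem (by simp [hPs, P.one_mem]), hPcard]
  have h4 : s.image f = Ps.erase 1 := Finset.eq_of_subset_of_card_le himg (by omega)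
  have hy' : y ∈ Ps.erase 1 := by simp [hPs, hy, hy1]
  rw [← h4] at hy'
  obtain ⟨n, _, hn⟩ := Finset.mem_image.1 hy'
  exact isConj_iff.2 ⟨n, hn⟩

theorem exists_int_value [Finite G] {t x : G} (hodd : Odd (orderOf x)) (ht : t * t = 1)
    (ht1 : t ≠ 1) (htx : t * x * t⁻¹ = x⁻¹) (hx1 : x ≠ 1)
    (hconj : ∀ y ∈ Subgroup.zpowers x, y ≠ 1 → IsConj x y)
    {χ : G → ℂ} (hχ : IsCharacter G χ) :
    ∃ (m : ℤ) (d l a : ℕ), a ≤ l ∧ χ 1 = (d : ℂ) ∧
      (∀ y ∈ Subgroup.zpowers x, y ≠ 1 → χ y = (m : ℂ)) ∧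
      (d : ℤ) + ((orderOf x : ℤ) - 1) * m = (orderOf x : ℤ) * l ∧
      χ t = ((2 * (a : ℤ) - (l : ℤ) : ℤ) : ℂ) := by
  classical
  haveI : Fintype (Subgroup.zpowers x) := Fintype.ofFinite _
  obtain ⟨a, l, hal, hsum, hkt⟩ := exists_value_at_involution hodd ht ht1 htx hχ
  have hcf : ∀ g h : G, χ (h * g * h⁻¹) = χ g := IsCharacter.isClassFunction hχ
  obtain ⟨n, ρ, rfl⟩ := hχ
  have hd : ρ.character 1 = (n : ℂ) := by
    rw [Representation.char_one]
    simp
  have hval : ∀ y ∈ Subgroup.zpowers x, y ≠ 1 → ρ.character y = ρ.character x := by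
    intro y hy hy1
    obtain ⟨c, hc⟩ := isConj_iff.1 (hconj y hy hy1)
    rw [← hc, hcf]
  have hsplit : ∑ y : Subgroup.zpowers x, ρ.character (y : G)
      = (orderOf x : ℂ) * ρ.character x + (ρ.character 1 - ρ.character x) := by
    have h1 : ∀ y : Subgroup.zpowers x, ρ.character (y : G)
        = ρ.character x + (if y = 1 then (ρ.character 1 - ρ.character x) else 0) := by
      intro y
      by_cases hy : y = 1
      · rw [if_pos hy, hy]
        simp
      · rw [if_neg hy, add_zero]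
        apply hval _ y.2
        intro h
        apply hy
        exact Subtype.ext h
    rw [Finset.sum_congr rfl (fun y _ => h1 y), Finset.sum_add_distrib, Finset.sum_const,
      Finset.sum_ite_eq' Finset.univ (1 : Subgroup.zpowers x), if_pos (Finset.mem_univ _),
      Finset.card_univ, ← Nat.card_eq_fintype_card, Nat.card_zpowers, nsmul_eq_mul]
  rw [hsum, hd] at hsplit
  have hp1 : (orderOf x : ℂ) - 1 ≠ 0 := by
    intro h
    have h2 : (orderOf x : ℂ) = 1 := by linear_combination h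
    have h3 : orderOf x = 1 := by exact_mod_cast h2
    exact hx1 (orderOf_eq_one_iff.1 h3)
  have hq : ρ.character x
      = (((orderOf x : ℚ) * (l : ℚ) - (n : ℚ)) / ((orderOf x : ℚ) - 1) : ℚ) := by
    push_cast
    rw [eq_div_iff hp1]
    linear_combination -hsplit
  obtain ⟨m, hm⟩ := exists_int_of_isIntegral_of_rat _ hq (char_isIntegral ρ x)
  refine ⟨m, n, l, a, hal, hd, ?_, ?_, ?_⟩
  · intro y hy hy1
    rw [hval y hy hy1, hm]
  · rw [hm] at hsplit
    have : ((n : ℤ) + ((orderOf x : ℤ) - 1) * m : ℂ) = ((orderOf x : ℤ) * (l : ℤ) : ℂ) := by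
      push_cast
      linear_combination -hsplit
    exact_mod_cast this
  · rw [hkt]
    push_cast
    ring

theorem sq_sum_four {ι : Type*} [DecidableEq ι] (T : Finset ι) (m : ι → ℤ)
    (hm : ∀ χ ∈ T, m χ ≠ 0) (hs : ∑ χ ∈ T, m χ ^ 2 = 4) :
    (∃ χ, T = {χ} ∧ (m χ = 2 ∨ m χ = -2)) ∨
    (∃ χ₁ χ₂ χ₃ χ₄, χ₁ ≠ χ₂ ∧ χ₁ ≠ χ₃ ∧ χ₁ ≠ χ₄ ∧ χ₂ ≠ χ₃ ∧ χ₂ ≠ χ₄ ∧ χ₃ ≠ χ₄ ∧
      T = {χ₁, χ₂, χ₃, χ₄} ∧ (m χ₁ = 1 ∨ m χ₁ = -1) ∧ (m χ₂ = 1 ∨ m χ₂ = -1) ∧
      (m χ₃ = 1 ∨ m χ₃ = -1) ∧ (m χ₄ = 1 ∨ m χ₄ = -1)) := by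
  have hge : ∀ (S : Finset ι), S ⊆ T → (S.card : ℤ) ≤ ∑ χ ∈ S, m χ ^ 2 := by
    intro S hS
    have hge1 : ∀ χ ∈ S, (1 : ℤ) ≤ m χ ^ 2 := by
      intro χ hχ
      have h1 := hm χ (hS hχ)
      have h2 : 0 < m χ ^ 2 := by positivity
      omega
    calc (S.card : ℤ) = ∑ _χ ∈ S, (1 : ℤ) := by simp
      _ ≤ ∑ χ ∈ S, m χ ^ 2 := Finset.sum_le_sum hge1
  by_cases hbig : ∃ χ ∈ T, 4 ≤ m χ ^ 2
  · left
    obtain ⟨χ, hχT, hχ4⟩ := hbig
    have hsplit := Finset.add_sum_erase T (fun χ => m χ ^ 2) hχT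
    rw [hs] at hsplit
    have h0 := hge (T.erase χ) (Finset.erase_subset _ _)
    have hc0 : (T.erase χ).card = 0 := by
      have : ((T.erase χ).card : ℤ) ≤ 0 := by omega
      omega
    rw [Finset.card_eq_zero] at hc0
    have hT : T = {χ} := by
      ext z
      rw [Finset.mem_singleton]
      constructor
      · intro hz
        by_contra hne
        have : z ∈ T.erase χ := Finset.mem_erase.2 ⟨hne, hz⟩
        rw [hc0] at this
        exact (Finset.notMem_empty _) this
      · intro hz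
        rw [hz]
        exact hχT
    refine ⟨χ, hT, ?_⟩
    rw [hc0, Finset.sum_empty] at hsplit
    have h4 : m χ ^ 2 = 4 := by omega
    have h5 : (m χ - 2) * (m χ + 2) = 0 := by ring_nf; rw [h4]; ring
    rcases mul_eq_zero.1 h5 with h | h
    · left; omega
    · right; omega
  · right
    push Not at hbig
    have hone : ∀ χ ∈ T, m χ = 1 ∨ m χ = -1 := by
      intro χ hχ
      have h1 := hbig χ hχ
      have h2 := hm χ hχ
      have h3 : m χ ≤ 1 := by nlinarith
      have h4 : -1 ≤ m χ := by nlinarith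
      omega
    have hsq : ∀ χ ∈ T, m χ ^ 2 = 1 := by
      intro χ hχ
      rcases hone χ hχ with h | h <;> rw [h] <;> norm_num
    rw [Finset.sum_congr rfl hsq] at hs
    simp only [Finset.sum_const, nsmul_eq_mul, mul_one] at hs
    have hcard : T.card = 4 := by exact_mod_cast hs
    obtain ⟨χ₁, T', h1T', rfl, hT'⟩ := Finset.card_eq_succ.1 hcard
    obtain ⟨χ₂, χ₃, χ₄, h23, h24, h34, rfl⟩ := Finset.card_eq_three.1 hT'
    simp only [Finset.mem_insert, Finset.mem_singleton, not_or] at h1T'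
    refine ⟨χ₁, χ₂, χ₃, χ₄, h1T'.1, h1T'.2.1, h1T'.2.2, h23, h24, h34, rfl, ?_, ?_, ?_, ?_⟩
    · exact hone _ (by simp)
    · exact hone _ (by simp)
    · exact hone _ (by simp)
    · exact hone _ (by simp)

end Cfsg.Agent.Lib.Helper21.BSWCount
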