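import Cfsg.Agent.Lib.Helper21.BSWCountC
import Cfsg.Agent.Lib.Helper2.CharBasic

/-!
# Character values at an involution

* `sum_zpowers_involution`: `∑_{k ∈ ⟨t⟩} χ(k) = χ(1) + χ(t)` for an involution `t`.
* `exists_value_degree_at_involution`: `χ(t) = 2 a - χ(1)` with `a ≤ χ(1)` natural numbers.
* `not_conj_mem_of_involution`: an involution has no conjugate in a subgroup of odd order.
-/

set_option autoImplicit false

open Cfsg
open Cfsg.Agent.Lib.Helper2

namespace Cfsg.Agent.Lib.Helper21.BSWCount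

variable {G : Type*} [Group G]

theorem mem_pair_iff_mem_zpowers_involution {t : G} (ht : t * t = 1) [DecidableEq G] (g : G) :
    g ∈ ({1, t} : Finset G) ↔ g ∈ Subgroup.zpowers t := by
  constructor
  · intro hg
    rw [Finset.mem_insert, Finset.mem_singleton] at hg
    rcases hg with rfl | rfl
    · exact one_mem _
    · exact Subgroup.mem_zpowers _
  · intro hg
    obtain ⟨k, rfl⟩ := Subgroup.mem_zpowers_iff.1 hg
    have ht2 : t ^ (2 : ℤ) = 1 := by rw [zpow_two, ht]
    have hk : t ^ k = t ^ (k % 2) := by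
      conv_lhs => rw [← Int.emod_add_mul_ediv k 2, zpow_add, zpow_mul, ht2, one_zpow, mul_one]
    rw [hk, Finset.mem_insert, Finset.mem_singleton]
    rcases Int.emod_two_eq_zero_or_one k with h | h
    · left; rw [h, zpow_zero]
    · right; rw [h, zpow_one]

theorem sum_zpowers_involution {t : G} (ht : t * t = 1) (ht1 : t ≠ 1) (χ : G → ℂ)
    [Fintype (Subgroup.zpowers t)] :
    ∑ k : Subgroup.zpowers t, χ (k : G) = χ 1 + χ t := by
  classical
  rw [← Finset.sum_subtype ({1, t} : Finset G) (mem_pair_iff_mem_zpowers_involution ht) χ,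
    Finset.sum_pair (Ne.symm ht1)]

theorem exists_value_degree_at_involution [Finite G] {t : G} (ht : t * t = 1) (ht1 : t ≠ 1)
    {χ : G → ℂ} (hχ : IsCharacter G χ) :
    ∃ a d : ℕ, a ≤ d ∧ χ 1 = (d : ℂ) ∧ χ t = 2 * (a : ℂ) - (d : ℂ) := by
  classical
  haveI : Fintype (Subgroup.zpowers t) := Fintype.ofFinite _
  haveI : Fintype (⊥ : Subgroup G) := Fintype.ofFinite _
  obtain ⟨a, b, hab, hK, hH⟩ := exists_avg_le hχ ⊥ (Subgroup.zpowers t) bot_le
  have hcardK : Fintype.card (Subgroup.zpowers t) = 2 := by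
    rw [← Nat.card_eq_fintype_card, Nat.card_zpowers]
    exact orderOf_eq_prime (by rw [pow_two]; exact ht) ht1
  have hcardH : Fintype.card (⊥ : Subgroup G) = 1 := by
    rw [← Nat.card_eq_fintype_card, Subgroup.card_bot]
  rw [hcardK, sum_zpowers_involution ht ht1] at hK
  rw [hcardH] at hH
  have hsumH : ∑ h : (⊥ : Subgroup G), χ (h : G) = χ 1 := by
    rw [Fintype.sum_eq_single (1 : (⊥ : Subgroup G))]
    · rfl
    · intro y hy
      exfalso
      apply hy
      apply Subtype.ext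
      exact Subgroup.mem_bot.1 y.2
  rw [hsumH] at hH
  refine ⟨a, b, hab, ?_, ?_⟩
  · rw [hH]; push_cast; ring
  · have : χ t = 2 * (a : ℂ) - χ 1 := by
      push_cast at hK
      linear_combination hK
    rw [this, hH]
    push_cast
    ring

theorem not_conj_mem_of_involution [Finite G] {t : G} (ht : t * t = 1) (ht1 : t ≠ 1)
    (P : Subgroup G) (hodd : Odd (Nat.card P)) (k : G) : k * t * k⁻¹ ∉ P := by
  intro hmem
  have hg2 : (k * t * k⁻¹) * (k * t * k⁻¹) = 1 := by
    calc (k * t * k⁻¹) * (k * t * k⁻¹) = k * (t * t) * k⁻¹ := by group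
      _ = 1 := by rw [ht]; group
  have hg1 : k * t * k⁻¹ ≠ 1 := by
    intro h
    apply ht1
    calc t = k⁻¹ * (k * t * k⁻¹) * k := by group
      _ = 1 := by rw [h]; group
  have ho : orderOf (k * t * k⁻¹) = 2 := orderOf_eq_prime (by rw [pow_two]; exact hg2) hg1
  have h1 : orderOf (⟨k * t * k⁻¹, hmem⟩ : P) ∣ Nat.card P := orderOf_dvd_natCard _
  have h2 : orderOf (⟨k * t * k⁻¹, hmem⟩ : P) = orderOf (k * t * k⁻¹) := by
    rw [← Subgroup.orderOf_coe]
  rw [h2, ho] at h1
  obtain ⟨r, hr⟩ := hodd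
  omega

end Cfsg.Agent.Lib.Helper21.BSWCount
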