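import Cfsg.Prelude.Def_KGroupFacts
import Mathlib

/-!
Central extensions built from a biadditive cocycle: for a group `G`, an additive commutative group
`W` and a map `β : G → G → W` additive in each variable, the set `G × W` with the product
`(g, w) (g', w') = (g g', w + w' + β g g')` is a group, a central extension of `G` by `W`.
When `G` is commutative and the values `β g h - β h g` exhaust `W`, it is a stem extension.
-/

set_option autoImplicit false

namespace Cfsg.Agent.Lib.Helper21

universe u v

/-- a biadditive map `G → G → W` -/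
structure BiAdd (G : Type u) (W : Type v) [Group G] [AddCommGroup W] where
  toFun : G → G → W
  map_mul_left : ∀ g g' h, toFun (g * g') h = toFun g h + toFun g' h
  map_mul_right : ∀ g h h', toFun g (h * h') = toFun g h + toFun g h'

namespace BiAdd

variable {G : Type u} {W : Type v} [Group G] [AddCommGroup W] (β : BiAdd G W)

theorem map_one_left (h : G) : β.toFun 1 h = 0 := by
  have := β.map_mul_left 1 1 h
  rw [mul_one] at this
  exact left_eq_add.mp this

theorem map_one_right (g : G) : β.toFun g 1 = 0 := by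
  have := β.map_mul_right g 1 1
  rw [mul_one] at this
  exact left_eq_add.mp this

theorem map_inv_left (g h : G) : β.toFun g⁻¹ h = -β.toFun g h := by
  have := β.map_mul_left g g⁻¹ h
  rw [mul_inv_cancel, map_one_left] at this
  exact (neg_eq_of_add_eq_zero_right this.symm).symm

theorem map_inv_right (g h : G) : β.toFun g h⁻¹ = -β.toFun g h := by
  have := β.map_mul_right g h h⁻¹
  rw [mul_inv_cancel, map_one_right] at this
  exact (neg_eq_of_add_eq_zero_right this.symm).symm

/-- the extension group, as a type synonym of `G × W` -/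
def Ext (_β : BiAdd G W) : Type (max u v) := G × W

namespace Ext

instance : Group (Ext β) where
  mul x y := ((x.1 * y.1, x.2 + y.2 + β.toFun x.1 y.1) : G × W)
  one := ((1, 0) : G × W)
  inv x := ((x.1⁻¹, -x.2 + β.toFun x.1 x.1) : G × W)
  mul_assoc := by
    rintro ⟨g, w⟩ ⟨g', w'⟩ ⟨g'', w''⟩
    show ((g * g' * g'', w + w' + β.toFun g g' + w'' + β.toFun (g * g') g'') : G × W) =
      (g * (g' * g''), w + (w' + w'' + β.toFun g' g'') + β.toFun g (g' * g''))
    rw [mul_assoc, β.map_mul_left, β.map_mul_right]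
    congr 1
    abel
  one_mul := by
    rintro ⟨g, w⟩
    show ((1 * g, 0 + w + β.toFun 1 g) : G × W) = (g, w)
    rw [one_mul, β.map_one_left, zero_add, add_zero]
  mul_one := by
    rintro ⟨g, w⟩
    show ((g * 1, w + 0 + β.toFun g 1) : G × W) = (g, w)
    rw [mul_one, β.map_one_right, add_zero, add_zero]
  inv_mul_cancel := by
    rintro ⟨g, w⟩
    show ((g⁻¹ * g, -w + β.toFun g g + w + β.toFun g⁻¹ g) : G × W) = (1, 0)
    rw [inv_mul_cancel, β.map_inv_left]
    congr 1
    abel

theorem mul_def (x y : Ext β) :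
    x * y = ((x.1 * y.1, x.2 + y.2 + β.toFun x.1 y.1) : G × W) := rfl

theorem one_def : (1 : Ext β) = ((1, 0) : G × W) := rfl

theorem inv_def (x : Ext β) : x⁻¹ = ((x.1⁻¹, -x.2 + β.toFun x.1 x.1) : G × W) := rfl

/-- build an element -/
def mk (g : G) (w : W) : Ext β := ((g, w) : G × W)

@[simp] theorem mk_fst (g : G) (w : W) : (mk β g w).1 = g := rfl
@[simp] theorem mk_snd (g : G) (w : W) : (mk β g w).2 = w := rfl

theorem ext' {x y : Ext β} (h1 : x.1 = y.1) (h2 : x.2 = y.2) : x = y := Prod.ext h1 h2

theorem mk_mul_mk (g h : G) (w w' : W) :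
    mk β g w * mk β h w' = mk β (g * h) (w + w' + β.toFun g h) := rfl

instance [Finite G] [Finite W] : Finite (Ext β) := by
  unfold Ext; infer_instance

/-- the projection to `G` -/
def proj : Ext β →* G where
  toFun x := x.1
  map_one' := rfl
  map_mul' _ _ := rfl

theorem proj_surjective : Function.Surjective (proj β) := fun g => ⟨mk β g 0, rfl⟩

theorem mem_ker_proj (x : Ext β) : x ∈ (proj β).ker ↔ x.1 = 1 := Iff.rfl

/-- the kernel is `W` -/
def kerEquiv : (proj β).ker ≃* Multiplicative W where
  toFun x := Multiplicative.ofAdd x.1.2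
  invFun w := ⟨mk β 1 (Multiplicative.toAdd w), rfl⟩
  left_inv := by
    rintro ⟨⟨g, w⟩, hx⟩
    apply Subtype.ext
    have hg : g = 1 := hx
    subst hg
    rfl
  right_inv := fun w => rfl
  map_mul' := by
    rintro ⟨⟨g, w⟩, hx⟩ ⟨⟨g', w'⟩, hy⟩
    have hg : g = 1 := hx
    have hg' : g' = 1 := hy
    subst hg hg'
    show Multiplicative.ofAdd (w + w' + β.toFun 1 1) = Multiplicative.ofAdd w * Multiplicative.ofAdd w'
    rw [β.map_one_left, add_zero]
    rfl

theorem mul_fst (x y : Ext β) : (x * y).1 = x.1 * y.1 := rfl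
theorem mul_snd (x y : Ext β) : (x * y).2 = x.2 + y.2 + β.toFun x.1 y.1 := rfl

theorem ker_le_center : (proj β).ker ≤ Subgroup.center (Ext β) := by
  intro x hx
  have hg : x.1 = 1 := hx
  rw [Subgroup.mem_center_iff]
  intro y
  apply ext'
  · rw [mul_fst, mul_fst, hg, mul_one, one_mul]
  · rw [mul_snd, mul_snd, hg, β.map_one_left, β.map_one_right, add_comm y.2 x.2]

/-- commutator of two lifts when `G` is commutative -/
theorem commutator_mk_mk (hG : ∀ a b : G, a * b = b * a) (g h : G) :
    mk β g 0 * mk β h 0 * (mk β g 0)⁻¹ * (mk β h 0)⁻¹ = mk β 1 (β.toFun g h - β.toFun h g) := by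
  have h1 : mk β g 0 * mk β h 0 = mk β 1 (β.toFun g h - β.toFun h g) * (mk β h 0 * mk β g 0) := by
    rw [mk_mul_mk, mk_mul_mk, mk_mul_mk, hG g h, one_mul, β.map_one_left]
    congr 1
    abel
  rw [h1]
  group

/-- stem-ness criterion -/
theorem isStemExtension_proj (hG : ∀ a b : G, a * b = b * a)
    (hβ : ∀ w : W, ∃ g h : G, β.toFun g h - β.toFun h g = w) :
    Cfsg.IsStemExtension (proj β) := by
  refine ⟨proj_surjective β, ker_le_center β, ?_⟩
  intro x hx
  have hg : x.1 = 1 := hx
  obtain ⟨a, b, hab⟩ := hβ x.2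
  have := commutator_mk_mk β hG a b
  rw [hab] at this
  have hx' : x = mk β 1 x.2 := ext' β hg rfl
  rw [hx', ← this, commutator_def]
  exact Subgroup.commutator_mem_commutator (Subgroup.mem_top _) (Subgroup.mem_top _)

end Ext

end BiAdd

end Cfsg.Agent.Lib.Helper21
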