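import Mathlib
import Cfsg.Agent.Lib.Helper15.BlkA
import Cfsg.Agent.Lib.Helper10.BlkComm
import Cfsg.Agent.Lib.Helper10.BlkCaseA
import Cfsg.Agent.Lib.Helper21.BlkS

/-!
# BlkMax FO-B (helper21, for architect helper15): case B of the commutator moves
-/

set_option autoImplicit false
set_option linter.unusedSectionVars false
set_option linter.unusedVariables false

namespace Cfsg.Agent.Lib.Helper21.BlkCaseB

open Matrix Cfsg Cfsg.Geo Cfsg.Agent.Lib.Helper13.TNM Cfsg.Agent.Lib.Helper15.MonoMax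
  Cfsg.Agent.Lib.Helper15.BlkMax

section blocks
variable {t m : ℕ} {F : Type*} [Field F]

theorem goal_of_caseB (hm : 2 ≤ m) (M : Subgroup (GL (Fin t × Fin m) F)) (hSM : SS t m F ≤ M)
    (c ψ : Fin t × Fin m → F) (hψc : ψ ⬝ᵥ c = 0) (hT : InTv M c ψ) (hc0 : c ≠ 0) (k : Fin t)
    (hck : ∀ x, c (k, x) = 0) (hψk : ∃ x, ψ (k, x) ≠ 0) : Goal M := by
  classical
  obtain ⟨x0, hx0⟩ := hψk
  obtain ⟨x1, hx1⟩ : ∃ x1 : Fin m, x1 ≠ x0 := by
    by_cases h0 : x0 = ⟨0, by omega⟩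
    · exact ⟨⟨1, by omega⟩, by rw [h0]; simp [Fin.ext_iff]⟩
    · exact ⟨⟨0, by omega⟩, fun hh => h0 hh.symm⟩
  obtain ⟨b, hb⟩ : ∃ b : Fin t × Fin m → F, b = Pi.single (k, x0) 1 := ⟨_, rfl⟩
  obtain ⟨θ, hθ⟩ : ∃ θ : Fin t × Fin m → F, θ = Pi.single (k, x1) 1 := ⟨_, rfl⟩
  have hbk : OnBlk k b := by
    intro a ha
    rw [hb, Pi.single_apply, if_neg]
    intro hh
    exact ha (by rw [hh])
  have hθk : OnBlk k θ := by
    intro a ha
    rw [hθ, Pi.single_apply, if_neg]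
    intro hh
    exact ha (by rw [hh])
  have hθb : θ ⬝ᵥ b = 0 := by
    rw [hθ, hb, single_dotProduct, one_mul, Pi.single_apply, if_neg]
    intro hh
    have h2 : x1 = x0 := congrArg Prod.snd hh
    exact hx1 h2
  have hψb : ψ ⬝ᵥ b = ψ (k, x0) := by
    rw [hb, dotProduct_single, mul_one]
  have hθc : θ ⬝ᵥ c = 0 := by
    rw [hθ, single_dotProduct, one_mul, hck]
  have hU : InTv M b θ := Cfsg.Agent.Lib.Helper21.BlkS.inTv_of_onBlk hSM k b θ hbk hθk hθb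
  have hCB := Cfsg.Agent.Lib.Helper10.BlkComm.InTv.CB hT hU hψc hθb hθc
  -- the new transvection `tv c ψ'`, `ψ' = ψ (k,x0) • θ` on block `k`
  obtain ⟨l, y, hly⟩ : ∃ (l : Fin t) (y : Fin m), c (l, y) ≠ 0 := by
    by_contra hcon
    apply hc0
    funext a
    obtain ⟨a1, a2⟩ := a
    by_contra h2
    exact hcon ⟨a1, a2, h2⟩
  have hlk : l ≠ k := by
    rintro rfl
    exact hly (hck y)
  have hψ'c : ((ψ ⬝ᵥ b) • θ) ⬝ᵥ c = 0 := by
    rw [smul_dotProduct, hθc, smul_zero]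
  have hψ'0 : (ψ ⬝ᵥ b) • θ ≠ 0 := by
    intro h0
    have := congrFun h0 (k, x1)
    rw [Pi.smul_apply, hθ, Pi.single_eq_same, hψb, smul_eq_mul, mul_one, Pi.zero_apply] at this
    exact hx0 this
  have hψ'l : ∀ x, ((ψ ⬝ᵥ b) • θ) (l, x) = 0 := by
    intro x
    rw [Pi.smul_apply, hθk (l, x) hlk, smul_zero]
  exact Cfsg.Agent.Lib.Helper10.BlkCaseA.goal_of_caseA hm M hSM c ((ψ ⬝ᵥ b) • θ) hψ'c hCB hψ'0 l
    hψ'l ⟨y, hly⟩

end blocks

end Cfsg.Agent.Lib.Helper21.BlkCaseB
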