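import Mathlib
import Cfsg.Prelude.Def_KGroupFacts
import Cfsg.Agent.H5.TCkSound
import Cfsg.Agent.H5.StemTC
import Cfsg.Agent.H5.StemLift
import Cfsg.Agent.Lib.Helper12.McLWData
import Cfsg.Agent.Lib.Helper1.Co2MData
import Cfsg.Agent.Lib.Helper21.Co2MB

/-!
S2044-[A] (architect helper1), SPARE (`Co2M.Helper21.exists_mcl_lifts`; use helper9's `Lib/Helper9/Co2MA`): the lifts of `g 0, …, g 4` inside the perfect core of the preimage of
`M = ⟨g 0, …, g 4⟩ ≅ McL` in a stem extension with `2`-group kernel (helper5's `StemLift.liftSub`).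
-/

set_option autoImplicit false

namespace Cfsg.Agent.Lib.Helper1.Co2M

open Cfsg Cfsg.H5.TCk
open Cfsg.H5.StemTC (cword cwords)
open Cfsg.Agent.Lib.Helper12.McLW (relsG relsU relsW IsMcLTuple)

universe u

namespace Helper21

open Cfsg.Agent.Lib.Helper12.McLW (powW conjW tightW weakW)
open Cfsg.Agent.Lib.Helper5.Sp62 (crOf)

/-- the value of a word in a subgroup -/
theorem coe_ev {G : Type u} [Group G] (M : Subgroup G) (f : ℕ → ↥M) (w : List ℕ) :
    ((ev f w : ↥M) : G) = ev (fun i => (f i : G)) w :=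
  Cfsg.H5.StemTC.map_ev M.subtype f w

/-- closures inside a subgroup: same cardinality -/
theorem card_closure_coe {G : Type u} [Group G] (M : Subgroup G) (n : ℕ) (f : ℕ → ↥M) :
    Nat.card (Subgroup.closure (Set.range fun i : Fin n => f i.val)) =
      Nat.card (Subgroup.closure (Set.range fun i : Fin n => (f i.val : G))) := by
  rw [← Subgroup.card_map_of_injective M.subtype_injective, MonoidHom.map_closure]
  congr 3
  rw [← Set.range_comp]
  rfl

/-- generators of a closure generate it as a group -/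
theorem closure_coe_eq_top {G : Type u} [Group G] (n : ℕ) (g : ℕ → G)
    (f : ℕ → ↥(Subgroup.closure (Set.range fun i : Fin n => g i.val)))
    (hf : ∀ i < n, (f i : G) = g i) :
    Subgroup.closure (Set.range fun i : Fin n => f i.val) = ⊤ := by
  apply Subgroup.map_injective (Subgroup.closure (Set.range fun i : Fin n => g i.val)).subtype_injective
  rw [MonoidHom.map_closure, ← MonoidHom.range_eq_map, Subgroup.range_subtype, ← Set.range_comp]
  congr 2
  funext i
  exact hf i.val i.isLt

theorem relsG_all : ∀ r ∈ relsG, r.all (fun l => decide (l < 2 * 5)) = true := by decide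

theorem relsU_all4 : ∀ r ∈ relsU, r.all (fun l => decide (l < 2 * 2)) = true := by decide

theorem wordU_all : wordU.all (fun l => decide (l < 2 * 5)) = true := by decide

/-- `relsW` follows from `relsG` -/
theorem relsW_of_relsG {H : Type u} [Group H] (h : ℕ → H) (hG : ∀ r ∈ relsG, ev h r = 1) :
    ∀ r ∈ relsW, ev h r = 1 := by
  intro r hr
  unfold relsW at hr
  rcases List.mem_append.mp hr with hr | hr
  · exact hG r (by unfold relsG; exact List.mem_append_left _ hr)
  · unfold cwords at hr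
    obtain ⟨w, hw, hr⟩ := List.mem_flatMap.mp hr
    obtain ⟨k, _, rfl⟩ := List.mem_map.mp hr
    apply Cfsg.H5.StemTC.ev_cword
    rw [hG w (by unfold relsG; exact List.mem_append_right _ hw)]
    exact Subgroup.one_mem _

end Helper21

/-- [A] SPARE copy (helper9's `Lib/Helper9/Co2MA` landed first and has the plain name) -/
theorem Helper21.exists_mcl_lifts
    (hP : ∀ {H : Type u} [Group H] (h : ℕ → H),
      Subgroup.closure (Set.range fun i : Fin 5 => h i.val) = ⊤ →
      (∀ r ∈ relsW, ev h r = 1) → commutator H = ⊤)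
    (hOdd : ∀ {H : Type u} [Group H] (g' u' : ℕ → H), IsMcLTuple g' u' →
      ∀ {Δ' : Type u} [Group Δ'] [Finite Δ'] (τ' : Δ' →* H), IsStemExtension τ' → Odd (Nat.card τ'.ker))
    {G : Type u} [Group G] {Δ : Type u} [Group Δ] [Finite Δ]
    (τ : Δ →* G) (hτ : IsStemExtension τ) (hk : IsPGroup 2 τ.ker) (g u : ℕ → G)
    (hcard : Nat.card (Subgroup.closure (Set.range fun i : Fin 5 => g i.val)) = 898128000)
    (h168 : 168 ≤ Nat.card (Subgroup.closure (Set.range fun i : Fin 2 => g i.val)))
    (hu0 : u 0 = ev g wordU) (hu1 : u 1 = g 0)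
    (h40320 : 40320 ≤ Nat.card (Subgroup.closure (Set.range fun i : Fin 2 => u i.val)))
    (hG : ∀ r ∈ relsG, ev g r = 1) (hU : ∀ r ∈ relsU, ev u r = 1) :
    ∃ γ : ℕ → Δ, (∀ i < 5, τ (γ i) = g i) ∧
      Nat.card (Subgroup.closure (Set.range fun i : Fin 5 => γ i.val)) ≤ 898128000 ∧
      ∀ w : List ℕ, w.all (fun l => decide (l < 10)) = true → ev g w = 1 → ev γ w = 1 := by
  classical
  set M : Subgroup G := Subgroup.closure (Set.range fun i : Fin 5 => g i.val) with hMdef
  have hgM : ∀ i < 5, g i ∈ M := fun i hi => Subgroup.subset_closure ⟨⟨i, hi⟩, rfl⟩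
  have huM : ∀ i < 2, u i ∈ M := by
    intro i hi
    have : i = 0 ∨ i = 1 := by omega
    rcases this with rfl | rfl
    · rw [hu0]
      exact Cfsg.H5.StemTC.ev_mem g M 5 hgM wordU Helper21.wordU_all
    · rw [hu1]
      exact hgM 0 (by norm_num)
  let g' : ℕ → ↥M := fun i => if h : i < 5 then ⟨g i, hgM i h⟩ else 1
  let u' : ℕ → ↥M := fun i => if h : i < 2 then ⟨u i, huM i h⟩ else 1
  have hg' : ∀ i < 5, (g' i : G) = g i := by
    intro i hi
    simp only [g', dif_pos hi]
  have hu' : ∀ i < 2, (u' i : G) = u i := by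
    intro i hi
    simp only [u', dif_pos hi]
  have hgen' : Subgroup.closure (Set.range fun i : Fin 5 => g' i.val) = ⊤ :=
    Helper21.closure_coe_eq_top 5 g g' hg'
  have hrelG' : ∀ r ∈ relsG, ev g' r = 1 := by
    intro r hr
    apply Subtype.ext
    rw [Helper21.coe_ev, Helper21.ev_congr_all _ g 5 hg' r (Helper21.relsG_all r hr), hG r hr]
    rfl
  have hrelU' : ∀ r ∈ relsU, ev u' r = 1 := by
    intro r hr
    apply Subtype.ext
    rw [Helper21.coe_ev, Helper21.ev_congr_all _ u 2 hu' r (Helper21.relsU_all4 r hr), hU r hr]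
    rfl
  have h168' : 168 ≤ Nat.card (Subgroup.closure (Set.range fun i : Fin 2 => g' i.val)) := by
    rw [Helper21.card_closure_coe M 2 g']
    have : (fun i : Fin 2 => (g' i.val : G)) = fun i : Fin 2 => g i.val := by
      funext i
      exact hg' i.val (by omega)
    rw [this]
    exact h168
  have h40320' : 40320 ≤ Nat.card (Subgroup.closure (Set.range fun i : Fin 2 => u' i.val)) := by
    rw [Helper21.card_closure_coe M 2 u']
    have : (fun i : Fin 2 => (u' i.val : G)) = fun i : Fin 2 => u i.val := by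
      funext i
      exact hu' i.val i.isLt
    rw [this]
    exact h40320
  have htuple : IsMcLTuple g' u' := ⟨hcard, hgen', hrelG', h168', hrelU', h40320'⟩
  have hperf0 : commutator ↥M = ⊤ := hP g' hgen' (Helper21.relsW_of_relsG g' hrelG')
  have hperf : M ≤ ⁅M, M⁆ := by
    rw [← Subgroup.map_subtype_commutator, hperf0, ← MonoidHom.range_eq_map, Subgroup.range_subtype]
  -- the perfect core
  have hstem := Cfsg.H5.StemLift.liftHom_stem τ M hτ hperf
  have hodd := hOdd g' u' htuple (Cfsg.H5.StemLift.liftHom τ M hτ.1 hperf) hstem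
  have hk' : IsPGroup 2 (Cfsg.H5.StemLift.liftHom τ M hτ.1 hperf).ker := by
    intro x
    have hx : (x.1.1 : Δ) ∈ τ.ker := by
      have h1 := x.2
      rw [MonoidHom.mem_ker] at h1
      have h2 := congrArg Subtype.val h1
      rw [MonoidHom.mem_ker]
      exact h2
    obtain ⟨k, hk1⟩ := hk ⟨x.1.1, hx⟩
    refine ⟨k, ?_⟩
    apply Subtype.ext
    apply Subtype.ext
    have h3 := congrArg Subtype.val hk1
    simpa using h3
  obtain ⟨n, hn⟩ := hk'.exists_card_eq
  have hker1 : Nat.card (Cfsg.H5.StemLift.liftHom τ M hτ.1 hperf).ker = 1 := by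
    rw [hn] at hodd ⊢
    rcases Nat.eq_zero_or_pos n with rfl | hpos
    · rfl
    · exfalso
      have hev : Even (2 ^ n) := Nat.even_pow.mpr ⟨even_two, hpos.ne'⟩
      exact (Nat.not_odd_iff_even.mpr hev) hodd
  have hbot : (Cfsg.H5.StemLift.liftHom τ M hτ.1 hperf).ker = ⊥ := Subgroup.card_eq_one.mp hker1
  have hinjL := Cfsg.H5.StemLift.liftSub_inj τ M hτ hperf hbot
  have hcardL := Cfsg.H5.StemLift.card_liftSub τ M hτ hperf hbot
  have hex : ∀ i : ℕ, ∃ x ∈ Cfsg.H5.StemLift.liftSub τ M, i < 5 → τ x = g i := by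
    intro i
    by_cases hi : i < 5
    · obtain ⟨x, hx, hx'⟩ := Cfsg.H5.StemLift.exists_lift τ M hτ.1 hperf (g i) (hgM i hi)
      exact ⟨x, hx, fun _ => hx'⟩
    · exact ⟨1, Subgroup.one_mem _, fun h => absurd h hi⟩
  choose γ hγL hγ using hex
  refine ⟨γ, hγ, ?_, ?_⟩
  · have hle : Subgroup.closure (Set.range fun i : Fin 5 => γ i.val) ≤ Cfsg.H5.StemLift.liftSub τ M := by
      rw [Subgroup.closure_le]
      rintro _ ⟨i, rfl⟩
      exact hγL i.val
    calc Nat.card (Subgroup.closure (Set.range fun i : Fin 5 => γ i.val))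
        ≤ Nat.card (Cfsg.H5.StemLift.liftSub τ M) := Subgroup.card_le_of_le hle
      _ = 898128000 := by rw [hcardL]; exact hcard
  · intro w hw hgw
    apply hinjL (ev γ w) (Cfsg.H5.StemTC.ev_mem γ _ 5 (fun i _ => hγL i) w hw)
    rw [Cfsg.H5.StemTC.map_ev, Helper21.ev_congr_all _ g 5 hγ w hw]
    exact hgw

end Cfsg.Agent.Lib.Helper1.Co2M
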