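import Mathlib
import Cfsg.Prelude.Def_KGroupFacts
import Cfsg.Agent.Lib.Helper4.TC.Schur2

/-!
S2044-[FIN] (architect helper1), generic part: a group of order `|Co₂| = 2^18 3^6 5^3 7 11 23` all of whose finite
stem extensions have a kernel of order prime to `2`, `3` and `5` has a trivial Schur multiplier.
-/

set_option autoImplicit false

namespace Cfsg.Agent.Lib.Helper1.Co2M

open Cfsg

namespace Helper21

theorem small_primes_fin : ∀ r < 43, r.Prime → r ^ 2 ∣ 1771 → False := by decide +kernel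

/-- the primes whose square divides `|Co₂|` -/
theorem bad_primes_co2 (N : ℕ) (hN : N = 2 ^ 18 * 3 ^ 6 * 5 ^ 3 * 1771) (r : ℕ) (hr : r.Prime)
    (hf : 1 < N.factorization r) : r = 2 ∨ r = 3 ∨ r = 5 := by
  have hN0 : N ≠ 0 := by
    rw [hN]
    norm_num
  have hd : r ^ 2 ∣ N := (hr.pow_dvd_iff_le_factorization hN0).mpr hf
  by_contra hne
  have hne2 : r ≠ 2 := fun h => hne (Or.inl h)
  have hne3 : r ≠ 3 := fun h => hne (Or.inr (Or.inl h))
  have hne5 : r ≠ 5 := fun h => hne (Or.inr (Or.inr h))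
  have hc2 : Nat.Coprime r 2 := (Nat.coprime_primes hr Nat.prime_two).mpr hne2
  have hc3 : Nat.Coprime r 3 := (Nat.coprime_primes hr Nat.prime_three).mpr hne3
  have hc5 : Nat.Coprime r 5 := (Nat.coprime_primes hr Nat.prime_five).mpr hne5
  have hc : Nat.Coprime (r ^ 2) (2 ^ 18 * 3 ^ 6 * 5 ^ 3) :=
    Nat.Coprime.pow_left 2 (Nat.Coprime.mul_right
      (Nat.Coprime.mul_right (hc2.pow_right 18) (hc3.pow_right 6)) (hc5.pow_right 3))
  rw [hN] at hd
  have hd2 : r ^ 2 ∣ 1771 := hc.dvd_of_dvd_mul_left hd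
  have hle : r ^ 2 ≤ 1771 := Nat.le_of_dvd (by norm_num) hd2
  have hr43 : r < 43 := by nlinarith
  exact small_primes_fin r hr43 hr hd2

end Helper21

/-- [FIN], generic -/
theorem mult_one_of_card {G P : Type} [Group G] [Group P] [Finite P] (e : G ≃* P)
    (hc : Nat.card P = 42305421312000)
    (h2 : ∀ (Γ : Type) [Group Γ] [Finite Γ] (σ : Γ →* P), IsStemExtension σ → ¬ 2 ∣ Nat.card σ.ker)
    (h3 : ∀ (Γ : Type) [Group Γ] [Finite Γ] (σ : Γ →* P), IsStemExtension σ → ¬ 3 ∣ Nat.card σ.ker)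
    (h5 : ∀ (Γ : Type) [Group Γ] [Finite Γ] (σ : Γ →* P), IsStemExtension σ → ¬ 5 ∣ Nat.card σ.ker) :
    Cfsg.HasCyclicSchurMultiplier G 1 := by
  apply Cfsg.Agent.Helper4.TC.Schur.hasCyclicSchurMultiplier_one_of_iso e
  intro Γ _ _ σ hσ
  refine Cfsg.Agent.Helper4.TC.Schur.ker_eq_bot_of_prime_cases ?_ σ hσ
  intro r hr hf Γ' _ _ σ' hσ' hexp z hz
  have hr235 : r = 2 ∨ r = 3 ∨ r = 5 :=
    Helper21.bad_primes_co2 (Nat.card P) (hc.trans (by norm_num)) r hr hf
  have hnd : ¬ r ∣ Nat.card σ'.ker := by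
    rcases hr235 with rfl | rfl | rfl
    · exact h2 Γ' σ' hσ'
    · exact h3 Γ' σ' hσ'
    · exact h5 Γ' σ' hσ'
  by_contra hz1
  have ho : orderOf z = r := by
    have hdvd : orderOf z ∣ r := orderOf_dvd_of_pow_eq_one (hexp z hz)
    rcases (Nat.dvd_prime hr).mp hdvd with h | h
    · exact absurd (orderOf_eq_one_iff.mp h) hz1
    · exact h
  apply hnd
  rw [← ho]
  have h1 : orderOf (⟨z, hz⟩ : σ'.ker) ∣ Nat.card σ'.ker := orderOf_dvd_natCard _
  rwa [Subgroup.orderOf_mk] at h1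

end Cfsg.Agent.Lib.Helper1.Co2M
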