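import Cfsg.Agent.Lib.Helper25.Co2OutModel
import Cfsg.Agent.Lib.Helper21.Co2MFinGen

/-!
S2044-[FIN] (architect helper1): the Schur multiplier of `Co₂` is trivial when the kernels of the finite stem
extensions of helper25's model `genGroup 4600 13 known1` have order prime to `2`, `3` and `5`.
-/

set_option autoImplicit false

namespace Cfsg.Agent.Lib.Helper1.Co2M

open Cfsg
open Cfsg.Agent.Lib.Helper28.BSGS (genGroup)
open Cfsg.Agent.Lib.Helper25.Co2Out (known1)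

/-- [FIN] -/
theorem co2_mult_of
    (h2 : ∀ (Γ : Type) [Group Γ] [Finite Γ] (σ : Γ →* ↥(genGroup 4600 13 known1)), IsStemExtension σ →
      ¬ 2 ∣ Nat.card σ.ker)
    (h3 : ∀ (Γ : Type) [Group Γ] [Finite Γ] (σ : Γ →* ↥(genGroup 4600 13 known1)), IsStemExtension σ →
      ¬ 3 ∣ Nat.card σ.ker)
    (h5 : ∀ (Γ : Type) [Group Γ] [Finite Γ] (σ : Γ →* ↥(genGroup 4600 13 known1)), IsStemExtension σ →
      ¬ 5 ∣ Nat.card σ.ker) :
    Cfsg.HasCyclicSchurMultiplier ↥Cfsg.Spor.Co2 1 := by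
  obtain ⟨e⟩ := Cfsg.Agent.Lib.Helper25.Co2Out.co2_equiv_known1
  exact mult_one_of_card e Cfsg.Agent.Lib.Helper25.Co2Out.card_known1 h2 h3 h5

end Cfsg.Agent.Lib.Helper1.Co2M
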