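import Mathlib

set_option autoImplicit false

namespace Cfsg.Agent.Lib.Helper21.ConjJ

open Module

variable {K : Type*} [Field K]

/-- If `ker f` has dimension at most one, the rank of `f ^ k` drops by at most `k`. -/
theorem finrank_range_pow_ge {V : Type*} [AddCommGroup V] [Module K V] [FiniteDimensional K V]
    (f : V →ₗ[K] V) (hker : finrank K (LinearMap.ker f) ≤ 1) (k : ℕ) :
    finrank K V ≤ finrank K (LinearMap.range (f ^ k)) + k := by
  induction k with
  | zero =>
    have : LinearMap.range (f ^ 0) = ⊤ := by
      rw [pow_zero]; exact LinearMap.range_id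
    rw [this, finrank_top]; omega
  | succ k ih =>
    set R := LinearMap.range (f ^ k) with hR
    have h1 := LinearMap.finrank_range_add_finrank_ker (f.domRestrict R)
    have h2 : LinearMap.range (f.domRestrict R) = LinearMap.range (f ^ (k+1)) := by
      rw [LinearMap.range_domRestrict, pow_succ', Module.End.mul_eq_comp, LinearMap.range_comp]
    have h3 : finrank K (LinearMap.ker (f.domRestrict R)) ≤ finrank K (LinearMap.ker f) := by
      let φ : LinearMap.ker (f.domRestrict R) →ₗ[K] LinearMap.ker f :=
        LinearMap.codRestrict (LinearMap.ker f)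
          (R.subtype.comp (LinearMap.ker (f.domRestrict R)).subtype)
          (fun x => by
            rw [LinearMap.mem_ker]
            have h := LinearMap.map_coe_ker (f.domRestrict R) x
            rw [LinearMap.domRestrict_apply] at h
            exact h)
      apply LinearMap.finrank_le_finrank_of_injective (f := φ)
      intro x y hxy
      have := congrArg (fun z : LinearMap.ker f => (z : V)) hxy
      simp only [φ, LinearMap.codRestrict_apply, LinearMap.coe_comp, Function.comp_apply,
        Submodule.coe_subtype] at this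
      exact Subtype.ext (Subtype.ext this)
    rw [h2] at h1
    omega

/-- `v, f v, …, f^(n-1) v` are linearly independent if `f^n v = 0 ≠ f^(n-1) v`. -/
theorem linearIndependent_pow {V : Type*} [AddCommGroup V] [Module K V]
    (f : V →ₗ[K] V) (v : V) (n : ℕ) (h0 : (f ^ n) v = 0) (h1 : (f ^ (n - 1)) v ≠ 0) :
    LinearIndependent K (fun i : Fin n => (f ^ (i : ℕ)) v) := by
  rw [Fintype.linearIndependent_iff]
  intro g hg
  have hbig : ∀ e, n ≤ e → (f ^ e) v = 0 := by
    intro e he
    obtain ⟨d, rfl⟩ := Nat.exists_eq_add_of_le he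
    rw [add_comm, pow_add, Module.End.mul_apply, h0, map_zero]
  have key : ∀ m (hm : m < n), g ⟨m, hm⟩ = 0 := by
    intro m
    induction m using Nat.strong_induction_on with
    | _ m ih =>
      intro hm
      have h2 := congrArg (f ^ (n - 1 - m)) hg
      simp only [map_sum, map_smul, map_zero] at h2
      rw [Finset.sum_eq_single (⟨m, hm⟩ : Fin n)] at h2
      · rw [← Module.End.mul_apply, ← pow_add] at h2
        have : n - 1 - m + m = n - 1 := by omega
        simp only [this] at h2
        rcases smul_eq_zero.mp h2 with h | h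
        · exact h
        · exact absurd h h1
      · intro j _ hj
        rcases lt_or_gt_of_ne (fun h => hj (Fin.ext h) : (j : ℕ) ≠ m) with h | h
        · rw [ih j h j.2, zero_smul]
        · rw [← Module.End.mul_apply, ← pow_add, hbig _ (by omega), smul_zero]
      · intro h; exact absurd (Finset.mem_univ _) h
  intro i
  exact key i i.2

theorem conj_J {n : ℕ} (J : GL (Fin n) K)
    (hJ : ∀ i j : Fin n, (J : Matrix (Fin n) (Fin n) K) i j =
      if i = j then 1 else if j.val = i.val + 1 then 1 else 0)
    (A : Matrix (Fin n) (Fin n) K) (hnil : ∃ k, (A - 1) ^ k = 0)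
    (hker : ∃ p : Fin n → K, ∀ v : Fin n → K, A.mulVec v = v → ∃ t : K, v = t • p) :
    ∃ X : GL (Fin n) K, A = ((X * J * X⁻¹ : GL (Fin n) K) : Matrix (Fin n) (Fin n) K) := by
  rcases Nat.eq_zero_or_pos n with rfl | hn
  · exact ⟨1, Subsingleton.elim _ _⟩
  set f : (Fin n → K) →ₗ[K] (Fin n → K) := Matrix.toLinAlgEquiv' (A - 1) with hf
  have hfv : ∀ v, f v = A.mulVec v - v := by
    intro v
    simp [hf]
  obtain ⟨k, hk⟩ := hnil
  have hfk : f ^ k = 0 := by
    rw [hf, ← map_pow, hk, map_zero]
  have hfn : f ^ n = 0 := by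
    have h := Module.End.ker_pow_le_ker_pow_finrank f k
    rw [hfk, Module.finrank_fin_fun] at h
    have : LinearMap.ker (0 : (Fin n → K) →ₗ[K] (Fin n → K)) = ⊤ := LinearMap.ker_zero
    rw [this, top_le_iff, LinearMap.ker_eq_top] at h
    exact h
  obtain ⟨p, hp⟩ := hker
  have hkerle : finrank K (LinearMap.ker f) ≤ 1 := by
    have hle : LinearMap.ker f ≤ Submodule.span K {p} := by
      intro v hv
      rw [LinearMap.mem_ker, hfv, sub_eq_zero] at hv
      obtain ⟨t, rfl⟩ := hp v hv
      exact Submodule.smul_mem _ _ (Submodule.subset_span rfl)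
    refine (Submodule.finrank_mono hle).trans ?_
    by_cases hp0 : p = 0
    · rw [hp0, Submodule.span_zero_singleton, finrank_bot]
      omega
    · rw [finrank_span_singleton hp0]
  have hrk := finrank_range_pow_ge f hkerle (n - 1)
  rw [Module.finrank_fin_fun] at hrk
  have hne : f ^ (n - 1) ≠ 0 := by
    intro h0
    rw [h0, LinearMap.range_zero, finrank_bot] at hrk
    omega
  obtain ⟨v, hv⟩ : ∃ v, (f ^ (n - 1)) v ≠ 0 := by
    by_contra hcon
    push Not at hcon
    exact hne (LinearMap.ext hcon)
  have hli := linearIndependent_pow f v n (by rw [hfn]; rfl) hv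
  -- the columns
  let b : Fin n → (Fin n → K) := fun j => (f ^ (n - 1 - (j : ℕ))) v
  have hbli : LinearIndependent K b := by
    have : b = (fun i : Fin n => (f ^ (i : ℕ)) v) ∘ Fin.rev := by
      funext j
      simp only [b, Function.comp_apply, Fin.val_rev]
      congr 2
      omega
    rw [this]
    exact hli.comp _ Fin.rev_injective
  let X : Matrix (Fin n) (Fin n) K := Matrix.of (fun i j => b j i)
  have hXu : IsUnit X := by
    rw [← Matrix.linearIndependent_cols_iff_isUnit]
    exact hbli
  obtain ⟨Xu, hXu'⟩ := hXu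
  refine ⟨Xu, ?_⟩
  have hfb0 : ∀ j : Fin n, (j : ℕ) = 0 → f (b j) = 0 := by
    intro j hj
    simp only [b, hj]
    rw [← Module.End.mul_apply, ← pow_succ']
    have : n - 1 - 0 + 1 = n := by omega
    rw [this, hfn]; rfl
  have hfbs : ∀ (j l : Fin n), (j : ℕ) = (l : ℕ) + 1 → f (b j) = b l := by
    intro j l hjl
    simp only [b]
    rw [← Module.End.mul_apply, ← pow_succ']
    congr 2
    omega
  have hAX : A * X = X * (J : Matrix (Fin n) (Fin n) K) := by
    ext i j
    have h1 : (A * X) i j = (A.mulVec (b j)) i := by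
      simp [Matrix.mul_apply, Matrix.mulVec, dotProduct, X]
    have h2 : A.mulVec (b j) = b j + f (b j) := by rw [hfv]; abel
    rw [h1, h2, Matrix.mul_apply]
    simp only [hJ, X, Matrix.of_apply, Pi.add_apply]
    have hsplit : ∀ l : Fin n, b l i * (if l = j then (1 : K) else if j.val = l.val + 1 then 1 else 0)
        = (if l = j then b l i else 0) + (if j.val = l.val + 1 then b l i else 0) := by
      intro l
      by_cases h : l = j
      · subst h
        simp
      · simp [h]
    simp only [hsplit, Finset.sum_add_distrib, Finset.sum_ite_eq', Finset.mem_univ, if_true]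
    congr 1
    rcases Nat.eq_zero_or_pos (j : ℕ) with hj | hj
    · rw [hfb0 j hj]
      symm
      apply Finset.sum_eq_zero
      intro l _
      rw [if_neg (by omega)]
    · have hl : (j : ℕ) - 1 < n := by omega
      have hjl : (j : ℕ) = ((⟨(j : ℕ) - 1, hl⟩ : Fin n) : ℕ) + 1 := by simp; omega
      rw [hfbs j ⟨(j : ℕ) - 1, hl⟩ hjl]
      symm
      rw [Finset.sum_eq_single (⟨(j : ℕ) - 1, hl⟩ : Fin n)]
      · rw [if_pos hjl]
      · intro l _ hl'
        rw [if_neg]
        intro h
        apply hl'
        apply Fin.ext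
        simp only
        omega
      · intro h; exact absurd (Finset.mem_univ _) h
  have : ((Xu * J * Xu⁻¹ : GL (Fin n) K) : Matrix (Fin n) (Fin n) K)
      = (Xu : Matrix (Fin n) (Fin n) K) * (J : Matrix (Fin n) (Fin n) K) * ((Xu⁻¹ : GL (Fin n) K) : Matrix (Fin n) (Fin n) K) := by
    simp [Units.val_mul]
  rw [this, Units.eq_mul_inv_iff_mul_eq, hXu']
  exact hAX

end Cfsg.Agent.Lib.Helper21.ConjJ
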