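import Cfsg.Agent.Lib.Helper21.StemExt

/-!
Rotation subgroup of the dihedral group, and the size of the kernel of a finite stem extension of
a dihedral group.
-/

set_option autoImplicit false

namespace Cfsg.Agent.Lib.Helper21

open DihedralGroup

/-- the rotation subgroup -/
def rot (n : ℕ) : Subgroup (DihedralGroup n) := Subgroup.zpowers (r 1)

theorem mem_rot {n : ℕ} (x : DihedralGroup n) : x ∈ rot n ↔ ∃ i, x = r i := by
  rw [rot, Subgroup.mem_zpowers_iff]
  constructor
  · rintro ⟨k, rfl⟩
    exact ⟨k, r_one_zpow k⟩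
  · rintro ⟨i, rfl⟩
    obtain ⟨k, rfl⟩ := ZMod.intCast_surjective i
    exact ⟨k, r_one_zpow k⟩

instance rot_normal (n : ℕ) : (rot n).Normal := by
  constructor
  intro x hx g
  obtain ⟨i, rfl⟩ := (mem_rot x).mp hx
  rw [mem_rot]
  rcases g with j | j
  · exact ⟨i, by simp⟩
  · exact ⟨-i, by simp⟩

theorem rot_isCyclic (n : ℕ) : IsCyclic (rot n) := by
  rw [rot]; infer_instance

theorem rot_sup (n : ℕ) : rot n ⊔ Subgroup.zpowers (sr (0 : ZMod n)) = ⊤ := by
  rw [eq_top_iff]
  intro x _
  rcases x with i | i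
  · exact Subgroup.mem_sup_left ((mem_rot _).mpr ⟨i, rfl⟩)
  · have : (sr i : DihedralGroup n) = r (-i) * sr 0 := by simp
    rw [this]
    exact Subgroup.mul_mem_sup ((mem_rot _).mpr ⟨-i, rfl⟩) (Subgroup.mem_zpowers _)

theorem mem_rot_inf_centralizer {n : ℕ} (x : DihedralGroup n) :
    x ∈ rot n ⊓ Subgroup.centralizer ({sr (0 : ZMod n)} : Set (DihedralGroup n)) ↔
      ∃ i : ZMod n, x = r i ∧ i + i = 0 := by
  rw [Subgroup.mem_inf, mem_rot, Subgroup.mem_centralizer_iff]
  constructor
  · rintro ⟨⟨i, rfl⟩, h⟩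
    refine ⟨i, rfl, ?_⟩
    have := h (sr 0) rfl
    simp only [sr_mul_r, r_mul_sr, zero_add, zero_sub] at this
    injection this with this
    nth_rewrite 1 [this]
    exact neg_add_cancel i
  · rintro ⟨i, rfl, hi⟩
    refine ⟨⟨i, rfl⟩, ?_⟩
    intro y hy
    rw [Set.mem_singleton_iff] at hy
    subst hy
    simp only [sr_mul_r, r_mul_sr, zero_add, zero_sub]
    congr 1
    exact eq_neg_of_add_eq_zero_left hi

theorem rot_inf_centralizer_odd {n : ℕ} (hn : Odd n) :
    rot n ⊓ Subgroup.centralizer ({sr (0 : ZMod n)} : Set (DihedralGroup n)) = ⊥ := by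
  rw [eq_bot_iff]
  intro x hx
  obtain ⟨i, rfl, hi⟩ := (mem_rot_inf_centralizer x).mp hx
  rw [Subgroup.mem_bot, one_def]
  congr 1
  have : NeZero n := ⟨hn.pos.ne'⟩
  -- 2 * i = 0 with n odd
  have h2 : ((2 : ℕ) : ZMod n) * i = 0 := by push_cast; rw [two_mul]; exact hi
  have hu : IsUnit ((2 : ℕ) : ZMod n) := by
    rw [ZMod.isUnit_iff_coprime]
    exact (Nat.coprime_two_left.mpr hn)
  exact (hu.mul_right_eq_zero).mp h2

theorem card_rot_inf_centralizer_le (n : ℕ) [NeZero n] :
    Nat.card ↥(rot n ⊓ Subgroup.centralizer ({sr (0 : ZMod n)} : Set (DihedralGroup n))) ≤ 2 := by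
  classical
  -- the set is contained in `{r 0, r (n/2)}`
  have hsub : ((rot n ⊓ Subgroup.centralizer ({sr (0 : ZMod n)} : Set (DihedralGroup n)) :
      Subgroup (DihedralGroup n)) : Set (DihedralGroup n)) ⊆
      {r 0, r ((n / 2 : ℕ) : ZMod n)} := by
    intro x hx
    obtain ⟨i, rfl, hi⟩ := (mem_rot_inf_centralizer x).mp hx
    have hn : 0 < n := Nat.pos_of_ne_zero (NeZero.ne n)
    have hv : (i.val + i.val) % n = 0 := by
      have := congrArg ZMod.val hi
      rw [ZMod.val_add, ZMod.val_zero] at this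
      exact this
    have hlt : i.val < n := ZMod.val_lt i
    have hcases : i.val = 0 ∨ i.val + i.val = n := by
      have hdvd : n ∣ i.val + i.val := Nat.dvd_of_mod_eq_zero hv
      obtain ⟨k, hk⟩ := hdvd
      have hk2 : k < 2 := by
        by_contra hk2
        push Not at hk2
        have : n * 2 ≤ n * k := Nat.mul_le_mul_left n hk2
        omega
      interval_cases k
      · left; omega
      · right; omega
    rcases hcases with h0 | h1
    · left
      congr 1
      exact (ZMod.val_eq_zero i).mp h0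
    · right
      rw [Set.mem_singleton_iff]
      congr 1
      have : i.val = n / 2 := by omega
      rw [← this, ZMod.natCast_zmod_val]
  calc Nat.card ↥(rot n ⊓ Subgroup.centralizer ({sr (0 : ZMod n)} : Set (DihedralGroup n)))
      = ((rot n ⊓ Subgroup.centralizer ({sr (0 : ZMod n)} : Set (DihedralGroup n)) :
      Subgroup (DihedralGroup n)) : Set (DihedralGroup n)).ncard := by
        rw [← Nat.card_coe_set_eq]; rfl
    _ ≤ ({r 0, r ((n / 2 : ℕ) : ZMod n)} : Set (DihedralGroup n)).ncard :=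
        Set.ncard_le_ncard hsub (Set.toFinite _)
    _ ≤ 2 := by
        refine (Set.ncard_insert_le _ _).trans ?_
        rw [Set.ncard_singleton]

/-- the kernel of a finite stem extension of a dihedral group has order dividing that of the
centralizer of a reflection in the rotation subgroup -/
theorem card_ker_dvd_dihedral {n : ℕ} {Γ : Type} [Group Γ] [Finite Γ]
    (σ : Γ →* DihedralGroup n) (hσ : IsStemExtension σ) :
    Nat.card σ.ker ∣
      Nat.card ↥(rot n ⊓ Subgroup.centralizer ({sr (0 : ZMod n)} : Set (DihedralGroup n))) := by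
  obtain ⟨t, ht⟩ := hσ.1 (sr 0)
  rw [← stem_card_centralizer σ hσ (rot n) (rot_isCyclic n) (sr 0) (rot_sup n) t ht]
  exact Subgroup.card_dvd_of_le (ker_le_comap_inf_centralizer σ hσ (rot n) t)

end Cfsg.Agent.Lib.Helper21
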