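import Mathlib
import Cfsg.Prelude.Def_HallClasses

/-!
# Pronormal subgroups: basic API (helper21)

`Cfsg.IsPronormal H` is stated via `H.map (MulAut.conj g).toMonoidHom`; we write `cj g H` for it.
-/

set_option autoImplicit false

namespace Cfsg.Agent.Lib.Helper21

variable {G : Type*} [Group G]

/-- The conjugate `g H g⁻¹`, as `H.map (MulAut.conj g).toMonoidHom`. -/
abbrev cj (g : G) (H : Subgroup G) : Subgroup G := H.map (MulAut.conj g).toMonoidHom

theorem mem_cj {g x : G} {H : Subgroup G} : x ∈ cj g H ↔ g⁻¹ * x * g ∈ H := by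
  constructor
  · rintro ⟨y, hy, rfl⟩
    simpa [mul_assoc] using hy
  · intro h
    exact ⟨g⁻¹ * x * g, h, by simp [mul_assoc]⟩

theorem conj_mem_cj {g y : G} {H : Subgroup G} (hy : y ∈ H) : g * y * g⁻¹ ∈ cj g H :=
  ⟨y, hy, by simp⟩

theorem cj_mul (g h : G) (H : Subgroup G) : cj (g * h) H = cj g (cj h H) := by
  ext x
  simp only [mem_cj]
  constructor <;> intro hx <;> convert hx using 1 <;> group

theorem cj_one (H : Subgroup G) : cj 1 H = H := by
  ext x; simp

theorem cj_inv_cj (g : G) (H : Subgroup G) : cj g⁻¹ (cj g H) = H := by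
  rw [← cj_mul, inv_mul_cancel, cj_one]

theorem cj_cj_inv (g : G) (H : Subgroup G) : cj g (cj g⁻¹ H) = H := by
  rw [← cj_mul, mul_inv_cancel, cj_one]

theorem cj_mono {g : G} {H K : Subgroup G} (h : H ≤ K) : cj g H ≤ cj g K :=
  Subgroup.map_mono h

theorem cj_eq_self_of_mem {g : G} {H : Subgroup G} (hg : g ∈ H) : cj g H = H := by
  ext x
  rw [mem_cj]
  constructor
  · intro h
    have : x = g * (g⁻¹ * x * g) * g⁻¹ := by group
    rw [this]
    exact mul_mem (mul_mem hg h) (inv_mem hg)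
  · intro h
    exact mul_mem (mul_mem (inv_mem hg) h) hg

theorem cj_le_of_mem {g : G} {H K : Subgroup G} (hg : g ∈ K) (h : H ≤ K) : cj g H ≤ K := by
  rw [← cj_eq_self_of_mem hg]
  exact cj_mono h

theorem cj_eq_self_of_mem_normalizer {g : G} {H : Subgroup G}
    (h : g ∈ Subgroup.normalizer (H : Set G)) : cj g H = H := by
  rw [Subgroup.mem_normalizer_iff] at h
  ext x
  rw [mem_cj]
  rw [h (g⁻¹ * x * g)]
  constructor <;> intro hx <;> convert hx using 1 <;> group

theorem mem_normalizer_of_cj_eq_self {g : G} {H : Subgroup G} (h : cj g H = H) :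
    g ∈ Subgroup.normalizer (H : Set G) := by
  have h' : cj g⁻¹ H = H := by
    conv_lhs => rw [← h]
    exact cj_inv_cj g H
  rw [Subgroup.mem_normalizer_iff]
  intro x
  constructor
  · intro hx
    have : g * x * g⁻¹ ∈ cj g H := conj_mem_cj hx
    rwa [h] at this
  · intro hx
    have : g⁻¹ * (g * x * g⁻¹) * g⁻¹⁻¹ ∈ cj g⁻¹ H := conj_mem_cj hx
    rw [h'] at this
    convert this using 1; group

theorem cj_eq_cj_iff {g x : G} {H : Subgroup G} :
    cj g H = cj x H ↔ x⁻¹ * g ∈ Subgroup.normalizer (H : Set G) := by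
  constructor
  · intro h
    apply mem_normalizer_of_cj_eq_self
    rw [cj_mul, h, cj_inv_cj]
  · intro h
    have := cj_eq_self_of_mem_normalizer h
    rw [cj_mul] at this
    have h2 := congrArg (cj x) this
    rwa [cj_cj_inv] at h2

theorem cj_eq_self_iff_mem_normalizer {g : G} {H : Subgroup G} :
    cj g H = H ↔ g ∈ Subgroup.normalizer (H : Set G) :=
  ⟨mem_normalizer_of_cj_eq_self, cj_eq_self_of_mem_normalizer⟩

theorem isPronormal_iff {H : Subgroup G} :
    Cfsg.IsPronormal H ↔ ∀ g : G, ∃ x ∈ H ⊔ cj g H, cj g H = cj x H := Iff.rfl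

/-- Subgroups containing the normalizer of a pronormal subgroup... first: Frattini-type
factorisation. If `H` is pronormal in `G` and `H ≤ A` with `A` normal, then `G = A N_G(H)`. -/
theorem IsPronormal.sup_normalizer_eq_top {H A : Subgroup G} [A.Normal] (hH : Cfsg.IsPronormal H)
    (hHA : H ≤ A) : A ⊔ Subgroup.normalizer (H : Set G) = ⊤ := by
  rw [eq_top_iff]
  intro g _
  obtain ⟨x, hx, hgx⟩ := hH g
  have hxA : x ∈ A := by
    have : H ⊔ cj g H ≤ A := by
      apply sup_le hHA
      intro y hy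
      rw [mem_cj] at hy
      have h1 : g * (g⁻¹ * y * g) * g⁻¹ ∈ A := ‹A.Normal›.conj_mem _ (hHA hy) g
      convert h1 using 1; group
    exact this hx
  have hn : x⁻¹ * g ∈ Subgroup.normalizer (H : Set G) := cj_eq_cj_iff.mp hgx
  have : g = x * (x⁻¹ * g) := by group
  rw [this]
  exact Subgroup.mul_mem_sup hxA hn

end Cfsg.Agent.Lib.Helper21
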