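import Mathlib
import Cfsg.Agent.Lib.Helper1.Cores
import Cfsg.Agent.Lib.Helper21.BaerSuzuki
import Cfsg.Agent.Lib.Helper21.Pronormal

/-!
# Left Engel elements of finite groups lie in the Fitting subgroup (Baer) — helper21
-/

set_option autoImplicit false

namespace Cfsg.Agent.Lib.Helper21

open Cfsg

universe u

section eng

variable {G : Type*} [Group G]

/-- The Engel sequence `[x, g, g, …, g]` (`n` entries `g`, `[a, b] = a b a⁻¹ b⁻¹`). -/
def eng (g x : G) (n : ℕ) : G :=
  (List.replicate n g).foldl (fun a b => a * b * a⁻¹ * b⁻¹) x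

theorem eng_zero (g x : G) : eng g x 0 = x := rfl

theorem eng_succ (g x : G) (n : ℕ) : eng g x (n + 1) = eng g (x * g * x⁻¹ * g⁻¹) n := by
  simp [eng, List.replicate_succ]

theorem eng_succ' (g x : G) (n : ℕ) :
    eng g x (n + 1) = eng g x n * g * (eng g x n)⁻¹ * g⁻¹ := by
  simp [eng, List.replicate_succ', List.foldl_append]

theorem map_eng {H : Type*} [Group H] (f : G →* H) (g x : G) (n : ℕ) :
    f (eng g x n) = eng (f g) (f x) n := by
  induction n generalizing x with
  | zero => rfl
  | succ n ih => rw [eng_succ, eng_succ, ih]; simp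

/-- `g` is a left Engel element. -/
def LeftEngel (g : G) : Prop := ∀ x : G, ∃ n : ℕ, eng g x n = 1

theorem LeftEngel.conj {g : G} (h : LeftEngel g) (a : G) : LeftEngel (a * g * a⁻¹) := by
  intro x
  obtain ⟨n, hn⟩ := h (a⁻¹ * x * a)
  refine ⟨n, ?_⟩
  have := map_eng (MulAut.conj a).toMonoidHom g (a⁻¹ * x * a) n
  simp only [MulEquiv.coe_toMonoidHom, MulAut.conj_apply] at this
  rw [hn] at this
  have e : a * (a⁻¹ * x * a) * a⁻¹ = x := by group
  rw [e] at this
  rw [← this]; simp

theorem LeftEngel.subgroup {g : G} (h : LeftEngel g) (H : Subgroup G) (hg : g ∈ H) :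
    LeftEngel (⟨g, hg⟩ : H) := by
  intro x
  obtain ⟨n, hn⟩ := h (x : G)
  refine ⟨n, ?_⟩
  apply H.subtype_injective
  rw [map_eng, map_one]
  exact hn

/-- In a nilpotent group the Engel sequence reaches the lower central series. -/
theorem eng_mem_lowerCentralSeries (g x : G) (n : ℕ) :
    eng g x n ∈ (⊤ : Subgroup G).lowerCentralSeries n := by
  induction n with
  | zero => rw [Subgroup.lowerCentralSeries_zero]; trivial
  | succ n ih =>
    rw [eng_succ']
    have := Subgroup.commutator_mem_commutator ih (Subgroup.mem_top g)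
    rw [commutatorElement_def] at this
    exact this

theorem leftEngel_of_isNilpotent [Group.IsNilpotent G] (g : G) : LeftEngel g := by
  intro x
  refine ⟨Group.nilpotencyClass G, ?_⟩
  have h := eng_mem_lowerCentralSeries g x (Group.nilpotencyClass G)
  rw [Subgroup.lowerCentralSeries_nilpotencyClass] at h
  exact Subgroup.mem_bot.mp h

end eng

section lemmaA

variable {G : Type*} [Group G]

theorem lt_inf_normalizer_of_lt_of_isNilpotent (S T : Subgroup G) [Group.IsNilpotent S]
    (hTS : T < S) : T < S ⊓ Subgroup.normalizer (T : Set G) := by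
  have hnc : NormalizerCondition S := Group.normalizerCondition_of_isNilpotent
  have hlt : T.subgroupOf S < ⊤ := by
    rw [lt_top_iff_ne_top]
    intro h
    rw [Subgroup.subgroupOf_eq_top] at h
    exact absurd (le_antisymm hTS.le h) hTS.ne
  have h1 := hnc (T.subgroupOf S) hlt
  rw [← Subgroup.subgroupOf_normalizer_eq hTS.le] at h1
  refine lt_of_le_of_ne (le_inf hTS.le Subgroup.le_normalizer) ?_
  intro heq
  apply h1.ne
  ext ⟨x, hx⟩
  simp only [Subgroup.mem_subgroupOf]
  constructor
  · intro hxT; exact Subgroup.le_normalizer hxT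
  · intro hxN
    have : x ∈ S ⊓ Subgroup.normalizer (T : Set G) := Subgroup.mem_inf.mpr ⟨hx, hxN⟩
    rw [← heq] at this; exact this

/-- Key lemma, nilpotent version. -/
theorem exists_mem_normalizer_of_not_subset_nilp (P : Subgroup G) [Group.IsNilpotent P] (S : Set G)
    (hSP : S ⊆ (P : Set G)) (hinv : ∀ g ∈ P, ∀ s ∈ S, g * s * g⁻¹ ∈ S) (E : Subgroup G) (hEP : E ≤ P)
    (hE : E = Subgroup.closure (S ∩ (E : Set G))) (hne : ∃ s ∈ S, s ∉ E) :
    ∃ x ∈ S, x ∉ E ∧ x ∈ Subgroup.normalizer (E : Set G) := by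
  by_contra hcon
  push Not at hcon
  set N1 : Subgroup G := P ⊓ Subgroup.normalizer (E : Set G) with hN1
  have hEN1 : E ≤ N1 := le_inf hEP Subgroup.le_normalizer
  have key : ∀ g ∈ P ⊓ Subgroup.normalizer (N1 : Set G), ∀ e ∈ E, g * e * g⁻¹ ∈ E := by
    intro g hg
    have hgP : g ∈ P := hg.1
    have hgN : g ∈ Subgroup.normalizer (N1 : Set G) := hg.2
    intro e he
    rw [hE] at he
    refine conj_closure_mem ?_ e he
    intro d hd
    have hdS : d ∈ S := hd.1
    have hdE : d ∈ E := hd.2
    have h1 : g * d * g⁻¹ ∈ S := hinv g hgP d hdS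
    have h2 : g * d * g⁻¹ ∈ N1 := by
      rw [Subgroup.mem_normalizer_iff] at hgN
      exact (hgN d).mp (hEN1 hdE)
    by_contra h3
    exact hcon _ h1 h3 h2.2
  have hle : P ⊓ Subgroup.normalizer (N1 : Set G) ≤ N1 := by
    intro g hg
    refine ⟨hg.1, ?_⟩
    apply mem_normalizer_of_conj_mem (key g hg)
    have hg' : g⁻¹ ∈ P ⊓ Subgroup.normalizer (N1 : Set G) := Subgroup.inv_mem _ hg
    intro e he
    have := key g⁻¹ hg' e he
    simpa using this
  have hN1P : N1 = P := by
    by_contra hne'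
    have hlt : N1 < P := lt_of_le_of_ne inf_le_left hne'
    have := lt_inf_normalizer_of_lt_of_isNilpotent P N1 hlt
    exact absurd (lt_of_lt_of_le this hle) (lt_irrefl _)
  obtain ⟨s, hsS, hsE⟩ := hne
  have hsN : s ∈ N1 := by rw [hN1P]; exact hSP hsS
  exact hcon s hsS hsE hsN.2

end lemmaA

section main

/-- subgroups of a nilpotent subgroup are nilpotent -/
theorem isNilpotent_of_le {G : Type*} [Group G] {H K : Subgroup G} (h : H ≤ K)
    (hK : Group.IsNilpotent K) : Group.IsNilpotent H :=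
  (Group.isNilpotent_congr (Subgroup.subgroupOfEquivOfLe h)).mp inferInstance

theorem isNilpotent_map_subtype {G : Type*} [Group G] (H : Subgroup G) (F : Subgroup H)
    (hF : Group.IsNilpotent F) : Group.IsNilpotent (F.map H.subtype) :=
  (Group.isNilpotent_congr (F.equivMapOfInjective _ H.subtype_injective)).mp hF

theorem leftEngel_mem_fittingSubgroup_aux (n : ℕ) : ∀ (G : Type u) [Group G] [Finite G],
    Nat.card G = n → ∀ g : G, LeftEngel g → g ∈ fittingSubgroup G := by
  induction n using Nat.strong_induction_on with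
  | _ n ih =>
  intro G _ _ hn g hg
  classical
  by_cases hg1 : g = 1
  · rw [hg1]; exact Subgroup.one_mem _
  let K : Set G := {k | ∃ a : G, k = a * g * a⁻¹}
  have hgK : g ∈ K := ⟨1, by simp⟩
  have hKinv : ∀ a : G, ∀ k ∈ K, a * k * a⁻¹ ∈ K := by
    rintro a k ⟨b, rfl⟩
    exact ⟨a * b, by group⟩
  have hKengel : ∀ k ∈ K, LeftEngel k := by
    rintro k ⟨a, rfl⟩; exact hg.conj a
  have hKconj : ∀ k ∈ K, ∀ d ∈ K, ∃ b : G, k = b * d * b⁻¹ := by
    rintro k ⟨a, rfl⟩ d ⟨c, rfl⟩
    exact ⟨a * c⁻¹, by group⟩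
  -- Fact (i)
  have fact1 : ∀ H : Subgroup G, H ≠ ⊤ → Group.IsNilpotent (Subgroup.closure (K ∩ (H : Set G))) := by
    intro H hH
    have hcard : Nat.card H < n := by
      rw [← hn]
      apply lt_of_le_of_ne (Subgroup.card_le_card_group H)
      intro h
      exact hH ((Subgroup.card_eq_iff_eq_top H).mp h)
    have hle : Subgroup.closure (K ∩ (H : Set G)) ≤ (fittingSubgroup H).map H.subtype := by
      rw [Subgroup.closure_le]
      rintro k ⟨hkK, hkH⟩
      have := ih _ hcard H rfl ⟨k, hkH⟩ ((hKengel k hkK).subgroup H hkH)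
      exact ⟨⟨k, hkH⟩, this, rfl⟩
    exact isNilpotent_of_le hle (isNilpotent_map_subtype H _ Cfsg.Agent.Lib.Helper1.fittingSubgroup_isNilpotent)
  have hNn : (Subgroup.closure K).Normal := closure_normal_of_conj_invariant K hKinv
  by_cases hN : Subgroup.closure K = ⊤
  swap
  · have h1 := fact1 _ hN
    have h2 : K ∩ (Subgroup.closure K : Set G) = K :=
      Set.inter_eq_left.mpr Subgroup.subset_closure
    rw [h2] at h1
    exact Cfsg.Agent.Lib.Helper1.le_fittingSubgroup hNn h1 (Subgroup.subset_closure hgK)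
  by_cases hnil : Group.IsNilpotent G
  · have : Group.IsNilpotent (⊤ : Subgroup G) :=
      (Group.isNilpotent_congr Subgroup.topEquiv.symm).mp hnil
    exact Cfsg.Agent.Lib.Helper1.le_fittingSubgroup (N := ⊤) inferInstance this (Subgroup.mem_top g)
  exfalso
  -- coatoms do not contain K
  have hcoK : ∀ M : Subgroup G, M ≠ ⊤ → ¬ K ⊆ (M : Set G) := by
    intro M hM hKM
    apply hM
    rw [eq_top_iff, ← hN]
    exact (Subgroup.closure_le _).mpr hKM
  have hzp : Subgroup.zpowers g ≠ ⊤ := by
    intro h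
    apply hnil
    have hc : IsCyclic G := ⟨⟨g, fun x => by
      have : x ∈ Subgroup.zpowers g := by rw [h]; trivial
      exact this⟩⟩
    let _ := IsCyclic.commGroup (α := G)
    infer_instance
  obtain ⟨M0, hM0, hgM0⟩ := (eq_top_or_exists_le_coatom (Subgroup.zpowers g)).resolve_left hzp
  have hgM0' : g ∈ M0 := hgM0 (Subgroup.mem_zpowers g)
  -- (a') uniqueness
  have huniq : ∀ M L : Subgroup G, IsCoatom M → IsCoatom L → g ∈ M → g ∈ L → M = L := by
    by_contra hcon
    push Not at hcon
    obtain ⟨M1, L1, hM1, hL1, hgM1, hgL1, hne1⟩ := hcon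
    let s : Set (Subgroup G × Subgroup G) :=
      {ML | IsCoatom ML.1 ∧ IsCoatom ML.2 ∧ ML.1 ≠ ML.2 ∧ (K ∩ (ML.1 : Set G) ∩ (ML.2 : Set G)).Nonempty}
    have hsne : s.Nonempty := ⟨(M1, L1), hM1, hL1, hne1, ⟨g, ⟨hgK, hgM1⟩, hgL1⟩⟩
    obtain ⟨⟨M, L⟩, ⟨hM, hL, hML, hDne⟩, hmax⟩ := Set.exists_max_image s
      (fun ML => (K ∩ (ML.1 : Set G) ∩ (ML.2 : Set G)).ncard) (Set.toFinite s) hsne
    simp only at hM hL hML hDne hmax
    set D : Set G := K ∩ (M : Set G) ∩ (L : Set G) with hD
    set I : Subgroup G := Subgroup.closure D with hI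
    have hDI : D ⊆ (I : Set G) := Subgroup.subset_closure
    have hNI : Subgroup.normalizer (I : Set G) ≠ ⊤ := by
      intro htop
      have hIn : I.Normal := Subgroup.normalizer_eq_top_iff.mp htop
      obtain ⟨d, hd⟩ := hDne
      apply hcoK M hM.1
      intro k hk
      obtain ⟨b, rfl⟩ := hKconj k hk d hd.1.1
      have : b * d * b⁻¹ ∈ I := hIn.conj_mem d (hDI hd) b
      exact ((Subgroup.closure_le M).mpr (fun z hz => hz.1.2)) this
    obtain ⟨R, hR, hNR⟩ := (eq_top_or_exists_le_coatom _).resolve_left hNI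
    have key : ∀ M' L' : Subgroup G, IsCoatom M' → IsCoatom L' →
        D = K ∩ (M' : Set G) ∩ (L' : Set G) → M' = R := by
      intro M' L' hM' hL' hD'
      have hIM' : I ≤ M' := (Subgroup.closure_le M').mpr (fun z hz => by rw [hD'] at hz; exact hz.1.2)
      have hIL' : I ≤ L' := (Subgroup.closure_le L').mpr (fun z hz => by rw [hD'] at hz; exact hz.2)
      by_contra hMR
      by_cases hsub : K ∩ (M' : Set G) ⊆ (I : Set G)
      · -- M' normalizes I
        have hconjM : ∀ m ∈ M', ∀ e ∈ I, m * e * m⁻¹ ∈ I := by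
          intro m hm e he
          refine conj_closure_mem ?_ e he
          intro d hd
          rw [hD'] at hd
          apply hsub
          exact ⟨hKinv m d hd.1.1, M'.mul_mem (M'.mul_mem hm hd.1.2) (M'.inv_mem hm)⟩
        have hle : M' ≤ Subgroup.normalizer (I : Set G) := by
          intro m hm
          apply mem_normalizer_of_conj_mem (hconjM m hm)
          intro e he
          have := hconjM m⁻¹ (M'.inv_mem hm) e he
          simpa using this
        have hMR' : M' ≤ R := hle.trans hNR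
        exact hMR (eq_of_le_of_not_lt hMR' (fun hlt => hR.1 (hM'.2 R hlt)))
      · rw [Set.not_subset] at hsub
        obtain ⟨s0, hs0, hs0I⟩ := hsub
        have hP := fact1 M' hM'.1
        have hSI : (K ∩ (M' : Set G)) ∩ (I : Set G) = D := by
          apply Set.Subset.antisymm
          · rintro z ⟨⟨hzK, hzM⟩, hzI⟩
            rw [hD']; exact ⟨⟨hzK, hzM⟩, hIL' hzI⟩
          · intro z hz
            refine ⟨?_, hDI hz⟩
            rw [hD'] at hz; exact hz.1
        obtain ⟨u, huS, huI, huN⟩ := exists_mem_normalizer_of_not_subset_nilp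
          (Subgroup.closure (K ∩ (M' : Set G))) (K ∩ (M' : Set G)) Subgroup.subset_closure
          (by
            intro a ha z hz
            have haM : a ∈ M' := ((Subgroup.closure_le M').mpr Set.inter_subset_right) ha
            exact ⟨hKinv a z hz.1, M'.mul_mem (M'.mul_mem haM hz.2) (M'.inv_mem haM)⟩)
          I (Subgroup.closure_mono (by rw [hD']; exact Set.inter_subset_left))
          (by rw [hSI]) ⟨s0, hs0, hs0I⟩
        have huR : u ∈ R := hNR huN
        have hmem : (M', R) ∈ s := ⟨hM', hR, hMR, ⟨u, huS, huR⟩⟩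
        have h1 := hmax (M', R) hmem
        simp only at h1
        have hss : D ⊂ K ∩ (M' : Set G) ∩ (R : Set G) := by
          refine ⟨fun z hz => ⟨?_, hNR (Subgroup.le_normalizer (hDI hz))⟩, ?_⟩
          · rw [hD'] at hz; exact hz.1
          · intro hcon2
            exact huI (hDI (hcon2 ⟨huS, huR⟩))
        have := Set.ncard_lt_ncard hss (Set.toFinite _)
        omega
    have e1 := key M L hM hL rfl
    have e2 := key L M hL hM (by rw [hD]; ext z; simp only [Set.mem_inter_iff]; tauto)
    exact hML (e1.trans e2.symm)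
  -- (b')
  have hM0n : ¬ M0.Normal := by
    intro hn0
    apply hcoK M0 hM0.1
    rintro k ⟨a, rfl⟩
    exact hn0.conj_mem g hgM0' a
  have hNM0 : Subgroup.normalizer (M0 : Set G) = M0 := by
    by_contra hne
    have hlt : M0 < Subgroup.normalizer (M0 : Set G) :=
      lt_of_le_of_ne Subgroup.le_normalizer (Ne.symm hne)
    exact hM0n (Subgroup.normalizer_eq_top_iff.mp (hM0.2 _ hlt))
  have hstep : ∀ x : G, x ∉ M0 → x * g * x⁻¹ * g⁻¹ ∉ M0 := by
    intro x hx hmem
    have h1 : x * g * x⁻¹ ∈ M0 := by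
      have := M0.mul_mem hmem hgM0'
      simpa using this
    set M' := M0.map (MulAut.conj x⁻¹).toMonoidHom with hM'
    have hM'co : IsCoatom M' :=
      (OrderIso.isCoatom_iff ((MulAut.conj x⁻¹).mapSubgroup) M0).mpr hM0
    have hgM' : g ∈ M' := ⟨x * g * x⁻¹, h1, by simp [mul_assoc]⟩
    have heq := huniq M' M0 hM'co hM0 hgM' hgM0'
    have hxn : x⁻¹ ∈ Subgroup.normalizer (M0 : Set G) := mem_normalizer_of_cj_eq_self heq
    rw [hNM0] at hxn
    exact hx (by simpa using M0.inv_mem hxn)
  have hall : ∀ n : ℕ, ∀ x : G, x ∉ M0 → eng g x n ∉ M0 := by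
    intro n
    induction n with
    | zero => intro x hx; exact hx
    | succ n ihn =>
      intro x hx
      rw [eng_succ]
      exact ihn _ (hstep x hx)
  obtain ⟨x, hx⟩ : ∃ x : G, x ∉ M0 := by
    by_contra hcon
    push Not at hcon
    exact hM0.1 (eq_top_iff.mpr fun z _ => hcon z)
  obtain ⟨m, hm⟩ := hg x
  exact hall m x hx (hm ▸ M0.one_mem)

/-- **Baer**: a left Engel element of a finite group lies in the Fitting subgroup. -/
theorem leftEngel_mem_fittingSubgroup {G : Type u} [Group G] [Finite G] (g : G) (hg : LeftEngel g) :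
    g ∈ fittingSubgroup G :=
  leftEngel_mem_fittingSubgroup_aux _ G rfl g hg

/-- Conversely, elements of the Fitting subgroup are left Engel. -/
theorem leftEngel_of_mem_fittingSubgroup {G : Type u} [Group G] [Finite G] (g : G)
    (hg : g ∈ fittingSubgroup G) : LeftEngel g := by
  intro x
  have hFn : (fittingSubgroup G).Normal := Cfsg.Agent.Lib.Helper1.fittingSubgroup_normal
  have hnil : Group.IsNilpotent (fittingSubgroup G) := Cfsg.Agent.Lib.Helper1.fittingSubgroup_isNilpotent
  have hc : x * g * x⁻¹ * g⁻¹ ∈ fittingSubgroup G :=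
    (fittingSubgroup G).mul_mem (hFn.conj_mem g hg x) ((fittingSubgroup G).inv_mem hg)
  obtain ⟨n, hn⟩ := leftEngel_of_isNilpotent (⟨g, hg⟩ : fittingSubgroup G) ⟨_, hc⟩
  refine ⟨n + 1, ?_⟩
  rw [eng_succ]
  have := map_eng (fittingSubgroup G).subtype ⟨g, hg⟩ ⟨_, hc⟩ n
  rw [hn, map_one] at this
  exact this.symm

end main

end Cfsg.Agent.Lib.Helper21
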