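import Mathlib
import Cfsg.Prelude.Def_PLocal
import Cfsg.Agent.S0659
import Cfsg.Agent.H5.ZJBridge
import Cfsg.Agent.Lib.Helper18.MaxAbelian

set_option autoImplicit false

/-! A finite nonabelian simple group `T` cannot have the following property: for every nonidentity
`x`, every subgroup containing the centralizer of `x` and invariant under the automorphisms of `T`
fixing or inverting `x` is that centralizer or `T`. -/

namespace Cfsg.Agent.Lib.Helper21.ExtPrimT

open Subgroup

variable {T : Type*} [Group T]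

theorem mem_cz {x y : T} : y ∈ centralizer ({x} : Set T) ↔ x * y = y * x := by
  rw [mem_centralizer_iff]
  constructor
  · intro h
    exact h x (Set.mem_singleton x)
  · intro h z hz
    rw [Set.mem_singleton_iff] at hz
    rw [hz]
    exact h

theorem self_mem_cz (x : T) : x ∈ centralizer ({x} : Set T) := mem_cz.mpr rfl

theorem cz_inv (x : T) : centralizer ({x⁻¹} : Set T) = centralizer ({x} : Set T) := by
  ext y
  rw [mem_cz, mem_cz]
  constructor
  · intro h
    calc x * y = x * (y * x⁻¹) * x := by group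
      _ = x * (x⁻¹ * y) * x := by rw [h]
      _ = y * x := by group
  · intro h
    calc x⁻¹ * y = x⁻¹ * (y * x) * x⁻¹ := by group
      _ = x⁻¹ * (x * y) * x⁻¹ := by rw [h]
      _ = y * x⁻¹ := by group

theorem map_cz_le (φ : T ≃* T) (x : T) :
    (centralizer ({x} : Set T)).map φ.toMonoidHom ≤ centralizer ({φ x} : Set T) := by
  rintro _ ⟨y, hy, rfl⟩
  rw [mem_cz]
  have h := mem_cz.mp hy
  show φ x * φ y = φ y * φ x
  rw [← map_mul, ← map_mul, h]

theorem map_eq_of_le [Finite T] {S : Subgroup T} (φ : T ≃* T) (h : S.map φ.toMonoidHom ≤ S) :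
    S.map φ.toMonoidHom = S :=
  Subgroup.eq_of_le_of_card_ge h (le_of_eq (Cfsg.H5.ZJ.card_map_equiv S φ).symm)

theorem map_cz_eq [Finite T] (φ : T ≃* T) {x : T} (h : φ x = x ∨ φ x = x⁻¹) :
    (centralizer ({x} : Set T)).map φ.toMonoidHom = centralizer ({x} : Set T) := by
  apply map_eq_of_le
  refine (map_cz_le φ x).trans (le_of_eq ?_)
  rcases h with h | h
  · rw [h]
  · rw [h, cz_inv]

theorem map_normalizer_eq (φ : T ≃* T) {S : Subgroup T} (h : S.map φ.toMonoidHom = S) :
    (normalizer (S : Set T)).map φ.toMonoidHom = normalizer (S : Set T) := by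
  rw [Subgroup.map_equiv_normalizer_eq, h]

theorem cz_ne_top [IsSimpleGroup T] (hna : ∃ a b : T, a * b ≠ b * a) {x : T} (hx : x ≠ 1) :
    centralizer ({x} : Set T) ≠ ⊤ := by
  intro h
  have hxc : x ∈ center T := by
    rw [mem_center_iff]
    intro g
    have : g ∈ centralizer ({x} : Set T) := by rw [h]; exact mem_top g
    exact (mem_cz.mp this).symm
  have hZ : center T = ⊤ := by
    rcases (inferInstance : (center T).Normal).eq_bot_or_eq_top with h0 | h0
    · rw [h0, mem_bot] at hxc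
      exact absurd hxc hx
    · exact h0
  obtain ⟨a, b, hab⟩ := hna
  apply hab
  have hb : b ∈ center T := by rw [hZ]; exact mem_top b
  exact mem_center_iff.mp hb a

theorem not_isPGroup [Finite T] [IsSimpleGroup T] (hna : ∃ a b : T, a * b ≠ b * a) (p : ℕ)
    [Fact p.Prime] : ¬ IsPGroup p T := by
  intro h
  have hnt : Nontrivial ↥(center T) := h.center_nontrivial
  obtain ⟨z, hz, hz1⟩ := (Subgroup.nontrivial_iff_exists_ne_one _).mp hnt
  apply cz_ne_top hna hz1
  rw [eq_top_iff]
  intro g _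
  rw [mem_cz]
  exact (mem_center_iff.mp hz g).symm

theorem isPGroup_of_eq_top {p : ℕ} {P : Subgroup T} (hP : IsPGroup p P) (h : P = ⊤) :
    IsPGroup p T := by
  intro g
  obtain ⟨k, hk⟩ := hP ⟨g, by rw [h]; exact mem_top g⟩
  exact ⟨k, by simpa using congrArg Subtype.val hk⟩

theorem exists_central_prime {p : ℕ} [Fact p.Prime] [Finite T] (P : Subgroup T)
    (hP : IsPGroup p P) (hP1 : P ≠ ⊥) :
    ∃ x ∈ P, orderOf x = p ∧ ∀ g ∈ P, g * x = x * g := by
  have : Nontrivial ↥P := (Subgroup.nontrivial_iff_ne_bot P).mpr hP1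
  have : Nontrivial ↥(center ↥P) := hP.center_nontrivial
  have hZp : IsPGroup p ↥(center ↥P) := hP.to_subgroup _
  have hdvd : p ∣ Nat.card ↥(center ↥P) := by
    rcases hZp.card_eq_or_dvd with h | h
    · exact absurd h (Finite.one_lt_card (α := ↥(center ↥P))).ne'
    · exact h
  obtain ⟨w, hw⟩ := exists_prime_orderOf_dvd_card' p hdvd
  refine ⟨((w : ↥P) : T), (w : ↥P).2, ?_, ?_⟩
  · rw [Subgroup.orderOf_coe, Subgroup.orderOf_coe]
    exact hw
  · intro g hg
    have := Subgroup.mem_center_iff.mp w.2 ⟨g, hg⟩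
    exact congrArg Subtype.val this

/-- `Z(J(P))` of a nontrivial `p`-subgroup is nontrivial. -/
theorem zj_ne_bot [Finite T] {p : ℕ} [Fact p.Prime]
    (P : Subgroup T) (hT : IsPGroup p P) (hT1 : P ≠ ⊥) : Cfsg.centerThompsonAOf P ≠ ⊥ := by
  have hnt : Nontrivial ↥P := (Subgroup.nontrivial_iff_ne_bot P).mpr hT1
  have hJ : Cfsg.thompsonSubgroupA ↥P ≠ ⊥ :=
    Cfsg.Agent.Lib.Helper18.thompsonSubgroupA_ne_bot
  have hJnt : Nontrivial ↥(Cfsg.thompsonSubgroupA ↥P) := (Subgroup.nontrivial_iff_ne_bot _).mpr hJ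
  have hJp : IsPGroup p ↥(Cfsg.thompsonSubgroupA ↥P) := hT.to_subgroup _
  have hc : Nontrivial ↥(Subgroup.center ↥(Cfsg.thompsonSubgroupA ↥P)) := hJp.center_nontrivial
  obtain ⟨z, hz, hz1⟩ := (Subgroup.nontrivial_iff_exists_ne_one _).mp hc
  intro hbot
  have hmem : ((z : ↥P) : T) ∈ Cfsg.centerThompsonAOf P := by
    refine Subgroup.mem_inf.mpr ⟨⟨(z : ↥P), z.2, rfl⟩, ?_⟩
    rw [Subgroup.mem_centralizer_iff]
    rintro _ ⟨j, hj, rfl⟩
    have h1 := Subgroup.mem_center_iff.mp hz ⟨j, hj⟩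
    have h2 : ((⟨j, hj⟩ * z : ↥(Cfsg.thompsonSubgroupA ↥P)) : ↥P) =
        ((z * ⟨j, hj⟩ : ↥(Cfsg.thompsonSubgroupA ↥P)) : ↥P) :=
      congrArg Subtype.val h1
    have h3 : (((⟨j, hj⟩ * z : ↥(Cfsg.thompsonSubgroupA ↥P)) : ↥P) : T) =
        (((z * ⟨j, hj⟩ : ↥(Cfsg.thompsonSubgroupA ↥P)) : ↥P) : T) :=
      congrArg Subtype.val h2
    simpa using h3
  rw [hbot, Subgroup.mem_bot] at hmem
  apply hz1
  apply Subtype.ext
  apply Subtype.ext
  simpa using hmem

theorem hasNPC_of_isPGroup {X : Type*} [Group X] [Finite X] {p : ℕ} [Fact p.Prime]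
    (hX : IsPGroup p X) : Cfsg.HasNormalPComplement p X := by
  obtain ⟨Q⟩ : Nonempty (Sylow p X) := inferInstance
  have hQ : (Q : Subgroup X) = ⊤ := (Q.is_maximal' (hX.to_subgroup ⊤) le_top).symm
  exact ⟨Q, ⊥, inferInstance, by rw [isComplement'_bot_left]; exact hQ⟩

theorem exists_pow_prime_order [Finite T] {u : T} (hu : u ≠ 1) :
    ∃ (r i : ℕ), r.Prime ∧ orderOf (u ^ i) = r := by
  have h1 : orderOf u ≠ 1 := by
    intro h
    exact hu (orderOf_eq_one_iff.mp h)
  obtain ⟨r, hr, hdvd⟩ := Nat.exists_prime_and_dvd h1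
  exact ⟨r, orderOf u / r, hr, orderOf_pow_orderOf_div (orderOf_pos u).ne' hdvd⟩

theorem conj_comm_iff (g x h : T) :
    (g * x * g⁻¹) * (g * h * g⁻¹) = (g * h * g⁻¹) * (g * x * g⁻¹) ↔ x * h = h * x := by
  constructor
  · intro e
    have e2 : g * (x * h) * g⁻¹ = g * (h * x) * g⁻¹ := by
      calc g * (x * h) * g⁻¹ = (g * x * g⁻¹) * (g * h * g⁻¹) := by group
        _ = (g * h * g⁻¹) * (g * x * g⁻¹) := e
        _ = g * (h * x) * g⁻¹ := by group
    exact mul_left_cancel (mul_right_cancel e2)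
  · intro e
    calc (g * x * g⁻¹) * (g * h * g⁻¹) = g * (x * h) * g⁻¹ := by group
      _ = g * (h * x) * g⁻¹ := by rw [e]
      _ = (g * h * g⁻¹) * (g * x * g⁻¹) := by group

/-- commuting elements of distinct prime orders have the same centralizer -/
theorem cz_eq_of_commute
    (hb : ∀ x : T, x ≠ 1 → ∀ i : ℕ, x ^ i ≠ 1 →
      centralizer ({x ^ i} : Set T) = centralizer ({x} : Set T))
    {x y : T} {p q : ℕ} (hp : p.Prime) (hq : q.Prime) (hpq : p ≠ q)
    (hx : orderOf x = p) (hy : orderOf y = q) (hxy : x * y = y * x) :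
    centralizer ({x} : Set T) = centralizer ({y} : Set T) := by
  have hx1 : x ≠ 1 := by
    intro h
    rw [h, orderOf_one] at hx
    exact hp.one_lt.ne hx
  have hy1 : y ≠ 1 := by
    intro h
    rw [h, orderOf_one] at hy
    exact hq.one_lt.ne hy
  have hc : Commute x y := hxy
  have hyq : y ^ q = 1 := by
    rw [← hy]
    exact pow_orderOf_eq_one y
  have hxp : x ^ p = 1 := by
    rw [← hx]
    exact pow_orderOf_eq_one x
  have hxq : x ^ q ≠ 1 := by
    intro h
    have h1 : orderOf x ∣ q := orderOf_dvd_of_pow_eq_one h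
    rw [hx] at h1
    exact hpq ((Nat.prime_dvd_prime_iff_eq hp hq).mp h1)
  have hyp' : y ^ p ≠ 1 := by
    intro h
    have h1 : orderOf y ∣ p := orderOf_dvd_of_pow_eq_one h
    rw [hy] at h1
    exact hpq ((Nat.prime_dvd_prime_iff_eq hq hp).mp h1).symm
  have hzq : (x * y) ^ q = x ^ q := by rw [hc.mul_pow, hyq, mul_one]
  have hzp : (x * y) ^ p = y ^ p := by rw [hc.mul_pow, hxp, one_mul]
  have hz1 : x * y ≠ 1 := by
    intro h
    apply hxq
    rw [← hzq, h, one_pow]
  have e1 : centralizer ({x * y} : Set T) = centralizer ({x} : Set T) := by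
    have h1 := hb (x * y) hz1 q (by rw [hzq]; exact hxq)
    have h2 := hb x hx1 q hxq
    rw [hzq] at h1
    rw [← h1, h2]
  have e2 : centralizer ({x * y} : Set T) = centralizer ({y} : Set T) := by
    have h1 := hb (x * y) hz1 p (by rw [hzp]; exact hyp')
    have h2 := hb y hy1 p hyp'
    rw [hzp] at h1
    rw [← h1, h2]
  rw [← e1, e2]

/-- the centralizer of an element of prime order `p` is a `p`-group -/
theorem isPGroup_cz [Finite T] [IsSimpleGroup T] (hna : ∃ a b : T, a * b ≠ b * a)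
    (hb : ∀ x : T, x ≠ 1 → ∀ i : ℕ, x ^ i ≠ 1 →
      centralizer ({x ^ i} : Set T) = centralizer ({x} : Set T))
    (hc : ∀ x : T, x ≠ 1 →
      normalizer ((centralizer ({x} : Set T) : Subgroup T) : Set T) = centralizer ({x} : Set T))
    {x : T} {p : ℕ} [hp : Fact p.Prime] (hx : orderOf x = p) :
    IsPGroup p ↥(centralizer ({x} : Set T)) := by
  by_contra hnp
  have hx1 : x ≠ 1 := by
    intro h
    rw [h, orderOf_one] at hx
    exact hp.out.one_lt.ne hx
  have hex : ∃ q : ℕ, q.Prime ∧ q ∣ Nat.card ↥(centralizer ({x} : Set T)) ∧ q ≠ p := by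
    by_contra hcon
    apply hnp
    rw [IsPGroup.iff_card]
    refine ⟨_, Nat.eq_prime_pow_of_unique_prime_dvd Nat.card_pos.ne' ?_⟩
    intro d hd hdvd
    by_contra hne
    exact hcon ⟨d, hd, hdvd, hne⟩
  obtain ⟨q, hq, hqd, hqp⟩ := hex
  have : Fact q.Prime := ⟨hq⟩
  obtain ⟨w, hw⟩ := exists_prime_orderOf_dvd_card' q hqd
  have hy : orderOf (w : T) = q := by
    rw [Subgroup.orderOf_coe]
    exact hw
  have hxy : x * (w : T) = (w : T) * x := mem_cz.mp w.2
  have hCy : centralizer ({x} : Set T) = centralizer ({(w : T)} : Set T) :=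
    cz_eq_of_commute hb hp.out hq (Ne.symm hqp) hx hy hxy
  have hCC : ∀ u ∈ centralizer ({x} : Set T), u ≠ 1 →
      centralizer ({u} : Set T) = centralizer ({x} : Set T) := by
    intro u hu hu1
    obtain ⟨r, i, hr, hri⟩ := exists_pow_prime_order hu1
    have hui1 : u ^ i ≠ 1 := by
      intro h
      rw [h, orderOf_one] at hri
      exact hr.one_lt.ne hri
    have h1 : centralizer ({u ^ i} : Set T) = centralizer ({u} : Set T) := hb u hu1 i hui1
    have hmem : u ^ i ∈ centralizer ({x} : Set T) := pow_mem hu i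
    rw [← h1]
    by_cases hrp : r = p
    · have hmem' : u ^ i ∈ centralizer ({(w : T)} : Set T) := by
        rw [← hCy]
        exact hmem
      have hqr : q ≠ r := by
        rw [hrp]
        exact hqp
      have := cz_eq_of_commute hb hq hr hqr hy hri (mem_cz.mp hmem')
      rw [← this, ← hCy]
    · have := cz_eq_of_commute hb hp.out hr (Ne.symm hrp) hx hri (mem_cz.mp hmem)
      rw [← this]
  have hzp : IsPGroup p ↥(zpowers x) :=
    IsPGroup.of_card (n := 1) (by rw [Nat.card_zpowers, hx, pow_one])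
  obtain ⟨R, hR⟩ := hzp.exists_le_sylow
  have hxR : x ∈ (R : Subgroup T) := hR (mem_zpowers x)
  have hR1 : (R : Subgroup T) ≠ ⊥ := by
    intro h
    rw [h, mem_bot] at hxR
    exact hx1 hxR
  obtain ⟨w0, hw0R, hw0o, hw0c⟩ := exists_central_prime (R : Subgroup T) R.isPGroup' hR1
  have hw01 : w0 ≠ 1 := by
    intro h
    rw [h, orderOf_one] at hw0o
    exact hp.out.one_lt.ne hw0o
  have hw0C : w0 ∈ centralizer ({x} : Set T) := mem_cz.mpr (hw0c x hxR)
  have hRC : (R : Subgroup T) ≤ centralizer ({x} : Set T) := by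
    intro g hg
    rw [← hCC w0 hw0C hw01, mem_cz]
    exact (hw0c g hg).symm
  have hNC : normalizer ((R : Subgroup T) : Set T) ≤ centralizer ((R : Subgroup T) : Set T) := by
    intro g hg
    have hgx : g * x * g⁻¹ ∈ (R : Subgroup T) := (mem_normalizer_iff.mp hg x).mp hxR
    have hgx1 : g * x * g⁻¹ ≠ 1 := by
      intro h
      apply hx1
      have e : x = g⁻¹ * (g * x * g⁻¹) * g := by group
      rw [e, h]
      group
    have hCg : centralizer ({g * x * g⁻¹} : Set T) = centralizer ({x} : Set T) :=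
      hCC _ (hRC hgx) hgx1
    have hgN : g ∈ normalizer ((centralizer ({x} : Set T) : Subgroup T) : Set T) := by
      rw [mem_normalizer_iff]
      intro h
      constructor
      · intro hh
        rw [← hCg, mem_cz]
        exact (conj_comm_iff g x h).mpr (mem_cz.mp hh)
      · intro hh
        rw [← hCg, mem_cz] at hh
        exact mem_cz.mpr ((conj_comm_iff g x h).mp hh)
    rw [hc x hx1] at hgN
    rw [mem_centralizer_iff]
    intro r hr
    by_cases hr1 : r = 1
    · rw [hr1, one_mul, mul_one]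
    · have hrC : r ∈ centralizer ({x} : Set T) := hRC hr
      have : g ∈ centralizer ({r} : Set T) := by
        rw [hCC r hrC hr1]
        exact hgN
      exact mem_cz.mp this
  have hcomp := MonoidHom.ker_transferSylow_isComplement' R hNC
  rcases (inferInstance : (MonoidHom.transferSylow R hNC).ker.Normal).eq_bot_or_eq_top with h | h
  · rw [h, isComplement'_bot_left] at hcomp
    exact not_isPGroup hna p (isPGroup_of_eq_top R.isPGroup' hcomp)
  · rw [h, isComplement'_top_left] at hcomp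
    exact hR1 hcomp

/-- **Lemma T.** -/
theorem simple_false [Finite T] [IsSimpleGroup T] (hna : ∃ a b : T, a * b ≠ b * a)
    (hyp : ∀ x : T, x ≠ 1 → ∀ Y : Subgroup T, centralizer ({x} : Set T) ≤ Y →
      (∀ φ : T ≃* T, (φ x = x ∨ φ x = x⁻¹) → Y.map φ.toMonoidHom ≤ Y) →
      Y = centralizer ({x} : Set T) ∨ Y = ⊤) : False := by
  have hb : ∀ x : T, x ≠ 1 → ∀ i : ℕ, x ^ i ≠ 1 →
      centralizer ({x ^ i} : Set T) = centralizer ({x} : Set T) := by
    intro x hx1 i hxi
    have hle : centralizer ({x} : Set T) ≤ centralizer ({x ^ i} : Set T) := by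
      intro y hy
      rw [mem_cz] at hy ⊢
      exact (Commute.pow_left (show Commute x y from hy) i).eq
    have hinv : ∀ φ : T ≃* T, (φ x = x ∨ φ x = x⁻¹) →
        (centralizer ({x ^ i} : Set T)).map φ.toMonoidHom ≤ centralizer ({x ^ i} : Set T) := by
      intro φ hφ
      refine (map_cz_le φ (x ^ i)).trans (le_of_eq ?_)
      rw [map_pow]
      rcases hφ with h | h
      · rw [h]
      · rw [h, inv_pow, cz_inv]
    rcases hyp x hx1 _ hle hinv with h | h
    · exact h
    · exact absurd h (cz_ne_top hna hxi)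
  have hc : ∀ x : T, x ≠ 1 →
      normalizer ((centralizer ({x} : Set T) : Subgroup T) : Set T) = centralizer ({x} : Set T) := by
    intro x hx1
    have hinv : ∀ φ : T ≃* T, (φ x = x ∨ φ x = x⁻¹) →
        (normalizer ((centralizer ({x} : Set T) : Subgroup T) : Set T)).map φ.toMonoidHom ≤
          normalizer ((centralizer ({x} : Set T) : Subgroup T) : Set T) := by
      intro φ hφ
      exact le_of_eq (map_normalizer_eq φ (map_cz_eq φ hφ))
    rcases hyp x hx1 _ le_normalizer hinv with h | h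
    · exact h
    · exfalso
      rw [normalizer_eq_top_iff] at h
      rcases h.eq_bot_or_eq_top with h0 | h0
      · have := self_mem_cz x
        rw [h0, mem_bot] at this
        exact hx1 this
      · exact cz_ne_top hna hx1 h0
  have hodd : ∃ p : ℕ, p.Prime ∧ p ∣ Nat.card T ∧ p ≠ 2 := by
    by_contra hcon
    have : Fact (Nat.Prime 2) := ⟨Nat.prime_two⟩
    apply not_isPGroup hna 2
    rw [IsPGroup.iff_card]
    refine ⟨_, Nat.eq_prime_pow_of_unique_prime_dvd Nat.card_pos.ne' ?_⟩
    intro d hd hdvd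
    by_contra hne
    exact hcon ⟨d, hd, hdvd, hne⟩
  obtain ⟨p, hp, hpd, hp2⟩ := hodd
  have : Fact p.Prime := ⟨hp⟩
  obtain ⟨P⟩ : Nonempty (Sylow p T) := inferInstance
  have hP1 : (P : Subgroup T) ≠ ⊥ := P.ne_bot_of_dvd_card hpd
  obtain ⟨x, hxP, hxo, hxc⟩ := exists_central_prime (P : Subgroup T) P.isPGroup' hP1
  have hx1 : x ≠ 1 := by
    intro h
    rw [h, orderOf_one] at hxo
    exact hp.one_lt.ne hxo
  have hCp : IsPGroup p ↥(centralizer ({x} : Set T)) := isPGroup_cz hna hb hc hxo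
  have hPC : (P : Subgroup T) ≤ centralizer ({x} : Set T) := by
    intro g hg
    rw [mem_cz]
    exact (hxc g hg).symm
  have hCP : centralizer ({x} : Set T) = (P : Subgroup T) := P.is_maximal' hCp hPC
  obtain ⟨W, hW⟩ : ∃ W : Subgroup T, W = Cfsg.centerThompsonAOf (P : Subgroup T) := ⟨_, rfl⟩
  have hWle : W ≤ (P : Subgroup T) := by
    rw [hW, Cfsg.H5.ZJ.centerThompsonAOf_eq]
    exact Cfsg.H5.ZJ.Z_le
  have hWne : W ≠ ⊥ := by
    rw [hW]
    exact zj_ne_bot (P : Subgroup T) P.isPGroup' hP1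
  have hNW : normalizer ((P : Subgroup T) : Set T) ≤ normalizer (W : Set T) := by
    rw [hW, Cfsg.H5.ZJ.centerThompsonAOf_eq]
    exact Cfsg.H5.ZJ.normalizer_le_normalizer_Z _
  have hle : centralizer ({x} : Set T) ≤ normalizer (W : Set T) := by
    rw [hCP]
    exact le_normalizer.trans hNW
  have hinv : ∀ φ : T ≃* T, (φ x = x ∨ φ x = x⁻¹) →
      (normalizer (W : Set T)).map φ.toMonoidHom ≤ normalizer (W : Set T) := by
    intro φ hφ
    have hPφ : (P : Subgroup T).map φ.toMonoidHom = (P : Subgroup T) := by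
      rw [← hCP]
      exact map_cz_eq φ hφ
    have hWφ : W.map φ.toMonoidHom = W := by
      rw [hW, Cfsg.H5.ZJ.centerThompsonAOf_eq, Cfsg.H5.ZJ.Z_map, hPφ]
    exact le_of_eq (map_normalizer_eq φ hWφ)
  have hNP : normalizer (W : Set T) = (P : Subgroup T) := by
    rcases hyp x hx1 _ hle hinv with h | h
    · rw [h, hCP]
    · exfalso
      rw [normalizer_eq_top_iff] at h
      rcases h.eq_bot_or_eq_top with h0 | h0
      · exact hWne h0
      · have hPtop : (P : Subgroup T) = ⊤ := by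
          rw [eq_top_iff, ← h0]
          exact hWle
        exact not_isPGroup hna p (isPGroup_of_eq_top P.isPGroup' hPtop)
  have hNp : IsPGroup p ↥(normalizer (W : Set T)) := by
    rw [hNP]
    exact P.isPGroup'
  subst hW
  have hnpc : Cfsg.HasNormalPComplement p
      ↥(normalizer (Cfsg.centerThompsonAOf (P : Subgroup T) : Set T)) :=
    hasNPC_of_isPGroup hNp
  obtain ⟨Q, K, hKn, hKQ⟩ := Cfsg.Agent.S0659.result hp2 P hnpc
  rcases hKn.eq_bot_or_eq_top with h | h
  · rw [h, isComplement'_bot_left] at hKQ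
    exact not_isPGroup hna p (isPGroup_of_eq_top Q.isPGroup' hKQ)
  · rw [h, isComplement'_top_left] at hKQ
    exact Q.ne_bot_of_dvd_card hpd hKQ

end Cfsg.Agent.Lib.Helper21.ExtPrimT
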