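import Mathlib
import Cfsg.Agent.Lib.Helper21.ExtPrimT
import Cfsg.Agent.Lib.Lead.PrimDerA
import Cfsg.Agent.S0721

set_option autoImplicit false

/-! Abstract form of the structure theorem for extremely primitive groups: a core-free maximal
subgroup `H` of a finite group `G` such that `H ∩ H^g` is maximal in `H` for all `g ∉ H`. -/

namespace Cfsg.Agent.Lib.Helper21.ExtPrimU

open Subgroup Cfsg.Agent.Lib.Lead

variable {G : Type*} [Group G]

/-- the conjugate `g H g⁻¹` -/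
def cj (g : G) (H : Subgroup G) : Subgroup G := H.map (MulAut.conj g).toMonoidHom

theorem mem_cj {g x : G} {H : Subgroup G} : x ∈ cj g H ↔ g⁻¹ * x * g ∈ H := by
  unfold cj
  rw [Subgroup.mem_map_equiv, MulAut.conj_symm_apply]

theorem conj_mem_cj {g x : G} {H : Subgroup G} (hx : x ∈ H) : g * x * g⁻¹ ∈ cj g H := by
  rw [mem_cj]
  have e : g⁻¹ * (g * x * g⁻¹) * g = x := by group
  rw [e]
  exact hx

theorem cj_injective {g : G} {A B : Subgroup G} (h : cj g A = cj g B) : A = B :=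
  Subgroup.map_injective (MulAut.conj g).injective h

theorem cj_mul (a b : G) (F : Subgroup G) : cj (a * b) F = cj a (cj b F) := by
  ext x
  rw [mem_cj, mem_cj, mem_cj]
  have e : b⁻¹ * (a⁻¹ * x * a) * b = (a * b)⁻¹ * x * (a * b) := by group
  rw [e]

theorem cj_one (F : Subgroup G) : cj 1 F = F := by
  ext x
  rw [mem_cj]
  simp

theorem mem_normalizer_iff_cj {g : G} {F : Subgroup G} :
    g ∈ normalizer (F : Set G) ↔ cj g F = F :=
  Subgroup.mem_normalizer_iff_map_conj_eq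

theorem mem_normalizer_of_conj_mem [Finite G] {g : G} {D : Subgroup G}
    (h : ∀ d ∈ D, g * d * g⁻¹ ∈ D) : g ∈ normalizer (D : Set G) := by
  have hle : cj g D ≤ D := by
    intro x hx
    rw [mem_cj] at hx
    have := h _ hx
    have e : g * (g⁻¹ * x * g) * g⁻¹ = x := by group
    rwa [e] at this
  have hcard : Nat.card ↥(cj g D) = Nat.card ↥D :=
    Subgroup.card_map_of_injective (MulAut.conj g).injective
  have heq : cj g D = D := Subgroup.eq_of_le_of_card_ge hle (le_of_eq hcard.symm)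
  exact mem_normalizer_iff_cj.mpr heq

/-- `K` is a maximal subgroup of `H` -/
def MaxIn (K H : Subgroup G) : Prop :=
  K ≤ H ∧ K ≠ H ∧ ∀ L : Subgroup G, K ≤ L → L ≤ H → L = K ∨ L = H

theorem exists_mul_of_mem_sup {Y K : Subgroup G} (hn : ∀ k ∈ K, ∀ y ∈ Y, k * y * k⁻¹ ∈ Y) {g : G}
    (hg : g ∈ Y ⊔ K) : ∃ y ∈ Y, ∃ k ∈ K, g = y * k := by
  have hle : K ≤ normalizer (Y : Set G) := by
    intro k hk
    rw [mem_normalizer_iff]
    intro y
    constructor
    · exact hn k hk y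
    · intro h
      have := hn k⁻¹ (K.inv_mem hk) _ h
      have e : k⁻¹ * (k * y * k⁻¹) * k⁻¹⁻¹ = y := by group
      rwa [e] at this
  have hset := Subgroup.coe_mul_of_right_le_normalizer_left Y K hle
  have hg' : g ∈ ((Y ⊔ K : Subgroup G) : Set G) := hg
  rw [hset] at hg'
  obtain ⟨y, hy, k, hk, rfl⟩ := Set.mem_mul.mp hg'
  exact ⟨y, hy, k, hk, rfl⟩

theorem overgroup {H K D Y : Subgroup G} (hK : MaxIn K H) (hDH : D ≤ H) (hYD : Y ≤ D)
    (hDK : D ⊓ K ≤ Y) (hn : ∀ k ∈ K, ∀ y ∈ Y, k * y * k⁻¹ ∈ Y) : Y = D ⊓ K ∨ Y = D := by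
  obtain ⟨hKH, -, hmax⟩ := hK
  rcases hmax (Y ⊔ K) le_sup_right (sup_le (hYD.trans hDH) hKH) with h | h
  · left
    apply le_antisymm _ hDK
    apply le_inf hYD
    calc Y ≤ Y ⊔ K := le_sup_left
      _ = K := h
  · right
    apply le_antisymm hYD
    intro d hd
    have hdH : d ∈ Y ⊔ K := by
      rw [h]
      exact hDH hd
    obtain ⟨y, hy, k, hk, rfl⟩ := exists_mul_of_mem_sup hn hdH
    have hkD : k ∈ D := by
      have e : k = y⁻¹ * (y * k) := by group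
      rw [e]
      exact D.mul_mem (D.inv_mem (hYD hy)) hd
    exact Y.mul_mem hy (hDK ⟨hkD, hk⟩)

/-- conjugation by an element normalizing `D`, as an automorphism of `D` -/
def conjOn (D : Subgroup G) (k : G) (hk : ∀ d ∈ D, k * d * k⁻¹ ∈ D)
    (hk' : ∀ d ∈ D, k⁻¹ * d * k ∈ D) : ↥D ≃* ↥D where
  toFun d := ⟨k * d * k⁻¹, hk d d.2⟩
  invFun d := ⟨k⁻¹ * d * k, hk' d d.2⟩
  left_inv d := by
    apply Subtype.ext
    show k⁻¹ * (k * (d : G) * k⁻¹) * k = d
    group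
  right_inv d := by
    apply Subtype.ext
    show k * (k⁻¹ * (d : G) * k) * k⁻¹ = d
    group
  map_mul' a b := by
    apply Subtype.ext
    show k * ((a : G) * b) * k⁻¹ = (k * a * k⁻¹) * (k * b * k⁻¹)
    group

/-- **Lemma T'.** -/
theorem simple_sub_false [Finite G] {H D : Subgroup G} (hDH : D ≤ H)
    (hHD : ∀ h ∈ H, ∀ d ∈ D, h * d * h⁻¹ ∈ D) [IsSimpleGroup ↥D]
    (hna : ∃ a ∈ D, ∃ b ∈ D, a * b ≠ b * a)
    (hK : ∀ x ∈ D, x ≠ 1 → ∃ K : Subgroup G, MaxIn K H ∧ (∀ d ∈ D, d ∈ K ↔ x * d = d * x) ∧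
        ∀ k ∈ K, k * x * k⁻¹ = x ∨ k * x * k⁻¹ = x⁻¹) : False := by
  apply ExtPrimT.simple_false (T := ↥D)
  · obtain ⟨a, ha, b, hb, hab⟩ := hna
    exact ⟨⟨a, ha⟩, ⟨b, hb⟩, fun e => hab (congrArg Subtype.val e)⟩
  · intro x hx1 Y' hCY hinv
    have hxG : (x : G) ≠ 1 := fun h => hx1 (Subtype.ext h)
    obtain ⟨K, hKmax, hKD, hKx⟩ := hK (x : G) x.2 hxG
    have hKH : K ≤ H := hKmax.1
    have hYD : Y'.map D.subtype ≤ D := by
      rintro _ ⟨y, -, rfl⟩
      exact y.2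
    have hDK : D ⊓ K ≤ Y'.map D.subtype := by
      rintro d ⟨hdD, hdK⟩
      refine ⟨⟨d, hdD⟩, hCY ?_, rfl⟩
      rw [ExtPrimT.mem_cz]
      apply Subtype.ext
      exact (hKD d hdD).mp hdK
    have hn : ∀ k ∈ K, ∀ y ∈ Y'.map D.subtype, k * y * k⁻¹ ∈ Y'.map D.subtype := by
      rintro k hk _ ⟨y, hy, rfl⟩
      have hkH : k ∈ H := hKH hk
      have hk1 : ∀ d ∈ D, k * d * k⁻¹ ∈ D := hHD k hkH
      have hk2 : ∀ d ∈ D, k⁻¹ * d * k ∈ D := by
        intro d hd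
        have := hHD k⁻¹ (H.inv_mem hkH) d hd
        rwa [inv_inv] at this
      have hφ : (conjOn D k hk1 hk2) x = x ∨ (conjOn D k hk1 hk2) x = x⁻¹ := by
        rcases hKx k hk with h | h
        · left
          exact Subtype.ext h
        · right
          exact Subtype.ext h
      have := hinv (conjOn D k hk1 hk2) hφ (Subgroup.mem_map_of_mem _ hy)
      exact ⟨_, this, rfl⟩
    rcases overgroup hKmax hDH hYD hDK hn with h | h
    · left
      apply le_antisymm _ hCY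
      intro y hy
      have hyG : (y : G) ∈ Y'.map D.subtype := ⟨y, hy, rfl⟩
      rw [h] at hyG
      rw [ExtPrimT.mem_cz]
      apply Subtype.ext
      exact (hKD y y.2).mp hyG.2
    · right
      rw [eq_top_iff]
      intro d _
      have hdG : (d : G) ∈ Y'.map D.subtype := by
        rw [h]
        exact d.2
      obtain ⟨y, hy, hyd⟩ := hdG
      have hyd' : y = d := Subtype.ext hyd
      rw [← hyd']
      exact hy

theorem prod_unique {A B : Subgroup G} (hAB : A ⊓ B = ⊥) {a a' b b' : G} (ha : a ∈ A)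
    (ha' : a' ∈ A) (hb : b ∈ B) (hb' : b' ∈ B) (h : a * b = a' * b') : a = a' ∧ b = b' := by
  have h1 : a'⁻¹ * a = b' * b⁻¹ := by
    calc a'⁻¹ * a = a'⁻¹ * (a * b) * b⁻¹ := by group
      _ = a'⁻¹ * (a' * b') * b⁻¹ := by rw [h]
      _ = b' * b⁻¹ := by group
  have h2 : a'⁻¹ * a ∈ A ⊓ B :=
    ⟨A.mul_mem (A.inv_mem ha') ha, by rw [h1]; exact B.mul_mem hb' (B.inv_mem hb)⟩
  rw [hAB, mem_bot] at h2
  have e1 : a = a' := by
    calc a = a' * (a'⁻¹ * a) := by group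
      _ = a' := by rw [h2, mul_one]
  refine ⟨e1, ?_⟩
  rw [e1] at h
  exact mul_left_cancel h

theorem exists_mul_of_mem_sup_comm {A B : Subgroup G} (hcomm : ∀ a ∈ A, ∀ b ∈ B, a * b = b * a)
    {g : G} (hg : g ∈ A ⊔ B) : ∃ a ∈ A, ∃ b ∈ B, g = a * b := by
  apply exists_mul_of_mem_sup _ hg
  intro k hk y hy
  have e : k * y * k⁻¹ = y := by
    rw [← hcomm y hy k hk]
    group
  rw [e]
  exact hy

/-- **Lemma U.** -/
theorem commuting_pair_false [Finite G] {H A B : Subgroup G}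
    (hM : ∀ g : G, g ∉ H → MaxIn (H ⊓ cj g H) H)
    [IsSimpleGroup ↥A] (hAna : ∃ a ∈ A, ∃ b ∈ A, a * b ≠ b * a)
    (hcomm : ∀ a ∈ A, ∀ b ∈ B, a * b = b * a)
    (hAB : A ⊓ B = ⊥) (hAH : A ⊓ H = ⊥) (hBH : B ⊓ H = ⊥)
    (hpair : ∀ a ∈ A, ∃ b ∈ B, a * b ∈ H)
    (hsw : ∀ h ∈ H, ((∀ a ∈ A, h * a * h⁻¹ ∈ A) ∧ (∀ b ∈ B, h * b * h⁻¹ ∈ B)) ∨
      ((∀ a ∈ A, h * a * h⁻¹ ∈ B) ∧ (∀ b ∈ B, h * b * h⁻¹ ∈ A))) : False := by
  obtain ⟨D, hD⟩ : ∃ D : Subgroup G, D = (A ⊔ B) ⊓ H := ⟨_, rfl⟩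
  have hmemD : ∀ x, x ∈ D ↔ x ∈ A ⊔ B ∧ x ∈ H := by
    intro x
    rw [hD]
    exact Subgroup.mem_inf
  have hdec : ∀ d : ↥D, ∃ a ∈ A, ∃ b ∈ B, (d : G) = a * b := fun d =>
    exists_mul_of_mem_sup_comm hcomm ((hmemD _).mp d.2).1
  choose pa hpa pb hpb hpab using hdec
  have hmul : ∀ d₁ d₂ : ↥D, pa (d₁ * d₂) = pa d₁ * pa d₂ := by
    intro d₁ d₂
    have h1 : pa (d₁ * d₂) * pb (d₁ * d₂) = (pa d₁ * pa d₂) * (pb d₁ * pb d₂) := by
      rw [← hpab (d₁ * d₂)]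
      show (d₁ : G) * d₂ = _
      rw [hpab d₁, hpab d₂]
      have hc : pb d₁ * pa d₂ = pa d₂ * pb d₁ := (hcomm _ (hpa d₂) _ (hpb d₁)).symm
      calc pa d₁ * pb d₁ * (pa d₂ * pb d₂) = pa d₁ * (pb d₁ * pa d₂) * pb d₂ := by group
        _ = pa d₁ * (pa d₂ * pb d₁) * pb d₂ := by rw [hc]
        _ = pa d₁ * pa d₂ * (pb d₁ * pb d₂) := by group
    exact (prod_unique hAB (hpa _) (A.mul_mem (hpa _) (hpa _)) (hpb _)
      (B.mul_mem (hpb _) (hpb _)) h1).1
  obtain ⟨π, hπ⟩ : ∃ π : ↥D →* ↥A, ∀ d, ((π d : ↥A) : G) = pa d :=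
    ⟨MonoidHom.mk' (fun d => ⟨pa d, hpa d⟩) (fun d₁ d₂ => Subtype.ext (hmul d₁ d₂)),
      fun d => rfl⟩
  have hinj : Function.Injective π := by
    rw [injective_iff_map_eq_one]
    intro d hd
    have h1 : pa d = 1 := by
      rw [← hπ d, hd]
      rfl
    have h2 : (d : G) = pb d := by rw [hpab d, h1, one_mul]
    have h3 : (d : G) ∈ B ⊓ H := ⟨by rw [h2]; exact hpb d, ((hmemD _).mp d.2).2⟩
    rw [hBH, mem_bot] at h3
    exact Subtype.ext h3
  have hsurj : Function.Surjective π := by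
    rintro ⟨a, ha⟩
    obtain ⟨b, hb, hab⟩ := hpair a ha
    have hd : a * b ∈ D := (hmemD _).mpr ⟨Subgroup.mul_mem_sup ha hb, hab⟩
    refine ⟨⟨a * b, hd⟩, Subtype.ext ?_⟩
    rw [hπ]
    have := hpab ⟨a * b, hd⟩
    exact (prod_unique hAB ha (hpa _) hb (hpb _) this).1.symm
  have : IsSimpleGroup ↥D := (MulEquiv.ofBijective π ⟨hinj, hsurj⟩).isSimpleGroup
  have hDH : D ≤ H := fun x hx => ((hmemD x).mp hx).2
  have hHD : ∀ h ∈ H, ∀ d ∈ D, h * d * h⁻¹ ∈ D := by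
    intro h hh d hd
    rw [hmemD] at hd ⊢
    refine ⟨?_, H.mul_mem (H.mul_mem hh hd.2) (H.inv_mem hh)⟩
    obtain ⟨a, ha, b, hb, hdab⟩ := exists_mul_of_mem_sup_comm hcomm hd.1
    have e : h * d * h⁻¹ = (h * a * h⁻¹) * (h * b * h⁻¹) := by
      rw [hdab]
      group
    rw [e]
    rcases hsw h hh with ⟨h1, h2⟩ | ⟨h1, h2⟩
    · exact Subgroup.mul_mem_sup (h1 a ha) (h2 b hb)
    · exact (A ⊔ B).mul_mem (Subgroup.mem_sup_right (h1 a ha)) (Subgroup.mem_sup_left (h2 b hb))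
  have hnaD : ∃ x ∈ D, ∃ y ∈ D, x * y ≠ y * x := by
    obtain ⟨a₁, ha₁, a₂, ha₂, hne⟩ := hAna
    obtain ⟨d₁, hd₁⟩ := hsurj ⟨a₁, ha₁⟩
    obtain ⟨d₂, hd₂⟩ := hsurj ⟨a₂, ha₂⟩
    refine ⟨d₁, d₁.2, d₂, d₂.2, fun h => hne ?_⟩
    have h' : d₁ * d₂ = d₂ * d₁ := Subtype.ext h
    have := congrArg π h'
    rw [map_mul, map_mul, hd₁, hd₂] at this
    exact congrArg Subtype.val this
  apply simple_sub_false hDH hHD hnaD
  intro x hxD hx1
  obtain ⟨a, ha, b, hb, rfl⟩ := exists_mul_of_mem_sup_comm hcomm ((hmemD x).mp hxD).1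
  have hxH : a * b ∈ H := hDH hxD
  have haH : a ∉ H := by
    intro h
    have h1 : a ∈ A ⊓ H := ⟨ha, h⟩
    rw [hAH, mem_bot] at h1
    have h2 : a * b ∈ B ⊓ H := ⟨by rw [h1, one_mul]; exact hb, hxH⟩
    rw [hBH, mem_bot] at h2
    exact hx1 h2
  refine ⟨H ⊓ cj a H, hM a haH, ?_, ?_⟩
  · intro d hd
    obtain ⟨a', ha', b', hb', rfl⟩ := exists_mul_of_mem_sup_comm hcomm ((hmemD d).mp hd).1
    have hdH : a' * b' ∈ H := hDH hd
    have hconj : a⁻¹ * (a' * b') * a = (a⁻¹ * a' * a) * b' := by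
      have hc : b' * a = a * b' := (hcomm a ha b' hb').symm
      calc a⁻¹ * (a' * b') * a = a⁻¹ * a' * (b' * a) := by group
        _ = a⁻¹ * a' * (a * b') := by rw [hc]
        _ = (a⁻¹ * a' * a) * b' := by group
    have hc1 : b * a' = a' * b := (hcomm a' ha' b hb).symm
    have hc2 : b' * a = a * b' := (hcomm a ha b' hb').symm
    have e1 : a * b * (a' * b') = (a * a') * (b * b') := by
      calc a * b * (a' * b') = a * (b * a') * b' := by group
        _ = a * (a' * b) * b' := by rw [hc1]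
        _ = (a * a') * (b * b') := by group
    have e2 : a' * b' * (a * b) = (a' * a) * (b' * b) := by
      calc a' * b' * (a * b) = a' * (b' * a) * b := by group
        _ = a' * (a * b') * b := by rw [hc2]
        _ = (a' * a) * (b' * b) := by group
    constructor
    · rintro ⟨-, hdc0⟩
      have hdc : a' * b' ∈ cj a H := hdc0
      rw [mem_cj, hconj] at hdc
      have h2 : a⁻¹ * a' * a * a'⁻¹ ∈ H := by
        have := H.mul_mem hdc (H.inv_mem hdH)
        have e : (a⁻¹ * a' * a) * b' * (a' * b')⁻¹ = a⁻¹ * a' * a * a'⁻¹ := by group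
        rwa [e] at this
      have h3 : a⁻¹ * a' * a * a'⁻¹ ∈ A ⊓ H :=
        ⟨A.mul_mem (A.mul_mem (A.mul_mem (A.inv_mem ha) ha') ha) (A.inv_mem ha'), h2⟩
      rw [hAH, mem_bot] at h3
      have haa : a' * a = a * a' := by
        calc a' * a = a * (a⁻¹ * a' * a * a'⁻¹) * a' := by group
          _ = a * a' := by rw [h3, mul_one]
      have h4 : (b * b')⁻¹ * (b' * b) ∈ B ⊓ H := by
        refine ⟨B.mul_mem (B.inv_mem (B.mul_mem hb hb')) (B.mul_mem hb' hb), ?_⟩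
        have := H.mul_mem (H.inv_mem (H.mul_mem hxH hdH)) (H.mul_mem hdH hxH)
        rw [e1, e2, haa] at this
        have e : (a * a' * (b * b'))⁻¹ * (a * a' * (b' * b)) = (b * b')⁻¹ * (b' * b) := by group
        rwa [e] at this
      rw [hBH, mem_bot] at h4
      have hbb : b' * b = b * b' := by
        calc b' * b = (b * b') * ((b * b')⁻¹ * (b' * b)) := by group
          _ = b * b' := by rw [h4, mul_one]
      rw [e1, e2, haa, hbb]
    · intro hxd
      rw [e1, e2] at hxd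
      have haa : a * a' = a' * a :=
        (prod_unique hAB (A.mul_mem ha ha') (A.mul_mem ha' ha) (B.mul_mem hb hb')
          (B.mul_mem hb' hb) hxd).1
      refine ⟨hdH, ?_⟩
      show a' * b' ∈ cj a H
      rw [mem_cj, hconj]
      have e3 : a⁻¹ * a' * a = a' := by
        calc a⁻¹ * a' * a = a⁻¹ * (a' * a) := by group
          _ = a⁻¹ * (a * a') := by rw [haa]
          _ = a' := by group
      rw [e3]
      exact hdH
  · rintro k ⟨hkH, hkc0⟩
    have hkc : k ∈ cj a H := hkc0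
    rw [mem_cj] at hkc
    have hkx : k * (a * b) * k⁻¹ ∈ H := H.mul_mem (H.mul_mem hkH hxH) (H.inv_mem hkH)
    have e0 : k * (a * b) * k⁻¹ = (k * a * k⁻¹) * (k * b * k⁻¹) := by group
    have h1 : a⁻¹ * (k * a * k⁻¹) ∈ H := by
      have := H.mul_mem hkc (H.inv_mem hkH)
      have e : a⁻¹ * k * a * k⁻¹ = a⁻¹ * (k * a * k⁻¹) := by group
      rwa [e] at this
    rcases hsw k hkH with ⟨hA', hB'⟩ | ⟨hA', hB'⟩
    · left
      have h2 : a⁻¹ * (k * a * k⁻¹) ∈ A ⊓ H := ⟨A.mul_mem (A.inv_mem ha) (hA' a ha), h1⟩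
      rw [hAH, mem_bot] at h2
      have hka : k * a * k⁻¹ = a := by
        calc k * a * k⁻¹ = a * (a⁻¹ * (k * a * k⁻¹)) := by group
          _ = a := by rw [h2, mul_one]
      have h3 : b⁻¹ * (k * b * k⁻¹) ∈ B ⊓ H := by
        refine ⟨B.mul_mem (B.inv_mem hb) (hB' b hb), ?_⟩
        have := H.mul_mem (H.inv_mem hxH) hkx
        rw [e0, hka] at this
        have e : (a * b)⁻¹ * (a * (k * b * k⁻¹)) = b⁻¹ * (k * b * k⁻¹) := by group
        rwa [e] at this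
      rw [hBH, mem_bot] at h3
      have hkb : k * b * k⁻¹ = b := by
        calc k * b * k⁻¹ = b * (b⁻¹ * (k * b * k⁻¹)) := by group
          _ = b := by rw [h3, mul_one]
      rw [e0, hka, hkb]
    · right
      have h2 : b * (k * a * k⁻¹) ∈ B ⊓ H := by
        refine ⟨B.mul_mem hb (hA' a ha), ?_⟩
        have := H.mul_mem hxH h1
        have hc : a * b = b * a := hcomm a ha b hb
        have e : a * b * (a⁻¹ * (k * a * k⁻¹)) = b * (k * a * k⁻¹) := by
          rw [hc]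
          group
        rwa [e] at this
      rw [hBH, mem_bot] at h2
      have hka : k * a * k⁻¹ = b⁻¹ := by
        calc k * a * k⁻¹ = b⁻¹ * (b * (k * a * k⁻¹)) := by group
          _ = b⁻¹ := by rw [h2, mul_one]
      have h3 : a * (k * b * k⁻¹) ∈ A ⊓ H := by
        refine ⟨A.mul_mem ha (hB' b hb), ?_⟩
        have := H.mul_mem hxH hkx
        rw [e0, hka] at this
        have e : a * b * (b⁻¹ * (k * b * k⁻¹)) = a * (k * b * k⁻¹) := by group
        rwa [e] at this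
      rw [hAH, mem_bot] at h3
      have hkb : k * b * k⁻¹ = a⁻¹ := by
        calc k * b * k⁻¹ = a⁻¹ * (a * (k * b * k⁻¹)) := by group
          _ = a⁻¹ := by rw [h3, mul_one]
      rw [e0, hka, hkb]
      group

end Cfsg.Agent.Lib.Helper21.ExtPrimU
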