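import Mathlib
import Cfsg.Agent.Lib.Helper21.ExtPrimU
import Cfsg.Agent.Lib.Lead.PrimDerA
import Cfsg.Agent.S0721

set_option autoImplicit false

/-! The structure theorem: a core-free maximal subgroup `H` of a finite group `G` with `H ∩ H^g`
maximal in `H` for all `g ∉ H` forces `G` to be affine or almost simple. -/

namespace Cfsg.Agent.Lib.Helper21.ExtPrimU

open Subgroup Cfsg.Agent.Lib.Lead

variable {G : Type*} [Group G]

section factor

variable {N : Subgroup G} {T : Type*} [Group T] {m : ℕ}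

/-- the `i`-th factor of `N ≅ T^m`, as a subgroup of `G` -/
def Fi (e : ↥N ≃* (Fin m → T)) (i : Fin m) : Subgroup G :=
  ((PrimDerA.C T i).map e.symm.toMonoidHom).map N.subtype

theorem mem_Fi {e : ↥N ≃* (Fin m → T)} {i : Fin m} {x : G} :
    x ∈ Fi e i ↔ ∃ y ∈ PrimDerA.C T i, ((e.symm y : ↥N) : G) = x := by
  unfold Fi
  constructor
  · rintro ⟨_, ⟨y, hy, rfl⟩, rfl⟩
    exact ⟨y, hy, rfl⟩
  · rintro ⟨y, hy, rfl⟩
    exact ⟨_, ⟨y, hy, rfl⟩, rfl⟩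

theorem Fi_equiv (e : ↥N ≃* (Fin m → T)) (i : Fin m) : Nonempty (↥(Fi e i) ≃* T) := by
  have e1 : T ≃* ↥(PrimDerA.C T i) := MonoidHom.ofInjective (PrimDerA.mulSingle_inj i)
  have e2 : ↥(PrimDerA.C T i) ≃* ↥((PrimDerA.C T i).map e.symm.toMonoidHom) :=
    (PrimDerA.C T i).equivMapOfInjective e.symm.toMonoidHom e.symm.injective
  have e3 : ↥((PrimDerA.C T i).map e.symm.toMonoidHom) ≃* ↥(Fi e i) :=
    ((PrimDerA.C T i).map e.symm.toMonoidHom).equivMapOfInjective N.subtype N.subtype_injective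
  exact ⟨((e1.trans e2).trans e3).symm⟩

theorem Fi_conj_mem (e : ↥N ≃* (Fin m → T)) (i : Fin m) {n f : G} (hn : n ∈ N)
    (hf : f ∈ Fi e i) : n * f * n⁻¹ ∈ Fi e i := by
  rw [mem_Fi] at hf ⊢
  obtain ⟨y, hy, rfl⟩ := hf
  refine ⟨e ⟨n, hn⟩ * y * (e ⟨n, hn⟩)⁻¹, (PrimDerA.C_normal i).conj_mem y hy _, ?_⟩
  rw [map_mul, map_mul, map_inv, e.symm_apply_apply]
  rfl

theorem Fi_conj [N.Normal] [IsSimpleGroup T] (hT : ¬ IsMulCommutative T)
    (e : ↥N ≃* (Fin m → T)) (i : Fin m) (g : G) : ∃ j, cj g (Fi e i) = Fi e j := by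
  obtain ⟨ψ, hψ⟩ : ∃ ψ : (Fin m → T) ≃* (Fin m → T),
      ∀ y, ψ y = e ((MulAut.conjNormal g : ↥N ≃* ↥N) (e.symm y)) :=
    ⟨(e.symm.trans (MulAut.conjNormal g : ↥N ≃* ↥N)).trans e, fun y => rfl⟩
  obtain ⟨j, hj⟩ := PrimDerA.exists_map_C hT ψ i
  have key : ∀ y, ((e.symm (ψ y) : ↥N) : G) = g * ((e.symm y : ↥N) : G) * g⁻¹ := by
    intro y
    rw [hψ, e.symm_apply_apply, MulAut.conjNormal_apply]
  refine ⟨j, ?_⟩
  ext x
  rw [mem_cj, mem_Fi, mem_Fi]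
  constructor
  · rintro ⟨y, hy, hyx⟩
    have hψy : ψ y ∈ PrimDerA.C T j := by
      rw [← hj]
      exact Subgroup.mem_map_of_mem ψ.toMonoidHom hy
    refine ⟨ψ y, hψy, ?_⟩
    rw [key, hyx]
    group
  · rintro ⟨z, hz, hzx⟩
    rw [← hj] at hz
    obtain ⟨y, hy, hyz⟩ := hz
    refine ⟨y, hy, ?_⟩
    have hk := key y
    have hyz' : ψ y = z := hyz
    rw [hyz', hzx] at hk
    rw [hk]
    group

theorem Fi_comm (e : ↥N ≃* (Fin m → T)) {i j : Fin m} (hij : i ≠ j) {x y : G}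
    (hx : x ∈ Fi e i) (hy : y ∈ Fi e j) : x * y = y * x := by
  rw [mem_Fi] at hx hy
  obtain ⟨z, hz, rfl⟩ := hx
  obtain ⟨w, hw, rfl⟩ := hy
  have hzw : z * w = w * z := by
    rw [PrimDerA.mem_C_iff] at hz hw
    funext k
    by_cases hk : k = i
    · have h1 : w k = 1 := hw k (by rw [hk]; exact hij)
      simp [h1]
    · have h1 : z k = 1 := hz k hk
      simp [h1]
  show ((e.symm z * e.symm w : ↥N) : G) = ((e.symm w * e.symm z : ↥N) : G)
  rw [← map_mul, ← map_mul, hzw]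

theorem Fi_disj (e : ↥N ≃* (Fin m → T)) {i j : Fin m} (hij : i ≠ j) :
    Fi e i ⊓ Fi e j = ⊥ := by
  rw [eq_bot_iff]
  rintro x ⟨hx0, hy0⟩
  have hx : x ∈ Fi e i := hx0
  have hy : x ∈ Fi e j := hy0
  rw [mem_Fi] at hx hy
  obtain ⟨z, hz, rfl⟩ := hx
  obtain ⟨w, hw, hwz⟩ := hy
  have hzw : w = z := e.symm.injective (Subtype.ext hwz)
  rw [hzw] at hw
  rw [PrimDerA.mem_C_iff] at hz hw
  have hz1 : z = 1 := by
    funext k
    by_cases hk : k = i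
    · exact hw k (by rw [hk]; exact hij)
    · exact hz k hk
  rw [mem_bot, hz1, map_one]
  rfl

theorem exists_factor [N.Normal] [IsSimpleGroup T] (hT : ¬ IsMulCommutative T) (hm : 0 < m)
    (e : ↥N ≃* (Fin m → T)) :
    ∃ F : Subgroup G, F ≤ N ∧ IsSimpleGroup ↥F ∧ (∃ a ∈ F, ∃ b ∈ F, a * b ≠ b * a) ∧
      (∀ n ∈ N, ∀ f ∈ F, n * f * n⁻¹ ∈ F) ∧
      (∀ g : G, cj g F = F ∨ ((∀ x ∈ cj g F, ∀ y ∈ F, x * y = y * x) ∧ cj g F ⊓ F = ⊥)) := by
  obtain ⟨E⟩ := Fi_equiv e ⟨0, hm⟩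
  refine ⟨Fi e ⟨0, hm⟩, ?_, E.isSimpleGroup, ?_, ?_, ?_⟩
  · intro x hx
    obtain ⟨y, -, rfl⟩ := mem_Fi.mp hx
    exact (e.symm y).2
  · have hTna : ∃ s t : T, s * t ≠ t * s := by
      by_contra hcon
      apply hT
      refine ⟨⟨fun a b => ?_⟩⟩
      by_contra hne
      exact hcon ⟨a, b, hne⟩
    obtain ⟨s, t, hst⟩ := hTna
    refine ⟨E.symm s, (E.symm s).2, E.symm t, (E.symm t).2, fun h => hst ?_⟩
    have h' : E.symm s * E.symm t = E.symm t * E.symm s := Subtype.ext h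
    have := congrArg E h'
    rwa [map_mul, map_mul, E.apply_symm_apply, E.apply_symm_apply] at this
  · intro n hn f hf
    exact Fi_conj_mem e _ hn hf
  · intro g
    obtain ⟨j, hj⟩ := Fi_conj hT e ⟨0, hm⟩ g
    by_cases hj0 : j = ⟨0, hm⟩
    · left
      rw [hj, hj0]
    · right
      rw [hj]
      exact ⟨fun x hx y hy => Fi_comm e hj0 hx hy, Fi_disj e hj0⟩

end factor

theorem eq_bot_of_normal_le {H : Subgroup G} (hcore : H.normalCore = ⊥) {N : Subgroup G}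
    (hN : N.Normal) (h : N ≤ H) : N = ⊥ := by
  rw [eq_bot_iff, ← hcore]
  exact (Subgroup.normal_le_normalCore (hN := hN)).mpr h

theorem exists_mul_of_normal {H : Subgroup G} (hco : IsCoatom H) (hcore : H.normalCore = ⊥)
    {N : Subgroup G} (hN : N.Normal) (hN1 : N ≠ ⊥) (g : G) : ∃ n ∈ N, ∃ h ∈ H, g = n * h := by
  have hNH : ¬ N ≤ H := fun h => hN1 (eq_bot_of_normal_le hcore hN h)
  have hlt : H < N ⊔ H :=
    lt_of_le_of_ne le_sup_right (fun h => hNH (le_sup_left.trans (le_of_eq h.symm)))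
  have htop : N ⊔ H = ⊤ := hco.2 _ hlt
  apply exists_mul_of_mem_sup (Y := N) (K := H)
  · intro k _ y hy
    exact hN.conj_mem y hy k
  · rw [htop]
    exact mem_top g

theorem inf_eq_bot_of_commute {H : Subgroup G} (hco : IsCoatom H) (hcore : H.normalCore = ⊥)
    {X Y : Subgroup G} (hX : X.Normal) (hY : Y.Normal) (hY1 : Y ≠ ⊥)
    (hXY : ∀ x ∈ X, ∀ y ∈ Y, x * y = y * x) : X ⊓ H = ⊥ := by
  refine eq_bot_of_normal_le hcore ?_ inf_le_right
  constructor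
  intro z hz g
  obtain ⟨y, hy, h, hh, rfl⟩ := exists_mul_of_normal hco hcore hY hY1 g
  have hz' : h * z * h⁻¹ ∈ X ⊓ H :=
    ⟨hX.conj_mem z hz.1 h, H.mul_mem (H.mul_mem hh hz.2) (H.inv_mem hh)⟩
  have e : y * h * z * (y * h)⁻¹ = y * (h * z * h⁻¹) * y⁻¹ := by group
  rw [e]
  have e2 : y * (h * z * h⁻¹) * y⁻¹ = h * z * h⁻¹ := by
    rw [← hXY _ hz'.1 y hy]
    group
  rw [e2]
  exact hz'

theorem abelian_case {H : Subgroup G} (hco : IsCoatom H) (hcore : H.normalCore = ⊥)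
    {N : Subgroup G} (hN : N.Normal) (hN1 : N ≠ ⊥)
    (hab : ∀ a ∈ N, ∀ b ∈ N, a * b = b * a) (g : G) : N ⊓ cj g H = ⊥ := by
  have hNH : N ⊓ H = ⊥ := inf_eq_bot_of_commute hco hcore hN hN hN1 hab
  rw [eq_bot_iff]
  intro x hx
  have h1 : g⁻¹ * x * g ∈ N ⊓ H := by
    refine ⟨?_, mem_cj.mp hx.2⟩
    have := hN.conj_mem x hx.1 g⁻¹
    rwa [inv_inv] at this
  rw [hNH, mem_bot] at h1
  rw [mem_bot]
  calc x = g * (g⁻¹ * x * g) * g⁻¹ := by group
    _ = 1 := by rw [h1]; group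

theorem exists_minimal_normal [Finite G] [Nontrivial G] : ∃ N : Subgroup G, N.Normal ∧ N ≠ ⊥ ∧
    ∀ M : Subgroup G, M.Normal → M ≤ N → M = ⊥ ∨ M = N := by
  obtain ⟨N, hN, hmin⟩ := Set.exists_min_image {K : Subgroup G | K.Normal ∧ K ≠ ⊥}
    (fun K => Nat.card K) (Set.toFinite _) ⟨⊤, inferInstance, top_ne_bot⟩
  refine ⟨N, hN.1, hN.2, fun M hM hle => ?_⟩
  by_cases h : M = ⊥
  · exact Or.inl h
  · exact Or.inr (Subgroup.eq_of_le_of_card_ge hle (hmin M ⟨hM, h⟩))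

/-- the standing hypotheses of the nonabelian case -/
structure Setup (H N F : Subgroup G) : Prop where
  hco : IsCoatom H
  hcore : H.normalCore = ⊥
  hM : ∀ g : G, g ∉ H → MaxIn (H ⊓ cj g H) H
  hN : N.Normal
  hN1 : N ≠ ⊥
  hmin : ∀ M : Subgroup G, M.Normal → M ≤ N → M = ⊥ ∨ M = N
  hNna : ∃ a ∈ N, ∃ b ∈ N, a * b ≠ b * a
  hFN : F ≤ N
  hF1 : F ≠ ⊥
  hFna : ∃ a ∈ F, ∃ b ∈ F, a * b ≠ b * a
  hFnorm : ∀ n ∈ N, ∀ f ∈ F, n * f * n⁻¹ ∈ F
  hFc : ∀ g : G, cj g F = F ∨ ((∀ x ∈ cj g F, ∀ y ∈ F, x * y = y * x) ∧ cj g F ⊓ F = ⊥)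

variable {H N F : Subgroup G}

theorem Setup.exists_mul (S : Setup H N F) (g : G) : ∃ n ∈ N, ∃ h ∈ H, g = n * h :=
  exists_mul_of_normal S.hco S.hcore S.hN S.hN1 g

theorem Setup.exists_not_norm (S : Setup H N F) (hne : F ≠ N) : ∃ h₁ ∈ H, cj h₁ F ≠ F := by
  by_contra hcon
  have hall : ∀ h ∈ H, cj h F = F := by
    intro h hh
    by_contra hx
    exact hcon ⟨h, hh, hx⟩
  have hFnormal : F.Normal := by
    constructor
    intro f hf g
    obtain ⟨n, hn, h, hh, rfl⟩ := S.exists_mul g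
    have h1 : h * f * h⁻¹ ∈ F := by
      have := conj_mem_cj (g := h) hf
      rwa [hall h hh] at this
    have e : n * h * f * (n * h)⁻¹ = n * (h * f * h⁻¹) * n⁻¹ := by group
    rw [e]
    exact S.hFnorm n hn _ h1
  rcases S.hmin F hFnormal S.hFN with h | h
  · exact S.hF1 h
  · exact hne h

theorem Setup.caseA (S : Setup H N F) (hne : F ≠ N) (hNH : N ⊓ H = ⊥) : False := by
  obtain ⟨h₁, hh₁, hh₁F⟩ := S.exists_not_norm hne
  have hKt : ∀ t ∈ F, t ≠ 1 → ∀ k ∈ H ⊓ cj t H, k * t = t * k := by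
    intro t ht ht1 k hk
    have h1 : t⁻¹ * k * t ∈ H := mem_cj.mp hk.2
    have h2 : k⁻¹ * (t⁻¹ * k * t) ∈ N ⊓ H := by
      refine ⟨?_, H.mul_mem (H.inv_mem hk.1) h1⟩
      have e : k⁻¹ * (t⁻¹ * k * t) = (k⁻¹ * t⁻¹ * k⁻¹⁻¹) * t := by group
      rw [e]
      exact N.mul_mem (S.hN.conj_mem t⁻¹ (N.inv_mem (S.hFN ht)) k⁻¹) (S.hFN ht)
    rw [hNH, mem_bot] at h2
    calc k * t = t * k * (k⁻¹ * (t⁻¹ * k * t)) := by group
      _ = t * k := by rw [h2, mul_one]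
  have htH : ∀ t ∈ F, t ≠ 1 → t ∉ H := by
    intro t ht ht1 htH
    have : t ∈ N ⊓ H := ⟨S.hFN ht, htH⟩
    rw [hNH, mem_bot] at this
    exact ht1 this
  have hstar : ∀ h ∈ H, cj h F = F → ∀ t ∈ F, h * t = t * h := by
    intro h hh hhF t ht
    by_cases ht1 : t = 1
    · rw [ht1, mul_one, one_mul]
    · obtain ⟨hKH, hKne, hKmax⟩ := S.hM t (htH t ht ht1)
      have hKL : H ⊓ cj t H ≤ H ⊓ normalizer (F : Set G) := by
        intro k hk
        refine ⟨hk.1, ?_⟩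
        have hkt := hKt t ht ht1 k hk
        rcases S.hFc k with hc | ⟨-, hc⟩
        · exact mem_normalizer_iff_cj.mpr hc
        · exfalso
          have : t ∈ cj k F ⊓ F := by
            refine ⟨?_, ht⟩
            show t ∈ cj k F
            rw [mem_cj]
            have e : k⁻¹ * t * k = t := by
              calc k⁻¹ * t * k = k⁻¹ * (t * k) := by group
                _ = k⁻¹ * (k * t) := by rw [hkt]
                _ = t := by group
            rw [e]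
            exact ht
          rw [hc, mem_bot] at this
          exact ht1 this
      rcases hKmax (H ⊓ normalizer (F : Set G)) hKL inf_le_left with hL | hL
      · have hhL : h ∈ H ⊓ normalizer (F : Set G) := ⟨hh, mem_normalizer_iff_cj.mpr hhF⟩
        rw [hL] at hhL
        exact hKt t ht ht1 h hhL
      · exfalso
        have : h₁ ∈ H ⊓ normalizer (F : Set G) := by
          rw [hL]
          exact hh₁
        exact hh₁F (mem_normalizer_iff_cj.mp this.2)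
  obtain ⟨t, ht, ht1⟩ : ∃ t ∈ F, t ≠ 1 := by
    by_contra hcon
    apply S.hF1
    rw [eq_bot_iff]
    intro x hx
    rw [mem_bot]
    by_contra hx1
    exact hcon ⟨x, hx, hx1⟩
  have hcomm1 : ∀ h ∈ H, t * (h * t * h⁻¹) = (h * t * h⁻¹) * t := by
    intro h hh
    rcases S.hFc h with hc | ⟨hc, -⟩
    · have h2 := hstar h hh hc t ht
      have e : h * t * h⁻¹ = t := by
        rw [h2]
        group
      rw [e]
    · exact (hc _ (conj_mem_cj ht) t ht).symm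
  obtain ⟨Sset, hSset⟩ : ∃ Sset : Set G, Sset = {x | ∃ h ∈ H, x = h * t * h⁻¹} := ⟨_, rfl⟩
  have hSmem : ∀ x, x ∈ Sset ↔ ∃ h ∈ H, x = h * t * h⁻¹ := by
    intro x
    rw [hSset]
    rfl
  have hScomm : ∀ x ∈ Sset, ∀ y ∈ Sset, x * y = y * x := by
    intro x hx y hy
    obtain ⟨h1, hh1, rfl⟩ := (hSmem x).mp hx
    obtain ⟨h2, hh2, rfl⟩ := (hSmem y).mp hy
    have h3 := hcomm1 (h1⁻¹ * h2) (H.mul_mem (H.inv_mem hh1) hh2)
    calc h1 * t * h1⁻¹ * (h2 * t * h2⁻¹)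
        = h1 * (t * (h1⁻¹ * h2 * t * (h1⁻¹ * h2)⁻¹)) * h1⁻¹ := by group
      _ = h1 * ((h1⁻¹ * h2 * t * (h1⁻¹ * h2)⁻¹) * t) * h1⁻¹ := by rw [h3]
      _ = h2 * t * h2⁻¹ * (h1 * t * h1⁻¹) := by group
  obtain ⟨X, hX⟩ : ∃ X : Subgroup G, X = closure Sset := ⟨_, rfl⟩
  have hSX : Sset ⊆ X := by
    rw [hX]
    exact subset_closure
  have hX1 : X ≤ centralizer Sset := by
    rw [hX, closure_le]
    intro x hx
    exact mem_centralizer_iff.mpr (fun y hy => hScomm y hy x hx)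
  have hXab : ∀ x ∈ X, ∀ y ∈ X, x * y = y * x := by
    have hX2 : closure Sset ≤ centralizer (X : Set G) := by
      rw [closure_le]
      intro x hx
      refine mem_centralizer_iff.mpr (fun y hy => ?_)
      exact (mem_centralizer_iff.mp (hX1 hy) x hx).symm
    rw [← hX] at hX2
    intro x hx y hy
    exact mem_centralizer_iff.mp (hX2 hy) x hx
  have hXN : X ≤ N := by
    rw [hX, closure_le]
    intro x hx
    obtain ⟨h, -, rfl⟩ := (hSmem x).mp hx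
    exact S.hN.conj_mem t (S.hFN ht) h
  have htX : t ∈ X := hSX ((hSmem t).mpr ⟨1, H.one_mem, by group⟩)
  have hHX : ∀ h ∈ H, ∀ x ∈ X, h * x * h⁻¹ ∈ X := by
    intro h hh x hx
    have hle : closure Sset ≤ X.comap (MulAut.conj h).toMonoidHom := by
      rw [closure_le]
      intro s hs
      obtain ⟨h', hh', rfl⟩ := (hSmem s).mp hs
      show h * (h' * t * h'⁻¹) * h⁻¹ ∈ X
      apply hSX
      rw [hSmem]
      exact ⟨h * h', H.mul_mem hh hh', by group⟩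
    rw [← hX] at hle
    exact hle hx
  have hXH : X ⊔ H = ⊤ := by
    apply S.hco.2
    apply lt_of_le_of_ne le_sup_right
    intro h
    apply htH t ht ht1
    rw [h]
    exact mem_sup_left htX
  have hXnormal : X.Normal := by
    constructor
    intro x hx g
    have hg : g ∈ X ⊔ H := by
      rw [hXH]
      exact mem_top g
    obtain ⟨y, hy, h, hh, rfl⟩ := exists_mul_of_mem_sup hHX hg
    have e : y * h * x * (y * h)⁻¹ = y * (h * x * h⁻¹) * y⁻¹ := by group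
    rw [e]
    exact X.mul_mem (X.mul_mem hy (hHX h hh x hx)) (X.inv_mem hy)
  rcases S.hmin X hXnormal hXN with h | h
  · rw [h, mem_bot] at htX
    exact ht1 htX
  · obtain ⟨a, ha, b, hb, hab⟩ := S.hNna
    rw [← h] at ha hb
    exact hab (hXab a ha b hb)

theorem Setup.mem_of_norm_D [Finite G] (S : Setup H N F) (hD1 : N ⊓ H ≠ ⊥) {g : G}
    (hg : ∀ d ∈ N ⊓ H, g * d * g⁻¹ ∈ N ⊓ H) : g ∈ H := by
  have hgn : g ∈ normalizer ((N ⊓ H : Subgroup G) : Set G) := mem_normalizer_of_conj_mem hg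
  have hHn : H ≤ normalizer ((N ⊓ H : Subgroup G) : Set G) := by
    intro h hh
    apply mem_normalizer_of_conj_mem
    intro d hd
    exact ⟨S.hN.conj_mem d hd.1 h, H.mul_mem (H.mul_mem hh hd.2) (H.inv_mem hh)⟩
  rcases eq_or_lt_of_le hHn with h | h
  · rw [h]
    exact hgn
  · exfalso
    have htop := S.hco.2 _ h
    have hDn : (N ⊓ H).Normal := normalizer_eq_top_iff.mp htop
    exact hD1 (eq_bot_of_normal_le S.hcore hDn inf_le_right)

theorem Setup.exists_mul_D [Finite G] (S : Setup H N F) (hD1 : N ⊓ H ≠ ⊥) {g : G} (hg : g ∉ H)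
    {h : G} (hh : h ∈ H) : ∃ d ∈ N ⊓ H, ∃ k ∈ H ⊓ cj g H, h = d * k := by
  obtain ⟨hKH, hKne, hKmax⟩ := S.hM g hg
  have hnot : ¬ (N ⊓ H ≤ cj g H) := by
    intro hle
    apply hg
    have h1 : g⁻¹ ∈ H := by
      apply S.mem_of_norm_D hD1
      intro d hd
      rw [inv_inv]
      refine ⟨?_, mem_cj.mp (hle hd)⟩
      have := S.hN.conj_mem d hd.1 g⁻¹
      rwa [inv_inv] at this
    have := H.inv_mem h1
    rwa [inv_inv] at this
  have hnorm : ∀ k ∈ H ⊓ cj g H, ∀ y ∈ N ⊓ H, k * y * k⁻¹ ∈ N ⊓ H := by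
    intro k hk y hy
    exact ⟨S.hN.conj_mem y hy.1 k, H.mul_mem (H.mul_mem hk.1 hy.2) (H.inv_mem hk.1)⟩
  have hsup : (N ⊓ H) ⊔ (H ⊓ cj g H) = H := by
    rcases hKmax ((N ⊓ H) ⊔ (H ⊓ cj g H)) le_sup_right (sup_le inf_le_right inf_le_left)
      with h1 | h1
    · exfalso
      apply hnot
      calc N ⊓ H ≤ (N ⊓ H) ⊔ (H ⊓ cj g H) := le_sup_left
        _ = H ⊓ cj g H := h1
        _ ≤ cj g H := inf_le_right
    · exact h1
  apply exists_mul_of_mem_sup hnorm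
  rw [hsup]
  exact hh

theorem Setup.one_step [Finite G] (S : Setup H N F) (hD1 : N ⊓ H ≠ ⊥) {h h' u : G}
    (hh : h ∈ H) (hh' : h' ∈ H) (hu : u ∈ cj h F) : ∃ t ∈ cj h' F, t⁻¹ * u ∈ H := by
  by_cases huH : u ∈ H
  · refine ⟨1, one_mem _, ?_⟩
    rw [inv_one, one_mul]
    exact huH
  · obtain ⟨d, hd, k, hk, hdk⟩ := S.exists_mul_D hD1 huH (H.mul_mem hh' (H.inv_mem hh))
    refine ⟨k * u * k⁻¹, ?_, ?_⟩
    · rw [mem_cj]
      have hk_eq : k = d⁻¹ * (h' * h⁻¹) := by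
        rw [hdk]
        group
      have e : h'⁻¹ * (k * u * k⁻¹) * h' =
          (h'⁻¹ * d⁻¹ * h'⁻¹⁻¹) * (h⁻¹ * u * h) * (h'⁻¹ * d⁻¹ * h'⁻¹⁻¹)⁻¹ := by
        rw [hk_eq]
        group
      rw [e]
      apply S.hFnorm _ _ _ (mem_cj.mp hu)
      exact S.hN.conj_mem d⁻¹ (N.inv_mem hd.1) h'⁻¹
    · have h1 : u⁻¹ * k * u ∈ H := mem_cj.mp hk.2
      have e : (k * u * k⁻¹)⁻¹ * u = k * (u⁻¹ * k * u)⁻¹ := by group
      rw [e]
      exact H.mul_mem hk.1 (H.inv_mem h1)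

theorem Setup.pair [Finite G] (S : Setup H N F) (hD1 : N ⊓ H ≠ ⊥) {h' : G} (hh' : h' ∈ H)
    {a : G} (ha : a ∈ F) : ∃ b ∈ cj h' F, a * b ∈ H := by
  have hu : a⁻¹ ∈ cj 1 F := by
    rw [cj_one]
    exact F.inv_mem ha
  obtain ⟨t, ht, htu⟩ := S.one_step hD1 H.one_mem hh' hu
  refine ⟨t, ht, ?_⟩
  have := H.inv_mem htu
  have e : (t⁻¹ * a⁻¹)⁻¹ = a * t := by group
  rwa [e] at this

theorem Setup.F_inf_H [Finite G] [IsSimpleGroup ↥F] (S : Setup H N F) (hD1 : N ⊓ H ≠ ⊥)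
    {h₁ : G} (hh₁ : h₁ ∈ H) (hh₁F : cj h₁ F ≠ F) : F ⊓ H = ⊥ := by
  have hcomm : ∀ x ∈ cj h₁ F, ∀ y ∈ F, x * y = y * x := by
    rcases S.hFc h₁ with hc | ⟨hc, -⟩
    · exact absurd hc hh₁F
    · exact hc
  have hEn : (H.comap F.subtype).Normal := by
    constructor
    intro e he a
    show ((a * e * a⁻¹ : ↥F) : G) ∈ H
    obtain ⟨b, hb, hab⟩ := S.pair hD1 hh₁ a.2
    have he' : (e : G) ∈ H := he
    have h1 := H.mul_mem (H.mul_mem hab he') (H.inv_mem hab)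
    have hbe : b * (e : G) = (e : G) * b := hcomm b hb e e.2
    have e1 : (a : G) * b * e * ((a : G) * b)⁻¹ = (a : G) * (b * e) * b⁻¹ * (a : G)⁻¹ := by group
    rw [e1, hbe] at h1
    have e2 : (a : G) * ((e : G) * b) * b⁻¹ * (a : G)⁻¹ = (a : G) * e * (a : G)⁻¹ := by group
    rw [e2] at h1
    exact h1
  rcases hEn.eq_bot_or_eq_top with h | h
  · rw [eq_bot_iff]
    intro x hx
    have hx' : (⟨x, hx.1⟩ : ↥F) ∈ H.comap F.subtype := hx.2
    rw [h, mem_bot] at hx'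
    rw [mem_bot]
    exact congrArg Subtype.val hx'
  · exfalso
    have hFH : F ≤ H := by
      intro x hx
      have hx' : (⟨x, hx⟩ : ↥F) ∈ H.comap F.subtype := by
        rw [h]
        exact mem_top _
      exact hx'
    apply S.hF1
    rw [eq_bot_iff, ← S.hcore]
    intro f hf
    show ∀ b : G, b * f * b⁻¹ ∈ H
    intro g
    obtain ⟨n, hn, h', hh', hg⟩ := S.exists_mul g⁻¹
    have hg' : g = h'⁻¹ * n⁻¹ := by
      calc g = (g⁻¹)⁻¹ := (inv_inv g).symm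
        _ = (n * h')⁻¹ := by rw [hg]
        _ = h'⁻¹ * n⁻¹ := mul_inv_rev n h'
    rw [hg']
    have e : h'⁻¹ * n⁻¹ * f * (h'⁻¹ * n⁻¹)⁻¹ = h'⁻¹ * (n⁻¹ * f * n⁻¹⁻¹) * h'⁻¹⁻¹ := by group
    rw [e]
    exact H.mul_mem (H.mul_mem (H.inv_mem hh') (hFH (S.hFnorm _ (N.inv_mem hn) f hf)))
      (H.inv_mem (H.inv_mem hh'))

theorem Setup.two_conj [Finite G] [IsSimpleGroup ↥F] (S : Setup H N F) (hD1 : N ⊓ H ≠ ⊥)
    {h₁ : G} (hh₁ : h₁ ∈ H) (hh₁F : cj h₁ F ≠ F) {h : G} (hh : h ∈ H) :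
    cj h F = F ∨ cj h F = cj h₁ F := by
  by_contra hcon
  have hne1 : cj h F ≠ F := fun e => hcon (Or.inl e)
  have hne2 : cj h F ≠ cj h₁ F := fun e => hcon (Or.inr e)
  have hFH : F ⊓ H = ⊥ := S.F_inf_H hD1 hh₁ hh₁F
  have hcB : ∀ x ∈ cj h₁ F, ∀ y ∈ F, x * y = y * x := by
    rcases S.hFc h₁ with hc | ⟨hc, -⟩
    · exact absurd hc hh₁F
    · exact hc
  have hcC : ∀ x ∈ cj h F, ∀ y ∈ F, x * y = y * x := by
    rcases S.hFc h with hc | ⟨hc, -⟩
    · exact absurd hc hne1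
    · exact hc
  have hBC : ∀ x ∈ cj h F, ∀ y ∈ cj h₁ F, x * y = y * x := by
    have hne3 : cj (h₁⁻¹ * h) F ≠ F := by
      intro e
      apply hne2
      have e' : cj h F = cj h₁ (cj (h₁⁻¹ * h) F) := by
        rw [← cj_mul]
        congr 1
        group
      rw [e', e]
    rcases S.hFc (h₁⁻¹ * h) with hc | ⟨hc, -⟩
    · exact absurd hc hne3
    · intro x hx y hy
      have hx' : h₁⁻¹ * x * h₁ ∈ cj (h₁⁻¹ * h) F := by
        rw [mem_cj] at hx ⊢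
        have e : (h₁⁻¹ * h)⁻¹ * (h₁⁻¹ * x * h₁) * (h₁⁻¹ * h) = h⁻¹ * x * h := by group
        rw [e]
        exact hx
      have hy' : h₁⁻¹ * y * h₁ ∈ F := mem_cj.mp hy
      have h3 := hc _ hx' _ hy'
      calc x * y = h₁ * ((h₁⁻¹ * x * h₁) * (h₁⁻¹ * y * h₁)) * h₁⁻¹ := by group
        _ = h₁ * ((h₁⁻¹ * y * h₁) * (h₁⁻¹ * x * h₁)) * h₁⁻¹ := by rw [h3]
        _ = y * x := by group
  obtain ⟨a₁, ha₁, a₂, ha₂, hne⟩ := S.hFna
  obtain ⟨b, hb, hab⟩ := S.pair hD1 hh₁ ha₁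
  obtain ⟨c, hc, hac⟩ := S.pair hD1 hh ha₂
  have hb2 : b * a₂ = a₂ * b := hcB b hb a₂ ha₂
  have hc1 : c * a₁ = a₁ * c := hcC c hc a₁ ha₁
  have hcb : c * b = b * c := hBC c hc b hb
  have e1 : a₁ * b * (a₂ * c) = a₁ * a₂ * (b * c) := by
    calc a₁ * b * (a₂ * c) = a₁ * (b * a₂) * c := by group
      _ = a₁ * (a₂ * b) * c := by rw [hb2]
      _ = a₁ * a₂ * (b * c) := by group
  have e2 : a₂ * c * (a₁ * b) = a₂ * a₁ * (b * c) := by
    calc a₂ * c * (a₁ * b) = a₂ * (c * a₁) * b := by group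
      _ = a₂ * (a₁ * c) * b := by rw [hc1]
      _ = a₂ * a₁ * (c * b) := by group
      _ = a₂ * a₁ * (b * c) := by rw [hcb]
  have h1 := H.mul_mem (H.mul_mem hab hac) (H.inv_mem (H.mul_mem hac hab))
  rw [e1, e2] at h1
  have e3 : a₁ * a₂ * (b * c) * (a₂ * a₁ * (b * c))⁻¹ = a₁ * a₂ * (a₂ * a₁)⁻¹ := by group
  rw [e3] at h1
  have h2 : a₁ * a₂ * (a₂ * a₁)⁻¹ ∈ F ⊓ H :=
    ⟨F.mul_mem (F.mul_mem ha₁ ha₂) (F.inv_mem (F.mul_mem ha₂ ha₁)), h1⟩
  rw [hFH, mem_bot] at h2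
  apply hne
  calc a₁ * a₂ = a₁ * a₂ * (a₂ * a₁)⁻¹ * (a₂ * a₁) := by group
    _ = a₂ * a₁ := by rw [h2, one_mul]

theorem Setup.caseB [Finite G] [IsSimpleGroup ↥F] (S : Setup H N F) (hne : F ≠ N)
    (hD1 : N ⊓ H ≠ ⊥) : False := by
  obtain ⟨h₁, hh₁, hh₁F⟩ := S.exists_not_norm hne
  have hFH : F ⊓ H = ⊥ := S.F_inf_H hD1 hh₁ hh₁F
  have hBH : cj h₁ F ⊓ H = ⊥ := by
    rw [eq_bot_iff]
    intro x hx
    have h2 : h₁⁻¹ * x * h₁ ∈ F ⊓ H :=
      ⟨mem_cj.mp hx.1, H.mul_mem (H.mul_mem (H.inv_mem hh₁) hx.2) hh₁⟩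
    rw [hFH, mem_bot] at h2
    rw [mem_bot]
    calc x = h₁ * (h₁⁻¹ * x * h₁) * h₁⁻¹ := by group
      _ = 1 := by rw [h2]; group
  obtain ⟨hcB, hdisj⟩ : (∀ x ∈ cj h₁ F, ∀ y ∈ F, x * y = y * x) ∧ cj h₁ F ⊓ F = ⊥ := by
    rcases S.hFc h₁ with hc | hc
    · exact absurd hc hh₁F
    · exact hc
  have hFB : F ≠ cj h₁ F := fun e => hh₁F e.symm
  apply commuting_pair_false (A := F) (B := cj h₁ F) S.hM S.hFna
    (fun a ha b hb => (hcB b hb a ha).symm) (by rw [inf_comm]; exact hdisj) hFH hBH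
    (fun a ha => S.pair hD1 hh₁ ha)
  intro h hh
  have h1 := S.two_conj hD1 hh₁ hh₁F hh
  have h2 : cj h (cj h₁ F) = F ∨ cj h (cj h₁ F) = cj h₁ F := by
    rw [← cj_mul]
    exact S.two_conj hD1 hh₁ hh₁F (H.mul_mem hh hh₁)
  have hinjne : cj h F ≠ cj h (cj h₁ F) := fun e => hFB (cj_injective e)
  rcases h1 with h1 | h1
  · have h2' : cj h (cj h₁ F) = cj h₁ F := by
      rcases h2 with h2 | h2
      · exfalso
        apply hinjne
        rw [h1, h2]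
      · exact h2
    left
    constructor
    · intro a ha
      have := conj_mem_cj (g := h) ha
      rwa [h1] at this
    · intro b hb
      have := conj_mem_cj (g := h) hb
      rwa [h2'] at this
  · have h2' : cj h (cj h₁ F) = F := by
      rcases h2 with h2 | h2
      · exact h2
      · exfalso
        apply hinjne
        rw [h1, h2]
    right
    constructor
    · intro a ha
      have := conj_mem_cj (g := h) ha
      rwa [h1] at this
    · intro b hb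
      have := conj_mem_cj (g := h) hb
      rwa [h2'] at this

theorem Setup.F_eq_N [Finite G] [IsSimpleGroup ↥F] (S : Setup H N F) : F = N := by
  by_contra hne
  by_cases hD : N ⊓ H = ⊥
  · exact S.caseA hne hD
  · exact S.caseB hne hD

theorem centralizer_eq_bot [Finite G] {H N : Subgroup G} (hco : IsCoatom H)
    (hcore : H.normalCore = ⊥) (hM : ∀ g : G, g ∉ H → MaxIn (H ⊓ cj g H) H)
    (hN : N.Normal) (hN1 : N ≠ ⊥)
    (hmin : ∀ M : Subgroup G, M.Normal → M ≤ N → M = ⊥ ∨ M = N) [IsSimpleGroup ↥N]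
    (hNna : ∃ a ∈ N, ∃ b ∈ N, a * b ≠ b * a) : centralizer (N : Set G) = ⊥ := by
  by_contra hB1
  have := hN
  have hBn : (centralizer (N : Set G)).Normal := inferInstance
  have hcomm : ∀ a ∈ N, ∀ b ∈ centralizer (N : Set G), a * b = b * a := by
    intro a ha b hb
    exact mem_centralizer_iff.mp hb a ha
  have hAB : N ⊓ centralizer (N : Set G) = ⊥ := by
    have hn : (N ⊓ centralizer (N : Set G)).Normal := inferInstance
    rcases hmin _ hn inf_le_left with h | h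
    · exact h
    · exfalso
      obtain ⟨a, ha, b, hb, hab⟩ := hNna
      have hb' : b ∈ centralizer (N : Set G) := by
        have hb2 : b ∈ N ⊓ centralizer (N : Set G) := by
          rw [h]
          exact hb
        exact hb2.2
      exact hab (hcomm a ha b hb')
  have hAH : N ⊓ H = ⊥ := inf_eq_bot_of_commute hco hcore hN hBn hB1 hcomm
  have hBH : centralizer (N : Set G) ⊓ H = ⊥ :=
    inf_eq_bot_of_commute hco hcore hBn hN hN1 (fun b hb a ha => (hcomm a ha b hb).symm)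
  apply commuting_pair_false (A := N) (B := centralizer (N : Set G)) hM hNna hcomm hAB hAH hBH
  · intro a ha
    obtain ⟨b, hb, h, hh, hg⟩ := exists_mul_of_normal hco hcore hBn hB1 a⁻¹
    refine ⟨b, hb, ?_⟩
    have e : a * b = h⁻¹ := by
      calc a * b = (a⁻¹)⁻¹ * b := by rw [inv_inv]
        _ = (b * h)⁻¹ * b := by rw [hg]
        _ = h⁻¹ := by group
    rw [e]
    exact H.inv_mem hh
  · intro h _
    left
    exact ⟨fun a ha => hN.conj_mem a ha h, fun b hb => hBn.conj_mem b hb h⟩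

/-- **Theorem PG.** -/
theorem main [Finite G] {H : Subgroup G} (hco : IsCoatom H) (hcore : H.normalCore = ⊥)
    (hM : ∀ g : G, g ∉ H → MaxIn (H ⊓ cj g H) H) :
    (∃ N : Subgroup G, N.Normal ∧ N ≠ ⊥ ∧ (∀ a ∈ N, ∀ b ∈ N, a * b = b * a) ∧
      ∀ g : G, N ⊓ cj g H = ⊥) ∨
    (∃ N : Subgroup G, N.Normal ∧ IsSimpleGroup ↥N ∧ (∃ a ∈ N, ∃ b ∈ N, a * b ≠ b * a) ∧
      centralizer (N : Set G) = ⊥) := by
  have hnt : Nontrivial G := by
    by_contra hnt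
    rw [not_nontrivial_iff_subsingleton] at hnt
    exact hco.1 (Subsingleton.elim _ _)
  obtain ⟨N, hN, hN1, hmin⟩ := exists_minimal_normal (G := G)
  by_cases hab : ∀ a ∈ N, ∀ b ∈ N, a * b = b * a
  · left
    exact ⟨N, hN, hN1, hab, fun g => abelian_case hco hcore hN hN1 hab g⟩
  · right
    have hNna : ∃ a ∈ N, ∃ b ∈ N, a * b ≠ b * a := by
      by_contra hcon
      apply hab
      intro a ha b hb
      by_contra hne
      exact hcon ⟨a, ha, b, hb, hne⟩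
    have := hN
    obtain ⟨T, _, m, hTs, hm, ⟨e⟩⟩ := Cfsg.Agent.S0721.result N hN1 hmin
    have := hTs
    have hT : ¬ IsMulCommutative T := by
      intro hc
      obtain ⟨a, ha, b, hb, hne⟩ := hNna
      apply hne
      have h1 : e (⟨a, ha⟩ * ⟨b, hb⟩) = e (⟨b, hb⟩ * ⟨a, ha⟩) := by
        rw [map_mul, map_mul]
        funext i
        show e ⟨a, ha⟩ i * e ⟨b, hb⟩ i = e ⟨b, hb⟩ i * e ⟨a, ha⟩ i
        exact hc.is_comm.comm _ _
      exact congrArg Subtype.val (e.injective h1)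
    obtain ⟨F, hFN, hFs, hFna, hFnorm, hFc⟩ := exists_factor hT hm e
    have := hFs
    have hF1 : F ≠ ⊥ := by
      intro h
      obtain ⟨a, ha, b, hb, hne⟩ := hFna
      rw [h, mem_bot] at ha hb
      rw [ha, hb] at hne
      exact hne rfl
    have S : Setup H N F :=
      ⟨hco, hcore, hM, hN, hN1, hmin, hNna, hFN, hF1, hFna, hFnorm, hFc⟩
    have hFeq : F = N := S.F_eq_N
    subst hFeq
    exact ⟨F, hN, hFs, hNna, centralizer_eq_bot hco hcore hM hN hN1 hmin hNna⟩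

end Cfsg.Agent.Lib.Helper21.ExtPrimU
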