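import Mathlib
import Cfsg.Agent.Lib.Helper21.WeakL12

/-!
# S2054 piece [A] (helper21): Coxeter lifts for a kernel of odd prime-power order
-/

set_option autoImplicit false

namespace Cfsg.Agent.Lib.Helper5.Fi23M

universe u v

/-- [A] involutions `g i` of `G` have involution lifts, and every relation `(g i * g j) ^ m = 1` lifts exactly:
`κ = (x y) ^ m` is central and inverted by `x`, so `κ ^ 2 = 1`, so `κ = 1` in a `p`-group with `p` odd. -/
theorem exists_cox_lifts {Γ : Type u} {G : Type v} [Group Γ] [Finite Γ] [Group G] (σ : Γ →* G)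
    (hs : Function.Surjective σ) (hc : σ.ker ≤ Subgroup.center Γ) {p : ℕ} [Fact p.Prime] (hp2 : p ≠ 2)
    (hk : IsPGroup p σ.ker) (g : ℕ → G) (hg2 : ∀ i, g i ^ 2 = 1) :
    ∃ γh : ℕ → Γ, (∀ i, σ (γh i) = g i) ∧ (∀ i, γh i ^ 2 = 1) ∧
      ∀ i j m : ℕ, (g i * g j) ^ m = 1 → (γh i * γh j) ^ m = 1 := by
  have hp : p.Prime := Fact.out
  have hcop : Nat.Coprime 2 p := (Nat.coprime_primes Nat.prime_two hp).mpr (Ne.symm hp2)
  have hex : ∀ i, ∃ y : Γ, σ y = g i ∧ y ^ 2 = 1 := fun i =>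
    Cfsg.Agent.Lib.Helper10.Weak.exists_lift_pow_eq_one σ hs hk (g i) hcop (hg2 i)
  choose γh h1 h2 using hex
  refine ⟨γh, h1, h2, ?_⟩
  intro i j m hm
  have hx : γh i * γh i = 1 := by rw [← pow_two]; exact h2 i
  have hy : γh j * γh j = 1 := by rw [← pow_two]; exact h2 j
  have hκker : (γh i * γh j) ^ m ∈ σ.ker := by
    rw [MonoidHom.mem_ker, map_pow, map_mul, h1, h1, hm]
  have hκc := Subgroup.mem_center_iff.mp (hc hκker)
  have hxinv : (γh i)⁻¹ = γh i := inv_eq_of_mul_eq_one_left hx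
  have hyinv : (γh j)⁻¹ = γh j := inv_eq_of_mul_eq_one_left hy
  have hconj : γh i * (γh i * γh j) * (γh i)⁻¹ = (γh i * γh j)⁻¹ := by
    rw [mul_inv_rev, hxinv, hyinv, ← mul_assoc, hx, one_mul]
  have h3 : γh i * (γh i * γh j) ^ m * (γh i)⁻¹ = ((γh i * γh j) ^ m)⁻¹ := by
    rw [← conj_pow, hconj, inv_pow]
  have h4 : γh i * (γh i * γh j) ^ m * (γh i)⁻¹ = (γh i * γh j) ^ m := by
    rw [hκc (γh i), mul_assoc, mul_inv_cancel, mul_one]
  have h5 : ((γh i * γh j) ^ m) ^ 2 = 1 := by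
    rw [pow_two]
    exact mul_eq_one_iff_eq_inv.mpr (h4.symm.trans h3)
  obtain ⟨k, hk1⟩ := hk ⟨(γh i * γh j) ^ m, hκker⟩
  have hk2 : ((γh i * γh j) ^ m) ^ (p ^ k) = 1 := by
    have h6 := congrArg Subtype.val hk1
    simpa using h6
  have hg := pow_gcd_eq_one.mpr ⟨h5, hk2⟩
  rw [Nat.Coprime.gcd_eq_one (Nat.Coprime.pow_right k hcop), pow_one] at hg
  exact hg

end Cfsg.Agent.Lib.Helper5.Fi23M
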