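import Mathlib

/-!
# S2054 piece [B] (helper21): the central power of a Coxeter element of `E₇` squares to `1`
-/

set_option autoImplicit false

namespace Cfsg.Agent.Lib.Helper5.Fi23M

universe u

/-- [B] `w = a b c d e f h` (diagram `a - b - c - d - e - f`, `d - h`) is conjugate to `U V`, `U = e h c a`,
`V = d b f` products of commuting involutions; `U` inverts `U V`, so a central power of `w` is its own inverse. -/
theorem e7_central_pow_sq {Γ : Type u} [Group Γ] (a b c d e f h : Γ)
    (ha : a * a = 1) (hb : b * b = 1) (hc' : c * c = 1) (hd : d * d = 1) (he : e * e = 1) (hf : f * f = 1)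
    (hh : h * h = 1)
    (ac : a * c = c * a) (ad : a * d = d * a) (ae : a * e = e * a) (af : a * f = f * a) (ah : a * h = h * a)
    (bd : b * d = d * b) (be : b * e = e * b) (bf : b * f = f * b) (bh : b * h = h * b)
    (ce : c * e = e * c) (cf : c * f = f * c) (ch : c * h = h * c)
    (df : d * f = f * d) (eh : e * h = h * e) (fh : f * h = h * f) (n : ℕ)
    (hcen : ∀ x : Γ, x * (a * b * c * d * e * f * h) ^ n = (a * b * c * d * e * f * h) ^ n * x) :
    ((a * b * c * d * e * f * h) ^ n) ^ 2 = 1 := by
  obtain ⟨W, hW⟩ : ∃ W, W = (a * b * c * d * e * f * h) ^ n := ⟨_, rfl⟩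
  rw [← hW] at hcen ⊢
  have hconj : ∀ g v : Γ, v ^ n = W → (g * v * g⁻¹) ^ n = W := by
    intro g v hv
    rw [conj_pow, hv, hcen g, mul_assoc, mul_inv_cancel, mul_one]
  -- rotate `h`, `f`, `e` to the front
  have s1 : (h * (a * b * c * d * e * f)) ^ n = W := by
    have h0 := hconj h _ hW.symm
    have e1 : h * (a * b * c * d * e * f * h) * h⁻¹ = h * (a * b * c * d * e * f) := by group
    rwa [e1] at h0
  have s2 : (f * (h * (a * b * c * d * e))) ^ n = W := by
    have h0 := hconj f _ s1
    have e1 : f * (h * (a * b * c * d * e * f)) * f⁻¹ = f * (h * (a * b * c * d * e)) := by group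
    rwa [e1] at h0
  have s3 : (e * (f * (h * (a * b * c * d)))) ^ n = W := by
    have h0 := hconj e _ s2
    have e1 : e * (f * (h * (a * b * c * d * e))) * e⁻¹ = e * (f * (h * (a * b * c * d))) := by group
    rwa [e1] at h0
  -- move `a` to the front and conjugate it to the end
  have cae : Commute a e := ae
  have caf : Commute a f := af
  have cah : Commute a h := ah
  have ca : Commute a (e * f * h) := (cae.mul_right caf).mul_right cah
  have s4 : ((e * f * h) * (b * c * d) * a) ^ n = W := by
    have e0 : e * (f * (h * (a * b * c * d))) = a * ((e * f * h) * (b * c * d)) := by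
      have t1 : e * (f * (h * (a * b * c * d))) = (e * f * h) * a * (b * c * d) := by
        simp only [mul_assoc]
      rw [t1, ← ca.eq]
      simp only [mul_assoc]
    rw [e0] at s3
    have h0 := hconj a⁻¹ _ s3
    have e1 : a⁻¹ * (a * ((e * f * h) * (b * c * d))) * a⁻¹⁻¹ = (e * f * h) * (b * c * d) * a := by
      group
    rwa [e1] at h0
  -- the same for `b`
  have cbe : Commute b e := be
  have cbf : Commute b f := bf
  have cbh : Commute b h := bh
  have cb : Commute b (e * f * h) := (cbe.mul_right cbf).mul_right cbh
  have s5 : ((e * f * h) * (c * d * a) * b) ^ n = W := by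
    have e0 : (e * f * h) * (b * c * d) * a = b * ((e * f * h) * (c * d * a)) := by
      have t1 : (e * f * h) * (b * c * d) * a = (e * f * h) * b * (c * d * a) := by
        simp only [mul_assoc]
      rw [t1, ← cb.eq]
      simp only [mul_assoc]
    rw [e0] at s4
    have h0 := hconj b⁻¹ _ s4
    have e1 : b⁻¹ * (b * ((e * f * h) * (c * d * a))) * b⁻¹⁻¹ = (e * f * h) * (c * d * a) * b := by
      group
    rwa [e1] at h0
  -- `e f h c d a b = (e h c a) (d b f)`
  have cfh : Commute f h := fh
  have cfc : Commute f c := (show Commute c f from cf).symm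
  have cfd : Commute f d := (show Commute d f from df).symm
  have cfa : Commute f a := caf.symm
  have cfb : Commute f b := cbf.symm
  have cfall : Commute f (h * c * d * a * b) :=
    (((cfh.mul_right cfc).mul_right cfd).mul_right cfa).mul_right cfb
  have e5 : (e * f * h) * (c * d * a) * b = (e * h * c * a) * (d * b * f) := by
    have t1 : (e * f * h) * (c * d * a) * b = e * (f * (h * c * d * a * b)) := by
      simp only [mul_assoc]
    have t2 : e * ((h * c * d * a * b) * f) = e * h * c * (d * a) * b * f := by
      simp only [mul_assoc]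
    have t3 : e * h * c * (a * d) * b * f = (e * h * c * a) * (d * b * f) := by
      simp only [mul_assoc]
    rw [t1, cfall.eq, t2, ← ad, t3]
  rw [e5] at s5
  -- `U = e h c a` and `V = d b f` are involutions
  have ceh : Commute e h := eh
  have cec : Commute e c := (show Commute c e from ce).symm
  have chc : Commute h c := (show Commute c h from ch).symm
  have cea : Commute e a := cae.symm
  have cha : Commute h a := cah.symm
  have cca : Commute c a := (show Commute a c from ac).symm
  have hU : (e * h * c * a) * (e * h * c * a) = 1 := by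
    have c2 : Commute (e * h) c := cec.mul_left chc
    have c3 : Commute (e * h * c) a := (cea.mul_left cha).mul_left cca
    rw [← pow_two, c3.mul_pow, c2.mul_pow, ceh.mul_pow, pow_two, pow_two, pow_two, pow_two,
      he, hh, hc', ha, one_mul, one_mul, one_mul]
  have cdb : Commute d b := (show Commute b d from bd).symm
  have cdf : Commute d f := df
  have hV : (d * b * f) * (d * b * f) = 1 := by
    have c2 : Commute (d * b) f := cdf.mul_left cbf
    rw [← pow_two, c2.mul_pow, cdb.mul_pow, pow_two, pow_two, pow_two, hd, hb, hf, one_mul, one_mul]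
  have key : ∀ U V : Γ, U * U = 1 → V * V = 1 → U * (U * V) * U⁻¹ = (U * V)⁻¹ := by
    intro U V hU' hV'
    have hUinv : U⁻¹ = U := inv_eq_of_mul_eq_one_left hU'
    have hVinv : V⁻¹ = V := inv_eq_of_mul_eq_one_left hV'
    rw [mul_inv_rev, hUinv, hVinv, ← mul_assoc, hU', one_mul]
  have hc1 := key _ _ hU hV
  have h3 : (e * h * c * a) * W * (e * h * c * a)⁻¹ = W⁻¹ := by
    rw [← s5, ← conj_pow, hc1, inv_pow]
  have h4 : (e * h * c * a) * W * (e * h * c * a)⁻¹ = W := by
    rw [hcen (e * h * c * a), mul_assoc, mul_inv_cancel, mul_one]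
  rw [pow_two]
  exact mul_eq_one_iff_eq_inv.mpr (h4.symm.trans h3)

end Cfsg.Agent.Lib.Helper5.Fi23M
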