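import Mathlib
import Cfsg.Agent.Lib.Helper4.TC.Cover
import Cfsg.Prelude.Def_SporadicB

/-!
S2054-[C2] (architect helper5), generic part: a non-split double cover of a perfect group is perfect;
a simple group whose order is not a prime is perfect.
-/

set_option autoImplicit false

namespace Cfsg.Agent.Lib.Helper5.Fi23M
namespace Helper21C2

open scoped Pointwise commutatorElement

/-- a non-split double cover of a perfect group is perfect -/
theorem commutator_eq_top_of_cover {H Q : Type*} [Group H] [Group Q]
    (hcov : Cfsg.IsNonsplitDoubleCover H Q) (hQ : commutator Q = ⊤) : commutator H = ⊤ := by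
  obtain ⟨hZ2, ⟨e⟩, hns⟩ := hcov
  have hq : commutator (H ⧸ Subgroup.center H) = ⊤ := by
    have h3 : (commutator Q).map e.symm.toMonoidHom = commutator (H ⧸ Subgroup.center H) := by
      rw [commutator_def, commutator_def, Subgroup.map_commutator,
        Subgroup.map_top_of_surjective _ e.symm.surjective]
    rw [← h3, hQ, Subgroup.map_top_of_surjective _ e.symm.surjective]
  have h4 : (commutator H).map (QuotientGroup.mk' (Subgroup.center H)) = ⊤ := by
    rw [commutator_def, Subgroup.map_commutator,
      Subgroup.map_top_of_surjective _ (QuotientGroup.mk'_surjective _), ← commutator_def, hq]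
  have h1 : commutator H ⊔ Subgroup.center H = ⊤ := by
    have h5 := Subgroup.comap_map_eq (QuotientGroup.mk' (Subgroup.center H)) (commutator H)
    rw [h4, Subgroup.comap_top, QuotientGroup.ker_mk'] at h5
    exact h5.symm
  by_contra hD
  have hnle : ¬ Subgroup.center H ≤ commutator H := by
    intro hle
    exact hD (by rw [← h1]; exact (sup_eq_left.mpr hle).symm)
  have hprime : Fact (Nat.card (Subgroup.center H)).Prime := ⟨by rw [hZ2]; exact Nat.prime_two⟩
  have hdisj : Disjoint (Subgroup.center H) (commutator H) := by
    rcases Subgroup.eq_bot_or_eq_top_of_prime_card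
      ((Subgroup.center H ⊓ commutator H).subgroupOf (Subgroup.center H)) with h | h
    · rw [Subgroup.subgroupOf_eq_bot] at h
      have h6 := h.eq_bot_of_le inf_le_left
      exact disjoint_iff.mpr h6
    · rw [Subgroup.subgroupOf_eq_top] at h
      exact absurd (h.trans inf_le_right) hnle
  have hmul : ((Subgroup.center H : Subgroup H) : Set H) * (commutator H : Set H) = Set.univ := by
    rw [← Subgroup.normal_mul, sup_comm, h1, Subgroup.coe_top]
  exact hns (commutator H) (Subgroup.isComplement'_of_disjoint_and_mul_eq_univ hdisj hmul)

/-- a simple group whose order is not a prime is perfect -/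
theorem commutator_eq_top_of_simple {K : Type*} [Group K] [IsSimpleGroup K]
    (h : ¬ (Nat.card K).Prime) : commutator K = ⊤ := by
  obtain ⟨a, b, hab⟩ := Cfsg.Agent.Helper4.TC.not_comm_of_simple_of_not_prime (K := K) h
  rcases IsSimpleGroup.eq_bot_or_eq_top_of_normal (commutator K) inferInstance with h0 | h0
  · exfalso
    apply hab
    have hmem : ⁅a, b⁆ ∈ commutator K := by
      rw [commutator_def]
      exact Subgroup.commutator_mem_commutator (Subgroup.mem_top a) (Subgroup.mem_top b)
    rw [h0, Subgroup.mem_bot, commutatorElement_eq_one_iff_mul_comm] at hmem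
    exact hmem
  · exact h0

end Helper21C2
end Cfsg.Agent.Lib.Helper5.Fi23M
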