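import Mathlib
import Cfsg.Agent.Lib.Helper4.TC.Fi23CMain
import Cfsg.Agent.Lib.Helper23.Fi23MC1
import Cfsg.Agent.Lib.Helper21.Fi23MC2G
import Cfsg.Prelude.Def_Spor_Fi22
import Cfsg.Prelude.Def_Spor_Fi23

/-!
S2054-[C2] (architect helper5): the primes `2` and `5` for the Schur multiplier of `Fi23`, from
`M(Fi22) = C6` and helper4's `⟨a, …, i⟩ = 2·Fi22` of index `31671` in `Fi23`, by helper23's [C1].
-/

set_option autoImplicit false

namespace Cfsg.Agent.Lib.Helper5.Fi23M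

open Cfsg

/-- [C2] -/
theorem card_ker_eq_one_of_Fi22 (hFi22 : Cfsg.HasCyclicSchurMultiplier Cfsg.Spor.Fi22 6)
    (p : ℕ) [Fact p.Prime] (hp : p = 2 ∨ p = 5)
    {Γ : Type} [Group Γ] [Finite Γ] (σ : Γ →* Cfsg.Spor.Fi23) (hσ : Cfsg.IsStemExtension σ)
    (hk : IsPGroup p σ.ker) : Nat.card σ.ker = 1 := by
  have hcov := Cfsg.Agent.Helper4.TC.Fi23C.main
  have hidx := Cfsg.Agent.Helper4.TC.Fi23Fi22.main.1
  have hsimp : IsSimpleGroup Cfsg.Spor.Fi22 := Cfsg.Agent.Helper4.TC.Fi22S.main.1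
  have hcard : Nat.card Cfsg.Spor.Fi22 = 64561751654400 := Cfsg.Agent.Helper4.TC.Fi22S.main.2
  have hQperf : commutator Cfsg.Spor.Fi22 = ⊤ :=
    Helper21C2.commutator_eq_top_of_simple (by rw [hcard]; norm_num)
  have hHperf := Helper21C2.commutator_eq_top_of_cover hcov hQperf
  refine card_ker_eq_one_of_double_cover _ hcov hHperf hFi22 p hp (by rw [hidx]; norm_num) ?_ σ hσ hk
  rw [hidx]
  rcases hp with rfl | rfl <;> norm_num

end Cfsg.Agent.Lib.Helper5.Fi23M
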