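import Mathlib
import Cfsg.Agent.Lib.Helper21.FrobeniusCount

set_option autoImplicit false

namespace Cfsg.Agent.Lib.Helper21

open Finset

universe u

/-- gcd form of Frobenius' theorem -/
theorem frobenius_gcd_dvd {G : Type u} [Group G] [Finite G] (k : ℕ) :
    Nat.gcd k (Nat.card G) ∣ Nat.card {g : G // g ^ k = 1} := by
  have h := frobenius_dvd_card_pow_eq_one (G := G) (Nat.gcd k (Nat.card G)) (Nat.gcd_dvd_right _ _)
  have hequiv : Nat.card {g : G // g ^ Nat.gcd k (Nat.card G) = 1} = Nat.card {g : G // g ^ k = 1} := by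
    apply Nat.card_congr
    apply Equiv.subtypeEquivRight
    intro g
    exact pow_gcd_card_eq_one_iff' k g
  rwa [hequiv] at h

theorem card_pow_eq_one_commute {G : Type u} [Group G] [Fintype G] [DecidableEq G] (y : G) (k : ℕ) :
    #{z : G | z ^ k = 1 ∧ z * y = y * z} =
      Nat.card {c : Subgroup.centralizer ({y} : Set G) // c ^ k = 1} := by
  classical
  have hmemC : ∀ z : G, z ∈ Subgroup.centralizer ({y} : Set G) ↔ z * y = y * z := by
    intro z
    rw [Subgroup.mem_centralizer_iff]
    constructor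
    · intro h; exact (h y rfl).symm
    · intro h w hw
      rw [Set.mem_singleton_iff] at hw
      rw [hw]; exact h.symm
  rw [Nat.card_eq_fintype_card, Fintype.card_subtype]
  symm
  apply Finset.card_bij (fun c _ => c.1)
  · intro c hc
    simp only [mem_filter, mem_univ, true_and] at hc ⊢
    refine ⟨?_, ?_⟩
    · have := congrArg Subtype.val hc
      simpa using this
    · exact (hmemC c.1).mp c.2
  · intro c1 _ c2 _ h
    exact Subtype.ext h
  · intro z hz
    simp only [mem_filter, mem_univ, true_and] at hz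
    have hzC : z ∈ Subgroup.centralizer ({y} : Set G) := (hmemC z).mpr hz.2
    refine ⟨⟨z, hzC⟩, ?_, rfl⟩
    simp only [mem_filter, mem_univ, true_and]
    apply Subtype.ext
    simp only [SubgroupClass.coe_pow, Subgroup.coe_one]
    exact hz.1

/-- `k ∣ [G : C(y)] * #{z ∈ C(y) | z ^ k = 1}` whenever `k ∣ |G|`. -/
theorem dvd_index_mul_card_pow_eq_one {G : Type u} [Group G] [Fintype G] [DecidableEq G] (y : G)
    (k : ℕ) (hk : k ∣ Nat.card G) :
    k ∣ (Subgroup.centralizer ({y} : Set G)).index * #{z : G | z ^ k = 1 ∧ z * y = y * z} := by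
  rw [card_pow_eq_one_commute]
  have h1 := frobenius_gcd_dvd (G := Subgroup.centralizer ({y} : Set G)) k
  have h2 : k ∣ (Subgroup.centralizer ({y} : Set G)).index *
      Nat.gcd k (Nat.card (Subgroup.centralizer ({y} : Set G))) := by
    rw [← Nat.gcd_mul_left]
    refine Nat.dvd_gcd (dvd_mul_left _ _) ?_
    rw [Subgroup.index_mul_card]
    exact hk
  exact h2.trans (Nat.mul_dvd_mul_left _ h1)

/-- the part of `N` prime to `n` -/
theorem coprime_div_gcd_pow (N n : ℕ) (hN : 0 < N) (hn : 0 < n) :
    Nat.Coprime (N / Nat.gcd N (n ^ N)) n := by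
  rw [Nat.coprime_iff_gcd_eq_one]
  by_contra hne
  obtain ⟨r, hr, hrd⟩ := Nat.exists_prime_and_dvd hne
  have hr1 : r ∣ N / Nat.gcd N (n ^ N) := hrd.trans (Nat.gcd_dvd_left _ _)
  have hr2 : r ∣ n := hrd.trans (Nat.gcd_dvd_right _ _)
  have hN0 : N ≠ 0 := by omega
  have hn0 : n ≠ 0 := by omega
  have hpow0 : n ^ N ≠ 0 := pow_ne_zero _ hn0
  have hk0 : N / Nat.gcd N (n ^ N) ≠ 0 := by
    intro h
    rw [h] at hr1
    have := Nat.div_mul_cancel (Nat.gcd_dvd_left N (n ^ N))
    rw [h, zero_mul] at this
    omega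
  have h1 : 1 ≤ (N / Nat.gcd N (n ^ N)).factorization r :=
    (hr.dvd_iff_one_le_factorization hk0).mp hr1
  have h2 : (N / Nat.gcd N (n ^ N)).factorization r =
      N.factorization r - (Nat.gcd N (n ^ N)).factorization r := by
    rw [Nat.factorization_div (Nat.gcd_dvd_left N (n ^ N))]; rfl
  have h3 : (Nat.gcd N (n ^ N)).factorization r = min (N.factorization r) ((n ^ N).factorization r) := by
    rw [Nat.factorization_gcd hN0 hpow0]; rfl
  have h4 : (n ^ N).factorization r = N * n.factorization r := by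
    rw [Nat.factorization_pow]; rfl
  have h5 : 1 ≤ n.factorization r := (hr.dvd_iff_one_le_factorization hn0).mp hr2
  have h6 : N.factorization r < N := Nat.factorization_lt r hN0
  have h7 : N ≤ N * n.factorization r := Nat.le_mul_of_pos_right _ h5
  rw [h4] at h3
  rw [min_eq_left (by omega)] at h3
  omega

/-- Number of elements whose order is divisible by `n` -/
theorem dvd_card_orderOf_dvd {G : Type u} [Group G] [Finite G] (n : ℕ) (hn : 0 < n) :
    (Nat.card G / Nat.gcd (Nat.card G) (n ^ Nat.card G)) ∣ Nat.card {g : G // n ∣ orderOf g} := by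
  classical
  haveI : Fintype G := Fintype.ofFinite G
  set N := Nat.card G with hN
  have hNpos : 0 < N := Nat.card_pos
  set e := Nat.gcd N (n ^ N) with he
  set k := N / e with hk
  have hek : e * k = N := Nat.mul_div_cancel' (Nat.gcd_dvd_left _ _)
  have hkn : Nat.Coprime k n := coprime_div_gcd_pow N n hNpos hn
  have hcop : Nat.Coprime e k := by
    have h1 : Nat.Coprime k (n ^ N) := Nat.Coprime.pow_right _ hkn
    exact (Nat.Coprime.coprime_dvd_right (Nat.gcd_dvd_right _ _) h1).symm
  obtain ⟨u, hu1, hu0⟩ := Nat.chineseRemainder hcop 1 0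
  have hu0' : k ∣ u := (Nat.modEq_zero_iff_dvd).mp hu0
  have hue : Nat.Coprime u e := by
    have := hu1.gcd_eq
    rw [Nat.gcd_one_left] at this
    exact this
  have hset : (univ.filter (fun x : G => n ∣ orderOf x)) =
      univ.filter (fun x : G => x ^ (e * k) = 1 ∧ ((x ^ u) ^ e = 1 ∧ n ∣ orderOf (x ^ u))) := by
    ext x
    simp only [mem_filter, mem_univ, true_and]
    have hx1 : x ^ (e * k) = 1 := by rw [hek, hN]; exact pow_card_eq_one'
    have hx2 : (x ^ u) ^ e = 1 := by
      obtain ⟨c, rfl⟩ := hu0'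
      rw [← pow_mul, mul_comm k c, mul_assoc, mul_comm k e, mul_comm c, pow_mul, hx1, one_pow]
    constructor
    · intro h
      refine ⟨hx1, hx2, ?_⟩
      rw [orderOf_pow]
      set o := orderOf x with ho
      set g := Nat.gcd o u with hg
      have hgo : g ∣ o := Nat.gcd_dvd_left _ _
      have hgu : g ∣ u := Nat.gcd_dvd_right _ _
      have hoN : o ∣ e * k := orderOf_dvd_of_pow_eq_one hx1
      have hge : Nat.Coprime g e := Nat.Coprime.coprime_dvd_left hgu hue
      have hgk : g ∣ k := (Nat.Coprime.dvd_mul_left hge).mp (hgo.trans hoN)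
      have hgn : Nat.Coprime g n := Nat.Coprime.coprime_dvd_left hgk hkn
      obtain ⟨o', ho'⟩ := hgo
      have hgpos : 0 < g := by
        rcases Nat.eq_zero_or_pos g with h0 | h0
        · rw [h0, zero_mul] at ho'
          have := orderOf_pos x
          omega
        · exact h0
      rw [ho', Nat.mul_div_cancel_left _ hgpos]
      rw [ho'] at h
      exact (Nat.Coprime.dvd_mul_left hgn.symm).mp h
    · rintro ⟨_, _, h⟩
      exact h.trans (orderOf_pow_dvd u)
  rw [Nat.card_eq_fintype_card, Fintype.card_subtype, hset]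
  apply dvd_card_of_split e k u k hu1 hu0' (fun y => y ^ e = 1 ∧ n ∣ orderOf y)
  · intro y hy; exact hy.1
  · intro h y hy
    refine ⟨?_, ?_⟩
    · rw [conj_pow, hy.1]; group
    · have : orderOf (h * y * h⁻¹) = orderOf y := by
        have := (MulAut.conj h).orderOf_eq y
        simpa using this
      rw [this]; exact hy.2
  · intro y _
    apply dvd_index_mul_card_pow_eq_one
    exact ⟨e, by rw [← hN, ← hek, mul_comm]⟩

end Cfsg.Agent.Lib.Helper21
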