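import Mathlib
import Cfsg.Agent.Lib.Helper16.Q8Aut

/-!
Concrete computations in `GL₂(𝔽₃)`, `Q₈` and the dihedral group of order six, used to
recognise `GL₂(𝔽₃)` as `Q₈ ⋊ S₃`.
-/

set_option autoImplicit false

namespace Cfsg.Agent.Lib.Helper21.GL23

open QuaternionGroup DihedralGroup Cfsg.Agent.Lib.Helper16

/-- `GL₂(𝔽₃)` -/
abbrev G23 := GL (Fin 2) (ZMod 3)

/-- the image of the generator `a 1` of `Q₈` -/
def mI : G23 := ⟨!![0,2;1,0], !![0,1;2,0], by decide, by decide⟩
/-- the image of the generator `xa 0` of `Q₈` -/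
def mJ : G23 := ⟨!![1,1;1,2], !![2,2;2,1], by decide, by decide⟩
/-- an element of order three -/
def mC : G23 := ⟨!![1,1;0,1], !![1,2;0,1], by decide, by decide⟩
/-- an involution inverting `mC` -/
def mT : G23 := ⟨!![1,0;0,2], !![1,0;0,2], by decide, by decide⟩

/-- the embedding of `Q₈` in `GL₂(𝔽₃)` -/
def Mfun : Q8 → G23
  | a k => mI ^ k.val
  | xa k => mJ * mI ^ k.val

/-- the embedding of the dihedral group of order six in `GL₂(𝔽₃)` -/
def Dfun : DihedralGroup 3 → G23
  | r i => mC ^ i.val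
  | sr i => mT * mC ^ i.val

/-- the automorphism of order three of `Q₈` induced by `mC` -/
abbrev sig0 : Q8 → Q8 := q8AutFun (xa 0, xa 3)
/-- the involutory automorphism of `Q₈` induced by `mT` -/
abbrev tau0 : Q8 → Q8 := q8AutFun (a 3, xa 1)

set_option maxRecDepth 1000000 in
theorem Mfun_mul : ∀ x y : Q8, Mfun (x * y) = Mfun x * Mfun y := by decide

set_option maxRecDepth 1000000 in
theorem Dfun_mul : ∀ x y : DihedralGroup 3, Dfun (x * y) = Dfun x * Dfun y := by decide

set_option maxRecDepth 1000000 in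
theorem M_sigma : ∀ g : Q8, Mfun (sig0 g) = mC * Mfun g * mC⁻¹ := by decide

set_option maxRecDepth 1000000 in
theorem M_tau : ∀ g : Q8, Mfun (tau0 g) = mT * Mfun g * mT⁻¹ := by decide

set_option maxRecDepth 1000000 in
theorem MD_inj : ∀ (g : Q8) (d : DihedralGroup 3), Mfun g * Dfun d = 1 → g = 1 ∧ d = 1 := by
  decide

set_option maxRecDepth 1000000 in
theorem q8_center : ∀ g : Q8, (∀ h : Q8, g * h = h * g) → g = 1 ∨ g = a 2 := by decide

set_option maxRecDepth 1000000 in
theorem q8_a2_central : ∀ g : Q8, a 2 * g = g * a 2 := by decide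

set_option maxRecDepth 1000000 in
theorem q8_a2_sq : (a 2 : Q8) * a 2 = 1 := by decide

set_option maxRecDepth 1000000 in
theorem q8_a2_ne_one : (a 2 : Q8) ≠ 1 := by decide

set_option maxRecDepth 1000000 in
theorem q8_not_comm : ¬ ∀ g h : Q8, g * h = h * g := by decide

set_option maxRecDepth 1000000 in
theorem sig0_cube : ∀ g : Q8, sig0 (sig0 (sig0 g)) = g := by decide

set_option maxRecDepth 1000000 in
theorem tau_sig_rel : ∀ g : Q8, tau0 (sig0 (tau0 (sig0 g))) = g := by decide

set_option maxRecDepth 1000000 in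
theorem good_sig0 : Q8Good (xa 0, xa 3) := by decide

set_option maxRecDepth 1000000 in
theorem good_tau0 : Q8Good (a 3, xa 1) := by decide

set_option maxRecDepth 1000000 in
theorem q8_normalize_invol : ∀ q : Q8 × Q8, Q8Good q →
    q8AutFun q (q8AutFun q (a 1)) = a 1 → q8AutFun q (q8AutFun q (xa 0)) = xa 0 →
    (∀ g : Q8, ¬ (q.1 = g * a 1 * g⁻¹ ∧ q.2 = g * xa 0 * g⁻¹)) →
    ∃ r : Q8 × Q8, Q8Good r ∧
      ∀ g : Q8, q8AutFun r (q8AutFun q g) = tau0 (q8AutFun r g) := by decide

set_option maxRecDepth 1000000 in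
theorem MD_central : ∀ (g : Q8) (d : DihedralGroup 3),
    (∀ h : Q8, Mfun (g * h * g⁻¹) = Dfun d * Mfun h * (Dfun d)⁻¹) → d = 1 := by decide

theorem card_G23 : Nat.card G23 = 48 := by
  rw [Matrix.card_GL_field]
  simp [Fin.prod_univ_two, ZMod.card]

/-- the embedding of `Q₈` as a homomorphism -/
def Mhom : Q8 →* G23 := MonoidHom.mk' Mfun Mfun_mul

/-- the embedding of the dihedral group as a homomorphism -/
def Dhom : DihedralGroup 3 →* G23 := MonoidHom.mk' Dfun Dfun_mul

theorem Mhom_apply (g : Q8) : Mhom g = Mfun g := rfl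

theorem Dhom_apply (d : DihedralGroup 3) : Dhom d = Dfun d := rfl

end Cfsg.Agent.Lib.Helper21.GL23
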