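import Cfsg.Agent.Lib.Helper29.SpecPerm

/-!
# Base-image exclusion for a certified stabilizer chain (piece S2074-P1 of helper22's Out(Suz) front)

`imgSift` sifts a list of prescribed images of the base points through the chain; an element of the
group with these base images makes it succeed, and the word found is the inverse of the element.
In particular an element of the group is determined by the images of the base points.
-/

set_option autoImplicit false

namespace Cfsg.Agent.Lib.Helper22.SuzOut

open Cfsg.Agent.Lib.Helper28.BSGS

/-- sift a list of prescribed base images through the chain; `ws` accumulates the inverse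
transversal tables (the head is applied last).  `none` = no group element has these base images. -/
def imgSift (w : ℕ) : List CLevel → List ℕ → List ℕ → Option (List ℕ)
  | [], _, ws => some ws
  | _ :: _, [], _ => none
  | lv :: rest, y :: ys, ws =>
      match findE lv.2 (evalW w ws y) with
      | none => none
      | some e => imgSift w rest ys (e.2.2 :: ws)

/-- the generalised induction: `q` is the product of the inverse transversal elements found so far -/
theorem imgSift_aux (n w : ℕ) [NeZero n] : ∀ (levels : List CLevel) (gens : List (ℕ × ℕ)) (ws : List ℕ)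
    (q z : Equiv.Perm (Fin n)) (imgs : List ℕ), LevelsWF n w levels → ActsByW n w q ws →
    Sifts (semLevels n w gens levels) (q * z) →
    List.Forall₂ (fun (lv : CLevel) (y : ℕ) => (z (pt n lv.1)).val = y) levels imgs →
    ∃ ws', imgSift w levels imgs ws = some ws' ∧ ∃ q' : Equiv.Perm (Fin n), ActsByW n w q' ws' ∧ q' * z = 1 := by
  intro levels
  induction levels with
  | nil =>
    intro gens ws q z imgs _ hq hs _
    exact ⟨ws, rfl, q, hq, hs⟩
  | cons lv rest ih =>
    intro gens ws q z imgs hwf hq hs himg
    cases himg with
    | cons hy hrest =>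
      rename_i y ys
      have hlv := hwf lv List.mem_cons_self
      have hwf' : LevelsWF n w rest := fun lv' hlv' => hwf lv' (List.mem_cons_of_mem _ hlv')
      obtain ⟨hmem, hs'⟩ : (q * z) • (pt n lv.1) ∈ (lv.2.map fun e => pt n e.1) ∧
          Sifts (semLevels n w (nextGens w gens lv.1) rest)
            ((semU n w lv.2 ((q * z) • (pt n lv.1)))⁻¹ * (q * z)) := hs
      rw [List.mem_map] at hmem
      obtain ⟨e, he, hept⟩ := hmem
      have he1 : e.1 < n := (hlv.2 e he).1
      -- the number of the image point
      have hval : e.1 = evalW w ws y := by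
        have h1 : ((q * z) • (pt n lv.1)).val = evalW w ws y := by
          rw [Equiv.Perm.smul_def, Equiv.Perm.mul_apply, hq, hy]
        rw [← hept, pt_val n he1] at h1
        exact h1
      obtain ⟨e', hf⟩ := findE_of_mem he
      obtain ⟨he', he'1⟩ := findE_some hf
      have he'2 : pairOK n w e'.2.1 e'.2.2 = true := (hlv.2 e' he').2
      have hu : semU n w lv.2 ((q * z) • (pt n lv.1)) = permOf n w e'.2.1 e'.2.2 := by
        rw [← hept]
        unfold semU
        rw [pt_val n he1, hf]
      rw [hu, ← mul_assoc] at hs'
      have hq' : ActsByW n w ((permOf n w e'.2.1 e'.2.2)⁻¹ * q) (e'.2.2 :: ws) :=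
        actsByW_cons (permOf_inv_apply he'2) hq
      obtain ⟨ws', hws', q', hq'', hq'z⟩ := ih (nextGens w gens lv.1) (e'.2.2 :: ws) _ z ys hwf' hq' hs' hrest
      refine ⟨ws', ?_, q', hq'', hq'z⟩
      show (match findE lv.2 (evalW w ws y) with
        | none => none
        | some e => imgSift w rest ys (e.2.2 :: ws)) = some ws'
      rw [← hval, hf]
      exact hws'

/-- BASE-IMAGE EXCLUSION: an element of the group with prescribed images of the base points makes
`imgSift` succeed, and the resulting word is the inverse of the element. -/
theorem imgSift_sound (n w : ℕ) [NeZero n] (gens : List (ℕ × ℕ)) (levels : List CLevel)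
    (hg : gensOK n w gens = true) (hc : checkChain n w gens levels = true)
    (z : Equiv.Perm (Fin n)) (hz : z ∈ genGroup n w gens) (imgs : List ℕ)
    (himg : List.Forall₂ (fun (lv : CLevel) (y : ℕ) => (z (pt n lv.1)).val = y) levels imgs) :
    ∃ ws, imgSift w levels imgs [] = some ws ∧ ActsByW n w z⁻¹ ws := by
  have hs := Cfsg.Agent.Lib.Helper29.SpecPerm.perm_complete n w gens levels hg hc z hz
  have hs' : Sifts (semLevels n w gens levels) (1 * z) := by rw [one_mul]; exact hs
  obtain ⟨ws, hws, q', hq', hq'z⟩ := imgSift_aux n w levels gens [] 1 z imgs (checkChain_wf n w _ _ hc)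
    (actsByW_one n w) hs' himg
  refine ⟨ws, hws, ?_⟩
  have : q' = z⁻¹ := eq_inv_of_mul_eq_one_left hq'z
  rw [← this]
  exact hq'

theorem forall₂_map_self {α β : Type*} (R : α → β → Prop) (f : α → β) :
    ∀ l : List α, (∀ a ∈ l, R a (f a)) → List.Forall₂ R l (l.map f) := by
  intro l
  induction l with
  | nil => intro _; exact List.Forall₂.nil
  | cons a l ih =>
    intro h
    exact List.Forall₂.cons (h a List.mem_cons_self) (ih fun b hb => h b (List.mem_cons_of_mem _ hb))

/-- two elements of the group with the same images of all base points are equal -/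
theorem eq_of_base_eq (n w : ℕ) [NeZero n] (gens : List (ℕ × ℕ)) (levels : List CLevel)
    (hg : gensOK n w gens = true) (hc : checkChain n w gens levels = true)
    (z z' : Equiv.Perm (Fin n)) (hz : z ∈ genGroup n w gens) (hz' : z' ∈ genGroup n w gens)
    (h : ∀ lv ∈ levels, z (pt n lv.1) = z' (pt n lv.1)) : z = z' := by
  have h1 : List.Forall₂ (fun (lv : CLevel) (y : ℕ) => (z (pt n lv.1)).val = y) levels
      (levels.map fun lv => (z (pt n lv.1)).val) :=
    forall₂_map_self _ _ levels (fun _ _ => rfl)
  have h2 : List.Forall₂ (fun (lv : CLevel) (y : ℕ) => (z' (pt n lv.1)).val = y) levels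
      (levels.map fun lv => (z (pt n lv.1)).val) :=
    forall₂_map_self _ _ levels (fun lv hlv => by rw [h lv hlv])
  obtain ⟨ws, hws, hact⟩ := imgSift_sound n w gens levels hg hc z hz _ h1
  obtain ⟨ws', hws', hact'⟩ := imgSift_sound n w gens levels hg hc z' hz' _ h2
  rw [hws] at hws'
  have hww : ws = ws' := Option.some.inj hws'
  subst hww
  have hinv : z⁻¹ = z'⁻¹ := by
    apply Equiv.ext
    intro a
    apply Fin.ext
    rw [hact a, hact' a]
  exact inv_injective hinv

end Cfsg.Agent.Lib.Helper22.SuzOut
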