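import Cfsg.Agent.Lib.Helper21.ImgSift

/-!
# Primed versions of `imgSift_sound` / `eq_of_base_eq` (S2074-P1, second request of helper22)

The hypotheses are `LevelsWF` and `Sifts` directly, instead of `gensOK` / `checkChain` / membership in
`genGroup`; so they can be used with a chain certified by counting.
-/

set_option autoImplicit false

namespace Cfsg.Agent.Lib.Helper22.SuzOut

open Cfsg.Agent.Lib.Helper28.BSGS

/-- BASE-IMAGE EXCLUSION, `Sifts` version -/
theorem imgSift_sound' (n w : ℕ) [NeZero n] (gens : List (ℕ × ℕ)) (levels : List CLevel)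
    (hwf : LevelsWF n w levels) (z : Equiv.Perm (Fin n))
    (hs : Sifts (semLevels n w gens levels) z) (imgs : List ℕ)
    (himg : List.Forall₂ (fun (lv : CLevel) (y : ℕ) => (z (pt n lv.1)).val = y) levels imgs) :
    ∃ ws, imgSift w levels imgs [] = some ws ∧ ActsByW n w z⁻¹ ws := by
  have hs' : Sifts (semLevels n w gens levels) (1 * z) := by rw [one_mul]; exact hs
  obtain ⟨ws, hws, q', hq', hq'z⟩ := imgSift_aux n w levels gens [] 1 z imgs hwf
    (actsByW_one n w) hs' himg
  refine ⟨ws, hws, ?_⟩
  have : q' = z⁻¹ := eq_inv_of_mul_eq_one_left hq'z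
  rw [← this]
  exact hq'

/-- two sifting elements with the same images of all base points are equal, `Sifts` version -/
theorem eq_of_base_eq' (n w : ℕ) [NeZero n] (gens : List (ℕ × ℕ)) (levels : List CLevel)
    (hwf : LevelsWF n w levels) (z z' : Equiv.Perm (Fin n))
    (hs : Sifts (semLevels n w gens levels) z) (hs' : Sifts (semLevels n w gens levels) z')
    (h : ∀ lv ∈ levels, z (pt n lv.1) = z' (pt n lv.1)) : z = z' := by
  have h1 : List.Forall₂ (fun (lv : CLevel) (y : ℕ) => (z (pt n lv.1)).val = y) levels
      (levels.map fun lv => (z (pt n lv.1)).val) :=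
    forall₂_map_self _ _ levels (fun _ _ => rfl)
  have h2 : List.Forall₂ (fun (lv : CLevel) (y : ℕ) => (z' (pt n lv.1)).val = y) levels
      (levels.map fun lv => (z (pt n lv.1)).val) :=
    forall₂_map_self _ _ levels (fun lv hlv => by rw [h lv hlv])
  obtain ⟨ws, hws, hact⟩ := imgSift_sound' n w gens levels hwf z hs _ h1
  obtain ⟨ws', hws', hact'⟩ := imgSift_sound' n w gens levels hwf z' hs' _ h2
  rw [hws] at hws'
  have hww : ws = ws' := Option.some.inj hws'
  subst hww
  have hinv : z⁻¹ = z'⁻¹ := by
    apply Equiv.ext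
    intro a
    apply Fin.ext
    rw [hact a, hact' a]
  exact inv_injective hinv

end Cfsg.Agent.Lib.Helper22.SuzOut
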