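import Mathlib

set_option autoImplicit false

namespace Cfsg.Agent.Lib.Helper21

open Polynomial

/-- Linear algebra core: an irreducible module for a cyclic group of prime order `p` over `ZMod q`,
with nontrivial action, has dimension the order of `q` modulo `p`. -/
theorem finrank_of_irreducible_prime_order {q p : ℕ} [Fact q.Prime] [Fact p.Prime] (hpq : q ≠ p)
    {V : Type*} [AddCommGroup V] [Module (ZMod q) V] [Finite V] [Nontrivial V]
    (T : V →ₗ[ZMod q] V) (hTp : T ^ p = 1) (hT1 : T ≠ 1)
    (hirr : ∀ W : Submodule (ZMod q) V, (∀ w ∈ W, T w ∈ W) → W = ⊥ ∨ W = ⊤) :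
    Module.finrank (ZMod q) V = orderOf (q : ZMod p) := by
  haveI : Module.Finite (ZMod q) V := Module.Finite.of_finite
  have hint : IsIntegral (ZMod q) T := Algebra.IsIntegral.isIntegral T
  set μ := minpoly (ZMod q) T with hμ
  -- commutation
  have hcomm : ∀ g : (ZMod q)[X], ∀ w : V, aeval T g (T w) = T (aeval T g w) := by
    intro g w
    have h1 : aeval T g * T = T * aeval T g := by
      have : aeval T (g * X) = aeval T (X * g) := by rw [mul_comm]
      rwa [map_mul, map_mul, aeval_X] at this
    have := congrArg (fun f : V →ₗ[ZMod q] V => f w) h1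
    simpa using this
  -- KEY
  have key : ∀ g : (ZMod q)[X], ∀ v : V, v ≠ 0 → aeval T g v = 0 → aeval T g = 0 := by
    intro g v hv hgv
    have hW := hirr (LinearMap.ker (aeval T g)) (by
      intro w hw
      rw [LinearMap.mem_ker] at hw ⊢
      rw [hcomm, hw, map_zero])
    rcases hW with hW | hW
    · exfalso
      apply hv
      have : v ∈ LinearMap.ker (aeval T g) := hgv
      rw [hW] at this
      exact this
    · exact LinearMap.ker_eq_top.mp hW
  -- μ is prime
  have hμprime : Prime μ := by
    refine ⟨minpoly.ne_zero hint, minpoly.not_isUnit (ZMod q) T, ?_⟩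
    intro f g hfg
    have h0 : aeval T (f * g) = 0 := (minpoly.dvd_iff).mp hfg
    rw [map_mul] at h0
    by_cases hg : aeval T g = 0
    · exact Or.inr ((minpoly.dvd_iff).mpr hg)
    · left
      have : ∃ v, aeval T g v ≠ 0 := by
        by_contra hcon
        push Not at hcon
        apply hg
        ext v
        exact hcon v
      obtain ⟨v, hv⟩ := this
      apply (minpoly.dvd_iff).mpr
      apply key f _ hv
      have := congrArg (fun F : V →ₗ[ZMod q] V => F v) h0
      simpa using this
  have hμirr : Irreducible μ := hμprime.irreducible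
  -- μ ∣ X^p - 1
  have hdvd1 : μ ∣ (X ^ p - 1 : (ZMod q)[X]) := by
    apply (minpoly.dvd_iff).mpr
    simp [hTp]
  rw [← cyclotomic_prime_mul_X_sub_one (ZMod q) p] at hdvd1
  have hdvd : μ ∣ cyclotomic p (ZMod q) := by
    rcases hμprime.dvd_or_dvd hdvd1 with h | h
    · exact h
    · exfalso
      apply hT1
      have := (minpoly.dvd_iff).mp h
      simp only [map_sub, aeval_X, map_one] at this
      exact sub_eq_zero.mp this
  -- degree
  have hcopr : q.Coprime p := (Nat.coprime_primes Fact.out Fact.out).mpr hpq
  have hdeg := natDegree_of_dvd_cyclotomic_of_irreducible (K := ZMod q) (p := q) (f := 1) (n := p)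
    (by rw [ZMod.card, pow_one]) hcopr hdvd hμirr
  have hord : orderOf (ZMod.unitOfCoprime (q ^ 1) (hcopr.pow_left 1)) = orderOf (q : ZMod p) := by
    rw [← orderOf_units, ZMod.coe_unitOfCoprime, pow_one]
  rw [hord] at hdeg
  rw [← hdeg]
  apply le_antisymm
  · -- cyclic vector
    obtain ⟨v, hv⟩ := exists_ne (0 : V)
    let L : (ZMod q)[X] →ₗ[ZMod q] V := (LinearMap.applyₗ v).comp (aeval T).toLinearMap
    have hL : ∀ g, L g = aeval T g v := fun g => rfl
    have hrange : LinearMap.range L = ⊤ := by
      rcases hirr (LinearMap.range L) (by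
        rintro w ⟨g, rfl⟩
        refine ⟨X * g, ?_⟩
        rw [hL, hL, map_mul, aeval_X]
        rfl) with h | h
      · exfalso
        apply hv
        have : v ∈ LinearMap.range L := ⟨1, by rw [hL, map_one]; rfl⟩
        rw [h] at this
        exact this
      · exact h
    have hmonic : μ.Monic := minpoly.monic hint
    let L' : (degreeLT (ZMod q) μ.natDegree) →ₗ[ZMod q] V := L.comp (Submodule.subtype _)
    have hsurj : Function.Surjective L' := by
      intro w
      have : w ∈ LinearMap.range L := by rw [hrange]; trivial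
      obtain ⟨g, rfl⟩ := this
      have hmem : g %ₘ μ ∈ degreeLT (ZMod q) μ.natDegree := by
        rw [mem_degreeLT]
        calc (g %ₘ μ).degree < μ.degree := degree_modByMonic_lt g hmonic
          _ = μ.natDegree := degree_eq_natDegree hmonic.ne_zero
      refine ⟨⟨g %ₘ μ, hmem⟩, ?_⟩
      change L (g %ₘ μ) = L g
      rw [hL, hL]
      conv_rhs => rw [← modByMonic_add_div g μ]
      rw [map_add, map_mul, minpoly.aeval, zero_mul, add_zero]
    have h1 := LinearMap.finrank_le_finrank_of_surjective hsurj
    have h2 : Module.finrank (ZMod q) (degreeLT (ZMod q) μ.natDegree) = μ.natDegree := by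
      rw [Module.finrank_eq_card_basis (degreeLT.basis (ZMod q) μ.natDegree), Fintype.card_fin]
    rw [h2] at h1
    exact h1
  · have h1 : μ ∣ T.charpoly := LinearMap.minpoly_dvd_charpoly T
    have h2 := natDegree_le_of_dvd h1 (LinearMap.charpoly_monic T).ne_zero
    rw [LinearMap.charpoly_natDegree] at h2
    exact h2

/-- additive version with additive subgroups -/
theorem card_of_irreducible_prime_order_add {q p : ℕ} [Fact q.Prime] [Fact p.Prime] (hpq : q ≠ p)
    {V : Type*} [AddCommGroup V] [Module (ZMod q) V] [Finite V] [Nontrivial V]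
    (φ : V →+ V) (hφp : ∀ a, φ^[p] a = a) (hφ1 : ∃ a, φ a ≠ a)
    (hirr : ∀ B : AddSubgroup V, (∀ b ∈ B, φ b ∈ B) → B = ⊥ ∨ B = ⊤) :
    Nat.card V = q ^ orderOf (q : ZMod p) := by
  let T : V →ₗ[ZMod q] V := φ.toZModLinearMap q
  have hT : ∀ v : V, T v = φ v := fun v => rfl
  have hTpow : ∀ (n : ℕ) (v : V), (T ^ n) v = φ^[n] v := by
    intro n
    induction n with
    | zero => intro v; simp
    | succ n ih =>
      intro v
      rw [pow_succ, Module.End.mul_apply, ih, hT, Function.iterate_succ_apply]
  have h := finrank_of_irreducible_prime_order hpq T (by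
      ext v
      rw [hTpow, hφp]
      rfl) (by
      intro h1
      obtain ⟨a, ha⟩ := hφ1
      apply ha
      have := congrArg (fun F : V →ₗ[ZMod q] V => F a) h1
      simpa [hT] using this) (by
      intro W hW
      rcases hirr W.toAddSubgroup (by
        intro b hb
        exact hW _ hb) with h | h
      · left
        rw [eq_bot_iff]
        intro w hw
        have : w ∈ W.toAddSubgroup := hw
        rw [h, AddSubgroup.mem_bot] at this
        rw [Submodule.mem_bot]
        exact this
      · right
        rw [eq_top_iff]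
        intro w _
        have : w ∈ W.toAddSubgroup := by rw [h]; trivial
        exact this)
  haveI : Module.Finite (ZMod q) V := Module.Finite.of_finite
  have h2 := Module.natCard_eq_pow_finrank (K := ZMod q) (V := V)
  rw [h, Nat.card_zmod] at h2
  exact h2

/-- Commutative-group version: an elementary abelian `q`-group with an automorphism of order `p`
acting irreducibly and nontrivially has order `q ^ (order of q mod p)`. -/
theorem card_of_irreducible_prime_order {q p : ℕ} [Fact q.Prime] [Fact p.Prime] (hpq : q ≠ p)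
    {A : Type*} [CommGroup A] [Finite A] [Nontrivial A] (hq : ∀ a : A, a ^ q = 1)
    (φ : A →* A) (hφp : ∀ a, φ^[p] a = a) (hφ1 : ∃ a, φ a ≠ a)
    (hirr : ∀ B : Subgroup A, (∀ b ∈ B, φ b ∈ B) → B = ⊥ ∨ B = ⊤) :
    Nat.card A = q ^ orderOf (q : ZMod p) := by
  have hq' : ∀ v : Additive A, q • v = 0 := by
    intro v
    induction v using Additive.rec with
    | _ a =>
    rw [← ofMul_pow, hq a, ofMul_one]
  have hiter : ∀ (n : ℕ) (v : Additive A),
      (MonoidHom.toAdditive φ)^[n] v = Additive.ofMul (φ^[n] (Additive.toMul v)) := by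
    intro n
    induction n with
    | zero => intro v; rfl
    | succ n ih =>
      intro v
      rw [Function.iterate_succ_apply, ih, Function.iterate_succ_apply]
      rfl
  have h := @card_of_irreducible_prime_order_add q p _ _ hpq (Additive A) _
    (AddCommGroup.zmodModule hq') _ _ (MonoidHom.toAdditive φ) (by
      intro v
      rw [hiter, hφp]
      rfl) (by
      obtain ⟨a, ha⟩ := hφ1
      refine ⟨Additive.ofMul a, ?_⟩
      intro h
      exact ha (Additive.ofMul.injective h)) (by
      intro W hW
      rcases hirr (AddSubgroup.toSubgroup' W) (by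
        intro b hb
        rw [AddSubgroup.mem_toSubgroup'] at hb ⊢
        exact hW _ hb) with h | h
      · left
        rw [eq_bot_iff]
        intro w hw
        have : Additive.toMul w ∈ AddSubgroup.toSubgroup' W := by
          rw [AddSubgroup.mem_toSubgroup']; exact hw
        rw [h, Subgroup.mem_bot] at this
        rw [AddSubgroup.mem_bot]
        exact Additive.toMul.injective this
      · right
        rw [eq_top_iff]
        intro w _
        have : Additive.toMul w ∈ AddSubgroup.toSubgroup' W := by
          rw [h]; trivial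
        rw [AddSubgroup.mem_toSubgroup'] at this
        exact this)
  rw [← h]
  exact Nat.card_congr Additive.ofMul

section grp
variable {G : Type*} [Group G]

/-- in a finite group, `g E g⁻¹ ⊆ E` already gives `g ∈ N(E)` -/
theorem mem_normalizer_of_conj_mem_finite [Finite G] {E : Subgroup G} {g : G}
    (h1 : ∀ e ∈ E, g * e * g⁻¹ ∈ E) : g ∈ Subgroup.normalizer (E : Set G) := by
  have hpow : ∀ (n : ℕ), ∀ e ∈ E, g ^ n * e * (g ^ n)⁻¹ ∈ E := by
    intro n
    induction n with
    | zero => intro e he; simpa using he
    | succ n ih =>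
      intro e he
      have := h1 _ (ih e he)
      have e1 : g ^ (n + 1) * e * (g ^ (n + 1))⁻¹ = g * (g ^ n * e * (g ^ n)⁻¹) * g⁻¹ := by
        rw [pow_succ']; group
      rw [e1]; exact this
  have hinv : g ^ (orderOf g - 1) = g⁻¹ := by
    apply eq_inv_of_mul_eq_one_left
    rw [← pow_succ, Nat.sub_add_cancel (orderOf_pos g), pow_orderOf_eq_one]
  rw [Subgroup.mem_normalizer_iff]
  intro e
  constructor
  · exact h1 e
  · intro h
    have := hpow (orderOf g - 1) _ h
    rw [hinv] at this
    have e2 : g⁻¹ * (g * e * g⁻¹) * g⁻¹⁻¹ = e := by group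
    rwa [e2] at this

/-- a subgroup of prime index is maximal -/
theorem sup_eq_top_of_index_prime {A H : Subgroup G} (hidx : A.index.Prime) (hH : ¬ H ≤ A) :
    H ⊔ A = ⊤ := by
  have h1 := Subgroup.relIndex_mul_index (le_sup_right : A ≤ H ⊔ A)
  have h2 : (H ⊔ A).index ∣ A.index := Dvd.intro_left _ h1
  rcases (Nat.dvd_prime hidx).mp h2 with h3 | h3
  · exact Subgroup.index_eq_one.mp h3
  · exfalso
    rw [h3] at h1
    have h4 : A.relIndex (H ⊔ A) = 1 := by
      have hpos := hidx.pos
      nlinarith
    have h5 : H ⊔ A ≤ A := Subgroup.relIndex_eq_one.mp h4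
    exact hH (le_sup_left.trans h5)

/-- if `A` is abelian of prime index and some `x ∉ A` centralizes `A`, then `G` is abelian -/
theorem comm_of_centralizing {A : Subgroup G} (hAc : IsMulCommutative A) (hidx : A.index.Prime)
    (x : G) (hx : x ∉ A) (hcent : ∀ a ∈ A, a * x = x * a) : IsMulCommutative G := by
  have hsup : Subgroup.zpowers x ⊔ A = ⊤ := by
    apply sup_eq_top_of_index_prime hidx
    intro h
    exact hx (h (Subgroup.mem_zpowers x))
  have hS : ∀ s ∈ ((Subgroup.zpowers x : Set G) ∪ (A : Set G)), ∀ t ∈ ((Subgroup.zpowers x : Set G) ∪ (A : Set G)), s * t = t * s := by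
    have hzA : ∀ z ∈ Subgroup.zpowers x, ∀ a ∈ A, z * a = a * z := by
      intro z hz a ha
      obtain ⟨i, rfl⟩ := Subgroup.mem_zpowers_iff.mp hz
      exact ((show Commute a x from hcent a ha).zpow_right i).eq.symm
    rintro s (hs | hs) t (ht | ht)
    · obtain ⟨i, rfl⟩ := Subgroup.mem_zpowers_iff.mp hs
      obtain ⟨j, rfl⟩ := Subgroup.mem_zpowers_iff.mp ht
      exact (((Commute.refl x).zpow_right j).zpow_left i).eq
    · exact hzA s hs t ht
    · exact (hzA t ht s hs).symm
    · have := hAc.is_comm.comm ⟨s, hs⟩ ⟨t, ht⟩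
      exact congrArg Subtype.val this
  have hcl : Subgroup.closure ((Subgroup.zpowers x : Set G) ∪ (A : Set G)) = ⊤ := by
    rw [Subgroup.closure_union, Subgroup.closure_eq, Subgroup.closure_eq, hsup]
  have hcen : Subgroup.centralizer ((Subgroup.zpowers x : Set G) ∪ (A : Set G)) = ⊤ := by
    rw [eq_top_iff, ← hcl, Subgroup.closure_le]
    intro s hs
    rw [SetLike.mem_coe, Subgroup.mem_centralizer_iff]
    intro t ht
    exact hS t ht s hs
  have hcenter : Subgroup.center G = ⊤ := by
    rw [eq_top_iff, ← hcl, Subgroup.closure_le]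
    intro s hs
    rw [SetLike.mem_coe, Subgroup.mem_center_iff]
    intro g
    have : g ∈ Subgroup.centralizer ((Subgroup.zpowers x : Set G) ∪ (A : Set G)) := by
      rw [hcen]; trivial
    exact (Subgroup.mem_centralizer_iff.mp this s hs).symm
  constructor
  constructor
  intro a b
  have : a ∈ Subgroup.center G := by rw [hcenter]; trivial
  exact (Subgroup.mem_center_iff.mp this b).symm

end grp

open scoped IsMulCommutative in
/-- A minimal normal elementary abelian `q`-subgroup of prime index `p ≠ q` in a non-abelian finite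
group has order `q ^ (order of q mod p)`. -/
theorem card_minimal_normal_index_prime {G : Type*} [Group G] [Finite G] {p q : ℕ}
    [Fact p.Prime] [Fact q.Prime] (hpq : q ≠ p) (A : Subgroup G) [A.Normal]
    (hAc : IsMulCommutative A) (hAq : ∀ a ∈ A, a ^ q = 1) (hidx : A.index = p)
    (hna : ¬ IsMulCommutative G)
    (hmin : ∀ B : Subgroup G, B.Normal → B ≤ A → B = ⊥ ∨ B = A) :
    Nat.card A = q ^ orderOf (q : ZMod p) := by
  have hpr : A.index.Prime := by rw [hidx]; exact Fact.out
  have hAtop : A ≠ ⊤ := by
    intro h
    rw [h, Subgroup.index_top] at hidx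
    exact (Fact.out : p.Prime).one_lt.ne hidx
  obtain ⟨x, hx⟩ : ∃ x : G, x ∉ A := by
    by_contra hcon
    push Not at hcon
    exact hAtop (eq_top_iff.mpr fun g _ => hcon g)
  have hsup : Subgroup.zpowers x ⊔ A = ⊤ := by
    apply sup_eq_top_of_index_prime hpr
    intro h
    exact hx (h (Subgroup.mem_zpowers x))
  have hxp : x ^ p ∈ A := by
    rw [← QuotientGroup.eq_one_iff, QuotientGroup.mk_pow]
    have : Nat.card (G ⧸ A) = p := by rw [← hidx]; rfl
    rw [← this]
    exact pow_card_eq_one'
  let φ : A →* A := (MulAut.conjNormal x : MulAut A).toMonoidHom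
  have hφ : ∀ a : A, ((φ a : A) : G) = x * a * x⁻¹ := fun a => MulAut.conjNormal_apply x a
  have hφiter : ∀ (n : ℕ) (a : A), ((φ^[n] a : A) : G) = x ^ n * a * (x ^ n)⁻¹ := by
    intro n
    induction n with
    | zero => intro a; simp
    | succ n ih =>
      intro a
      rw [Function.iterate_succ_apply', hφ, ih, pow_succ']
      group
  have hφ1 : ∃ a, φ a ≠ a := by
    by_contra hcon
    push Not at hcon
    apply hna
    apply comm_of_centralizing hAc hpr x hx
    intro a ha
    have := congrArg Subtype.val (hcon ⟨a, ha⟩)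
    rw [hφ] at this
    simp only at this
    calc a * x = (x * a * x⁻¹) * x := by rw [this]
      _ = x * a := by group
  haveI : Nontrivial A := by
    obtain ⟨a, ha⟩ := hφ1
    refine ⟨⟨a, 1, ?_⟩⟩
    rintro rfl
    exact ha (map_one φ)
  apply card_of_irreducible_prime_order hpq (A := A) (fun a => by
    apply Subtype.ext
    simp only [SubgroupClass.coe_pow, Subgroup.coe_one]
    exact hAq a.1 a.2) φ
  · intro a
    apply Subtype.ext
    rw [hφiter]
    have := hAc.is_comm.comm ⟨x ^ p, hxp⟩ a
    have h2 := congrArg Subtype.val this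
    simp only [Subgroup.coe_mul] at h2
    rw [h2]
    group
  · exact hφ1
  · intro B hB
    have hBA : B.map A.subtype ≤ A := by
      rintro _ ⟨b, _, rfl⟩
      exact b.2
    have hnorm : (B.map A.subtype).Normal := by
      rw [← Subgroup.normalizer_eq_top_iff, eq_top_iff, ← hsup, sup_le_iff]
      constructor
      · rw [Subgroup.zpowers_le]
        apply mem_normalizer_of_conj_mem_finite
        rintro _ ⟨b, hb, rfl⟩
        refine ⟨φ b, hB b hb, ?_⟩
        exact hφ b
      · intro a ha
        apply mem_normalizer_of_conj_mem_finite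
        rintro _ ⟨b, hb, rfl⟩
        refine ⟨b, hb, ?_⟩
        have := hAc.is_comm.comm ⟨a, ha⟩ b
        have h2 := congrArg Subtype.val this
        simp only [Subgroup.coe_mul] at h2
        simp only [Subgroup.subtype_apply]
        rw [h2]
        group
    rcases hmin _ hnorm hBA with h | h
    · left
      rw [eq_bot_iff]
      intro b hb
      have : (b : G) ∈ B.map A.subtype := ⟨b, hb, rfl⟩
      rw [h, Subgroup.mem_bot] at this
      rw [Subgroup.mem_bot]
      exact Subtype.ext this
    · right
      rw [eq_top_iff]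
      intro b _
      have : (b : G) ∈ B.map A.subtype := by rw [h]; exact b.2
      obtain ⟨b', hb', hbb'⟩ := this
      have : b' = b := Subtype.ext hbb'
      rw [← this]; exact hb'

end Cfsg.Agent.Lib.Helper21
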