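import Mathlib
import Cfsg.Prelude.Def_KGroupFacts
import Cfsg.Agent.Lib.Helper15.SLNormal

/-!
# S2088-[E3] (helper7's front): `SL₃(4) → PSL₃(4)` is a stem extension with kernel `C₃`
-/

set_option autoImplicit false

namespace Cfsg.Agent.Lib.Helper7.L34

open Cfsg

universe u

namespace Helper21

/-- the centre of `SL₃(F)`, `|F| = 4`, has order `3` -/
theorem card_center_SL3 {F : Type u} [Field F] [Fintype F] (hF : Fintype.card F = 4) :
    Nat.card (Subgroup.center (Matrix.SpecialLinearGroup (Fin 3) F)) = 3 := by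
  classical
  rw [Nat.card_congr (Matrix.SpecialLinearGroup.center_equiv_rootsOfUnity
    (n := Fin 3) (R := F)).toEquiv]
  have h3 : max (Fintype.card (Fin 3)) 1 = 3 := by simp
  rw [h3]
  have hcu : Fintype.card Fˣ = 3 := by rw [Fintype.card_units, hF]
  have htop : rootsOfUnity 3 F = ⊤ := by
    rw [eq_top_iff]
    intro u _
    rw [mem_rootsOfUnity]
    have := pow_card_eq_one (x := u)
    rw [hcu] at this
    exact this
  rw [htop, Subgroup.card_top, Nat.card_eq_fintype_card, hcu]

end Helper21

/-- [E3] `SL₃(4) → PSL₃(4)` is a stem extension with kernel `C₃`. -/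
theorem exists_cover_three {F : Type u} [Field F] [Fintype F] (hF : Fintype.card F = 4) :
    ∃ (Γ : Type u) (_ : Group Γ) (_ : Finite Γ) (σ : Γ →* Matrix.ProjectiveSpecialLinearGroup (Fin 3) F),
      IsStemExtension σ ∧ Nonempty (σ.ker ≃* Multiplicative (ZMod 3)) := by
  classical
  have hker : (QuotientGroup.mk' (Subgroup.center (Matrix.SpecialLinearGroup (Fin 3) F))).ker =
      Subgroup.center (Matrix.SpecialLinearGroup (Fin 3) F) := QuotientGroup.ker_mk' _
  refine ⟨Matrix.SpecialLinearGroup (Fin 3) F, inferInstance, inferInstance,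
    QuotientGroup.mk' (Subgroup.center (Matrix.SpecialLinearGroup (Fin 3) F)),
    ⟨QuotientGroup.mk'_surjective _, ?_, ?_⟩, ?_⟩
  · rw [hker]
  · rw [Cfsg.Agent.Lib.Helper15.SLn_commutator_eq_top (F := F) (ι := Fin 3) (by simp)]
    exact le_top
  · have hc : Nat.card (QuotientGroup.mk'
        (Subgroup.center (Matrix.SpecialLinearGroup (Fin 3) F))).ker = 3 := by
      rw [hker]
      exact Helper21.card_center_SL3 hF
    have : Fact (Nat.Prime 3) := ⟨by norm_num⟩
    exact ⟨mulEquivOfPrimeCardEq hc (by rw [Nat.card_eq_fintype_card]; rfl)⟩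

end Cfsg.Agent.Lib.Helper7.L34
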