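import Mathlib
import Cfsg.Prelude.Def_KGroupFacts

/-!
# S2088-[FP] (helper7's front): fibre product of two finite stem extensions with kernels of coprime
orders
-/

set_option autoImplicit false

namespace Cfsg.Agent.Lib.Helper7.L34

open Cfsg

universe u v

namespace Helper21

/-- in a finite group whose order is prime to `n`, every element is an `n`-th power -/
theorem exists_pow_eq_of_coprime {K : Type*} [Group K] [Finite K] {n : ℕ}
    (h : (Nat.card K).Coprime n) (k : K) : ∃ k0 : K, k0 ^ n = k :=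
  ⟨(powCoprime h).symm k, (powCoprime h).apply_symm_apply k⟩

/-- the core of the fibre product argument: the first kernel lies in the commutator subgroup of the
fibre product -/
theorem left_mem_commutator {G Γ₁ Γ₂ : Type*} [Group G] [Group Γ₁] [Group Γ₂] [Finite Γ₁] [Finite Γ₂]
    (σ₁ : Γ₁ →* G) (σ₂ : Γ₂ →* G) (hs₂ : Function.Surjective σ₂)
    (hc₁ : σ₁.ker ≤ commutator Γ₁)
    (hcop : (Nat.card σ₁.ker).Coprime (Nat.card σ₂.ker))
    (P : Subgroup (Γ₁ × Γ₂)) (hP : ∀ z : Γ₁ × Γ₂, z ∈ P ↔ σ₁ z.1 = σ₂ z.2)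
    (k : Γ₁) (hk : k ∈ σ₁.ker) :
    ∃ hm : ((k, 1) : Γ₁ × Γ₂) ∈ P, (⟨(k, 1), hm⟩ : P) ∈ commutator P := by
  have hmem : ((k, 1) : Γ₁ × Γ₂) ∈ P := by
    rw [hP]
    show σ₁ k = σ₂ 1
    rw [map_one]
    exact hk
  refine ⟨hmem, ?_⟩
  -- the first projection of `P` is onto
  let π : P →* Γ₁ := (MonoidHom.fst Γ₁ Γ₂).comp P.subtype
  have hπ : Function.Surjective π := by
    intro x
    obtain ⟨y, hy⟩ := hs₂ (σ₁ x)
    exact ⟨⟨(x, y), (hP (x, y)).mpr hy.symm⟩, rfl⟩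
  have hmap : (commutator P).map π = commutator Γ₁ := by
    rw [commutator_def, Subgroup.map_commutator, ← MonoidHom.range_eq_map,
      MonoidHom.range_eq_top.mpr hπ, commutator_def]
  -- `k` is an `n`-th power in the kernel, `n` the order of the second kernel
  obtain ⟨⟨k0, hk0⟩, hk0n⟩ := exists_pow_eq_of_coprime hcop (⟨k, hk⟩ : σ₁.ker)
  have hk0n' : k0 ^ Nat.card σ₂.ker = k := congrArg Subtype.val hk0n
  have hk0c : k0 ∈ (commutator P).map π := by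
    rw [hmap]
    exact hc₁ hk0
  obtain ⟨z, hz, hzk⟩ := hk0c
  -- the second component of `z` lies in the second kernel
  have hz2 : (z : Γ₁ × Γ₂).2 ∈ σ₂.ker := by
    have h1 : σ₁ (z : Γ₁ × Γ₂).1 = σ₂ (z : Γ₁ × Γ₂).2 := (hP z).mp z.2
    have h2 : (z : Γ₁ × Γ₂).1 = k0 := hzk
    rw [MonoidHom.mem_ker, ← h1, h2]
    exact hk0
  have hz2n : (z : Γ₁ × Γ₂).2 ^ Nat.card σ₂.ker = 1 := by
    have := pow_card_eq_one' (G := σ₂.ker) (x := ⟨_, hz2⟩)
    exact congrArg Subtype.val this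
  have hpow : z ^ Nat.card σ₂.ker = ⟨(k, 1), hmem⟩ := by
    apply Subtype.ext
    apply Prod.ext
    · show ((z ^ Nat.card σ₂.ker : P) : Γ₁ × Γ₂).1 = k
      rw [Subgroup.coe_pow, Prod.pow_fst]
      have h2 : (z : Γ₁ × Γ₂).1 = k0 := hzk
      rw [h2, hk0n']
    · show ((z ^ Nat.card σ₂.ker : P) : Γ₁ × Γ₂).2 = 1
      rw [Subgroup.coe_pow, Prod.pow_snd, hz2n]
  rw [← hpow]
  exact Subgroup.pow_mem _ hz _

end Helper21

/-- [FP] fibre product of two finite stem extensions with kernels of coprime orders -/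
theorem exists_stem_prod {G : Type u} [Group G] {A : Type v} {B : Type v} [CommGroup A] [CommGroup B]
    [Finite A] [Finite B] (hcop : (Nat.card A).Coprime (Nat.card B))
    (hA : ∃ (Γ : Type u) (_ : Group Γ) (_ : Finite Γ) (σ : Γ →* G), IsStemExtension σ ∧
      Nonempty (σ.ker ≃* A))
    (hB : ∃ (Γ : Type u) (_ : Group Γ) (_ : Finite Γ) (σ : Γ →* G), IsStemExtension σ ∧
      Nonempty (σ.ker ≃* B)) :
    ∃ (Γ : Type u) (_ : Group Γ) (_ : Finite Γ) (σ : Γ →* G), IsStemExtension σ ∧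
      Nonempty (σ.ker ≃* A × B) := by
  obtain ⟨Γ₁, i1, i2, σ₁, ⟨hs₁, hz₁, hc₁⟩, ⟨e₁⟩⟩ := hA
  obtain ⟨Γ₂, j1, j2, σ₂, ⟨hs₂, hz₂, hc₂⟩, ⟨e₂⟩⟩ := hB
  have hcardA : Nat.card σ₁.ker = Nat.card A := Nat.card_congr e₁.toEquiv
  have hcardB : Nat.card σ₂.ker = Nat.card B := Nat.card_congr e₂.toEquiv
  have hcop' : (Nat.card σ₁.ker).Coprime (Nat.card σ₂.ker) := by rw [hcardA, hcardB]; exact hcop
  -- the fibre product
  let P : Subgroup (Γ₁ × Γ₂) :=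
    (σ₁.comp (MonoidHom.fst Γ₁ Γ₂)).eqLocus (σ₂.comp (MonoidHom.snd Γ₁ Γ₂))
  have hP : ∀ z : Γ₁ × Γ₂, z ∈ P ↔ σ₁ z.1 = σ₂ z.2 := fun z => Iff.rfl
  let σ : P →* G := (σ₁.comp (MonoidHom.fst Γ₁ Γ₂)).comp P.subtype
  have hσ : ∀ z : P, σ z = σ₁ (z : Γ₁ × Γ₂).1 := fun z => rfl
  have hker : ∀ z : P, z ∈ σ.ker ↔ (z : Γ₁ × Γ₂).1 ∈ σ₁.ker ∧ (z : Γ₁ × Γ₂).2 ∈ σ₂.ker := by
    intro z
    rw [MonoidHom.mem_ker, MonoidHom.mem_ker, MonoidHom.mem_ker, hσ]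
    constructor
    · intro h
      refine ⟨h, ?_⟩
      rw [← (hP z).mp z.2]
      exact h
    · intro h
      exact h.1
  refine ⟨P, inferInstance, inferInstance, σ, ⟨?_, ?_, ?_⟩, ?_⟩
  · -- surjective
    intro g
    obtain ⟨x, hx⟩ := hs₁ g
    obtain ⟨y, hy⟩ := hs₂ g
    exact ⟨⟨(x, y), (hP (x, y)).mpr (hx.trans hy.symm)⟩, hx⟩
  · -- central
    intro z hz
    rw [hker] at hz
    rw [Subgroup.mem_center_iff]
    intro w
    apply Subtype.ext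
    apply Prod.ext
    · exact Subgroup.mem_center_iff.mp (hz₁ hz.1) (w : Γ₁ × Γ₂).1
    · exact Subgroup.mem_center_iff.mp (hz₂ hz.2) (w : Γ₁ × Γ₂).2
  · -- inside the commutator subgroup
    intro z hz
    rw [hker] at hz
    obtain ⟨hm1, hc1⟩ := Helper21.left_mem_commutator σ₁ σ₂ hs₂ hc₁ hcop' P hP _ hz.1
    -- the mirror image for the second kernel
    let P' : Subgroup (Γ₂ × Γ₁) :=
      (σ₂.comp (MonoidHom.fst Γ₂ Γ₁)).eqLocus (σ₁.comp (MonoidHom.snd Γ₂ Γ₁))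
    have hP' : ∀ z : Γ₂ × Γ₁, z ∈ P' ↔ σ₂ z.1 = σ₁ z.2 := fun z => Iff.rfl
    obtain ⟨hm2, hc2⟩ := Helper21.left_mem_commutator σ₂ σ₁ hs₁ hc₂ hcop'.symm P' hP' _ hz.2
    -- transport along the swap
    let sw : P' →* P :=
      { toFun := fun w => ⟨((w : Γ₂ × Γ₁).2, (w : Γ₂ × Γ₁).1), (hP _).mpr ((hP' w).mp w.2).symm⟩
        map_one' := rfl
        map_mul' := fun _ _ => rfl }
    have hc2' : sw ⟨((z : Γ₁ × Γ₂).2, 1), hm2⟩ ∈ commutator P := by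
      have h1 : (commutator P').map sw ≤ commutator P := by
        rw [commutator_def, Subgroup.map_commutator, commutator_def]
        exact Subgroup.commutator_mono le_top le_top
      exact h1 (Subgroup.mem_map_of_mem sw hc2)
    have hprod : z = ⟨((z : Γ₁ × Γ₂).1, 1), hm1⟩ * sw ⟨((z : Γ₁ × Γ₂).2, 1), hm2⟩ := by
      apply Subtype.ext
      apply Prod.ext
      · show (z : Γ₁ × Γ₂).1 = (z : Γ₁ × Γ₂).1 * 1
        rw [mul_one]
      · show (z : Γ₁ × Γ₂).2 = 1 * (z : Γ₁ × Γ₂).2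
        rw [one_mul]
    rw [hprod]
    exact Subgroup.mul_mem _ hc1 hc2'
  · -- the kernel
    let f : σ.ker ≃* σ₁.ker × σ₂.ker :=
      { toFun := fun z => (⟨((z : P) : Γ₁ × Γ₂).1, ((hker z).mp z.2).1⟩,
          ⟨((z : P) : Γ₁ × Γ₂).2, ((hker z).mp z.2).2⟩)
        invFun := fun k => ⟨⟨((k.1 : Γ₁), (k.2 : Γ₂)), (hP _).mpr (by
            show σ₁ (k.1 : Γ₁) = σ₂ (k.2 : Γ₂)
            rw [MonoidHom.mem_ker.mp k.1.2, MonoidHom.mem_ker.mp k.2.2])⟩,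
          (hker _).mpr ⟨k.1.2, k.2.2⟩⟩
        left_inv := fun z => rfl
        right_inv := fun k => rfl
        map_mul' := fun _ _ => rfl }
    exact ⟨f.trans (MulEquiv.prodCongr e₁ e₂)⟩

end Cfsg.Agent.Lib.Helper7.L34
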