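import Mathlib
import Cfsg.Prelude.Def_Transfer
import Cfsg.Agent.Lib.Helper26.L34LocDefs

/-!
# S3154 piece [Q] (helper21): the subgroup `quad x1 x2 y1 y2 = ⟨x1, x2, y1, y2⟩ Z(X)`
-/

set_option autoImplicit false

namespace Cfsg.Agent.Lib.Helper26.L34Loc

variable {X : Type*} [Group X]

namespace Helper21Q

theorem mulform_comm {M : Type*} [CommMonoid M] (a b c d z a' b' c' d' z' : M) :
    (a * b * c * d * z) * (a' * b' * c' * d' * z') = (a * a') * (b * b') * (c * c') * (d * d') * (z * z') := by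
  ac_rfl

theorem quad_eq (x1 x2 y1 y2 : X) :
    quad x1 x2 y1 y2 = Subgroup.closure ({x1, x2, y1, y2} ∪ (Subgroup.center X : Set X)) := by
  unfold quad
  rw [Subgroup.closure_union, Subgroup.closure_eq]

theorem gens_comm {x1 x2 y1 y2 : X} (h : Inv4 x1 x2 y1 y2) :
    ∀ a ∈ ({x1, x2, y1, y2} ∪ (Subgroup.center X : Set X) : Set X),
      ∀ b ∈ ({x1, x2, y1, y2} ∪ (Subgroup.center X : Set X) : Set X), a * b = b * a := by
  intro a ha b hb
  rcases ha with ha | ha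
  · rcases hb with hb | hb
    · simp only [Set.mem_insert_iff, Set.mem_singleton_iff] at ha hb
      rcases ha with ha | ha | ha | ha <;> rcases hb with hb | hb | hb | hb <;> rw [ha, hb] <;>
        first
        | rfl | exact h.c12 | exact h.c12.symm | exact h.c13 | exact h.c13.symm | exact h.c14
        | exact h.c14.symm | exact h.c23 | exact h.c23.symm | exact h.c24 | exact h.c24.symm
        | exact h.c34 | exact h.c34.symm
    · exact Subgroup.mem_center_iff.mp hb a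
  · exact (Subgroup.mem_center_iff.mp ha b).symm

theorem quad_comm {x1 x2 y1 y2 : X} (h : Inv4 x1 x2 y1 y2) :
    ∀ a ∈ quad x1 x2 y1 y2, ∀ b ∈ quad x1 x2 y1 y2, a * b = b * a := by
  rw [quad_eq]
  intro a ha b hb
  have h1 := (Subgroup.isMulCommutative_closure (gens_comm h)).is_comm.comm ⟨a, ha⟩ ⟨b, hb⟩
  exact congrArg Subtype.val h1

theorem mem_quad_of_mem {x1 x2 y1 y2 : X} {g : X} (hg : g ∈ ({x1, x2, y1, y2} : Set X)) :
    g ∈ quad x1 x2 y1 y2 :=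
  (le_sup_left : Subgroup.closure {x1, x2, y1, y2} ≤ quad x1 x2 y1 y2) (Subgroup.subset_closure hg)

theorem center_le_quad (x1 x2 y1 y2 : X) : Subgroup.center X ≤ quad x1 x2 y1 y2 := le_sup_right

/-- multiplication of normal forms -/
theorem mulform {x1 x2 y1 y2 : X} (h : Inv4 x1 x2 y1 y2) (i j k l i' j' k' l' : ℕ) {z z' : X}
    (hz : z ∈ Subgroup.center X) (hz' : z' ∈ Subgroup.center X) :
    (x1 ^ i * x2 ^ j * y1 ^ k * y2 ^ l * z) * (x1 ^ i' * x2 ^ j' * y1 ^ k' * y2 ^ l' * z') =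
      x1 ^ (i + i') * x2 ^ (j + j') * y1 ^ (k + k') * y2 ^ (l + l') * (z * z') := by
  let _inst : CommGroup ↥(quad x1 x2 y1 y2) :=
    { (inferInstance : Group ↥(quad x1 x2 y1 y2)) with
      mul_comm := fun a b => Subtype.ext (quad_comm h a a.2 b b.2) }
  have m1 : x1 ∈ quad x1 x2 y1 y2 := mem_quad_of_mem (by simp)
  have m2 : x2 ∈ quad x1 x2 y1 y2 := mem_quad_of_mem (by simp)
  have m3 : y1 ∈ quad x1 x2 y1 y2 := mem_quad_of_mem (by simp)
  have m4 : y2 ∈ quad x1 x2 y1 y2 := mem_quad_of_mem (by simp)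
  have mz : z ∈ quad x1 x2 y1 y2 := center_le_quad _ _ _ _ hz
  have mz' : z' ∈ quad x1 x2 y1 y2 := center_le_quad _ _ _ _ hz'
  have h1 := mulform_comm ((⟨x1, m1⟩ : ↥(quad x1 x2 y1 y2)) ^ i) ((⟨x2, m2⟩ : ↥(quad x1 x2 y1 y2)) ^ j)
    ((⟨y1, m3⟩ : ↥(quad x1 x2 y1 y2)) ^ k) ((⟨y2, m4⟩ : ↥(quad x1 x2 y1 y2)) ^ l) ⟨z, mz⟩
    ((⟨x1, m1⟩ : ↥(quad x1 x2 y1 y2)) ^ i') ((⟨x2, m2⟩ : ↥(quad x1 x2 y1 y2)) ^ j')
    ((⟨y1, m3⟩ : ↥(quad x1 x2 y1 y2)) ^ k') ((⟨y2, m4⟩ : ↥(quad x1 x2 y1 y2)) ^ l') ⟨z', mz'⟩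
  have h2 := congrArg Subtype.val h1
  simp only [Subgroup.coe_mul, Subgroup.coe_pow] at h2
  rw [h2, pow_add, pow_add, pow_add, pow_add]

theorem pow_mod_two {x : X} (hx : x * x = 1) (n : ℕ) : x ^ n = x ^ (n % 2) := by
  conv_lhs => rw [← Nat.mod_add_div n 2]
  rw [pow_add, pow_mul, pow_two, hx, one_pow, mul_one]

/-- normal form with unbounded exponents -/
theorem quad_form' {x1 x2 y1 y2 : X} (h : Inv4 x1 x2 y1 y2) {x : X} (hx : x ∈ quad x1 x2 y1 y2) :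
    ∃ i j k l : ℕ, ∃ z ∈ Subgroup.center X, x = x1 ^ i * x2 ^ j * y1 ^ k * y2 ^ l * z := by
  rw [quad_eq] at hx
  induction hx using Subgroup.closure_induction with
  | mem g hg =>
    rcases hg with hg | hg
    · simp only [Set.mem_insert_iff, Set.mem_singleton_iff] at hg
      rcases hg with hg | hg | hg | hg
      · exact ⟨1, 0, 0, 0, 1, Subgroup.one_mem _, by rw [hg]; simp⟩
      · exact ⟨0, 1, 0, 0, 1, Subgroup.one_mem _, by rw [hg]; simp⟩
      · exact ⟨0, 0, 1, 0, 1, Subgroup.one_mem _, by rw [hg]; simp⟩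
      · exact ⟨0, 0, 0, 1, 1, Subgroup.one_mem _, by rw [hg]; simp⟩
    · exact ⟨0, 0, 0, 0, g, hg, by simp⟩
  | one => exact ⟨0, 0, 0, 0, 1, Subgroup.one_mem _, by simp⟩
  | mul a b _ _ iha ihb =>
    obtain ⟨i, j, k, l, z, hz, rfl⟩ := iha
    obtain ⟨i', j', k', l', z', hz', rfl⟩ := ihb
    exact ⟨i + i', j + j', k + k', l + l', z * z', Subgroup.mul_mem _ hz hz', mulform h _ _ _ _ _ _ _ _ hz hz'⟩
  | inv a _ iha =>
    obtain ⟨i, j, k, l, z, hz, rfl⟩ := iha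
    have hsq := mulform h i j k l i j k l hz hz
    have e1 : x1 ^ (i + i) = 1 := by rw [← two_mul, pow_mul, pow_two, h.s1, one_pow]
    have e2 : x2 ^ (j + j) = 1 := by rw [← two_mul, pow_mul, pow_two, h.s2, one_pow]
    have e3 : y1 ^ (k + k) = 1 := by rw [← two_mul, pow_mul, pow_two, h.s3, one_pow]
    have e4 : y2 ^ (l + l) = 1 := by rw [← two_mul, pow_mul, pow_two, h.s4, one_pow]
    rw [e1, e2, e3, e4, one_mul, one_mul, one_mul, one_mul] at hsq
    refine ⟨i, j, k, l, z * (z * z)⁻¹, Subgroup.mul_mem _ hz (Subgroup.inv_mem _ (Subgroup.mul_mem _ hz hz)), ?_⟩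
    rw [← mul_assoc, ← hsq]
    group

end Helper21Q

open Helper21Q

theorem quad_form {x1 x2 y1 y2 : X} (h : Inv4 x1 x2 y1 y2) {x : X} (hx : x ∈ quad x1 x2 y1 y2) :
    ∃ i j k l : ℕ, i < 2 ∧ j < 2 ∧ k < 2 ∧ l < 2 ∧ ∃ z ∈ Subgroup.center X,
      x = x1 ^ i * x2 ^ j * y1 ^ k * y2 ^ l * z := by
  obtain ⟨i, j, k, l, z, hz, rfl⟩ := quad_form' h hx
  refine ⟨i % 2, j % 2, k % 2, l % 2, Nat.mod_lt _ (by norm_num), Nat.mod_lt _ (by norm_num),
    Nat.mod_lt _ (by norm_num), Nat.mod_lt _ (by norm_num), z, hz, ?_⟩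
  rw [← pow_mod_two h.s1, ← pow_mod_two h.s2, ← pow_mod_two h.s3, ← pow_mod_two h.s4]

theorem quad_elementary {x1 x2 y1 y2 : X} (h : Inv4 x1 x2 y1 y2)
    (hZ : Cfsg.IsElementaryAbelian 2 (Subgroup.center X)) :
    Cfsg.IsElementaryAbelian 2 (quad x1 x2 y1 y2) := by
  refine ⟨⟨⟨fun a b => Subtype.ext (quad_comm h a a.2 b b.2)⟩⟩, ?_⟩
  intro a ha
  obtain ⟨i, j, k, l, z, hz, rfl⟩ := quad_form' h ha
  have hsq := mulform h i j k l i j k l hz hz
  have e1 : x1 ^ (i + i) = 1 := by rw [← two_mul, pow_mul, pow_two, h.s1, one_pow]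
  have e2 : x2 ^ (j + j) = 1 := by rw [← two_mul, pow_mul, pow_two, h.s2, one_pow]
  have e3 : y1 ^ (k + k) = 1 := by rw [← two_mul, pow_mul, pow_two, h.s3, one_pow]
  have e4 : y2 ^ (l + l) = 1 := by rw [← two_mul, pow_mul, pow_two, h.s4, one_pow]
  have ez : z * z = 1 := by rw [← pow_two]; exact hZ.2 z hz
  rw [e1, e2, e3, e4, ez, one_mul, one_mul, one_mul, one_mul] at hsq
  rw [pow_two]; exact hsq

theorem card_quad [Finite X] {x1 x2 y1 y2 : X} (h : Inv4 x1 x2 y1 y2) (hi : Indep4 x1 x2 y1 y2) :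
    Nat.card (quad x1 x2 y1 y2) = 16 * Nat.card (Subgroup.center X) := by
  classical
  have hmem : ∀ (i j k l : ℕ) (z : X), z ∈ Subgroup.center X →
      x1 ^ i * x2 ^ j * y1 ^ k * y2 ^ l * z ∈ quad x1 x2 y1 y2 := by
    intro i j k l z hz
    have m1 : x1 ∈ quad x1 x2 y1 y2 := mem_quad_of_mem (by simp)
    have m2 : x2 ∈ quad x1 x2 y1 y2 := mem_quad_of_mem (by simp)
    have m3 : y1 ∈ quad x1 x2 y1 y2 := mem_quad_of_mem (by simp)
    have m4 : y2 ∈ quad x1 x2 y1 y2 := mem_quad_of_mem (by simp)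
    exact Subgroup.mul_mem _ (Subgroup.mul_mem _ (Subgroup.mul_mem _ (Subgroup.mul_mem _
      (Subgroup.pow_mem _ m1 i) (Subgroup.pow_mem _ m2 j)) (Subgroup.pow_mem _ m3 k))
      (Subgroup.pow_mem _ m4 l)) (center_le_quad _ _ _ _ hz)
  let f : (Fin 2 × Fin 2 × Fin 2 × Fin 2) × ↥(Subgroup.center X) → ↥(quad x1 x2 y1 y2) :=
    fun p => ⟨x1 ^ p.1.1.val * x2 ^ p.1.2.1.val * y1 ^ p.1.2.2.1.val * y2 ^ p.1.2.2.2.val * p.2.val,
      hmem _ _ _ _ _ p.2.2⟩
  have hinj : Function.Injective f := by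
    rintro ⟨⟨i, j, k, l⟩, z⟩ ⟨⟨i', j', k', l'⟩, z'⟩ hff
    have hv : x1 ^ i.val * x2 ^ j.val * y1 ^ k.val * y2 ^ l.val * z.val =
        x1 ^ i'.val * x2 ^ j'.val * y1 ^ k'.val * y2 ^ l'.val * z'.val := congrArg Subtype.val hff
    have m1 := mulform h i'.val j'.val k'.val l'.val i.val j.val k.val l.val (Subgroup.one_mem _) z.2
    have m2 := mulform h i'.val j'.val k'.val l'.val i'.val j'.val k'.val l'.val (Subgroup.one_mem _) z'.2
    rw [hv] at m1
    have m3 := m1.symm.trans m2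
    have e1 : x1 ^ (i'.val + i'.val) = 1 := by rw [← two_mul, pow_mul, pow_two, h.s1, one_pow]
    have e2 : x2 ^ (j'.val + j'.val) = 1 := by rw [← two_mul, pow_mul, pow_two, h.s2, one_pow]
    have e3 : y1 ^ (k'.val + k'.val) = 1 := by rw [← two_mul, pow_mul, pow_two, h.s3, one_pow]
    have e4 : y2 ^ (l'.val + l'.val) = 1 := by rw [← two_mul, pow_mul, pow_two, h.s4, one_pow]
    rw [e1, e2, e3, e4, one_mul, one_mul, one_mul, one_mul, one_mul, one_mul] at m3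
    have hc : x1 ^ (i'.val + i.val) * x2 ^ (j'.val + j.val) * y1 ^ (k'.val + k.val) *
        y2 ^ (l'.val + l.val) ∈ Subgroup.center X := by
      have h1 : x1 ^ (i'.val + i.val) * x2 ^ (j'.val + j.val) * y1 ^ (k'.val + k.val) *
          y2 ^ (l'.val + l.val) = z'.val * (z.val)⁻¹ := eq_mul_inv_of_mul_eq m3
      rw [h1]
      exact Subgroup.mul_mem _ z'.2 (Subgroup.inv_mem _ z.2)
    rw [pow_mod_two h.s1, pow_mod_two h.s2, pow_mod_two h.s3, pow_mod_two h.s4] at hc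
    obtain ⟨q1, q2, q3, q4⟩ := hi _ _ _ _ (Nat.mod_lt _ (by norm_num)) (Nat.mod_lt _ (by norm_num))
      (Nat.mod_lt _ (by norm_num)) (Nat.mod_lt _ (by norm_num)) hc
    have hi1 : i = i' := by
      apply Fin.ext
      have a1 := i.isLt
      have a2 := i'.isLt
      omega
    have hj1 : j = j' := by
      apply Fin.ext
      have a1 := j.isLt
      have a2 := j'.isLt
      omega
    have hk1 : k = k' := by
      apply Fin.ext
      have a1 := k.isLt
      have a2 := k'.isLt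
      omega
    have hl1 : l = l' := by
      apply Fin.ext
      have a1 := l.isLt
      have a2 := l'.isLt
      omega
    subst hi1 hj1 hk1 hl1
    have hz : z = z' := Subtype.ext (mul_left_cancel hv)
    rw [hz]
  have hsurj : Function.Surjective f := by
    rintro ⟨x, hx⟩
    obtain ⟨i, j, k, l, hi2, hj2, hk2, hl2, z, hz, hxe⟩ := quad_form h hx
    exact ⟨((⟨i, hi2⟩, ⟨j, hj2⟩, ⟨k, hk2⟩, ⟨l, hl2⟩), ⟨z, hz⟩), Subtype.ext hxe.symm⟩
  rw [← Nat.card_congr (Equiv.ofBijective f ⟨hinj, hsurj⟩), Nat.card_prod]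
  simp [Nat.card_eq_fintype_card]

theorem duo_form {y1 y2 : X} (s3 : y1 * y1 = 1) (s4 : y2 * y2 = 1) (c34 : y1 * y2 = y2 * y1)
    {x : X} (hx : x ∈ duo y1 y2) :
    ∃ k l : ℕ, k < 2 ∧ l < 2 ∧ ∃ z ∈ Subgroup.center X, x = y1 ^ k * y2 ^ l * z := by
  have h : Inv4 (1 : X) 1 y1 y2 :=
    { s1 := one_mul 1, s2 := one_mul 1, s3 := s3, s4 := s4, c12 := rfl,
      c13 := by rw [one_mul, mul_one], c14 := by rw [one_mul, mul_one],
      c23 := by rw [one_mul, mul_one], c24 := by rw [one_mul, mul_one], c34 := c34 }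
  have hle : duo y1 y2 ≤ quad 1 1 y1 y2 := by
    unfold duo quad
    apply sup_le_sup_right
    apply Subgroup.closure_mono
    intro g hg
    simp only [Set.mem_insert_iff, Set.mem_singleton_iff] at hg ⊢
    rcases hg with hg | hg
    · right; right; left; exact hg
    · right; right; right; exact hg
  obtain ⟨i, j, k, l, _, _, hk, hl, z, hz, hxe⟩ := quad_form h (hle hx)
  refine ⟨k, l, hk, hl, z, hz, ?_⟩
  rw [hxe, one_pow, one_pow, one_mul, one_mul]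

end Cfsg.Agent.Lib.Helper26.L34Loc
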