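import Mathlib
import Cfsg.Agent.Lib.Helper15.SLNormal

/-!
# `PSL_n(F)` is perfect for `n ≥ 3` (image of the perfect group `SL_n(F)`); for helper7's S2088 assembly
-/

set_option autoImplicit false

namespace Cfsg.Agent.Lib.Helper7.L34

namespace Helper21

/-- the image of a perfect group is perfect -/
theorem commutator_eq_top_of_surjective {G H : Type*} [Group G] [Group H] (f : G →* H)
    (hf : Function.Surjective f) (hG : commutator G = ⊤) : commutator H = ⊤ := by
  have h1 : (commutator G).map f = commutator H := by
    rw [commutator_def, Subgroup.map_commutator, ← MonoidHom.range_eq_map,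
      MonoidHom.range_eq_top.mpr hf, commutator_def]
  rw [← h1, hG, ← MonoidHom.range_eq_map, MonoidHom.range_eq_top.mpr hf]

/-- `PSL_n(F)` is perfect for `n ≥ 3` -/
theorem psl_commutator_eq_top {F : Type*} [Field F] {ι : Type*} [DecidableEq ι] [Fintype ι]
    (h3 : 3 ≤ Fintype.card ι) : commutator (Matrix.ProjectiveSpecialLinearGroup ι F) = ⊤ :=
  commutator_eq_top_of_surjective
    (QuotientGroup.mk' (Subgroup.center (Matrix.SpecialLinearGroup ι F)))
    (QuotientGroup.mk'_surjective _) (Cfsg.Agent.Lib.Helper15.SLn_commutator_eq_top h3)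

/-- the instance needed in the S2088 assembly -/
theorem psl3_commutator_eq_top {F : Type*} [Field F] :
    commutator (Matrix.ProjectiveSpecialLinearGroup (Fin 3) F) = ⊤ :=
  psl_commutator_eq_top (by simp)

end Helper21

end Cfsg.Agent.Lib.Helper7.L34
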