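import Cfsg.Agent.Lib.Helper29.Law.Defs
import Cfsg.Prelude.Def_Classical

set_option autoImplicit false

/-! S2355 pieces [P2] and [US3] (helper21): the block embedding `g ↦ diag(g, 1)` of `SL₂(F)` into
`SLₙ(F)`, `n ≥ 2`; it maps `SU₂` into `SUₙ`. -/

namespace Cfsg.Agent.Lib.Helper29.Law

open Matrix

namespace Helper21

variable (F : Type*) [Field F]

/-- `Fin 2 ⊕ Fin (n - 2) ≃ Fin n` -/
def eqv (n : ℕ) (hn : 2 ≤ n) : Fin 2 ⊕ Fin (n - 2) ≃ Fin n :=
  finSumFinEquiv.trans (finCongr (by omega))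

/-- the block matrix `diag(g, 1)` -/
def blk (m : ℕ) (g : Matrix (Fin 2) (Fin 2) F) : Matrix (Fin 2 ⊕ Fin m) (Fin 2 ⊕ Fin m) F :=
  Matrix.fromBlocks g 0 0 1

theorem blk_mul (m : ℕ) (g h : Matrix (Fin 2) (Fin 2) F) :
    blk F m (g * h) = blk F m g * blk F m h := by
  simp [blk, Matrix.fromBlocks_multiply]

theorem blk_one (m : ℕ) : blk F m 1 = 1 := Matrix.fromBlocks_one

theorem det_blk (m : ℕ) (g : Matrix (Fin 2) (Fin 2) F) : (blk F m g).det = g.det := by
  simp [blk]

theorem blk_injective (m : ℕ) : Function.Injective (blk F m) := by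
  intro g h hgh
  have := congrArg Matrix.toBlocks₁₁ hgh
  simpa [blk] using this

/-- the block embedding `SL₂(F) → SLₙ(F)` -/
def emb (n : ℕ) (hn : 2 ≤ n) :
    Matrix.SpecialLinearGroup (Fin 2) F →* Matrix.SpecialLinearGroup (Fin n) F where
  toFun g := ⟨Matrix.reindex (eqv n hn) (eqv n hn) (blk F (n - 2) g), by
    rw [Matrix.det_reindex_self, det_blk]; exact g.2⟩
  map_one' := by
    apply Subtype.ext
    show Matrix.reindex (eqv n hn) (eqv n hn) (blk F (n - 2) ((1 : Matrix.SpecialLinearGroup (Fin 2) F) : Matrix (Fin 2) (Fin 2) F)) = 1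
    rw [Matrix.SpecialLinearGroup.coe_one, blk_one]
    simp
  map_mul' g h := by
    apply Subtype.ext
    show Matrix.reindex (eqv n hn) (eqv n hn) (blk F (n - 2) ((g * h : Matrix.SpecialLinearGroup (Fin 2) F) : Matrix (Fin 2) (Fin 2) F)) =
      Matrix.reindex (eqv n hn) (eqv n hn) (blk F (n - 2) g) * Matrix.reindex (eqv n hn) (eqv n hn) (blk F (n - 2) h)
    rw [Matrix.SpecialLinearGroup.coe_mul, blk_mul]
    simp [Matrix.submatrix_mul_equiv]

theorem emb_coe (n : ℕ) (hn : 2 ≤ n) (g : Matrix.SpecialLinearGroup (Fin 2) F) :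
    ((emb F n hn g : Matrix.SpecialLinearGroup (Fin n) F) : Matrix (Fin n) (Fin n) F)
      = Matrix.reindex (eqv n hn) (eqv n hn) (blk F (n - 2) g) := rfl

theorem emb_injective (n : ℕ) (hn : 2 ≤ n) : Function.Injective (emb F n hn) := by
  intro g h hgh
  have h1 := congrArg (fun x : Matrix.SpecialLinearGroup (Fin n) F =>
    (x : Matrix (Fin n) (Fin n) F)) hgh
  simp only [emb_coe] at h1
  have h2 := (Matrix.reindex (eqv n hn) (eqv n hn)).injective h1
  exact Subtype.ext (blk_injective F (n - 2) h2)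

end Helper21

/-- [P2] block embedding `g ↦ diag(g, 1)`. -/
theorem exists_SL2_to_SL (F : Type*) [Field F] (n : ℕ) (hn : 2 ≤ n) :
    ∃ φ : Matrix.SpecialLinearGroup (Fin 2) F →* Matrix.SpecialLinearGroup (Fin n) F,
      Function.Injective φ :=
  ⟨Helper21.emb F n hn, Helper21.emb_injective F n hn⟩

end Cfsg.Agent.Lib.Helper29.Law
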