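import Cfsg.Agent.Lib.Helper21.LawP2

set_option autoImplicit false

/-! S2355 piece [US3] (helper21): the block embedding `g ↦ diag(g, 1)` maps `SU₂` into `SUₙ`. -/

namespace Cfsg.Agent.Lib.Helper29.Law

open Matrix

namespace Helper21

variable (F : Type*) [Field F]

theorem slToMat_apply (n : ℕ) (x : Matrix.SpecialLinearGroup (Fin n) F) :
    Cfsg.slToMat n F x = (x : Matrix (Fin n) (Fin n) F) := rfl

theorem hermForm_split (q n : ℕ) (hn : 2 ≤ n) (U V : Fin n → F) :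
    Cfsg.hermForm n F q U V =
      Cfsg.hermForm 2 F q (fun i => U (eqv n hn (Sum.inl i))) (fun i => V (eqv n hn (Sum.inl i)))
        + ∑ k : Fin (n - 2), U (eqv n hn (Sum.inr k)) * (V (eqv n hn (Sum.inr k))) ^ q := by
  unfold Cfsg.hermForm
  rw [← Equiv.sum_comp (eqv n hn), Fintype.sum_sum_type]

theorem emb_mulVec (n : ℕ) (hn : 2 ≤ n) (g : Matrix.SpecialLinearGroup (Fin 2) F)
    (u : Fin n → F) (s : Fin 2 ⊕ Fin (n - 2)) :
    (((emb F n hn g : Matrix.SpecialLinearGroup (Fin n) F) : Matrix (Fin n) (Fin n) F) *ᵥ u)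
        (eqv n hn s)
      = Sum.elim ((g : Matrix (Fin 2) (Fin 2) F) *ᵥ fun i => u (eqv n hn (Sum.inl i)))
          (fun k => u (eqv n hn (Sum.inr k))) s := by
  rw [emb_coe, Matrix.reindex_apply, Matrix.submatrix_mulVec_equiv]
  simp only [Function.comp_apply, Equiv.symm_symm, Equiv.symm_apply_apply]
  unfold blk
  rw [Matrix.fromBlocks_mulVec]
  cases s with
  | inl i => simp [Function.comp_def]
  | inr k => simp [Function.comp_def]

theorem emb_mem_SU (q n : ℕ) (hn : 2 ≤ n) (g : Matrix.SpecialLinearGroup (Fin 2) F)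
    (hg : g ∈ Cfsg.SU 2 F q) : emb F n hn g ∈ Cfsg.SU n F q := by
  intro u v
  rw [slToMat_apply, hermForm_split F q n hn, hermForm_split F q n hn u v]
  have h1 := hg (fun i => u (eqv n hn (Sum.inl i))) (fun i => v (eqv n hn (Sum.inl i)))
  rw [slToMat_apply] at h1
  have e1 : (fun i => (((emb F n hn g : Matrix.SpecialLinearGroup (Fin n) F) :
      Matrix (Fin n) (Fin n) F) *ᵥ u) (eqv n hn (Sum.inl i)))
      = (g : Matrix (Fin 2) (Fin 2) F) *ᵥ fun i => u (eqv n hn (Sum.inl i)) := by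
    funext i
    rw [emb_mulVec]
    rfl
  have e2 : (fun i => (((emb F n hn g : Matrix.SpecialLinearGroup (Fin n) F) :
      Matrix (Fin n) (Fin n) F) *ᵥ v) (eqv n hn (Sum.inl i)))
      = (g : Matrix (Fin 2) (Fin 2) F) *ᵥ fun i => v (eqv n hn (Sum.inl i)) := by
    funext i
    rw [emb_mulVec]
    rfl
  rw [e1, e2, h1]
  congr 1
  refine Finset.sum_congr rfl fun k _ => ?_
  rw [emb_mulVec, emb_mulVec]
  rfl

end Helper21

/-- [US3] the block embedding `g ↦ diag(g, 1)` maps `SU₂` into `SUₙ`. -/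
theorem exists_SL2_to_SL_SU (F : Type*) [Field F] (q n : ℕ) (hn : 2 ≤ n) :
    ∃ φ : Matrix.SpecialLinearGroup (Fin 2) F →* Matrix.SpecialLinearGroup (Fin n) F,
      Function.Injective φ ∧ ∀ g, g ∈ Cfsg.SU 2 F q → φ g ∈ Cfsg.SU n F q :=
  ⟨Helper21.emb F n hn, Helper21.emb_injective F n hn, fun g hg => Helper21.emb_mem_SU F q n hn g hg⟩

end Cfsg.Agent.Lib.Helper29.Law
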