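import Mathlib
import Cfsg.Agent.Lib.Helper9.Misc
import Cfsg.Agent.Lib.Helper13.Conj
import Cfsg.Prelude.Def_Transfer

/-!
# Groups in which centralizers of noncentral elements (of a normal subgroup) are maximal, part 1

Basic lemmas and the case `Z₂(N) > Z(N)`.
-/

set_option autoImplicit false

namespace Cfsg.Agent.Lib.Helper21.MaxCent

open scoped commutatorElement

variable {G : Type*} [Group G]

/-- the hypothesis: centralizers in `G` of the noncentral elements of `N` are maximal subgroups -/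
def Hyp (N : Subgroup G) : Prop :=
  ∀ x : G, x ∈ N → x ∉ Subgroup.centralizer (N : Set G) →
    IsCoatom (Subgroup.centralizer ({x} : Set G))

theorem coatom_eq_of_le {A B : Subgroup G} (hA : IsCoatom A) (hAB : A ≤ B) (hB : B ≠ ⊤) : A = B := by
  rcases eq_or_lt_of_le hAB with h | h
  · exact h
  · exact absurd (hA.2 B h) hB

theorem le_normalizer_inf {K A B : Subgroup G} (hA : K ≤ Subgroup.normalizer (A : Set G))
    (hB : K ≤ Subgroup.normalizer (B : Set G)) : K ≤ Subgroup.normalizer ((A ⊓ B : Subgroup G) : Set G) := by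
  intro k hk
  have h1 := Subgroup.mem_normalizer_iff.mp (hA hk)
  have h2 := Subgroup.mem_normalizer_iff.mp (hB hk)
  rw [Subgroup.mem_normalizer_iff]
  intro h
  exact ⟨fun ⟨ha, hb⟩ => ⟨(h1 h).mp ha, (h2 h).mp hb⟩, fun ⟨ha, hb⟩ => ⟨(h1 h).mpr ha, (h2 h).mpr hb⟩⟩

theorem le_normalizer_sup {K A B : Subgroup G} (hA : K ≤ Subgroup.normalizer (A : Set G))
    (hB : K ≤ Subgroup.normalizer (B : Set G)) : K ≤ Subgroup.normalizer ((A ⊔ B : Subgroup G) : Set G) := by
  intro k hk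
  rw [← Cfsg.Agent.Lib.Helper13.map_conj_eq_self_iff_mem_normalizer, Subgroup.map_sup,
    (Cfsg.Agent.Lib.Helper13.map_conj_eq_self_iff_mem_normalizer A k).mpr (hA hk),
    (Cfsg.Agent.Lib.Helper13.map_conj_eq_self_iff_mem_normalizer B k).mpr (hB hk)]

theorem le_normalizer_of_normal {K A : Subgroup G} [hA : A.Normal] :
    K ≤ Subgroup.normalizer (A : Set G) := by
  rw [Subgroup.normalizer_eq_top_iff.mpr hA]; exact le_top

/-- the key maximality lemma: an `H`-invariant subgroup of the normal subgroup `V` between `V ⊓ H` and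
`V` is one of the two, when `H` is a maximal subgroup not containing `V` -/
theorem inv_max {H V L : Subgroup G} (hH : IsCoatom H) [V.Normal] (hLV : L ≤ V)
    (hHL : H ≤ Subgroup.normalizer (L : Set G)) (hle : V ⊓ H ≤ L) : L = V ⊓ H ∨ L = V := by
  by_cases hLH : L ≤ H
  · left; exact le_antisymm (le_inf hLV hLH) hle
  · right
    apply le_antisymm hLV
    have htop : L ⊔ H = ⊤ := by
      apply hH.2
      refine lt_of_le_of_ne le_sup_right (fun h => hLH ?_)
      rw [h]; exact le_sup_left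
    intro v hv
    have hv' : v ∈ L ⊔ H := by rw [htop]; trivial
    obtain ⟨l, hl, h, hh, rfl⟩ := (Cfsg.Agent.Lib.Helper9.mem_sup_of_le_normalizer hHL).mp hv'
    have h1 : h ∈ V ⊓ H := by
      refine ⟨?_, hh⟩
      have := V.mul_mem (V.inv_mem (hLV hl)) hv
      simpa using this
    exact L.mul_mem hl (hle h1)

/-- centralizer of a singleton normalizes itself intersected with a normal subgroup -/
theorem centralizer_le_normalizer_inf (V : Subgroup G) [V.Normal] (H : Subgroup G) :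
    H ≤ Subgroup.normalizer ((V ⊓ H : Subgroup G) : Set G) :=
  le_normalizer_inf le_normalizer_of_normal Subgroup.le_normalizer

/-- for commuting elements of coprime orders, each factor is a power of the product -/
theorem exists_pow_mul_eq_left {x y : G} (hxy : Commute x y)
    (hcop : (orderOf x).Coprime (orderOf y)) : ∃ a : ℕ, (x * y) ^ a = x := by
  obtain ⟨m, hm⟩ := exists_pow_eq_self_of_coprime (x := x) (n := orderOf y) hcop.symm
  refine ⟨orderOf y * m, ?_⟩
  rw [pow_mul, hxy.mul_pow, pow_orderOf_eq_one, mul_one, hm]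

/-- for commuting elements of coprime orders, the centralizer of the product is contained in the
centralizer of each factor -/
theorem centralizer_mul_le {x y : G} (hxy : Commute x y) (hcop : (orderOf x).Coprime (orderOf y)) :
    Subgroup.centralizer ({x * y} : Set G) ≤ Subgroup.centralizer ({x} : Set G) ⊓
      Subgroup.centralizer ({y} : Set G) := by
  intro g hg
  rw [Subgroup.mem_centralizer_singleton_iff] at hg
  have hc : Commute g (x * y) := hg
  obtain ⟨a, ha⟩ := exists_pow_mul_eq_left hxy hcop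
  obtain ⟨b, hb⟩ := exists_pow_mul_eq_left hxy.symm hcop.symm
  rw [← hxy.eq] at hb
  refine Subgroup.mem_inf.mpr ⟨?_, ?_⟩
  · rw [Subgroup.mem_centralizer_singleton_iff, ← ha]
    exact (hc.pow_right a).eq
  · rw [Subgroup.mem_centralizer_singleton_iff, ← hb]
    exact (hc.pow_right b).eq


/-! ### The second centre of `N` -/

section SecondCentre

variable (N : Subgroup G) [hN : N.Normal]

theorem comm_mem_of_mem {a b : G} (ha : a ∈ N) (hb : b ∈ N) : ⁅a, b⁆ ∈ N := by
  rw [commutatorElement_def]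
  exact N.mul_mem (N.mul_mem (N.mul_mem ha hb) (N.inv_mem ha)) (N.inv_mem hb)

theorem comm_mul_right {w a b : G} (ha : a ∈ N)
    (hb : ⁅w, b⁆ ∈ Subgroup.centralizer (N : Set G)) : ⁅w, a * b⁆ = ⁅w, a⁆ * ⁅w, b⁆ := by
  have h1 : ⁅w, a * b⁆ = ⁅w, a⁆ * (a * ⁅w, b⁆ * a⁻¹) := by
    simp only [commutatorElement_def]; group
  have h2 : a * ⁅w, b⁆ = ⁅w, b⁆ * a := Subgroup.mem_centralizer_iff.mp hb a ha
  rw [h1, h2, mul_inv_cancel_right]

theorem comm_mul_left {a b n : G} (ha : a ∈ N)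
    (hb : ⁅b, n⁆ ∈ Subgroup.centralizer (N : Set G)) : ⁅a * b, n⁆ = ⁅b, n⁆ * ⁅a, n⁆ := by
  have h1 : ⁅a * b, n⁆ = a * ⁅b, n⁆ * a⁻¹ * ⁅a, n⁆ := by
    simp only [commutatorElement_def]; group
  have h2 : a * ⁅b, n⁆ = ⁅b, n⁆ * a := Subgroup.mem_centralizer_iff.mp hb a ha
  rw [h1, h2, mul_inv_cancel_right]

/-- the second centre of `N`, as a subgroup of `G` -/
def W2 : Subgroup G where
  carrier := {w | w ∈ N ∧ ∀ n ∈ N, ⁅w, n⁆ ∈ Subgroup.centralizer (N : Set G)}
  one_mem' := by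
    refine ⟨N.one_mem, fun n _ => ?_⟩
    rw [commutatorElement_one_left]
    exact Subgroup.one_mem _
  mul_mem' := by
    rintro a b ⟨ha, ha'⟩ ⟨hb, hb'⟩
    refine ⟨N.mul_mem ha hb, fun n hn => ?_⟩
    rw [comm_mul_left N ha (hb' n hn)]
    exact Subgroup.mul_mem _ (hb' n hn) (ha' n hn)
  inv_mem' := by
    rintro a ⟨ha, ha'⟩
    refine ⟨N.inv_mem ha, fun n hn => ?_⟩
    have h1 : ⁅a⁻¹, n⁆ = a⁻¹ * ⁅a, n⁆⁻¹ * a := by
      simp only [commutatorElement_def]; group
    have h2 : a * ⁅a, n⁆⁻¹ = ⁅a, n⁆⁻¹ * a :=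
      Subgroup.mem_centralizer_iff.mp (Subgroup.inv_mem _ (ha' n hn)) a ha
    have h3 : a⁻¹ * ⁅a, n⁆⁻¹ * a = ⁅a, n⁆⁻¹ := by
      rw [mul_assoc, ← h2, inv_mul_cancel_left]
    rw [h1, h3]
    exact Subgroup.inv_mem _ (ha' n hn)

theorem mem_W2 {w : G} : w ∈ W2 N ↔ w ∈ N ∧ ∀ n ∈ N, ⁅w, n⁆ ∈ Subgroup.centralizer (N : Set G) :=
  Iff.rfl

theorem W2_le : W2 N ≤ N := fun _ hw => hw.1

instance W2_normal : (W2 N).Normal := by
  constructor
  intro w hw g
  refine ⟨hN.conj_mem w hw.1 g, fun n hn => ?_⟩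
  have h1 : ⁅g * w * g⁻¹, n⁆ = g * ⁅w, g⁻¹ * n * g⁆ * g⁻¹ := by
    simp only [commutatorElement_def]; group
  rw [h1]
  have h2 : g⁻¹ * n * g ∈ N := by
    have := hN.conj_mem n hn g⁻¹
    simpa using this
  have hCn : (Subgroup.centralizer (N : Set G)).Normal := inferInstance
  exact hCn.conj_mem _ (hw.2 _ h2) g

/-- Claim: an element of `N` not centralizing `W₂` lies in `W₂` -/
theorem mem_W2_of_not_commute (h : Hyp N) {x w0 : G} (hx : x ∈ N) (hw0 : w0 ∈ W2 N)
    (hne : w0 * x ≠ x * w0) : x ∈ W2 N := by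
  have hxC : x ∉ Subgroup.centralizer (N : Set G) := by
    intro hc
    exact hne (Subgroup.mem_centralizer_iff.mp hc w0 hw0.1)
  have hH := h x hx hxC
  set H := Subgroup.centralizer ({x} : Set G) with hHdef
  have hw0H : w0 ∉ H := by
    intro hc
    exact hne (Subgroup.mem_centralizer_singleton_iff.mp hc)
  have hL : W2 N ⊔ (N ⊓ H) ≤ N := sup_le (W2_le N) inf_le_left
  have hHL : H ≤ Subgroup.normalizer ((W2 N ⊔ (N ⊓ H) : Subgroup G) : Set G) :=
    le_normalizer_sup le_normalizer_of_normal (centralizer_le_normalizer_inf N H)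
  rcases inv_max hH hL hHL le_sup_right with h1 | h1
  · exfalso
    apply hw0H
    have : w0 ∈ W2 N ⊔ (N ⊓ H) := Subgroup.mem_sup_left hw0
    rw [h1] at this
    exact this.2
  · refine ⟨hx, fun n hn => ?_⟩
    have hn' : n ∈ W2 N ⊔ (N ⊓ H) := by rw [h1]; exact hn
    obtain ⟨w, hw, c, hc, rfl⟩ :=
      (Cfsg.Agent.Lib.Helper9.mem_sup_of_le_normalizer
        (le_normalizer_of_normal (K := N ⊓ H) (A := W2 N))).mp hn'
    have hcx : c * x = x * c := Subgroup.mem_centralizer_singleton_iff.mp hc.2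
    have hcx' : c * x⁻¹ = x⁻¹ * c := by
      have : x⁻¹ * (c * x) * x⁻¹ = x⁻¹ * (x * c) * x⁻¹ := by rw [hcx]
      simpa [mul_assoc] using this.symm
    have h2 : ⁅x, w * c⁆ = ⁅w, x⁆⁻¹ := by
      rw [commutatorElement_inv]
      simp only [commutatorElement_def]
      calc x * (w * c) * x⁻¹ * (w * c)⁻¹ = x * w * (c * x⁻¹) * c⁻¹ * w⁻¹ := by group
        _ = x * w * (x⁻¹ * c) * c⁻¹ * w⁻¹ := by rw [hcx']
        _ = x * w * x⁻¹ * w⁻¹ := by group
    rw [h2]
    exact Subgroup.inv_mem _ (hw.2 x hx)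

/-- if `Z₂(N) > Z(N)` then `N` has class at most two -/
theorem classTwo_of_W2 (h : Hyp N) {z : G} (hz : z ∈ W2 N)
    (hzC : z ∉ Subgroup.centralizer (N : Set G)) :
    ∀ a ∈ N, ∀ b ∈ N, ⁅a, b⁆ ∈ Subgroup.centralizer (N : Set G) := by
  -- some `n0 ∈ N` does not commute with `z`
  obtain ⟨n0, hn0, hn0z⟩ : ∃ n0 ∈ N, n0 * z ≠ z * n0 := by
    by_contra hcon
    push Not at hcon
    exact hzC (Subgroup.mem_centralizer_iff.mpr hcon)
  have hn0W : n0 ∈ W2 N := mem_W2_of_not_commute N h hn0 hz (fun e => hn0z e.symm)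
  have hall : ∀ x ∈ N, x ∈ W2 N := by
    intro x hx
    by_cases hxz : z * x = x * z
    · -- `x * n0` does not commute with `z`
      have h1 : z * (x * n0) ≠ (x * n0) * z := by
        intro e
        apply hn0z
        have : x * (z * n0) = x * (n0 * z) := by
          rw [← mul_assoc, ← hxz, mul_assoc, e, mul_assoc]
        exact (mul_left_cancel this).symm
      have h2 := mem_W2_of_not_commute N h (N.mul_mem hx hn0) hz h1
      have h3 := (W2 N).mul_mem h2 ((W2 N).inv_mem hn0W)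
      simpa using h3
    · exact mem_W2_of_not_commute N h hx hz hxz
  intro a ha b hb
  exact (hall a ha).2 b hb

/-- for `N` of class two, `n ↦ ⁅x, n⁆` is multiplicative in powers -/
theorem comm_pow_right (hc2 : ∀ a ∈ N, ∀ b ∈ N, ⁅a, b⁆ ∈ Subgroup.centralizer (N : Set G))
    {x n : G} (hx : x ∈ N) (hn : n ∈ N) (k : ℕ) : ⁅x, n ^ k⁆ = ⁅x, n⁆ ^ k := by
  induction k with
  | zero => simp
  | succ k ih =>
    rw [pow_succ, comm_mul_right N (N.pow_mem hn k) (hc2 x hx n hn), ih, pow_succ]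

theorem comm_pow_left (hc2 : ∀ a ∈ N, ∀ b ∈ N, ⁅a, b⁆ ∈ Subgroup.centralizer (N : Set G))
    {x n : G} (hx : x ∈ N) (hn : n ∈ N) (k : ℕ) : ⁅x ^ k, n⁆ = ⁅x, n⁆ ^ k := by
  induction k with
  | zero => simp
  | succ k ih =>
    rw [pow_succ, comm_mul_left N (N.pow_mem hx k) (hc2 x hx n hn), ih, pow_succ']

/-- commutators with `x` commute among themselves in a class two group -/
theorem comm_commute (hc2 : ∀ a ∈ N, ∀ b ∈ N, ⁅a, b⁆ ∈ Subgroup.centralizer (N : Set G))
    {x a b : G} (hx : x ∈ N) (ha : a ∈ N) (hb : b ∈ N) : Commute ⁅x, a⁆ ⁅x, b⁆ :=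
  Subgroup.mem_centralizer_iff.mp (hc2 x hx b hb) _ (comm_mem_of_mem N hx ha)

/-- the subgroup of `n ∈ N` with `⁅x, n⁆ ^ p = 1` -/
def Lp (hc2 : ∀ a ∈ N, ∀ b ∈ N, ⁅a, b⁆ ∈ Subgroup.centralizer (N : Set G))
    {x : G} (hx : x ∈ N) (p : ℕ) : Subgroup G where
  carrier := {n | n ∈ N ∧ ⁅x, n⁆ ^ p = 1}
  one_mem' := ⟨N.one_mem, by simp⟩
  mul_mem' := by
    rintro a b ⟨ha, ha'⟩ ⟨hb, hb'⟩
    refine ⟨N.mul_mem ha hb, ?_⟩
    rw [comm_mul_right N ha (hc2 x hx b hb), (comm_commute N hc2 hx ha hb).mul_pow, ha', hb', one_mul]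
  inv_mem' := by
    rintro a ⟨ha, ha'⟩
    refine ⟨N.inv_mem ha, ?_⟩
    have h1 : ⁅x, a⁆ * ⁅x, a⁻¹⁆ = 1 := by
      rw [← comm_mul_right N ha (hc2 x hx a⁻¹ (N.inv_mem ha)), mul_inv_cancel,
        commutatorElement_one_right]
    have h2 : ⁅x, a⁻¹⁆ = ⁅x, a⁆⁻¹ := (eq_inv_of_mul_eq_one_right h1)
    rw [h2, inv_pow, ha', inv_one]

/-- in the class two case every element of `N` has a prime power in the centre of `N` -/
theorem exists_prime_pow_mem [Finite G] (h : Hyp N)
    (hc2 : ∀ a ∈ N, ∀ b ∈ N, ⁅a, b⁆ ∈ Subgroup.centralizer (N : Set G))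
    {x : G} (hx : x ∈ N) (hxC : x ∉ Subgroup.centralizer (N : Set G)) :
    ∃ p : ℕ, p.Prime ∧ x ^ p ∈ Subgroup.centralizer (N : Set G) := by
  have hH := h x hx hxC
  set H := Subgroup.centralizer ({x} : Set G) with hHdef
  obtain ⟨n1, hn1, hn1x⟩ : ∃ n1 ∈ N, n1 * x ≠ x * n1 := by
    by_contra hcon
    push Not at hcon
    exact hxC (Subgroup.mem_centralizer_iff.mpr hcon)
  have hc1 : ⁅x, n1⁆ ≠ 1 := by
    intro e
    rw [commutatorElement_eq_one_iff_commute] at e
    exact hn1x e.eq.symm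
  have hc1N : ⁅x, n1⁆ ∈ N := comm_mem_of_mem N hx hn1
  have ho : orderOf ⁅x, n1⁆ ≠ 1 := fun e => hc1 (orderOf_eq_one_iff.mp e)
  have ho0 : 0 < orderOf ⁅x, n1⁆ := by
    have : IsOfFinOrder ⁅x, n1⁆ := isOfFinOrder_of_finite _
    exact this.orderOf_pos
  set p := (orderOf ⁅x, n1⁆).minFac with hp
  have hpp : p.Prime := Nat.minFac_prime ho
  obtain ⟨m, hm⟩ : p ∣ orderOf ⁅x, n1⁆ := Nat.minFac_dvd _
  refine ⟨p, hpp, ?_⟩
  have hm0 : 0 < m := by
    rcases Nat.eq_zero_or_pos m with h0 | h0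
    · rw [h0, mul_zero] at hm; omega
    · exact h0
  have hmlt : m < orderOf ⁅x, n1⁆ := by
    rw [hm]
    have := hpp.one_lt
    nlinarith
  -- n2 := n1 ^ m
  have hn2 : n1 ^ m ∈ Lp N hc2 hx p := by
    refine ⟨N.pow_mem hn1 m, ?_⟩
    rw [comm_pow_right N hc2 hx hn1, ← pow_mul, mul_comm, ← hm, pow_orderOf_eq_one]
  have hn2H : n1 ^ m ∉ H := by
    intro hc
    have h1 : ⁅x, n1 ^ m⁆ = 1 := by
      rw [commutatorElement_eq_one_iff_commute]
      exact (Subgroup.mem_centralizer_singleton_iff.mp hc).symm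
    rw [comm_pow_right N hc2 hx hn1] at h1
    exact pow_ne_one_of_lt_orderOf hm0.ne' hmlt h1
  have hLN : Lp N hc2 hx p ≤ N := fun _ hn => hn.1
  have hHL : H ≤ Subgroup.normalizer ((Lp N hc2 hx p : Subgroup G) : Set G) := by
    intro g hg
    have hgx : g * x = x * g := Subgroup.mem_centralizer_singleton_iff.mp hg
    have key : ∀ g : G, g * x = x * g → ∀ n, n ∈ Lp N hc2 hx p → g * n * g⁻¹ ∈ Lp N hc2 hx p := by
      intro g hgx n hn
      refine ⟨hN.conj_mem n hn.1 g, ?_⟩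
      have hx' : g⁻¹ * x * g = x := by
        rw [mul_assoc, ← hgx, inv_mul_cancel_left]
      have h1 : ⁅x, g * n * g⁻¹⁆ = g * ⁅g⁻¹ * x * g, n⁆ * g⁻¹ := by
        simp only [commutatorElement_def]; group
      rw [h1, hx', conj_pow, hn.2, mul_one, mul_inv_cancel]
    rw [Subgroup.mem_normalizer_iff]
    intro n
    constructor
    · exact key g hgx n
    · intro hn
      have hgx' : g⁻¹ * x = x * g⁻¹ := by
        have : g⁻¹ * (g * x) * g⁻¹ = g⁻¹ * (x * g) * g⁻¹ := by rw [hgx]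
        simpa [mul_assoc] using this.symm
      have := key g⁻¹ hgx' _ hn
      simpa [mul_assoc] using this
  have hle : N ⊓ H ≤ Lp N hc2 hx p := by
    intro n hn
    refine ⟨hn.1, ?_⟩
    have : ⁅x, n⁆ = 1 := by
      rw [commutatorElement_eq_one_iff_commute]
      exact (Subgroup.mem_centralizer_singleton_iff.mp hn.2).symm
    rw [this, one_pow]
  rcases inv_max hH hLN hHL hle with h1 | h1
  · exfalso
    rw [h1] at hn2
    exact hn2H hn2.2
  · rw [Subgroup.mem_centralizer_iff]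
    intro n hn
    have hn' : n ∈ Lp N hc2 hx p := by rw [h1]; exact hn
    have h2 : ⁅x ^ p, n⁆ = 1 := by
      rw [comm_pow_left N hc2 hx hn, hn'.2]
    exact ((commutatorElement_eq_one_iff_commute.mp h2).eq).symm

end SecondCentre


/-- a quotient `A ⧸ Z` containing all commutators in `Z` and such that every element has a prime
power in `Z` is elementary abelian -/
theorem elemAb_quotient {A : Type*} [Group A] [Finite A] (Z : Subgroup A) [Z.Normal]
    (hc : ∀ a b : A, ⁅a, b⁆ ∈ Z) (hp : ∀ x : A, x ∉ Z → ∃ p : ℕ, p.Prime ∧ x ^ p ∈ Z) :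
    ∃ p : ℕ, p.Prime ∧ Cfsg.IsElementaryAbelian p (⊤ : Subgroup (A ⧸ Z)) := by
  have hcomm : ∀ q1 q2 : A ⧸ Z, q1 * q2 = q2 * q1 := by
    intro q1 q2
    induction q1 using QuotientGroup.induction_on with
    | H a =>
    induction q2 using QuotientGroup.induction_on with
    | H b =>
    rw [← QuotientGroup.mk_mul, ← QuotientGroup.mk_mul, QuotientGroup.eq]
    have : (a * b)⁻¹ * (b * a) = ⁅b⁻¹, a⁻¹⁆ := by
      simp only [commutatorElement_def]; group
    rw [this]
    exact hc _ _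
  have hord : ∀ q : A ⧸ Z, q ≠ 1 → (orderOf q).Prime := by
    intro q hq
    induction q using QuotientGroup.induction_on with
    | H x =>
    have hx : x ∉ Z := fun hx => hq ((QuotientGroup.eq_one_iff x).mpr hx)
    obtain ⟨p, hpp, hxp⟩ := hp x hx
    have h1 : (x : A ⧸ Z) ^ p = 1 := by
      rw [← QuotientGroup.mk_pow]
      exact (QuotientGroup.eq_one_iff _).mpr hxp
    have h2 := orderOf_dvd_of_pow_eq_one h1
    rcases (Nat.dvd_prime hpp).mp h2 with h3 | h3
    · exact absurd (orderOf_eq_one_iff.mp h3) hq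
    · rw [h3]; exact hpp
  have hcm : IsMulCommutative ↥(⊤ : Subgroup (A ⧸ Z)) :=
    ⟨⟨fun a b => Subtype.ext (hcomm a b)⟩⟩
  by_cases htriv : ∀ q : A ⧸ Z, q = 1
  · refine ⟨2, Nat.prime_two, hcm, fun a _ => ?_⟩
    rw [htriv a, one_pow]
  · push Not at htriv
    obtain ⟨q0, hq0⟩ := htriv
    refine ⟨orderOf q0, hord q0 hq0, hcm, fun q _ => ?_⟩
    by_cases hq : q = 1
    · rw [hq, one_pow]
    · have hpq : orderOf q = orderOf q0 := by
        by_contra hne
        have hcop : (orderOf q0).Coprime (orderOf q) :=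
          (Nat.coprime_primes (hord q0 hq0) (hord q hq)).mpr (fun e => hne e.symm)
        have h1 : orderOf (q0 * q) = orderOf q0 * orderOf q :=
          Commute.orderOf_mul_eq_mul_orderOf_of_coprime (show Commute q0 q from hcomm q0 q) hcop
        have h2 : q0 * q ≠ 1 := by
          intro e
          rw [e, orderOf_one] at h1
          have := (hord q0 hq0).one_lt
          have := (hord q hq).one_lt
          nlinarith
        have h3 := hord _ h2
        rw [h1] at h3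
        exact Nat.not_prime_mul (hord q0 hq0).one_lt.ne' (hord q hq).one_lt.ne' h3
      rw [← hpq]
      exact pow_orderOf_eq_one q

end Cfsg.Agent.Lib.Helper21.MaxCent
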