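import Mathlib
import Cfsg.Agent.Lib.Helper21.MaxCent1
import Cfsg.Agent.Lib.Helper23.SylowCount

/-!
# Groups in which centralizers of noncentral elements (of a normal subgroup) are maximal, part 2

The centreless case with an abelian minimal normal subgroup.
-/

set_option autoImplicit false

namespace Cfsg.Agent.Lib.Helper21.MaxCent

open scoped commutatorElement

variable {G : Type*} [Group G]

/-- the centreless hypothesis -/
structure CHyp (N : Subgroup G) : Prop where
  trivial_center : ∀ y ∈ N, y ∈ Subgroup.centralizer (N : Set G) → y = 1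
  coatom : ∀ x ∈ N, x ≠ 1 → IsCoatom (Subgroup.centralizer ({x} : Set G))

/-- minimal normal subgroup of `G` -/
structure MinNormal (V : Subgroup G) : Prop where
  normal : V.Normal
  ne_bot : V ≠ ⊥
  min : ∀ K : Subgroup G, K.Normal → K ≤ V → K = ⊥ ∨ K = V

/-- an abelian minimal normal subgroup has prime exponent -/
theorem MinNormal.exists_prime_pow_eq_one [Finite G] {V : Subgroup G} (hV : MinNormal V)
    (hab : ∀ a ∈ V, ∀ b ∈ V, a * b = b * a) : ∃ r : ℕ, r.Prime ∧ ∀ v ∈ V, v ^ r = 1 := by
  have hVn := hV.normal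
  obtain ⟨⟨v, hv⟩, hv1⟩ := (Subgroup.ne_bot_iff_exists_ne_one).mp hV.ne_bot
  have hv1' : v ≠ 1 := fun e => hv1 (Subtype.ext e)
  have ho : orderOf v ≠ 1 := fun e => hv1' (orderOf_eq_one_iff.mp e)
  have ho0 : orderOf v ≠ 0 := (isOfFinOrder_of_finite v).orderOf_pos.ne'
  set r := (orderOf v).minFac with hr
  have hrp : r.Prime := Nat.minFac_prime ho
  set u := v ^ (orderOf v / r) with hu
  have huo : orderOf u = r := orderOf_pow_orderOf_div ho0 (Nat.minFac_dvd _)
  have hu1 : u ≠ 1 := by
    intro e
    rw [e, orderOf_one] at huo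
    exact hrp.one_lt.ne huo
  let K : Subgroup G :=
    { carrier := {w | w ∈ V ∧ w ^ r = 1}
      one_mem' := ⟨V.one_mem, one_pow r⟩
      mul_mem' := by
        rintro a b ⟨ha, ha'⟩ ⟨hb, hb'⟩
        refine ⟨V.mul_mem ha hb, ?_⟩
        rw [(show Commute a b from hab a ha b hb).mul_pow, ha', hb', one_mul]
      inv_mem' := by
        rintro a ⟨ha, ha'⟩
        exact ⟨V.inv_mem ha, by rw [inv_pow, ha', inv_one]⟩ }
  have hKn : K.Normal := by
    constructor
    rintro w ⟨hw, hw'⟩ g
    exact ⟨hVn.conj_mem w hw g, by rw [conj_pow, hw', mul_one, mul_inv_cancel]⟩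
  have hKV : K ≤ V := fun w hw => hw.1
  have huK : u ∈ K := ⟨V.pow_mem hv _, by rw [← huo]; exact pow_orderOf_eq_one u⟩
  rcases hV.min K hKn hKV with e | e
  · exfalso
    rw [e, Subgroup.mem_bot] at huK
    exact hu1 huK
  · refine ⟨r, hrp, fun w hw => ?_⟩
    have : w ∈ K := by rw [e]; exact hw
    exact this.2

section Abelian

variable {N : Subgroup G} [hN : N.Normal] (h : CHyp N) {V : Subgroup G} (hV : MinNormal V)
  (hVN : V ≤ N) (hab : ∀ a ∈ V, ∀ b ∈ V, a * b = b * a)

include h hV hab in
/-- a nontrivial element of `N` centralizes `V` or acts fixed point freely on it -/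
theorem le_or_inf_eq_bot {g : G} (hg : g ∈ N) (hg1 : g ≠ 1) :
    V ≤ Subgroup.centralizer ({g} : Set G) ∨ V ⊓ Subgroup.centralizer ({g} : Set G) = ⊥ := by
  have hVn := hV.normal
  have hH := h.coatom g hg hg1
  set H := Subgroup.centralizer ({g} : Set G) with hHdef
  by_cases hVH : V ≤ H
  · exact Or.inl hVH
  · right
    have htop : V ⊔ H = ⊤ := by
      apply hH.2
      refine lt_of_le_of_ne le_sup_right (fun e => hVH ?_)
      rw [e]; exact le_sup_left
    have hK : (V ⊓ H).Normal := by
      rw [← Subgroup.normalizer_eq_top_iff, eq_top_iff, ← htop]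
      apply sup_le
      · -- V centralizes V ⊓ H
        refine le_trans ?_ (Subgroup.centralizer_le_normalizer _)
        intro v hv
        rw [Subgroup.mem_centralizer_iff]
        intro k hk
        exact hab k hk.1 v hv
      · exact centralizer_le_normalizer_inf V H
    rcases hV.min _ hK inf_le_left with e | e
    · exact e
    · exact absurd (e ▸ inf_le_right) hVH

include h hV hab in
/-- an element of `N` commuting with a nontrivial element of `V` centralizes `V` -/
theorem mem_centralizer_of_commute {g v : G} (hg : g ∈ N) (hv : v ∈ V) (hv1 : v ≠ 1)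
    (hgv : g * v = v * g) : g ∈ Subgroup.centralizer (V : Set G) := by
  by_cases hg1 : g = 1
  · rw [hg1]; exact Subgroup.one_mem _
  rcases le_or_inf_eq_bot h hV hab hg hg1 with h1 | h1
  · rw [Subgroup.mem_centralizer_iff]
    intro w hw
    exact Subgroup.mem_centralizer_singleton_iff.mp (h1 hw)
  · exfalso
    have : v ∈ V ⊓ Subgroup.centralizer ({g} : Set G) :=
      ⟨hv, Subgroup.mem_centralizer_singleton_iff.mpr hgv.symm⟩
    rw [h1, Subgroup.mem_bot] at this
    exact hv1 this

include h hV hVN in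
/-- some element of `N` does not centralize `V` -/
theorem exists_not_mem_centralizer : ∃ g ∈ N, g ∉ Subgroup.centralizer (V : Set G) := by
  by_contra hcon
  push Not at hcon
  apply hV.ne_bot
  rw [eq_bot_iff]
  intro v hv
  rw [Subgroup.mem_bot]
  apply h.trivial_center v (hVN hv)
  rw [Subgroup.mem_centralizer_iff]
  intro n hn
  exact (Subgroup.mem_centralizer_iff.mp (hcon n hn) v hv).symm

include h hV hVN hab in
/-- the Frobenius structure of `N` with respect to an element not centralizing `V` -/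
theorem frob_structure {g : G} (hg : g ∈ N) (hgC : g ∉ Subgroup.centralizer (V : Set G)) :
    V ⊓ Subgroup.centralizer ({g} : Set G) = ⊥ ∧ V ⊔ Subgroup.centralizer ({g} : Set G) = ⊤ ∧
      N ⊓ Subgroup.centralizer (V : Set G) = V ∧
      V ⊔ (N ⊓ Subgroup.centralizer ({g} : Set G)) = N := by
  have hVn := hV.normal
  have hg1 : g ≠ 1 := by
    rintro rfl
    exact hgC (Subgroup.one_mem _)
  have hH := h.coatom g hg hg1
  set H := Subgroup.centralizer ({g} : Set G) with hHdef
  have hVH : V ⊓ H = ⊥ := by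
    rcases le_or_inf_eq_bot h hV hab hg hg1 with h1 | h1
    · exfalso
      apply hgC
      rw [Subgroup.mem_centralizer_iff]
      intro w hw
      exact Subgroup.mem_centralizer_singleton_iff.mp (h1 hw)
    · exact h1
  have hVnH : ¬ V ≤ H := by
    intro hle
    apply hV.ne_bot
    rw [← hVH]
    exact (inf_eq_left.mpr hle).symm
  have htop : V ⊔ H = ⊤ := by
    apply hH.2
    refine lt_of_le_of_ne le_sup_right (fun e => hVnH ?_)
    rw [e]; exact le_sup_left
  have hdecomp : ∀ x : G, ∃ v ∈ V, ∃ k ∈ H, v * k = x := by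
    intro x
    have hx : x ∈ V ⊔ H := by rw [htop]; trivial
    exact (Cfsg.Agent.Lib.Helper9.mem_sup_of_le_normalizer
      (le_normalizer_of_normal (K := H) (A := V))).mp hx
  have hVM : V ≤ N ⊓ Subgroup.centralizer (V : Set G) := by
    intro v hv
    refine Subgroup.mem_inf.mpr ⟨hVN hv, ?_⟩
    rw [Subgroup.mem_centralizer_iff]
    intro w hw
    exact hab w hw v hv
  have hMn : (N ⊓ Subgroup.centralizer (V : Set G)).Normal := inferInstance
  set M := N ⊓ Subgroup.centralizer (V : Set G) with hMdef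
  have hDn : (M ⊓ H).Normal := by
    rw [← Subgroup.normalizer_eq_top_iff, eq_top_iff, ← htop]
    apply sup_le
    · refine le_trans ?_ (Subgroup.centralizer_le_normalizer _)
      intro v hv
      rw [Subgroup.mem_centralizer_iff]
      intro d hd
      exact (Subgroup.mem_centralizer_iff.mp hd.1.2 v hv).symm
    · exact centralizer_le_normalizer_inf M H
  have hD : M ⊓ H = ⊥ := by
    by_contra hne
    obtain ⟨⟨d, hd⟩, hd1⟩ := (Subgroup.ne_bot_iff_exists_ne_one).mp hne
    have hd1' : d ≠ 1 := fun e => hd1 (Subtype.ext e)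
    obtain ⟨⟨v, hv⟩, hv1⟩ := (Subgroup.ne_bot_iff_exists_ne_one).mp hV.ne_bot
    have hv1' : v ≠ 1 := fun e => hv1 (Subtype.ext e)
    have hdN : d ∈ N := hd.1.1
    have hvN : v ∈ N := hVN hv
    have hVD : ∀ t, t ∈ V → t ∈ M ⊓ H → t = 1 := by
      intro t ht1 ht2
      have : t ∈ V ⊓ H := ⟨ht1, ht2.2⟩
      rw [hVH, Subgroup.mem_bot] at this
      exact this
    have hy1 : v * d ≠ 1 := by
      intro e
      have h1 : d = v⁻¹ := (eq_inv_of_mul_eq_one_right e)
      have h2 : d ∈ V := by rw [h1]; exact V.inv_mem hv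
      exact hd1' (hVD d h2 hd)
    have hKy := h.coatom (v * d) (N.mul_mem hvN hdN) hy1
    have hKle : Subgroup.centralizer ({v * d} : Set G) ≤
        Subgroup.centralizer ({v} : Set G) ⊓ Subgroup.centralizer ({d} : Set G) := by
      intro k hk
      have hk' : k * (v * d) = v * d * k := Subgroup.mem_centralizer_singleton_iff.mp hk
      have h1 : k * v * k⁻¹ ∈ V := hVn.conj_mem v hv k
      have h2 : k * d * k⁻¹ ∈ M ⊓ H := hDn.conj_mem d hd k
      have h3 : (k * v * k⁻¹) * (k * d * k⁻¹) = v * d := by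
        have : (k * v * k⁻¹) * (k * d * k⁻¹) = k * (v * d) * k⁻¹ := by group
        rw [this, hk', mul_inv_cancel_right]
      have h4 : v⁻¹ * (k * v * k⁻¹) = d * (k * d * k⁻¹)⁻¹ := by
        have : (k * v * k⁻¹) = v * d * (k * d * k⁻¹)⁻¹ := by
          rw [← h3, mul_inv_cancel_right]
        rw [this]; group
      have h5 : v⁻¹ * (k * v * k⁻¹) = 1 := by
        apply hVD _ (V.mul_mem (V.inv_mem hv) h1)
        rw [h4]
        exact Subgroup.mul_mem _ hd (Subgroup.inv_mem _ h2)
      have h6 : k * v * k⁻¹ = v := by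
        have := congrArg (fun t => v * t) h5
        simpa using this
      have h7 : k * d * k⁻¹ = d := by
        rw [h6] at h3
        exact mul_left_cancel h3
      refine Subgroup.mem_inf.mpr ⟨?_, ?_⟩
      · rw [Subgroup.mem_centralizer_singleton_iff]
        have := congrArg (fun t => t * k) h6
        simpa using this
      · rw [Subgroup.mem_centralizer_singleton_iff]
        have := congrArg (fun t => t * k) h7
        simpa using this
    have hCv := h.coatom v hvN hv1'
    have hCd := h.coatom d hdN hd1'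
    have e1 := coatom_eq_of_le hKy (hKle.trans inf_le_left) hCv.1
    have e2 := coatom_eq_of_le hKy (hKle.trans inf_le_right) hCd.1
    have hgd : g ∈ Subgroup.centralizer ({d} : Set G) := by
      rw [Subgroup.mem_centralizer_singleton_iff]
      exact (Subgroup.mem_centralizer_singleton_iff.mp hd.2).symm
    rw [← e2, e1] at hgd
    have hgv : g * v = v * g := Subgroup.mem_centralizer_singleton_iff.mp hgd
    have : v ∈ V ⊓ H := ⟨hv, Subgroup.mem_centralizer_singleton_iff.mpr hgv.symm⟩
    rw [hVH, Subgroup.mem_bot] at this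
    exact hv1' this
  have hMV : M = V := by
    apply le_antisymm _ hVM
    intro m hm
    obtain ⟨v, hv, k, hk, rfl⟩ := hdecomp m
    have hkM : k ∈ M := by
      have := M.mul_mem (M.inv_mem (hVM hv)) hm
      simpa using this
    have : k ∈ M ⊓ H := ⟨hkM, hk⟩
    rw [hD, Subgroup.mem_bot] at this
    rw [this, mul_one]
    exact hv
  refine ⟨hVH, htop, hMV, ?_⟩
  apply le_antisymm (sup_le hVN inf_le_left)
  intro n hn
  obtain ⟨v, hv, k, hk, rfl⟩ := hdecomp n
  have hkN : k ∈ N := by
    have := N.mul_mem (N.inv_mem (hVN hv)) hn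
    simpa using this
  exact Subgroup.mul_mem _ (Subgroup.mem_sup_left hv) (Subgroup.mem_sup_right ⟨hkN, hk⟩)

include h hV hVN hab in
/-- the structure theorem in the abelian case -/
theorem abelian_case [Finite G] :
    ∃ (L : Subgroup G) (q : ℕ), q.Prime ∧ L ≤ N ∧ Nat.card L = q ∧ V ⊓ L = ⊥ ∧ V ⊔ L = N ∧
      (∀ l ∈ L, l ≠ 1 → ∀ v ∈ V, l * v = v * l → v = 1) ∧
      N ⊓ Subgroup.centralizer (V : Set G) = V := by
  have hVn := hV.normal
  obtain ⟨g0, hg0, hg0C⟩ := exists_not_mem_centralizer h hV hVN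
  obtain ⟨hVH0, -, hMV, -⟩ := frob_structure h hV hVN hab hg0 hg0C
  have hg01 : g0 ≠ 1 := by
    rintro rfl
    exact hg0C (Subgroup.one_mem _)
  have ho : orderOf g0 ≠ 1 := fun e => hg01 (orderOf_eq_one_iff.mp e)
  have ho0 : orderOf g0 ≠ 0 := (isOfFinOrder_of_finite g0).orderOf_pos.ne'
  set q := (orderOf g0).minFac with hq
  have hqp : q.Prime := Nat.minFac_prime ho
  set l := g0 ^ (orderOf g0 / q) with hl
  have hlo : orderOf l = q := orderOf_pow_orderOf_div ho0 (Nat.minFac_dvd _)
  have hl1 : l ≠ 1 := by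
    intro e
    rw [e, orderOf_one] at hlo
    exact hqp.one_lt.ne hlo
  have hlN : l ∈ N := N.pow_mem hg0 _
  have hlV : l ∉ V := by
    intro hlV
    have : l ∈ V ⊓ Subgroup.centralizer ({g0} : Set G) := by
      refine ⟨hlV, ?_⟩
      apply Subgroup.pow_mem
      rw [Subgroup.mem_centralizer_singleton_iff]
    rw [hVH0, Subgroup.mem_bot] at this
    exact hl1 this
  have hlC : l ∉ Subgroup.centralizer (V : Set G) := by
    intro hc
    apply hlV
    rw [← hMV]
    exact ⟨hlN, hc⟩
  obtain ⟨hVH, htop, -, hsup⟩ := frob_structure h hV hVN hab hlN hlC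
  set H := Subgroup.centralizer ({l} : Set G) with hHdef
  have hfpf : ∀ l' ∈ N ⊓ H, l' ≠ 1 → ∀ v ∈ V, l' * v = v * l' → v = 1 := by
    intro l' hl' hl'1 v hv hcomm
    by_contra hv1
    have h1 := mem_centralizer_of_commute h hV hab hl'.1 hv hv1 hcomm
    have h2 : l' ∈ V := by
      rw [← hMV]; exact ⟨hl'.1, h1⟩
    have h3 : l' ∈ V ⊓ H := ⟨h2, hl'.2⟩
    rw [hVH, Subgroup.mem_bot] at h3
    exact hl'1 h3
  have hlL : l ∈ N ⊓ H :=
    Subgroup.mem_inf.mpr ⟨hlN, by rw [hHdef, Subgroup.mem_centralizer_singleton_iff]⟩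
  refine ⟨N ⊓ H, q, hqp, inf_le_left, ?_, ?_, hsup, hfpf, hMV⟩
  · -- the cardinality
    obtain ⟨⟨v, hv⟩, hv1⟩ := (Subgroup.ne_bot_iff_exists_ne_one).mp hV.ne_bot
    have hv1' : v ≠ 1 := fun e => hv1 (Subtype.ext e)
    have hK := h.coatom v (hVN hv) hv1'
    set K := Subgroup.centralizer ({v} : Set G) with hKdef
    have hVK : V ≤ K := by
      intro w hw
      rw [hKdef, Subgroup.mem_centralizer_singleton_iff]
      exact hab w hw v hv
    have hlK : l ∉ K := by
      intro hc
      exact hv1' (hfpf l hlL hl1 v hv (Subgroup.mem_centralizer_singleton_iff.mp hc))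
    have hdecomp : ∀ x : G, ∃ w ∈ V, ∃ k ∈ H, w * k = x := by
      intro x
      have hx : x ∈ V ⊔ H := by rw [htop]; trivial
      exact (Cfsg.Agent.Lib.Helper9.mem_sup_of_le_normalizer
        (le_normalizer_of_normal (K := H) (A := V))).mp hx
    have key : ∀ t : G, (∀ k ∈ H, t * k = k * t) → ∀ c ∈ K, t * c * t⁻¹ ∈ K := by
      intro t ht c hc
      obtain ⟨w, hw, k, hk, rfl⟩ := hdecomp c
      have hkK : k ∈ K := by
        have := K.mul_mem (K.inv_mem (hVK hw)) hc
        simpa using this
      have h1 : t * (w * k) * t⁻¹ = (t * w * t⁻¹) * k := by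
        have : t * (w * k) * t⁻¹ = (t * w * t⁻¹) * (t * k * t⁻¹) := by group
        rw [this, ht k hk, mul_inv_cancel_right]
      rw [h1]
      exact K.mul_mem (hVK (hVn.conj_mem w hw t)) hkK
    have hlnorm : l ∈ Subgroup.normalizer (K : Set G) := by
      rw [Subgroup.mem_normalizer_iff]
      intro c
      constructor
      · apply key l
        intro k hk
        exact (Subgroup.mem_centralizer_singleton_iff.mp hk).symm
      · intro hc
        have h1 : ∀ k ∈ H, l⁻¹ * k = k * l⁻¹ := by
          intro k hk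
          have h2 : k * l = l * k := Subgroup.mem_centralizer_singleton_iff.mp hk
          have : l⁻¹ * (k * l) * l⁻¹ = l⁻¹ * (l * k) * l⁻¹ := by rw [h2]
          simpa [mul_assoc] using this
        have := key l⁻¹ h1 _ hc
        simpa [mul_assoc] using this
    have hT : Subgroup.zpowers l ≤ Subgroup.normalizer (K : Set G) :=
      (Subgroup.zpowers_le).mpr hlnorm
    have hKT : K ⊔ Subgroup.zpowers l = ⊤ := by
      apply hK.2
      refine lt_of_le_of_ne le_sup_left (fun e => hlK ?_)
      rw [e]; exact Subgroup.mem_sup_right (Subgroup.mem_zpowers l)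
    have hidx : K.index ∣ q := by
      have h1 := Cfsg.Agent.Lib.Helper23.relIndex_sup_of_le_normalizer hT
      rw [hKT, Subgroup.relIndex_top_right] at h1
      rw [h1]
      have h2 := Subgroup.relIndex_dvd_card K (Subgroup.zpowers l)
      rwa [Nat.card_zpowers, hlo] at h2
    have hidx' : K.index = q := by
      rcases (Nat.dvd_prime hqp).mp hidx with e | e
      · exact absurd (Subgroup.index_eq_one.mp e) hK.1
      · exact e
    have hLK : (N ⊓ H) ⊓ K = ⊥ := by
      rw [eq_bot_iff]
      intro l' hl'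
      rw [Subgroup.mem_bot]
      by_contra hl'1
      exact hv1' (hfpf l' hl'.1 hl'1 v hv (Subgroup.mem_centralizer_singleton_iff.mp hl'.2))
    have hcard : Nat.card ↥(N ⊓ H) = K.relIndex (N ⊓ H) := by
      rw [← Subgroup.inf_relIndex_right, inf_comm K, hLK, Subgroup.relIndex_bot_left]
    have hle : Nat.card ↥(N ⊓ H) ≤ q := by
      rw [hcard, ← hidx', ← Subgroup.relIndex_top_right K]
      apply Subgroup.relIndex_le_of_le_right le_top
      rw [Subgroup.relIndex_top_right, hidx']
      exact hqp.ne_zero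
    have hge : q ≤ Nat.card ↥(N ⊓ H) := by
      have h1 : Subgroup.zpowers l ≤ N ⊓ H := (Subgroup.zpowers_le).mpr hlL
      have h2 := Subgroup.card_le_of_le h1
      rwa [Nat.card_zpowers, hlo] at h2
    exact le_antisymm hle hge
  · rw [eq_bot_iff]
    intro x hx
    have : x ∈ V ⊓ H := ⟨hx.1, hx.2.2⟩
    rw [hVH] at this
    exact this

end Abelian

end Cfsg.Agent.Lib.Helper21.MaxCent
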