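import Mathlib
import Cfsg.Agent.Lib.Helper21.MaxCent2
import Cfsg.Agent.Lib.Helper1.ThompsonNPC3
import Cfsg.Agent.Lib.Helper1.Cores
import Cfsg.Agent.Lib.Helper21.FrobTools

/-!
# Groups in which centralizers of noncentral elements (of a normal subgroup) are maximal, part 3

A nonabelian minimal normal subgroup is impossible.
-/

set_option autoImplicit false

namespace Cfsg.Agent.Lib.Helper21.MaxCent

open Cfsg

universe u

section CharSimple

variable {X : Type u} [Group X] [Finite X]

/-- characteristically simple -/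
def CharSimple (X : Type u) [Group X] : Prop :=
  ∀ C : Subgroup X, C.Characteristic → C = ⊥ ∨ C = ⊤

theorem CharSimple.center_eq_bot (hX : CharSimple X) (hnab : ¬ ∀ a b : X, a * b = b * a) :
    Subgroup.center X = ⊥ := by
  rcases hX (Subgroup.center X) inferInstance with e | e
  · exact e
  · exfalso
    apply hnab
    intro a b
    have : b ∈ Subgroup.center X := by rw [e]; trivial
    exact (Subgroup.mem_center_iff.mp this a)

theorem CharSimple.not_isPGroup (hX : CharSimple X) (hnab : ¬ ∀ a b : X, a * b = b * a)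
    (p : ℕ) [Fact p.Prime] : ¬ IsPGroup p X := by
  intro hp
  have hnt : Nontrivial X := by
    by_contra hnt
    rw [not_nontrivial_iff_subsingleton] at hnt
    exact hnab (fun a b => Subsingleton.elim _ _)
  have := hp.center_nontrivial
  rw [hX.center_eq_bot hnab] at this
  exact not_nontrivial _ this

theorem CharSimple.normal_pgroup_eq_bot (hX : CharSimple X) (hnab : ¬ ∀ a b : X, a * b = b * a)
    (p : ℕ) [Fact p.Prime] (R : Subgroup X) (hRn : R.Normal) (hRp : IsPGroup p R) : R = ⊥ := by
  have h1 : R ≤ pCore p X := Cfsg.Agent.Lib.Helper1.le_pCore hRn hRp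
  rcases hX (pCore p X) (Cfsg.Agent.Lib.Helper1.pCore_characteristic p) with e | e
  · rw [e] at h1; exact eq_bot_iff.mpr h1
  · exfalso
    apply hX.not_isPGroup hnab p
    have h2 := Cfsg.Agent.Lib.Helper1.pCore_isPGroup (G := X) p
    rw [e] at h2
    intro x
    obtain ⟨k, hk⟩ := h2 ⟨x, Subgroup.mem_top x⟩
    exact ⟨k, by simpa using congrArg Subtype.val hk⟩

theorem CharSimple.no_npc (hX : CharSimple X) (hnab : ¬ ∀ a b : X, a * b = b * a)
    (p : ℕ) [Fact p.Prime] (hp : p ∣ Nat.card X) : ¬ HasNormalPComplement p X := by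
  intro hnpc
  have hpp : p.Prime := Fact.out
  obtain ⟨K, hKn, hKcop, k, hk⟩ :=
    Cfsg.Agent.Lib.Helper13.hasNormalPComplement_iff_exists.mp hnpc
  have h1 : K ≤ pPrimeCore p X := Cfsg.Agent.Lib.Helper1.le_pPrimeCore hKn hKcop
  rcases hX (pPrimeCore p X) (Cfsg.Agent.Lib.Helper1.pPrimeCore_characteristic p) with e | e
  · rw [e] at h1
    have hK : K = ⊥ := eq_bot_iff.mpr h1
    apply hX.not_isPGroup hnab p
    rw [hK, Subgroup.index_bot] at hk
    exact IsPGroup.of_card hk
  · have h2 := Cfsg.Agent.Lib.Helper1.pPrimeCore_coprime (G := X) p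
    rw [e, Subgroup.card_top] at h2
    exact hpp.one_lt.ne' (Nat.eq_one_of_dvd_coprimes h2 hp (dvd_refl p))

end CharSimple


section Dichotomy

variable {G : Type u} [Group G]

theorem mem_of_pow_mem_of_coprime (S : Subgroup G) (w : G) {d₁ d₂ : ℕ} (hcop : Nat.Coprime d₁ d₂)
    (h1 : w ^ d₁ ∈ S) (h2 : w ^ d₂ ∈ S) : w ∈ S := by
  obtain ⟨a, b, hab⟩ := Nat.isCoprime_iff_coprime.mpr hcop
  have : w = (w ^ d₁) ^ a * (w ^ d₂) ^ b := by
    rw [← zpow_natCast w d₁, ← zpow_natCast w d₂, ← zpow_mul', ← zpow_mul', ← zpow_add, hab, zpow_one]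
  rw [this]
  exact S.mul_mem (S.zpow_mem h1 a) (S.zpow_mem h2 b)

variable [Finite G] {N : Subgroup G} (h : CHyp N)

include h in
/-- commuting nontrivial elements of `N` of coprime orders have the same centralizer -/
theorem centralizer_eq_of_coprime {x y : G} (hx : x ∈ N) (hy : y ∈ N) (hx1 : x ≠ 1) (hy1 : y ≠ 1)
    (hxy : Commute x y) (hcop : (orderOf x).Coprime (orderOf y)) :
    Subgroup.centralizer ({x} : Set G) = Subgroup.centralizer ({y} : Set G) := by
  have hxy1 : x * y ≠ 1 := by
    intro e
    have h1 : y = x⁻¹ := (eq_inv_of_mul_eq_one_right e)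
    rw [h1, orderOf_inv, Nat.coprime_self] at hcop
    exact hx1 (orderOf_eq_one_iff.mp hcop)
  have hK := h.coatom (x * y) (N.mul_mem hx hy) hxy1
  have hle := centralizer_mul_le hxy hcop
  have e1 := coatom_eq_of_le hK (hle.trans inf_le_left) (h.coatom x hx hx1).1
  have e2 := coatom_eq_of_le hK (hle.trans inf_le_right) (h.coatom y hy hy1).1
  rw [← e1, e2]

include h in
/-- the centralizer in a subgroup `A ≤ N` of an element `x` of prime order `p` is a `p`-group
or centralizes all of `C_G(x)` -/
theorem dichotomy {p : ℕ} (hpp : p.Prime) {x : G} (hx : x ∈ N) (hxo : orderOf x = p)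
    (A : Subgroup G) (hAN : A ≤ N) (hAH : A ≤ Subgroup.centralizer ({x} : Set G)) :
    IsPGroup p ↥A ∨ ∀ w ∈ A, w ∈ Subgroup.centralizer
      ((Subgroup.centralizer ({x} : Set G) : Subgroup G) : Set G) := by
  have hx1 : x ≠ 1 := by
    intro e
    rw [e, orderOf_one] at hxo
    exact hpp.one_lt.ne hxo
  set H := Subgroup.centralizer ({x} : Set G) with hHdef
  by_cases hA : ∀ a ∈ A, ∃ k : ℕ, a ^ p ^ k = 1
  · left
    intro a
    obtain ⟨k, hk⟩ := hA a a.2
    exact ⟨k, Subtype.ext (by simpa using hk)⟩
  · right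
    push Not at hA
    obtain ⟨a, ha, hak⟩ := hA
    have hd0 : orderOf a ≠ 0 := (isOfFinOrder_of_finite a).orderOf_pos.ne'
    set k := (orderOf a).factorization p with hk
    set y := a ^ p ^ k with hy
    have hyA : y ∈ A := A.pow_mem ha _
    have hy1 : y ≠ 1 := hak k
    have hpk : p ^ k ∣ orderOf a := Nat.ordProj_dvd _ _
    have hyo : orderOf y = orderOf a / p ^ k :=
      orderOf_pow_of_dvd (pow_ne_zero _ hpp.ne_zero) hpk
    have hycop : (orderOf y).Coprime p := by
      rw [hyo]
      exact (Nat.coprime_ordCompl hpp hd0).symm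
    have hxy : Commute x y := (Subgroup.mem_centralizer_singleton_iff.mp (hAH hyA)).symm
    have hCy : Subgroup.centralizer ({y} : Set G) = H := by
      rw [hHdef]
      refine (centralizer_eq_of_coprime h hx (hAN hyA) hx1 hy1 hxy ?_).symm
      rw [hxo]; exact hycop.symm
    -- elements of order coprime to p
    have key1 : ∀ w ∈ A, (orderOf w).Coprime p → w ∈ Subgroup.centralizer (H : Set G) := by
      intro w hw hwcop
      by_cases hw1 : w = 1
      · rw [hw1]; exact Subgroup.one_mem _
      have hxw : Commute x w := (Subgroup.mem_centralizer_singleton_iff.mp (hAH hw)).symm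
      have e := centralizer_eq_of_coprime h hx (hAN hw) hx1 hw1 hxw (by rw [hxo]; exact hwcop.symm)
      rw [Subgroup.mem_centralizer_iff]
      intro g hg
      rw [hHdef, e] at hg
      exact (Subgroup.mem_centralizer_singleton_iff.mp hg)
    have key2 : ∀ w ∈ A, (orderOf w).Coprime (orderOf y) →
        w ∈ Subgroup.centralizer (H : Set G) := by
      intro w hw hwcop
      by_cases hw1 : w = 1
      · rw [hw1]; exact Subgroup.one_mem _
      have hyw : Commute y w := by
        have : w ∈ Subgroup.centralizer ({y} : Set G) := by rw [hCy]; exact hAH hw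
        exact (Subgroup.mem_centralizer_singleton_iff.mp this).symm
      have e := centralizer_eq_of_coprime h (hAN hyA) (hAN hw) hy1 hw1 hyw hwcop.symm
      rw [Subgroup.mem_centralizer_iff]
      intro g hg
      rw [← hCy, e] at hg
      exact (Subgroup.mem_centralizer_singleton_iff.mp hg)
    intro w hw
    have hw0 : orderOf w ≠ 0 := (isOfFinOrder_of_finite w).orderOf_pos.ne'
    set j := (orderOf w).factorization p with hj
    have hpj : p ^ j ∣ orderOf w := Nat.ordProj_dvd _ _
    have hcj : orderOf w / p ^ j ∣ orderOf w := Nat.div_dvd_of_dvd hpj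
    have hcop12 : Nat.Coprime (p ^ j) (orderOf w / p ^ j) :=
      Nat.Coprime.pow_left j (Nat.coprime_ordCompl hpp hw0)
    apply mem_of_pow_mem_of_coprime _ w hcop12
    · apply key1 _ (A.pow_mem hw _)
      rw [orderOf_pow_of_dvd (pow_ne_zero _ hpp.ne_zero) hpj]
      exact (Nat.coprime_ordCompl hpp hw0).symm
    · apply key2 _ (A.pow_mem hw _)
      have hne : orderOf w / p ^ j ≠ 0 := by
        intro e
        have := Nat.div_mul_cancel hpj
        rw [e, zero_mul] at this
        exact hw0 this.symm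
      rw [orderOf_pow_of_dvd hne hcj, Nat.div_div_self hpj hw0]
      exact Nat.Coprime.pow_left j hycop.symm

end Dichotomy


section NonAbelian

open Cfsg.Agent.Lib.Helper1 Cfsg.Agent.Lib.Helper13

variable {G : Type u} [Group G] [Finite G]

theorem charSimple_of_minNormal {V : Subgroup G} (hV : MinNormal V) : CharSimple ↥V := by
  intro C hC
  haveI := hV.normal
  have hn : (C.map V.subtype).Normal := ConjAct.normal_of_characteristic_of_normal
  rcases hV.min _ hn (Subgroup.map_subtype_le C) with e | e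
  · left
    exact (Subgroup.map_eq_bot_iff_of_injective C V.subtype_injective).mp e
  · right
    rw [eq_top_iff]
    intro x _
    have hx : (x : G) ∈ C.map V.subtype := by rw [e]; exact x.2
    obtain ⟨c, hc, hcx⟩ := hx
    have : c = x := Subtype.ext hcx
    rwa [← this]

theorem normalizer_le_normalizer_centralizer (S : Subgroup G) :
    Subgroup.normalizer (S : Set G) ≤
      Subgroup.normalizer ((Subgroup.centralizer (S : Set G) : Subgroup G) : Set G) := by
  intro g hg
  rw [← map_conj_eq_self_iff_mem_normalizer] at hg ⊢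
  rw [← ThompsonNPC.centralizer_map_equiv' (MulAut.conj g) S, hg]

/-- coercion of a subgroup of a subgroup -/
theorem coe_mem_map_subtype {V : Subgroup G} (Q : Subgroup ↥V) (y : ↥V) :
    (y : G) ∈ Q.map V.subtype ↔ y ∈ Q := by
  constructor
  · rintro ⟨c, hc, hcy⟩
    have : c = y := Subtype.ext hcy
    rwa [← this]
  · intro hy
    exact ⟨y, hy, rfl⟩

/-- the common setup: an element `x` of prime order in the centre of a Sylow subgroup of `V` -/
theorem nonabelian_false {N : Subgroup G} (h : CHyp N) {V : Subgroup G} (hV : MinNormal V)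
    (hVN : V ≤ N) (hnab : ¬ ∀ a ∈ V, ∀ b ∈ V, a * b = b * a) : False := by
  have hVn := hV.normal
  have hX := charSimple_of_minNormal hV
  have hnab' : ¬ ∀ a b : ↥V, a * b = b * a := by
    intro hc
    apply hnab
    intro a ha b hb
    exact congrArg Subtype.val (hc ⟨a, ha⟩ ⟨b, hb⟩)
  -- an odd prime divisor
  obtain ⟨p, hpp, hpV, hp2⟩ : ∃ p : ℕ, p.Prime ∧ p ∣ Nat.card ↥V ∧ p ≠ 2 := by
    by_contra hcon
    push Not at hcon
    have : Fact (Nat.Prime 2) := ⟨Nat.prime_two⟩
    apply hX.not_isPGroup hnab' 2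
    have hcard : Nat.card ↥V = 2 ^ (Nat.card ↥V).primeFactorsList.length := by
      apply Nat.eq_prime_pow_of_unique_prime_dvd Nat.card_pos.ne'
      intro q hq hqd
      exact hcon q hq hqd
    exact IsPGroup.of_card hcard
  haveI : Fact p.Prime := ⟨hpp⟩
  apply hX.no_npc hnab' p hpV
  obtain ⟨P⟩ : Nonempty (Sylow p ↥V) := inferInstance
  have hPp : IsPGroup p ↥(P : Subgroup ↥V) := P.isPGroup'
  have hPnil : Group.IsNilpotent ↥(P : Subgroup ↥V) := hPp.isNilpotent
  have hfac : (Nat.card ↥V).factorization p ≠ 0 := by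
    intro h0
    rcases (Nat.factorization_eq_zero_iff _ _).mp h0 with h1 | h1 | h1
    · exact h1 hpp
    · exact h1 hpV
    · exact Nat.card_pos.ne' h1
  have hpP : p ∣ Nat.card ↥(P : Subgroup ↥V) := by
    rw [P.card_eq_multiplicity]
    exact dvd_pow_self p hfac
  obtain ⟨z, hzc, hzo⟩ := FrobTools.exists_mem_center_orderOf_eq_prime
    (H := ↥(P : Subgroup ↥V)) p hpP
  set zX : ↥V := (z : ↥V) with hzX
  set x : G := (zX : G) with hxdef
  have hzXP : zX ∈ (P : Subgroup ↥V) := z.2
  have hxV : x ∈ V := zX.2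
  have hxo : orderOf x = p := by
    rw [hxdef, hzX, Subgroup.orderOf_coe, Subgroup.orderOf_coe, hzo]
  have hx1 : x ≠ 1 := by
    intro e
    rw [e, orderOf_one] at hxo
    exact hpp.one_lt.ne hxo
  have hzX1 : zX ≠ 1 := by
    intro e
    apply hx1
    rw [hxdef, e]; rfl
  have hcomm : ∀ y : ↥V, y ∈ (P : Subgroup ↥V) → (y : G) * x = x * (y : G) := by
    intro y hy
    have h1 := Subgroup.mem_center_iff.mp hzc ⟨y, hy⟩
    have h2 := congrArg (fun t : ↥(P : Subgroup ↥V) => ((t : ↥V) : G)) h1
    exact h2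
  set Pg : Subgroup G := (P : Subgroup ↥V).map V.subtype with hPg
  have hPgp : IsPGroup p ↥Pg := hPp.map _
  have hPgV : Pg ≤ V := Subgroup.map_subtype_le _
  have hH := h.coatom x (hVN hxV) hx1
  set H := Subgroup.centralizer ({x} : Set G) with hHdef
  have hPgH : Pg ≤ H := by
    rintro _ ⟨y, hy, rfl⟩
    rw [hHdef, Subgroup.mem_centralizer_singleton_iff]
    exact hcomm y hy
  have hPgA : Pg ≤ V ⊓ H := le_inf hPgV hPgH
  have hxPg : x ∈ Pg := ⟨zX, hzXP, rfl⟩
  have hPne : (P : Subgroup ↥V) ≠ ⊥ := by
    intro e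
    rw [e, Subgroup.mem_bot] at hzXP
    exact hzX1 hzXP
  -- elements of `V ⊓ H` lying in `Pg` come from `P`
  have hback : ∀ y : ↥V, (y : G) ∈ Pg → y ∈ (P : Subgroup ↥V) := fun y hy =>
    (coe_mem_map_subtype (P : Subgroup ↥V) y).mp hy
  have hW₁ := ThompsonNPC.isCharPFunctor_thompson.{u} (p := p)
  rcases dichotomy h hpp (hVN hxV) hxo (V ⊓ H) (inf_le_left.trans hVN) inf_le_right with hα | hβ
  · -- case α: `V ⊓ H` is a `p`-group, hence equal to `Pg`
    have hAP : (V ⊓ H).subgroupOf V = (P : Subgroup ↥V) := by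
      apply P.is_maximal' hα.comap_subtype
      intro y hy
      show (y : G) ∈ V ⊓ H
      exact hPgA ⟨y, hy, rfl⟩
    have hA : V ⊓ H = Pg := by
      rw [hPg, ← hAP, Subgroup.map_subgroupOf_eq_of_le inf_le_left]
    have hHnP : H ≤ Subgroup.normalizer (Pg : Set G) := by
      rw [← hA]; exact centralizer_le_normalizer_inf V H
    apply ThompsonNPC.thompson_npc hp2 P
    · -- normalizer of J(P)
      have hJmap : thompsonSubgroupOf p Pg =
          (thompsonSubgroupOf p (P : Subgroup ↥V)).map V.subtype :=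
        inducedFunctor_map_of_injective hW₁ V.subtype V.subtype_injective (P : Subgroup ↥V) hPp
      have hNPJ : Subgroup.normalizer (Pg : Set G) ≤
          Subgroup.normalizer ((thompsonSubgroupOf p Pg : Subgroup G) : Set G) :=
        normalizer_le_normalizer_inducedFunctor hW₁ Pg hPgp
      set M' := Subgroup.normalizer ((thompsonSubgroupOf p Pg : Subgroup G) : Set G) with hM'
      have hHL : H ≤ Subgroup.normalizer ((V ⊓ M' : Subgroup G) : Set G) :=
        le_normalizer_inf le_normalizer_of_normal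
          ((hHnP.trans hNPJ).trans Subgroup.le_normalizer)
      have hle : V ⊓ H ≤ V ⊓ M' := by
        rw [hA]
        exact le_inf hPgV (Subgroup.le_normalizer.trans hNPJ)
      have hL : V ⊓ M' = Pg := by
        rcases inv_max hH (V := V) inf_le_left hHL hle with e | e
        · rw [e, hA]
        · exfalso
          have hVM' : V ≤ M' := by rw [← e]; exact inf_le_right
          have hJV : thompsonSubgroupOf p Pg ≤ V :=
            (inducedFunctor_le (W := fun (Q : Type u) [Group Q] => thompsonSubgroup p Q) Pg).trans hPgV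
          have hJn : ((thompsonSubgroupOf p Pg).subgroupOf V).Normal :=
            (Subgroup.normal_subgroupOf_iff_le_normalizer hJV).mpr hVM'
          have hJp : IsPGroup p ↥((thompsonSubgroupOf p Pg).subgroupOf V) :=
            (hPgp.to_le (inducedFunctor_le
              (W := fun (Q : Type u) [Group Q] => thompsonSubgroup p Q) Pg)).comap_subtype
          have hJbot := hX.normal_pgroup_eq_bot hnab' p _ hJn hJp
          have hJne : thompsonSubgroupOf p (P : Subgroup ↥V) ≠ ⊥ :=
            inducedFunctor_ne_bot hW₁ (P : Subgroup ↥V) hPp hPne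
          apply hJne
          rw [eq_bot_iff]
          intro y hy
          have : y ∈ (thompsonSubgroupOf p Pg).subgroupOf V := by
            rw [Subgroup.mem_subgroupOf, hJmap]
            exact ⟨y, hy, rfl⟩
          rw [hJbot] at this
          exact this
      have hNle : Subgroup.normalizer ((thompsonSubgroupOf p (P : Subgroup ↥V) : Subgroup ↥V) : Set ↥V) ≤
          (P : Subgroup ↥V) := by
        intro y hy
        apply hback
        rw [← hL]
        refine ⟨y.2, ?_⟩
        rw [hM', hJmap]
        exact Subgroup.le_normalizer_map V.subtype ⟨y, hy, rfl⟩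
      exact ThompsonNPC.npc_mono hNle (hasNormalPComplement_of_isPGroup hPp)
    · -- centralizer of Z(P)
      have hCle : Subgroup.centralizer ((((P : Subgroup ↥V) ⊓
          Subgroup.centralizer ((P : Subgroup ↥V) : Set ↥V) : Subgroup ↥V)) : Set ↥V) ≤
          (P : Subgroup ↥V) := by
        intro y hy
        apply hback
        rw [← hA]
        refine Subgroup.mem_inf.mpr ⟨y.2, ?_⟩
        rw [hHdef, Subgroup.mem_centralizer_singleton_iff]
        have hz : zX ∈ (P : Subgroup ↥V) ⊓ Subgroup.centralizer ((P : Subgroup ↥V) : Set ↥V) := by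
          refine Subgroup.mem_inf.mpr ⟨hzXP, ?_⟩
          rw [Subgroup.mem_centralizer_iff]
          intro t ht
          have := hcomm t ht
          exact Subtype.ext this
        have h1 := Subgroup.mem_centralizer_iff.mp hy zX hz
        have h2 := congrArg (fun t : ↥V => (t : G)) h1
        exact h2.symm
      exact ThompsonNPC.npc_mono hCle (hasNormalPComplement_of_isPGroup hPp)
  · -- case β
    have hAab : ∀ a ∈ V ⊓ H, ∀ b ∈ V ⊓ H, a * b = b * a := by
      intro a ha b hb
      exact (Subgroup.mem_centralizer_iff.mp (hβ b hb) a ha.2)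
    have hHnA : H ≤ Subgroup.normalizer ((V ⊓ H : Subgroup G) : Set G) :=
      centralizer_le_normalizer_inf V H
    set M' := Subgroup.normalizer ((V ⊓ H : Subgroup G) : Set G) with hM'
    have hHL : H ≤ Subgroup.normalizer ((V ⊓ M' : Subgroup G) : Set G) :=
      le_normalizer_inf le_normalizer_of_normal (hHnA.trans Subgroup.le_normalizer)
    have hle : V ⊓ H ≤ V ⊓ M' := le_inf inf_le_left Subgroup.le_normalizer
    have hL : V ⊓ M' = V ⊓ H := by
      rcases inv_max hH (V := V) inf_le_left hHL hle with e | e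
      · exact e
      · exfalso
        have hVM' : V ≤ M' := by rw [← e]; exact inf_le_right
        obtain ⟨k, hk⟩ := hPgp.exists_card_eq
        let R : Subgroup G :=
          { carrier := {a | a ∈ V ⊓ H ∧ a ^ p ^ k = 1}
            one_mem' := ⟨Subgroup.one_mem _, one_pow _⟩
            mul_mem' := by
              rintro a b ⟨ha, ha'⟩ ⟨hb, hb'⟩
              refine ⟨Subgroup.mul_mem _ ha hb, ?_⟩
              rw [(show Commute a b from hAab a ha b hb).mul_pow, ha', hb', one_mul]
            inv_mem' := by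
              rintro a ⟨ha, ha'⟩
              exact ⟨Subgroup.inv_mem _ ha, by rw [inv_pow, ha', inv_one]⟩ }
        have hRV : R ≤ V := fun a ha => ha.1.1
        have hRp : IsPGroup p ↥R := by
          intro a
          exact ⟨k, Subtype.ext (by simpa using a.2.2)⟩
        have hxR : x ∈ R := by
          refine ⟨hPgA hxPg, ?_⟩
          have h1 : (⟨x, hxPg⟩ : ↥Pg) ^ Nat.card ↥Pg = 1 := pow_card_eq_one'
          rw [hk] at h1
          exact congrArg Subtype.val h1
        have key : ∀ v ∈ V, ∀ a ∈ R, v * a * v⁻¹ ∈ R := by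
          intro v hv a ha
          refine ⟨(Subgroup.mem_normalizer_iff.mp (hVM' hv) a).mp ha.1, ?_⟩
          rw [conj_pow, ha.2, mul_one, mul_inv_cancel]
        have hVR : V ≤ Subgroup.normalizer (R : Set G) := by
          intro v hv
          rw [Subgroup.mem_normalizer_iff]
          intro a
          constructor
          · exact key v hv a
          · intro ha
            have := key v⁻¹ (V.inv_mem hv) _ ha
            simpa [mul_assoc] using this
        have hRn : (R.subgroupOf V).Normal :=
          (Subgroup.normal_subgroupOf_iff_le_normalizer hRV).mpr hVR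
        have hRbot := hX.normal_pgroup_eq_bot hnab' p _ hRn hRp.comap_subtype
        have : zX ∈ R.subgroupOf V := by
          rw [Subgroup.mem_subgroupOf]; exact hxR
        rw [hRbot, Subgroup.mem_bot] at this
        exact hzX1 this
    have hAeq : V ⊓ H = V ⊓ Subgroup.centralizer (Pg : Set G) := by
      apply le_antisymm
      · intro a ha
        refine Subgroup.mem_inf.mpr ⟨ha.1, ?_⟩
        rw [Subgroup.mem_centralizer_iff]
        intro b hb
        exact hAab b (hPgA hb) a ha
      · intro a ha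
        refine Subgroup.mem_inf.mpr ⟨ha.1, ?_⟩
        rw [hHdef, Subgroup.mem_centralizer_singleton_iff]
        exact (Subgroup.mem_centralizer_iff.mp ha.2 x hxPg).symm
    have hNPA : Subgroup.normalizer (Pg : Set G) ≤ M' := by
      rw [hM', hAeq]
      exact le_normalizer_inf le_normalizer_of_normal (normalizer_le_normalizer_centralizer Pg)
    have hB : Subgroup.normalizer ((P : Subgroup ↥V) : Set ↥V) ≤
        Subgroup.centralizer ((P : Subgroup ↥V) : Set ↥V) := by
      intro y hy
      have h1 : (y : G) ∈ Subgroup.normalizer (Pg : Set G) :=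
        Subgroup.le_normalizer_map V.subtype ⟨y, hy, rfl⟩
      have h2 : (y : G) ∈ V ⊓ M' := ⟨y.2, hNPA h1⟩
      rw [hL, hAeq] at h2
      rw [Subgroup.mem_centralizer_iff]
      intro t ht
      have := Subgroup.mem_centralizer_iff.mp h2.2 (t : G) ⟨t, ht, rfl⟩
      exact Subtype.ext this
    exact ⟨P, (MonoidHom.transferSylow P hB).ker, inferInstance,
      MonoidHom.ker_transferSylow_isComplement' P hB⟩

end NonAbelian


section Structure

variable {G : Type u} [Group G] [Finite G]

theorem exists_minNormal_le (N : Subgroup G) [hN : N.Normal] (hN0 : N ≠ ⊥) :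
    ∃ V : Subgroup G, MinNormal V ∧ V ≤ N := by
  let S : Set (Subgroup G) := {K | K.Normal ∧ K ≠ ⊥ ∧ K ≤ N}
  have hne : S.Nonempty := ⟨N, hN, hN0, le_refl N⟩
  obtain ⟨V, ⟨hVn, hV0, hVN⟩, hmin⟩ := (wellFounded_lt (α := Subgroup G)).has_min S hne
  refine ⟨V, ⟨hVn, hV0, ?_⟩, hVN⟩
  intro K hKn hKV
  by_contra hcon
  push Not at hcon
  exact hmin K ⟨hKn, hcon.1, hKV.trans hVN⟩ (lt_of_le_of_ne hKV hcon.2)

/-- the structure theorem in the centreless case -/
theorem centerless_structure {N : Subgroup G} [hN : N.Normal] (h : CHyp N) (hN0 : N ≠ ⊥) :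
    ∃ (V L : Subgroup G) (r q : ℕ), MinNormal V ∧ V ≤ N ∧ r.Prime ∧ q.Prime ∧
      (∀ a ∈ V, ∀ b ∈ V, a * b = b * a) ∧ (∀ v ∈ V, v ^ r = 1) ∧ L ≤ N ∧ Nat.card L = q ∧
      V ⊓ L = ⊥ ∧ V ⊔ L = N ∧ (∀ l ∈ L, l ≠ 1 → ∀ v ∈ V, l * v = v * l → v = 1) ∧
      N ⊓ Subgroup.centralizer (V : Set G) = V := by
  obtain ⟨V, hV, hVN⟩ := exists_minNormal_le N hN0
  have hab : ∀ a ∈ V, ∀ b ∈ V, a * b = b * a := by
    by_contra hnab
    exact nonabelian_false h hV hVN hnab
  obtain ⟨r, hr, hVr⟩ := hV.exists_prime_pow_eq_one hab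
  obtain ⟨L, q, hq, hLN, hLq, hVL, hsup, hfpf, hMV⟩ := abelian_case h hV hVN hab
  exact ⟨V, L, r, q, hV, hVN, hr, hq, hab, hVr, hLN, hLq, hVL, hsup, hfpf, hMV⟩

end Structure

end Cfsg.Agent.Lib.Helper21.MaxCent
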