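import Mathlib
import Cfsg.Agent.Lib.Helper21.MaxCent3
import Cfsg.Agent.Lib.Helper22.Frobenius

/-!
# Groups in which centralizers of noncentral elements (of a normal subgroup) are maximal, part 4

Reduction to the centreless case and transport of the Frobenius structure.
-/

set_option autoImplicit false

namespace Cfsg.Agent.Lib.Helper21.MaxCent

open scoped commutatorElement

open Cfsg

universe u

section Reduction

variable {G : Type u} [Group G]

/-- images of maximal subgroups containing the kernel are maximal -/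
theorem isCoatom_map_mk {Z H : Subgroup G} [Z.Normal] (hH : IsCoatom H) (hZH : Z ≤ H) :
    IsCoatom (H.map (QuotientGroup.mk' Z)) := by
  have hsurj : Function.Surjective (QuotientGroup.mk' Z) := QuotientGroup.mk'_surjective Z
  have hcm : (H.map (QuotientGroup.mk' Z)).comap (QuotientGroup.mk' Z) = H := by
    rw [Subgroup.comap_map_eq, QuotientGroup.ker_mk', sup_eq_left.mpr hZH]
  constructor
  · intro e
    apply hH.1
    rw [← hcm, e, Subgroup.comap_top]
  · intro K hK
    have h1 : H ≤ K.comap (QuotientGroup.mk' Z) := by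
      rw [← hcm]; exact Subgroup.comap_mono hK.le
    have h2 : H ≠ K.comap (QuotientGroup.mk' Z) := by
      intro e
      apply hK.ne
      rw [e, Subgroup.map_comap_eq_self_of_surjective hsurj]
    have h3 := hH.2 _ (lt_of_le_of_ne h1 h2)
    rw [← Subgroup.map_comap_eq_self_of_surjective hsurj K, h3,
      Subgroup.map_top_of_surjective _ hsurj]

variable (N : Subgroup G) [hN : N.Normal] (h : Hyp N) (Z : Subgroup G) [hZn : Z.Normal]
  (hZ : Z = N ⊓ Subgroup.centralizer (N : Set G))
  (hII : ∀ z ∈ N, (∀ n ∈ N, ⁅z, n⁆ ∈ Subgroup.centralizer (N : Set G)) →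
    z ∈ Subgroup.centralizer (N : Set G))

include h hZ hII in
/-- the quotient by the centre of `N` satisfies the centreless hypothesis -/
theorem reduction : CHyp (N.map (QuotientGroup.mk' Z)) := by
  have hcenter : ∀ y ∈ N.map (QuotientGroup.mk' Z),
      y ∈ Subgroup.centralizer ((N.map (QuotientGroup.mk' Z) : Subgroup (G ⧸ Z)) : Set (G ⧸ Z)) →
      y = 1 := by
    rintro _ ⟨z, hz, rfl⟩ hc
    have hzC : z ∈ Subgroup.centralizer (N : Set G) := by
      apply hII z hz
      intro n hn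
      have h1 := Subgroup.mem_centralizer_iff.mp hc (QuotientGroup.mk' Z n) ⟨n, hn, rfl⟩
      have h2 : (QuotientGroup.mk' Z) ⁅z, n⁆ = 1 := by
        rw [map_commutatorElement, commutatorElement_eq_one_iff_commute]
        exact h1.symm
      have h3 : ⁅z, n⁆ ∈ Z := (QuotientGroup.eq_one_iff _).mp h2
      rw [hZ] at h3
      exact h3.2
    have : z ∈ Z := by rw [hZ]; exact ⟨hz, hzC⟩
    exact (QuotientGroup.eq_one_iff z).mpr this
  refine ⟨hcenter, ?_⟩
  rintro _ ⟨x, hx, rfl⟩ hx1
  have hxC : x ∉ Subgroup.centralizer (N : Set G) := by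
    intro hc
    apply hx1
    have : x ∈ Z := by rw [hZ]; exact ⟨hx, hc⟩
    exact (QuotientGroup.eq_one_iff x).mpr this
  have hH := h x hx hxC
  have hZH : Z ≤ Subgroup.centralizer ({x} : Set G) := by
    intro z hz
    rw [hZ] at hz
    rw [Subgroup.mem_centralizer_singleton_iff]
    exact (Subgroup.mem_centralizer_iff.mp hz.2 x hx).symm
  have hH₁ := isCoatom_map_mk hH hZH
  have hle : (Subgroup.centralizer ({x} : Set G)).map (QuotientGroup.mk' Z) ≤
      Subgroup.centralizer ({(QuotientGroup.mk' Z) x} : Set (G ⧸ Z)) := by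
    have := Subgroup.map_centralizer_le_centralizer_image ({x} : Set G) (QuotientGroup.mk' Z)
    rwa [Set.image_singleton] at this
  have hne : Subgroup.centralizer ({(QuotientGroup.mk' Z) x} : Set (G ⧸ Z)) ≠ ⊤ := by
    intro e
    apply hx1
    apply hcenter _ ⟨x, hx, rfl⟩
    rw [Subgroup.mem_centralizer_iff]
    intro y _
    have : y ∈ Subgroup.centralizer ({(QuotientGroup.mk' Z) x} : Set (G ⧸ Z)) := by
      rw [e]; trivial
    exact Subgroup.mem_centralizer_singleton_iff.mp this
  rw [← coatom_eq_of_le hH₁ hle hne]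
  exact hH₁

end Reduction


section Transport

variable {Q : Type*} [Group Q] [Finite Q] {G₁ : Type*} [Group G₁]

/-- pull back the Frobenius structure along an injective homomorphism onto `V ⊔ L` -/
theorem frobenius_transport (φ : Q →* G₁) (hφ : Function.Injective φ) (V L : Subgroup G₁)
    [hVn : V.Normal] {r q : ℕ} (hr : r.Prime) (hq : q.Prime) (hV0 : V ≠ ⊥)
    (hab : ∀ a ∈ V, ∀ b ∈ V, a * b = b * a) (hVr : ∀ v ∈ V, v ^ r = 1)
    (hLq : Nat.card L = q) (hVL : V ⊓ L = ⊥) (hsup : V ⊔ L = φ.range)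
    (hfpf : ∀ l ∈ L, l ≠ 1 → ∀ v ∈ V, l * v = v * l → v = 1) :
    ∃ (Q' K : Subgroup Q) (p : ℕ), p.Prime ∧ Cfsg.IsFrobeniusComplement Q' ∧
      (Nat.card ↥Q').Prime ∧ K.Normal ∧ (K : Set Q) = Cfsg.frobeniusKernel Q' ∧
      Cfsg.IsElementaryAbelian p K := by
  have hVr' : V ≤ φ.range := by rw [← hsup]; exact le_sup_left
  have hLr' : L ≤ φ.range := by rw [← hsup]; exact le_sup_right
  have hKn : (V.comap φ).Normal := hVn.comap φ
  have hdisj : V.comap φ ⊓ L.comap φ = ⊥ := by
    rw [← Subgroup.comap_inf, hVL, MonoidHom.comap_bot, (MonoidHom.ker_eq_bot_iff φ).mpr hφ]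
  have hsup' : V.comap φ ⊔ L.comap φ = ⊤ := by
    rw [eq_top_iff]
    intro x _
    have hx : φ x ∈ V ⊔ L := by rw [hsup]; exact ⟨x, rfl⟩
    obtain ⟨v, hv, l, hl, hvl⟩ := (Cfsg.Agent.Lib.Helper9.mem_sup_of_le_normalizer
      (le_normalizer_of_normal (K := L) (A := V))).mp hx
    obtain ⟨a, rfl⟩ := hVr' hv
    obtain ⟨b, rfl⟩ := hLr' hl
    have : x = a * b := hφ (by rw [map_mul, hvl])
    rw [this]
    exact Subgroup.mul_mem _ (Subgroup.mem_sup_left hv) (Subgroup.mem_sup_right hl)
  have hK0 : V.comap φ ≠ ⊥ := by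
    intro e
    apply hV0
    rw [eq_bot_iff]
    intro v hv
    obtain ⟨a, rfl⟩ := hVr' hv
    have : a ∈ V.comap φ := hv
    rw [e, Subgroup.mem_bot] at this
    rw [this, map_one]
    exact Subgroup.one_mem _
  have hLcard : Nat.card ↥(L.comap φ) = q := by
    rw [← Subgroup.card_map_of_injective hφ, Subgroup.map_comap_eq, inf_eq_right.mpr hLr', hLq]
  have hL0 : L.comap φ ≠ ⊥ := by
    intro e
    rw [e, Subgroup.card_bot] at hLcard
    exact hq.one_lt.ne hLcard
  have hfpf' : ∀ l ∈ L.comap φ, l ≠ 1 → ∀ n ∈ V.comap φ, l * n = n * l → n = 1 := by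
    intro l hl hl1 n hn hcomm
    apply hφ
    rw [map_one]
    apply hfpf (φ l) hl _ (φ n) hn
    · rw [← map_mul, ← map_mul, hcomm]
    · intro e
      apply hl1
      apply hφ
      rw [e, map_one]
  obtain ⟨hF, hker⟩ := Cfsg.Agent.Lib.Helper22.frobenius_of_fpf (V.comap φ) (L.comap φ)
    hdisj hsup' hK0 hL0 hfpf'
  refine ⟨L.comap φ, V.comap φ, r, hr, hF, ?_, hKn, hker.symm, ?_, ?_⟩
  · rw [hLcard]; exact hq
  · refine ⟨⟨fun a b => ?_⟩⟩
    apply Subtype.ext
    apply hφ
    rw [Subgroup.coe_mul, Subgroup.coe_mul, map_mul, map_mul]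
    exact hab _ a.2 _ b.2
  · intro a ha
    apply hφ
    rw [map_pow, map_one]
    exact hVr _ ha

end Transport

end Cfsg.Agent.Lib.Helper21.MaxCent
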