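import Mathlib

/-!
# Arithmetic for metacyclic `p`-groups (`p` odd)

Exact `p`-power bookkeeping (`ExactPow p c x`: `x = p ^ c * u` with `p ∤ u`), the lifting-the-exponent
lemma in that form for `r ^ j - 1` and for geometric sums.
-/

set_option autoImplicit false

namespace Cfsg.Agent.Lib.Helper21.Meta

/-- `x = p ^ c * u` with `p ∤ u`. -/
def ExactPow (p c x : ℕ) : Prop := ∃ u, ¬ p ∣ u ∧ x = p ^ c * u

theorem exactPow_of_ne_zero {p : ℕ} (hp : p.Prime) {x : ℕ} (hx : x ≠ 0) :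
    ExactPow p (padicValNat p x) x := by
  refine ⟨x / p ^ x.factorization p, Nat.not_dvd_ordCompl hp hx, ?_⟩
  rw [← Nat.factorization_def x hp]
  exact (Nat.ordProj_mul_ordCompl_eq_self x p).symm

theorem ExactPow.ne_zero {p c x : ℕ} (hp : p.Prime) (h : ExactPow p c x) : x ≠ 0 := by
  obtain ⟨u, hu, rfl⟩ := h
  have hu0 : u ≠ 0 := fun h0 => hu (h0 ▸ dvd_zero p)
  exact mul_ne_zero (pow_ne_zero _ hp.ne_zero) hu0

theorem ExactPow.padicValNat_eq {p c x : ℕ} (hp : p.Prime) (h : ExactPow p c x) :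
    padicValNat p x = c := by
  haveI := Fact.mk hp
  obtain ⟨u, hu, rfl⟩ := h
  have hu0 : u ≠ 0 := fun h0 => hu (h0 ▸ dvd_zero p)
  rw [padicValNat.mul (pow_ne_zero _ hp.ne_zero) hu0, padicValNat.prime_pow,
    padicValNat.eq_zero_of_not_dvd hu, add_zero]

theorem ExactPow.pow_dvd {p c x : ℕ} (h : ExactPow p c x) : p ^ c ∣ x := by
  obtain ⟨u, -, rfl⟩ := h
  exact dvd_mul_right _ _

theorem ExactPow.pow_dvd_iff {p c x : ℕ} (hp : p.Prime) (h : ExactPow p c x) (M : ℕ) :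
    p ^ M ∣ x ↔ M ≤ c := by
  haveI := Fact.mk hp
  rw [padicValNat_dvd_iff_le (h.ne_zero hp), h.padicValNat_eq hp]

/-- the key divisibility rule -/
theorem ExactPow.pow_dvd_mul_iff {p c x : ℕ} (hp : p.Prime) (h : ExactPow p c x) (M σ : ℕ) :
    p ^ M ∣ σ * x ↔ p ^ (M - c) ∣ σ := by
  obtain ⟨u, hu, rfl⟩ := h
  have hcop : (p ^ M).Coprime u := Nat.Coprime.pow_left M ((Nat.Prime.coprime_iff_not_dvd hp).mpr hu)
  constructor
  · intro hd
    have h1 : p ^ M ∣ σ * p ^ c := by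
      apply Nat.Coprime.dvd_of_dvd_mul_right hcop
      rw [mul_assoc]; exact hd
    rcases le_total M c with hMc | hMc
    · rw [Nat.sub_eq_zero_of_le hMc, pow_zero]; exact one_dvd _
    · obtain ⟨d, rfl⟩ := Nat.exists_eq_add_of_le hMc
      rw [Nat.add_sub_cancel_left]
      rw [pow_add, mul_comm σ] at h1
      exact Nat.dvd_of_mul_dvd_mul_left (pow_pos hp.pos c) h1
  · rintro ⟨σ', rfl⟩
    have h1 : p ^ M ∣ p ^ (M - c) * p ^ c := by
      rw [← pow_add]; exact pow_dvd_pow p (by omega)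
    calc p ^ M ∣ p ^ (M - c) * p ^ c := h1
      _ ∣ p ^ (M - c) * σ' * (p ^ c * u) := ⟨σ' * u, by ring⟩

theorem ExactPow.mul_pow {p c x : ℕ} (h : ExactPow p c x) (d : ℕ) : ExactPow p (d + c) (p ^ d * x) := by
  obtain ⟨u, hu, rfl⟩ := h
  exact ⟨u, hu, by rw [pow_add]; ring⟩

theorem exactPow_self_pow {p : ℕ} (hp : p.Prime) (c : ℕ) : ExactPow p c (p ^ c) :=
  ⟨1, fun h => hp.one_lt.ne' (Nat.dvd_one.mp h), by rw [mul_one]⟩

section LTE

variable {p r : ℕ} [hpf : Fact p.Prime]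

theorem not_dvd_of_dvd_sub_one (hr : 2 ≤ r) (hpr : p ∣ r - 1) : ¬ p ∣ r := by
  intro h
  have hp : p.Prime := hpf.out
  have h1 : p ∣ r - (r - 1) := Nat.dvd_sub h hpr
  have h2 : r - (r - 1) = 1 := by omega
  rw [h2] at h1
  exact hp.one_lt.ne' (Nat.dvd_one.mp h1)

theorem one_le_padicValNat_sub_one (hr : 2 ≤ r) (hpr : p ∣ r - 1) : 1 ≤ padicValNat p (r - 1) := by
  have h0 : r - 1 ≠ 0 := by omega
  exact one_le_padicValNat_of_dvd h0 hpr

/-- **LTE** in exact form: `r ^ j - 1 = p ^ (K + v_p j) * unit`. -/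
theorem exactPow_pow_sub_one (hp2 : p ≠ 2) (hr : 2 ≤ r) (hpr : p ∣ r - 1) {j : ℕ} (hj : j ≠ 0) :
    ExactPow p (padicValNat p (r - 1) + padicValNat p j) (r ^ j - 1) := by
  have hp : p.Prime := hpf.out
  have hodd : Odd p := hp.odd_of_ne_two hp2
  have h1 : r ^ j - 1 ≠ 0 := by
    have : 2 ≤ r ^ j := le_trans hr (Nat.le_self_pow hj r)
    omega
  have h2 := padicValNat.pow_sub_pow (p := p) hodd (show 1 < r by omega)
    hpr (not_dvd_of_dvd_sub_one hr hpr) hj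
  rw [one_pow] at h2
  rw [← h2]
  exact exactPow_of_ne_zero hp h1

theorem dvd_pow_sub_one (hr : 2 ≤ r) (hpr : p ∣ r - 1) (j : ℕ) : p ∣ r ^ j - 1 :=
  dvd_trans hpr (Nat.sub_one_dvd_pow_sub_one r j)

/-- valuation of a geometric sum `1 + R + ... + R^(e-1)` for `R ≡ 1 mod p` -/
theorem exactPow_geom_sum (hp2 : p ≠ 2) {R : ℕ} (hR : 1 ≤ R) (hpR : p ∣ R - 1) {e : ℕ} (he : e ≠ 0) :
    ExactPow p (padicValNat p e) (∑ t ∈ Finset.range e, R ^ t) := by
  have hp : p.Prime := hpf.out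
  rcases Nat.eq_or_lt_of_le hR with h1 | h1
  · rw [← h1]
    simp only [one_pow, Finset.sum_const, Finset.card_range, smul_eq_mul, mul_one]
    exact exactPow_of_ne_zero hp he
  · have hR2 : 2 ≤ R := h1
    have hS0 : (∑ t ∈ Finset.range e, R ^ t) ≠ 0 := by
      obtain ⟨e', rfl⟩ := Nat.exists_eq_succ_of_ne_zero he
      rw [Finset.sum_range_succ']
      simp
    have hmul : (∑ t ∈ Finset.range e, R ^ t) * (R - 1) = R ^ e - 1 := by
      rw [Nat.geomSum_eq hR2 e]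
      exact Nat.div_mul_cancel (Nat.sub_one_dvd_pow_sub_one R e)
    have hR10 : R - 1 ≠ 0 := by omega
    have hv := (exactPow_pow_sub_one hp2 hR2 hpR he).padicValNat_eq hp
    rw [← hmul, padicValNat.mul hS0 hR10] at hv
    have hv' : padicValNat p (∑ t ∈ Finset.range e, R ^ t) = padicValNat p e := by omega
    rw [← hv']
    exact exactPow_of_ne_zero hp hS0

end LTE

end Cfsg.Agent.Lib.Helper21.Meta
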