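import Mathlib
import Cfsg.Agent.Lib.Helper21.MetaArith

/-!
# Metacyclic `p`-groups, `p` odd: basic computations

`IsMC p a b r m`: `G = ⟨a⟩⟨b⟩`, `b a b⁻¹ = a ^ r`, `2 ≤ r`, `p ∣ r - 1`, `orderOf a = p ^ m`.
-/

set_option autoImplicit false

namespace Cfsg.Agent.Lib.Helper21.Meta

open Subgroup

variable {G : Type*} [Group G]

/-! ### general helpers -/

theorem mem_zpowers_iff_nat [Finite G] {x y : G} : y ∈ zpowers x ↔ ∃ k : ℕ, x ^ k = y := by
  rw [← mem_powers_iff_mem_zpowers, Submonoid.mem_powers_iff]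

/-- if the conjugates of `g` all lie in the coset `M g`, the class of `g` has at most `|M|` elements -/
theorem index_centralizer_le_card [Finite G] (g : G) (M : Subgroup G)
    (h : ∀ x : G, x * g * x⁻¹ * g⁻¹ ∈ M) :
    (centralizer ({g} : Set G)).index ≤ Nat.card M := by
  rw [index_eq_card]
  let f : G ⧸ centralizer ({g} : Set G) → M :=
    Quotient.lift (fun x : G => (⟨x * g * x⁻¹ * g⁻¹, h x⟩ : M)) (by
      intro x y hxy
      have hxy' : x⁻¹ * y ∈ centralizer ({g} : Set G) := QuotientGroup.leftRel_apply.mp hxy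
      rw [mem_centralizer_singleton_iff] at hxy'
      apply Subtype.ext
      show x * g * x⁻¹ * g⁻¹ = y * g * y⁻¹ * g⁻¹
      have h1 : y * g * y⁻¹ = x * g * x⁻¹ := by
        have : y = x * (x⁻¹ * y) := by group
        rw [this]
        calc x * (x⁻¹ * y) * g * (x * (x⁻¹ * y))⁻¹ = x * ((x⁻¹ * y) * g) * (x⁻¹ * y)⁻¹ * x⁻¹ := by group
          _ = x * (g * (x⁻¹ * y)) * (x⁻¹ * y)⁻¹ * x⁻¹ := by rw [hxy']
          _ = x * g * x⁻¹ := by group
      rw [h1])
  apply Nat.card_le_card_of_injective f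
  intro X Y
  refine Quotient.inductionOn₂ X Y ?_
  intro x y hxy
  have h1 : x * g * x⁻¹ * g⁻¹ = y * g * y⁻¹ * g⁻¹ := congrArg Subtype.val hxy
  have h2 : x * g * x⁻¹ = y * g * y⁻¹ := mul_right_cancel h1
  apply Quotient.sound
  apply QuotientGroup.leftRel_apply.mpr
  rw [mem_centralizer_singleton_iff]
  calc x⁻¹ * y * g = x⁻¹ * (y * g * y⁻¹) * y := by group
    _ = x⁻¹ * (x * g * x⁻¹) * y := by rw [h2]
    _ = g * (x⁻¹ * y) := by group

/-- if no power `x ^ d`, `0 < d < T`, lies in `C`, then `C` has index at least `T` -/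
theorem le_index_of_pow_not_mem [Finite G] (C : Subgroup G) (x : G) (T : ℕ)
    (h : ∀ d, 0 < d → d < T → x ^ d ∉ C) : T ≤ C.index := by
  rw [index_eq_card]
  have hinj : Function.Injective (fun d : Fin T => (QuotientGroup.mk (x ^ (d : ℕ)) : G ⧸ C)) := by
    intro d d' hdd
    have key : ∀ e e' : ℕ, e < e' → e' < T →
        (QuotientGroup.mk (x ^ e) : G ⧸ C) = QuotientGroup.mk (x ^ e') → False := by
      intro e e' hee he' heq
      have h1 : (x ^ e)⁻¹ * x ^ e' ∈ C := QuotientGroup.eq.mp heq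
      have h2 : (x ^ e)⁻¹ * x ^ e' = x ^ (e' - e) := by
        have : e' = e + (e' - e) := by omega
        conv_lhs => rw [this, pow_add]
        group
      rw [h2] at h1
      exact h (e' - e) (by omega) (by omega) h1
    apply Fin.ext
    rcases lt_trichotomy (d : ℕ) (d' : ℕ) with hlt | heq | hgt
    · exact (key _ _ hlt d'.2 hdd).elim
    · exact heq
    · exact (key _ _ hgt d.2 hdd.symm).elim
  have := Nat.card_le_card_of_injective _ hinj
  simpa using this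

/-- order of a power in exact-power form -/
theorem orderOf_pow_of_exactPow {p m c x : ℕ} (hp : p.Prime) {a : G} (ha : orderOf a = p ^ m)
    (hx : ExactPow p c x) : orderOf (a ^ x) = p ^ (m - c) := by
  apply Nat.dvd_antisymm
  · rw [orderOf_dvd_iff_pow_eq_one, ← pow_mul, ← orderOf_dvd_iff_pow_eq_one, ha, mul_comm]
    exact (hx.pow_dvd_mul_iff hp m _).mpr dvd_rfl
  · have h1 : (a ^ x) ^ orderOf (a ^ x) = 1 := pow_orderOf_eq_one _
    rw [← pow_mul, ← orderOf_dvd_iff_pow_eq_one, ha, mul_comm] at h1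
    exact (hx.pow_dvd_mul_iff hp m _).mp h1

/-! ### the structure -/

/-- metacyclic generating data: `G = ⟨a⟩⟨b⟩`, `b a b⁻¹ = a ^ r`, `|a| = p ^ m`, `b` has order `p ^ ℓ`
modulo `⟨a⟩`, and `b ^ p ^ ℓ = a ^ w`. -/
structure IsMC (p : ℕ) (a b : G) (r m ℓ w : ℕ) : Prop where
  conj : b * a * b⁻¹ = a ^ r
  gen : ∀ g : G, ∃ i j : ℕ, g = a ^ i * b ^ j
  two_le : 2 ≤ r
  dvd : p ∣ r - 1
  ord : orderOf a = p ^ m
  mem_iff : ∀ x : ℕ, b ^ x ∈ zpowers a ↔ p ^ ℓ ∣ x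
  pow_ell : b ^ p ^ ℓ = a ^ w

namespace IsMC

variable {p : ℕ} {a b : G} {r m ℓ w : ℕ}

section identities

variable (T : IsMC p a b r m ℓ w)
include T

theorem conj_pow' (i : ℕ) : b * a ^ i * b⁻¹ = a ^ (i * r) := by
  rw [← _root_.conj_pow, T.conj, ← pow_mul, mul_comm]

theorem pow_conj_pow (j i : ℕ) : b ^ j * a ^ i * (b ^ j)⁻¹ = a ^ (i * r ^ j) := by
  induction j generalizing i with
  | zero => simp
  | succ j ih =>
    calc b ^ (j + 1) * a ^ i * (b ^ (j + 1))⁻¹ = b * (b ^ j * a ^ i * (b ^ j)⁻¹) * b⁻¹ := by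
          rw [pow_succ']; group
      _ = b * a ^ (i * r ^ j) * b⁻¹ := by rw [ih]
      _ = a ^ (i * r ^ j * r) := T.conj_pow' _
      _ = a ^ (i * r ^ (j + 1)) := by rw [pow_succ, mul_assoc]

theorem pow_mul_pow (j i : ℕ) : b ^ j * a ^ i = a ^ (i * r ^ j) * b ^ j := by
  rw [← T.pow_conj_pow j i]; group

theorem mul_formula (i j s t : ℕ) :
    (a ^ i * b ^ j) * (a ^ s * b ^ t) = a ^ (i + s * r ^ j) * b ^ (j + t) := by
  calc (a ^ i * b ^ j) * (a ^ s * b ^ t) = a ^ i * (b ^ j * a ^ s) * b ^ t := by group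
    _ = a ^ i * (a ^ (s * r ^ j) * b ^ j) * b ^ t := by rw [T.pow_mul_pow]
    _ = a ^ (i + s * r ^ j) * b ^ (j + t) := by rw [pow_add, pow_add]; group

theorem pow_formula (i j e : ℕ) :
    (a ^ i * b ^ j) ^ e = a ^ (i * ∑ t ∈ Finset.range e, (r ^ j) ^ t) * b ^ (j * e) := by
  induction e with
  | zero => simp
  | succ e ih =>
    rw [pow_succ, ih, T.mul_formula, Finset.sum_range_succ, mul_add, Nat.mul_succ, ← pow_mul]

theorem commute_iff (i j s t : ℕ) :
    (a ^ i * b ^ j) * (a ^ s * b ^ t) = (a ^ s * b ^ t) * (a ^ i * b ^ j) ↔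
      a ^ (i + s * r ^ j) = a ^ (s + i * r ^ t) := by
  rw [T.mul_formula, T.mul_formula, add_comm t j]
  exact mul_left_inj _

theorem one_le_r_pow (j : ℕ) : 1 ≤ r ^ j := Nat.one_le_pow _ _ (by have := T.two_le; omega)

theorem pow_eq_one_iff (y : ℕ) : a ^ y = 1 ↔ p ^ m ∣ y := by
  rw [← orderOf_dvd_iff_pow_eq_one, T.ord]

theorem pow_mul_eq_iff (x j : ℕ) : a ^ (x * r ^ j) = a ^ x ↔ p ^ m ∣ x * (r ^ j - 1) := by
  have h1 : x * r ^ j = x + x * (r ^ j - 1) := by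
    have := T.one_le_r_pow j
    obtain ⟨d, hd⟩ := Nat.exists_eq_add_of_le this
    rw [hd, Nat.add_sub_cancel_left]; ring
  rw [h1, pow_add, mul_eq_left, T.pow_eq_one_iff]

/-- `a ^ σ` commutes with `a ^ i * b ^ j` iff `p ^ m ∣ σ * (r ^ j - 1)` -/
theorem pow_a_commute_iff (σ i j : ℕ) :
    a ^ σ * (a ^ i * b ^ j) = (a ^ i * b ^ j) * a ^ σ ↔ p ^ m ∣ σ * (r ^ j - 1) := by
  have h := T.commute_iff i j σ 0
  simp only [pow_zero, mul_one] at h
  rw [eq_comm, h, ← T.pow_mul_eq_iff σ j, add_comm σ i, pow_add, pow_add, mul_right_inj]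

/-- `b ^ τ` commutes with `a ^ i * b ^ j` iff `p ^ m ∣ i * (r ^ τ - 1)` -/
theorem pow_b_commute_iff (τ i j : ℕ) :
    b ^ τ * (a ^ i * b ^ j) = (a ^ i * b ^ j) * b ^ τ ↔ p ^ m ∣ i * (r ^ τ - 1) := by
  have h := T.commute_iff i j 0 τ
  simp only [pow_zero, one_mul, zero_mul, add_zero, zero_add] at h
  rw [eq_comm, h, ← T.pow_mul_eq_iff i τ, eq_comm]

end identities

section finite

variable [Finite G] [hpf : Fact p.Prime] (T : IsMC p a b r m ℓ w)
include T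

theorem zpowers_pow_normal (c : ℕ) : (zpowers (a ^ c)).Normal := by
  constructor
  intro n hn g
  rw [mem_zpowers_iff_nat] at hn ⊢
  obtain ⟨k, rfl⟩ := hn
  obtain ⟨i, j, rfl⟩ := T.gen g
  refine ⟨k * r ^ j, ?_⟩
  rw [← pow_mul, ← pow_mul]
  calc a ^ (c * (k * r ^ j)) = a ^ i * a ^ (c * k * r ^ j) * (a ^ i)⁻¹ := by
        rw [← pow_add, add_comm, pow_add, mul_inv_cancel_right, mul_assoc]
    _ = a ^ i * (b ^ j * a ^ (c * k) * (b ^ j)⁻¹) * (a ^ i)⁻¹ := by rw [T.pow_conj_pow]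
    _ = a ^ i * b ^ j * a ^ (c * k) * (a ^ i * b ^ j)⁻¹ := by group

theorem normal : (zpowers a).Normal := by
  have := T.zpowers_pow_normal 1
  rwa [pow_one] at this

theorem r_sub_one_exact : ExactPow p (padicValNat p (r - 1)) (r - 1) :=
  exactPow_of_ne_zero hpf.out (by have := T.two_le; omega)

theorem one_le_K : 1 ≤ padicValNat p (r - 1) := one_le_padicValNat_sub_one T.two_le T.dvd

theorem n_le_ell (hp2 : p ≠ 2) : m - padicValNat p (r - 1) ≤ ℓ := by
  have hp : p.Prime := hpf.out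
  have h1 : b ^ p ^ ℓ * (a ^ 1 * b ^ 0) = (a ^ 1 * b ^ 0) * b ^ p ^ ℓ := by
    rw [T.pow_ell, pow_zero, mul_one, pow_one]
    exact (pow_mul_comm' a w)
  rw [T.pow_b_commute_iff, one_mul] at h1
  have hE := exactPow_pow_sub_one hp2 T.two_le T.dvd (j := p ^ ℓ) (pow_ne_zero _ hp.ne_zero)
  rw [padicValNat.prime_pow] at hE
  have := (hE.pow_dvd_iff hp m).mp h1
  omega

theorem pow_n_dvd_w : p ^ (m - padicValNat p (r - 1)) ∣ w := by
  have hp : p.Prime := hpf.out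
  have h1 : b ^ 1 * (a ^ w * b ^ 0) = (a ^ w * b ^ 0) * b ^ 1 := by
    rw [← T.pow_ell, pow_zero, mul_one, pow_one]
    exact (pow_mul_comm' b (p ^ ℓ)).symm
  rw [T.pow_b_commute_iff, pow_one] at h1
  exact (T.r_sub_one_exact.pow_dvd_mul_iff hp m w).mp h1

theorem coord_aux (hp2 : p ≠ 2) {i j i' j' s : ℕ} (h : a ^ i * b ^ j = a ^ i' * b ^ j')
    (hjj : j ≤ j') (hs : s ≤ m - padicValNat p (r - 1)) :
    p ^ s ∣ j' - j ∧ i ≡ i' [MOD p ^ s] := by
  obtain ⟨d, rfl⟩ := Nat.exists_eq_add_of_le hjj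
  rw [Nat.add_sub_cancel_left]
  have h1 : a ^ i = a ^ i' * b ^ d := by
    have : a ^ i' * b ^ (j + d) = a ^ i' * b ^ d * b ^ j := by rw [add_comm, pow_add, mul_assoc]
    rw [this] at h
    exact mul_right_cancel h
  have h2 : b ^ d ∈ zpowers a := by
    have : b ^ d = (a ^ i')⁻¹ * a ^ i := by rw [h1]; group
    rw [this]
    exact (zpowers a).mul_mem ((zpowers a).inv_mem (pow_mem (mem_zpowers a) _))
      (pow_mem (mem_zpowers a) _)
  rw [T.mem_iff] at h2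
  obtain ⟨c, rfl⟩ := h2
  have hsℓ : s ≤ ℓ := hs.trans (T.n_le_ell hp2)
  refine ⟨dvd_mul_of_dvd_left (pow_dvd_pow p hsℓ) c, ?_⟩
  rw [pow_mul, T.pow_ell, ← pow_mul, ← pow_add] at h1
  have h3 : i ≡ i' + w * c [MOD p ^ m] := by rw [← T.ord]; exact pow_eq_pow_iff_modEq.mp h1
  have h4 : i ≡ i' + w * c [MOD p ^ s] := h3.of_dvd (pow_dvd_pow p (by omega : s ≤ m))
  have h5 : p ^ s ∣ w * c := dvd_mul_of_dvd_left ((pow_dvd_pow p hs).trans T.pow_n_dvd_w) c
  have h6 : i' + w * c ≡ i' [MOD p ^ s] := by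
    have : w * c ≡ 0 [MOD p ^ s] := (Nat.modEq_zero_iff_dvd).mpr h5
    simpa using Nat.ModEq.add_left i' this
  exact h4.trans h6

/-- coordinates are well defined modulo `p ^ s` for `s ≤ n` -/
theorem coord (hp2 : p ≠ 2) {i j i' j' s : ℕ} (h : a ^ i * b ^ j = a ^ i' * b ^ j')
    (hs : s ≤ m - padicValNat p (r - 1)) :
    i ≡ i' [MOD p ^ s] ∧ j ≡ j' [MOD p ^ s] := by
  rcases le_total j j' with hjj | hjj
  · obtain ⟨h1, h2⟩ := T.coord_aux hp2 h hjj hs
    exact ⟨h2, (Nat.modEq_iff_dvd' hjj).mpr h1⟩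
  · obtain ⟨h1, h2⟩ := T.coord_aux hp2 h.symm hjj hs
    exact ⟨h2.symm, ((Nat.modEq_iff_dvd' hjj).mpr h1).symm⟩

/-- the order of the quotient by `⟨a⟩` -/
theorem card_quotient : haveI := T.normal; Nat.card (G ⧸ zpowers a) = p ^ ℓ := by
  haveI := T.normal
  have h1 : orderOf (QuotientGroup.mk b : G ⧸ zpowers a) = p ^ ℓ := by
    apply Nat.dvd_antisymm
    · rw [orderOf_dvd_iff_pow_eq_one, ← QuotientGroup.mk_pow, QuotientGroup.eq_one_iff, T.mem_iff]
    · rw [← T.mem_iff, ← QuotientGroup.eq_one_iff, QuotientGroup.mk_pow]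
      exact pow_orderOf_eq_one _
  rw [← h1]
  symm
  apply orderOf_eq_card_of_forall_mem_zpowers
  intro x
  obtain ⟨g, rfl⟩ := QuotientGroup.mk_surjective x
  obtain ⟨i, j, rfl⟩ := T.gen g
  rw [mem_zpowers_iff_nat]
  refine ⟨j, ?_⟩
  rw [QuotientGroup.mk_mul, QuotientGroup.mk_pow, QuotientGroup.mk_pow,
    (QuotientGroup.eq_one_iff a).mpr (mem_zpowers a), one_pow, one_mul]

theorem card_eq : Nat.card G = p ^ (m + ℓ) := by
  haveI := T.normal
  rw [← Subgroup.card_mul_index (zpowers a), Nat.card_zpowers, T.ord, index_eq_card,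
    T.card_quotient, pow_add]

end finite

end IsMC

end Cfsg.Agent.Lib.Helper21.Meta
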