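import Mathlib
import Cfsg.Agent.Lib.Helper21.MetaBasic

/-!
# Metacyclic `p`-groups, `p` odd: sub-triples, the subgroups `lev s`, class sizes
-/

set_option autoImplicit false

namespace Cfsg.Agent.Lib.Helper21.Meta

open Subgroup
open scoped commutatorElement

variable {G : Type*} [Group G]

theorem pow_mul_inv_mem_zpowers {a : G} {A B c : ℕ} (h : A ≡ B [MOD c]) :
    a ^ A * (a ^ B)⁻¹ ∈ zpowers (a ^ c) := by
  rcases le_total B A with hBA | hAB
  · obtain ⟨k, hk⟩ := (Nat.modEq_iff_dvd' hBA).mp h.symm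
    have : a ^ A * (a ^ B)⁻¹ = (a ^ c) ^ k := by
      have hA : A = B + c * k := by omega
      rw [hA, pow_add, ← pow_mul]; group
    rw [this]; exact pow_mem (mem_zpowers _) k
  · obtain ⟨k, hk⟩ := (Nat.modEq_iff_dvd' hAB).mp h
    have : a ^ A * (a ^ B)⁻¹ = ((a ^ c) ^ k)⁻¹ := by
      have hB : B = A + c * k := by omega
      rw [hB, pow_add, ← pow_mul]; group
    rw [this]; exact inv_mem (pow_mem (mem_zpowers _) k)

/-- the subgroup `⟨a ^ p ^ s⟩ ⟨b ^ p ^ s⟩` -/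
def lev (a b : G) (p s : ℕ) : Subgroup G := zpowers (a ^ p ^ s) ⊔ zpowers (b ^ p ^ s)

namespace IsMC

variable {p : ℕ} {a b : G} {r m ℓ w : ℕ}

section finite

variable [Finite G] [hpf : Fact p.Prime] (T : IsMC p a b r m ℓ w)
include T

theorem comm_formula (i j s t : ℕ) :
    (a ^ i * b ^ j) * (a ^ s * b ^ t) * (a ^ i * b ^ j)⁻¹ * (a ^ s * b ^ t)⁻¹ =
      a ^ (i + s * r ^ j) * (a ^ (s + i * r ^ t))⁻¹ := by
  have h1 := T.mul_formula i j s t
  have h2 := T.mul_formula s t i j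
  calc (a ^ i * b ^ j) * (a ^ s * b ^ t) * (a ^ i * b ^ j)⁻¹ * (a ^ s * b ^ t)⁻¹
      = ((a ^ i * b ^ j) * (a ^ s * b ^ t)) * ((a ^ s * b ^ t) * (a ^ i * b ^ j))⁻¹ := by group
    _ = a ^ (i + s * r ^ j) * (a ^ (s + i * r ^ t))⁻¹ := by
      rw [h1, h2, add_comm t j]; group

/-- `r ^ x ≡ 1` modulo any divisor of `r ^ x - 1` -/
theorem r_pow_modEq_one {c x : ℕ} (h : c ∣ r ^ x - 1) : r ^ x ≡ 1 [MOD c] :=
  ((Nat.modEq_iff_dvd' (T.one_le_r_pow x)).mpr h).symm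

theorem pow_dvd_r_pow_sub_one (hp2 : p ≠ 2) (e j : ℕ) :
    p ^ (padicValNat p (r - 1) + e) ∣ r ^ (p ^ e * j) - 1 := by
  have hp : p.Prime := hpf.out
  rcases Nat.eq_zero_or_pos j with rfl | hj
  · simp
  · have hne : p ^ e * j ≠ 0 := mul_ne_zero (pow_ne_zero _ hp.ne_zero) hj.ne'
    have hE := exactPow_pow_sub_one hp2 T.two_le T.dvd hne
    rw [hE.pow_dvd_iff hp, padicValNat.mul (pow_ne_zero _ hp.ne_zero) hj.ne', padicValNat.prime_pow]
    omega

theorem commutator_mem (g h : G) : g * h * g⁻¹ * h⁻¹ ∈ zpowers (a ^ (r - 1)) := by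
  obtain ⟨i, j, rfl⟩ := T.gen g
  obtain ⟨s, t, rfl⟩ := T.gen h
  rw [T.comm_formula]
  apply pow_mul_inv_mem_zpowers
  have h1 : r ^ j ≡ 1 [MOD r - 1] := T.r_pow_modEq_one (Nat.sub_one_dvd_pow_sub_one r j)
  have h2 : r ^ t ≡ 1 [MOD r - 1] := T.r_pow_modEq_one (Nat.sub_one_dvd_pow_sub_one r t)
  have h3 : i + s * r ^ j ≡ i + s * 1 [MOD r - 1] := Nat.ModEq.add_left i (Nat.ModEq.mul_left s h1)
  have h4 : s + i * r ^ t ≡ s + i * 1 [MOD r - 1] := Nat.ModEq.add_left s (Nat.ModEq.mul_left i h2)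
  rw [mul_one] at h3 h4
  rw [add_comm s i] at h4
  exact h3.trans h4.symm

theorem commutator_eq : commutator G = zpowers (a ^ (r - 1)) := by
  apply le_antisymm
  · rw [commutator_def, Subgroup.commutator_le]
    intro g _ h _
    rw [commutatorElement_def]
    exact T.commutator_mem g h
  · rw [zpowers_le]
    have h1 : a ^ (r - 1) = ⁅b, a⁆ := by
      rw [commutatorElement_def, T.conj]
      have : r = (r - 1) + 1 := by have := T.two_le; omega
      conv_rhs => rw [this, pow_add, pow_one]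
      group
    rw [h1]
    exact Subgroup.commutator_mem_commutator (mem_top b) (mem_top a)

theorem card_commutator : Nat.card (commutator G) = p ^ (m - padicValNat p (r - 1)) := by
  rw [T.commutator_eq, Nat.card_zpowers]
  exact orderOf_pow_of_exactPow hpf.out T.ord T.r_sub_one_exact

/-! ### sub-triples -/

theorem subTriple (R : Subgroup G) (u v s₀ : ℕ) (hv : v ≤ ℓ)
    (hx : a ^ p ^ u ∈ R) (hy : a ^ s₀ * b ^ p ^ v ∈ R)
    (hgen : ∀ g ∈ R, ∃ i j : ℕ, g = (a ^ p ^ u) ^ i * (a ^ s₀ * b ^ p ^ v) ^ j)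
    (hN : ∀ i : ℕ, a ^ i ∈ R → p ^ u ∣ i) :
    ∃ w' : ℕ, IsMC p (⟨a ^ p ^ u, hx⟩ : R) ⟨a ^ s₀ * b ^ p ^ v, hy⟩ (r ^ p ^ v) (m - u) (ℓ - v) w' := by
  have hp : p.Prime := hpf.out
  have hmem : ∀ k : ℕ, (⟨a ^ s₀ * b ^ p ^ v, hy⟩ : R) ^ k ∈ zpowers (⟨a ^ p ^ u, hx⟩ : R) ↔
      p ^ (ℓ - v) ∣ k := by
    intro k
    rw [mem_zpowers_iff_nat]
    have hyk := T.pow_formula s₀ (p ^ v) k
    constructor
    · rintro ⟨c, hc⟩
      have hc' : (a ^ p ^ u) ^ c = (a ^ s₀ * b ^ p ^ v) ^ k := by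
        have := congrArg Subtype.val hc
        simpa using this
      rw [hyk] at hc'
      have h1 : b ^ (p ^ v * k) ∈ zpowers a := by
        have : b ^ (p ^ v * k) =
            (a ^ (s₀ * ∑ t ∈ Finset.range k, (r ^ p ^ v) ^ t))⁻¹ * (a ^ p ^ u) ^ c := by
          rw [hc']; group
        rw [this, ← pow_mul]
        exact (zpowers a).mul_mem ((zpowers a).inv_mem (pow_mem (mem_zpowers a) _))
          (pow_mem (mem_zpowers a) _)
      rw [T.mem_iff] at h1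
      have hℓ : ℓ = v + (ℓ - v) := by omega
      rw [hℓ, pow_add] at h1
      exact Nat.dvd_of_mul_dvd_mul_left (pow_pos hp.pos v) h1
    · rintro ⟨c, rfl⟩
      have h1 : b ^ (p ^ v * (p ^ (ℓ - v) * c)) ∈ zpowers a := by
        rw [T.mem_iff, ← mul_assoc, ← pow_add]
        have : v + (ℓ - v) = ℓ := by omega
        rw [this]
        exact dvd_mul_right _ _
      rw [mem_zpowers_iff_nat] at h1
      obtain ⟨e, he⟩ := h1
      have h2 : (a ^ s₀ * b ^ p ^ v) ^ (p ^ (ℓ - v) * c) =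
          a ^ (s₀ * (∑ t ∈ Finset.range (p ^ (ℓ - v) * c), (r ^ p ^ v) ^ t) + e) := by
        rw [T.pow_formula, ← he, ← pow_add]
      have h3 : a ^ (s₀ * (∑ t ∈ Finset.range (p ^ (ℓ - v) * c), (r ^ p ^ v) ^ t) + e) ∈ R := by
        rw [← h2]; exact R.pow_mem hy _
      obtain ⟨d, hd⟩ := hN _ h3
      refine ⟨d, ?_⟩
      apply Subtype.ext
      show ((⟨a ^ p ^ u, hx⟩ : R) ^ d : R).1 = ((⟨a ^ s₀ * b ^ p ^ v, hy⟩ : R) ^ (p ^ (ℓ - v) * c) : R).1
      rw [SubmonoidClass.coe_pow, SubmonoidClass.coe_pow]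
      show (a ^ p ^ u) ^ d = (a ^ s₀ * b ^ p ^ v) ^ (p ^ (ℓ - v) * c)
      rw [h2, hd, pow_mul]
  obtain ⟨w', hw'⟩ := mem_zpowers_iff_nat.mp ((hmem (p ^ (ℓ - v))).mpr dvd_rfl)
  refine ⟨w', ?_⟩
  refine
    { conj := ?_
      gen := ?_
      two_le := le_trans T.two_le (Nat.le_self_pow (pow_ne_zero _ hp.ne_zero) r)
      dvd := dvd_pow_sub_one T.two_le T.dvd _
      ord := ?_
      mem_iff := hmem
      pow_ell := hw'.symm }
  · apply Subtype.ext
    show (a ^ s₀ * b ^ p ^ v) * a ^ p ^ u * (a ^ s₀ * b ^ p ^ v)⁻¹ = ((⟨a ^ p ^ u, hx⟩ : R) ^ (r ^ p ^ v) : R).1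
    rw [SubmonoidClass.coe_pow]
    show (a ^ s₀ * b ^ p ^ v) * a ^ p ^ u * (a ^ s₀ * b ^ p ^ v)⁻¹ = (a ^ p ^ u) ^ (r ^ p ^ v)
    calc (a ^ s₀ * b ^ p ^ v) * a ^ p ^ u * (a ^ s₀ * b ^ p ^ v)⁻¹
        = a ^ s₀ * (b ^ p ^ v * a ^ p ^ u * (b ^ p ^ v)⁻¹) * (a ^ s₀)⁻¹ := by group
      _ = a ^ s₀ * a ^ (p ^ u * r ^ p ^ v) * (a ^ s₀)⁻¹ := by rw [T.pow_conj_pow]
      _ = a ^ (p ^ u * r ^ p ^ v) := by
        rw [← pow_add, add_comm, pow_add, mul_inv_cancel_right]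
      _ = (a ^ p ^ u) ^ (r ^ p ^ v) := by rw [pow_mul]
  · rintro ⟨g, hg⟩
    obtain ⟨i, j, hij⟩ := hgen g hg
    refine ⟨i, j, ?_⟩
    apply Subtype.ext
    show g = ((⟨a ^ p ^ u, hx⟩ : R) ^ i * (⟨a ^ s₀ * b ^ p ^ v, hy⟩ : R) ^ j : R).1
    rw [Subgroup.coe_mul, SubmonoidClass.coe_pow, SubmonoidClass.coe_pow]
    exact hij
  · rw [Subgroup.orderOf_mk]
    exact orderOf_pow_of_exactPow hp T.ord (exactPow_self_pow hp u)

/-! ### the subgroups `lev s` -/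

theorem mem_lev {s : ℕ} {g : G} :
    g ∈ lev a b p s ↔ ∃ i j : ℕ, g = a ^ (p ^ s * i) * b ^ (p ^ s * j) := by
  haveI := T.zpowers_pow_normal (p ^ s)
  unfold lev
  rw [mem_sup_of_normal_left]
  constructor
  · rintro ⟨y, hy, z, hz, rfl⟩
    rw [mem_zpowers_iff_nat] at hy hz
    obtain ⟨i, rfl⟩ := hy
    obtain ⟨j, rfl⟩ := hz
    exact ⟨i, j, by rw [pow_mul, pow_mul]⟩
  · rintro ⟨i, j, rfl⟩
    refine ⟨_, ?_, _, ?_, rfl⟩
    · rw [pow_mul]; exact pow_mem (mem_zpowers _) i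
    · rw [pow_mul]; exact pow_mem (mem_zpowers _) j

theorem mem_lev_iff (hp2 : p ≠ 2) {s i j : ℕ} (hs : s ≤ m - padicValNat p (r - 1)) :
    a ^ i * b ^ j ∈ lev a b p s ↔ p ^ s ∣ i ∧ p ^ s ∣ j := by
  rw [T.mem_lev]
  constructor
  · rintro ⟨i', j', h⟩
    obtain ⟨h1, h2⟩ := T.coord hp2 h hs
    constructor
    · exact (Nat.modEq_zero_iff_dvd).mp
        (h1.trans ((Nat.modEq_zero_iff_dvd).mpr (dvd_mul_right _ _)))
    · exact (Nat.modEq_zero_iff_dvd).mp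
        (h2.trans ((Nat.modEq_zero_iff_dvd).mpr (dvd_mul_right _ _)))
  · rintro ⟨⟨i', rfl⟩, ⟨j', rfl⟩⟩
    exact ⟨i', j', rfl⟩

theorem pow_a_mem_lev (s : ℕ) : a ^ p ^ s ∈ lev a b p s :=
  mem_sup_left (mem_zpowers _)

theorem pow_b_mem_lev (s : ℕ) : a ^ 0 * b ^ p ^ s ∈ lev a b p s := by
  rw [pow_zero, one_mul]
  exact mem_sup_right (mem_zpowers _)

theorem lev_isMC (hp2 : p ≠ 2) {s : ℕ} (hs : s ≤ m - padicValNat p (r - 1)) :
    ∃ w' : ℕ, IsMC p (⟨a ^ p ^ s, T.pow_a_mem_lev s⟩ : lev a b p s)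
      ⟨a ^ 0 * b ^ p ^ s, T.pow_b_mem_lev s⟩ (r ^ p ^ s) (m - s) (ℓ - s) w' := by
  apply T.subTriple (lev a b p s) s s 0 (hs.trans (T.n_le_ell hp2))
  · intro g hg
    obtain ⟨i, j, rfl⟩ := T.mem_lev.mp hg
    exact ⟨i, j, by rw [pow_zero, one_mul, pow_mul, pow_mul]⟩
  · intro i hi
    have : a ^ i * b ^ 0 ∈ lev a b p s := by rw [pow_zero, mul_one]; exact hi
    exact ((T.mem_lev_iff hp2 hs).mp this).1

theorem card_lev (hp2 : p ≠ 2) {s : ℕ} (hs : s ≤ m - padicValNat p (r - 1)) :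
    Nat.card (lev a b p s) = p ^ ((m - s) + (ℓ - s)) := by
  obtain ⟨w', hT⟩ := T.lev_isMC hp2 hs
  exact hT.card_eq

theorem index_lev (hp2 : p ≠ 2) {s : ℕ} (hs : s ≤ m - padicValNat p (r - 1)) :
    (lev a b p s).index = p ^ (2 * s) := by
  have hp : p.Prime := hpf.out
  have h1 := Subgroup.card_mul_index (lev a b p s)
  rw [T.card_lev hp2 hs, T.card_eq] at h1
  have hsℓ : s ≤ ℓ := hs.trans (T.n_le_ell hp2)
  have hsm : s ≤ m := by omega
  have h2 : p ^ (m + ℓ) = p ^ ((m - s) + (ℓ - s)) * p ^ (2 * s) := by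
    rw [← pow_add]; congr 1; omega
  rw [h2] at h1
  exact Nat.eq_of_mul_eq_mul_left (pow_pos hp.pos _) h1

theorem lev_anti {s t : ℕ} (hst : s ≤ t) : lev a b p t ≤ lev a b p s := by
  intro g hg
  obtain ⟨i, j, rfl⟩ := T.mem_lev.mp hg
  obtain ⟨d, rfl⟩ := Nat.exists_eq_add_of_le hst
  exact T.mem_lev.mpr ⟨p ^ d * i, p ^ d * j, by rw [pow_add, mul_assoc, mul_assoc]⟩

/-! ### class sizes -/

theorem index_centralizer_le (hp2 : p ≠ 2) {s : ℕ} {g : G} (hg : g ∈ lev a b p s) :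
    (centralizer ({g} : Set G)).index ≤ p ^ (m - (padicValNat p (r - 1) + s)) := by
  have hp : p.Prime := hpf.out
  obtain ⟨i, j, rfl⟩ := T.mem_lev.mp hg
  have hcard : Nat.card (zpowers (a ^ p ^ (padicValNat p (r - 1) + s))) =
      p ^ (m - (padicValNat p (r - 1) + s)) := by
    rw [Nat.card_zpowers]
    exact orderOf_pow_of_exactPow hp T.ord (exactPow_self_pow hp _)
  rw [← hcard]
  apply index_centralizer_le_card
  intro x
  obtain ⟨σ, τ, rfl⟩ := T.gen x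
  rw [T.comm_formula]
  apply pow_mul_inv_mem_zpowers
  have h1 : r ^ τ ≡ 1 [MOD p ^ padicValNat p (r - 1)] := by
    apply T.r_pow_modEq_one
    have := T.pow_dvd_r_pow_sub_one hp2 0 τ
    simpa using this
  have h2 : r ^ (p ^ s * j) ≡ 1 [MOD p ^ (padicValNat p (r - 1) + s)] :=
    T.r_pow_modEq_one (T.pow_dvd_r_pow_sub_one hp2 s j)
  have h3 : p ^ s * i * r ^ τ ≡ p ^ s * i [MOD p ^ (padicValNat p (r - 1) + s)] := by
    have := Nat.ModEq.mul_left' (p ^ s) (Nat.ModEq.mul_left i h1)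
    rw [← pow_add, add_comm s, mul_one, ← mul_assoc] at this
    exact this
  have h4 : σ * r ^ (p ^ s * j) ≡ σ * 1 [MOD p ^ (padicValNat p (r - 1) + s)] :=
    Nat.ModEq.mul_left σ h2
  rw [mul_one] at h4
  calc σ + p ^ s * i * r ^ τ ≡ σ + p ^ s * i [MOD p ^ (padicValNat p (r - 1) + s)] :=
        Nat.ModEq.add_left σ h3
    _ = p ^ s * i + σ := add_comm _ _
    _ ≡ p ^ s * i + σ * r ^ (p ^ s * j) [MOD p ^ (padicValNat p (r - 1) + s)] :=
        (Nat.ModEq.add_left _ h4).symm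

theorem le_index_centralizer (hp2 : p ≠ 2) {e i j : ℕ} (hi : p ^ e ∣ i) (hj : p ^ e ∣ j)
    (hnot : ¬ (p ^ (e + 1) ∣ i ∧ p ^ (e + 1) ∣ j)) :
    p ^ (m - (padicValNat p (r - 1) + e)) ≤ (centralizer ({a ^ i * b ^ j} : Set G)).index := by
  have hp : p.Prime := hpf.out
  have hexact : ∀ x : ℕ, p ^ e ∣ x → ¬ p ^ (e + 1) ∣ x → ExactPow p e x := by
    rintro x ⟨x', rfl⟩ hx
    refine ⟨x', ?_, rfl⟩
    rintro ⟨x'', rfl⟩
    exact hx ⟨x'', by rw [pow_succ]; ring⟩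
  by_cases hj' : p ^ (e + 1) ∣ j
  · -- the `b`-orbit
    have hi' : ¬ p ^ (e + 1) ∣ i := fun h => hnot ⟨h, hj'⟩
    have hEi := hexact i hi hi'
    apply le_index_of_pow_not_mem _ b
    intro d hd0 hdlt hmem
    rw [mem_centralizer_singleton_iff, T.pow_b_commute_iff] at hmem
    have hEd := exactPow_pow_sub_one hp2 T.two_le T.dvd (j := d) hd0.ne'
    rw [mul_comm, hEi.pow_dvd_mul_iff hp, hEd.pow_dvd_iff hp] at hmem
    have hdv : p ^ (m - (padicValNat p (r - 1) + e)) ∣ d := by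
      rw [padicValNat_dvd_iff_le hd0.ne']
      omega
    exact absurd (Nat.le_of_dvd hd0 hdv) (by omega)
  · -- the `a`-orbit
    have hEj := hexact j hj hj'
    have hj0 : j ≠ 0 := hEj.ne_zero hp
    apply le_index_of_pow_not_mem _ a
    intro d hd0 hdlt hmem
    rw [mem_centralizer_singleton_iff, T.pow_a_commute_iff] at hmem
    have hE := exactPow_pow_sub_one hp2 T.two_le T.dvd (j := j) hj0
    rw [hEj.padicValNat_eq hp] at hE
    rw [hE.pow_dvd_mul_iff hp] at hmem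
    exact absurd (Nat.le_of_dvd hd0 hmem) (by omega)

/-- **class sizes**: for `s ≤ n`, `g ∈ lev s` iff the class of `g` has at most `p ^ (n - s)` elements -/
theorem mem_lev_iff_index (hp2 : p ≠ 2) {s : ℕ} (hs : s ≤ m - padicValNat p (r - 1)) (g : G) :
    g ∈ lev a b p s ↔
      (centralizer ({g} : Set G)).index ≤ p ^ (m - padicValNat p (r - 1) - s) := by
  have hp : p.Prime := hpf.out
  constructor
  · intro hg
    rw [Nat.sub_sub]
    exact T.index_centralizer_le hp2 hg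
  · intro hidx
    by_contra hg
    obtain ⟨i, j, rfl⟩ := T.gen g
    rw [T.mem_lev_iff hp2 hs] at hg
    have hs0 : s ≠ 0 := by
      rintro rfl
      exact hg ⟨by simp, by simp⟩
    have hex : ∃ e, ¬ (p ^ (e + 1) ∣ i ∧ p ^ (e + 1) ∣ j) :=
      ⟨s - 1, by rwa [Nat.sub_add_cancel (Nat.one_le_iff_ne_zero.mpr hs0)]⟩
    classical
    obtain ⟨e, he, hmin⟩ : ∃ e, ¬ (p ^ (e + 1) ∣ i ∧ p ^ (e + 1) ∣ j) ∧
        ∀ e' < e, (p ^ (e' + 1) ∣ i ∧ p ^ (e' + 1) ∣ j) := by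
      refine ⟨Nat.find hex, Nat.find_spec hex, fun e' he' => ?_⟩
      exact not_not.mp (Nat.find_min hex he')
    have hes : e < s := by
      by_contra hes
      push Not at hes
      have h1 := hmin (s - 1) (by omega)
      rw [Nat.sub_add_cancel (Nat.one_le_iff_ne_zero.mpr hs0)] at h1
      exact hg h1
    have hdiv : p ^ e ∣ i ∧ p ^ e ∣ j := by
      rcases Nat.eq_zero_or_pos e with rfl | he0
      · simp
      · have := hmin (e - 1) (by omega)
        rwa [Nat.sub_add_cancel he0] at this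
    have hlow := T.le_index_centralizer hp2 hdiv.1 hdiv.2 he
    have hlt : p ^ (m - padicValNat p (r - 1) - s) < p ^ (m - (padicValNat p (r - 1) + e)) :=
      Nat.pow_lt_pow_right hp.one_lt (by omega)
    omega

theorem center_eq (hp2 : p ≠ 2) : center G = lev a b p (m - padicValNat p (r - 1)) := by
  ext g
  rw [T.mem_lev_iff_index hp2 le_rfl, Nat.sub_self, pow_zero]
  have hpos : 0 < (centralizer ({g} : Set G)).index := Nat.pos_of_ne_zero (index_ne_zero_of_finite)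
  constructor
  · intro hg
    have : centralizer ({g} : Set G) = ⊤ := by
      rw [eq_top_iff]
      intro x _
      rw [mem_centralizer_singleton_iff]
      exact (mem_center_iff.mp hg x)
    rw [this, index_top]
  · intro hidx
    have h1 : (centralizer ({g} : Set G)).index = 1 := by omega
    rw [index_eq_one] at h1
    rw [mem_center_iff]
    intro x
    have : x ∈ centralizer ({g} : Set G) := h1 ▸ mem_top x
    exact mem_centralizer_singleton_iff.mp this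

theorem index_center (hp2 : p ≠ 2) : (center G).index = p ^ (2 * (m - padicValNat p (r - 1))) := by
  rw [T.center_eq hp2]
  exact T.index_lev hp2 le_rfl

theorem agemo_eq (hp2 : p ≠ 2) (s : ℕ) :
    closure {x : G | ∃ y : G, y ^ p ^ s = x} = lev a b p s := by
  have hp : p.Prime := hpf.out
  apply le_antisymm
  · rw [closure_le]
    rintro _ ⟨y, rfl⟩
    obtain ⟨i, j, rfl⟩ := T.gen y
    rw [T.pow_formula]
    have hE := exactPow_geom_sum (p := p) hp2 (R := r ^ j) (T.one_le_r_pow j)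
      (dvd_pow_sub_one T.two_le T.dvd j) (e := p ^ s) (pow_ne_zero _ hp.ne_zero)
    rw [padicValNat.prime_pow] at hE
    obtain ⟨S', hS'⟩ := hE.pow_dvd
    rw [hS']
    exact T.mem_lev.mpr ⟨i * S', j, by rw [mul_comm j, mul_left_comm]⟩
  · unfold lev
    rw [sup_le_iff, zpowers_le, zpowers_le]
    exact ⟨subset_closure ⟨a, rfl⟩, subset_closure ⟨b, rfl⟩⟩

end finite

end IsMC

end Cfsg.Agent.Lib.Helper21.Meta
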