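import Mathlib
import Cfsg.Agent.Lib.Helper21.MetaLev

/-!
# Metacyclic `p`-groups, `p` odd: arbitrary subgroups
-/

set_option autoImplicit false

namespace Cfsg.Agent.Lib.Helper21.Meta

open Subgroup
open scoped commutatorElement

variable {G : Type*} [Group G]

/-- powers: if `x ^ i ∈ R` and `x ^ q ∈ R` then `x ^ gcd i q ∈ R` -/
theorem pow_gcd_mem (R : Subgroup G) (x : G) {i q : ℕ} (hi : x ^ i ∈ R) (hq : x ^ q ∈ R) :
    x ^ Nat.gcd i q ∈ R := by
  have h := Nat.gcd_eq_gcd_ab i q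
  have h1 : x ^ (Nat.gcd i q) = (x ^ i) ^ (Nat.gcdA i q) * (x ^ q) ^ (Nat.gcdB i q) := by
    rw [← zpow_natCast x (Nat.gcd i q), h, zpow_add, zpow_mul, zpow_mul, zpow_natCast, zpow_natCast]
  rw [h1]
  exact R.mul_mem (R.zpow_mem hi _) (R.zpow_mem hq _)

theorem isMulCommutative_iff_commutator_eq_bot {H : Type*} [Group H] :
    IsMulCommutative H ↔ commutator H = ⊥ := by
  constructor
  · intro h
    rw [commutator_def, eq_bot_iff, Subgroup.commutator_le]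
    intro g _ k _
    rw [mem_bot, commutatorElement_eq_one_iff_commute]
    exact h.is_comm.comm g k
  · intro h
    refine ⟨⟨fun g k => ?_⟩⟩
    have : ⁅g, k⁆ ∈ commutator H := by
      rw [commutator_def]
      exact Subgroup.commutator_mem_commutator (mem_top g) (mem_top k)
    rw [h, mem_bot, commutatorElement_eq_one_iff_commute] at this
    exact this

namespace IsMC

variable {p : ℕ} {a b : G} {r m ℓ w : ℕ}

section finite

variable [Finite G] [hpf : Fact p.Prime] (T : IsMC p a b r m ℓ w)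
include T

/-- description of an arbitrary subgroup -/
theorem exists_params (R : Subgroup G) :
    ∃ u v s₀ : ℕ, u ≤ m ∧ v ≤ ℓ ∧ a ^ p ^ u ∈ R ∧ a ^ s₀ * b ^ p ^ v ∈ R ∧
      (∀ g ∈ R, ∃ i j : ℕ, g = (a ^ p ^ u) ^ i * (a ^ s₀ * b ^ p ^ v) ^ j) ∧
      (∀ i : ℕ, a ^ i ∈ R → p ^ u ∣ i) := by
  classical
  have hp : p.Prime := hpf.out
  haveI := T.normal
  have hapm : a ^ p ^ m = 1 := by rw [← T.ord]; exact pow_orderOf_eq_one a
  -- the parameter `u`
  have hexu : ∃ u, a ^ p ^ u ∈ R := ⟨m, by rw [hapm]; exact R.one_mem⟩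
  obtain ⟨u, hu, humin⟩ : ∃ u, a ^ p ^ u ∈ R ∧ ∀ u', a ^ p ^ u' ∈ R → u ≤ u' :=
    ⟨Nat.find hexu, Nat.find_spec hexu, fun u' h => Nat.find_min' hexu h⟩
  have hum : u ≤ m := humin m (by rw [hapm]; exact R.one_mem)
  have hN : ∀ i : ℕ, a ^ i ∈ R → p ^ u ∣ i := by
    intro i hi
    have h1 := pow_gcd_mem R a hi hu
    obtain ⟨e, he, heq⟩ := (Nat.dvd_prime_pow hp).mp (Nat.gcd_dvd_right i (p ^ u))
    rw [heq] at h1
    have h2 : u ≤ e := humin e h1
    have h3 : e = u := le_antisymm he h2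
    rw [h3] at heq
    rw [← heq]
    exact Nat.gcd_dvd_left i (p ^ u)
  -- the parameter `v`
  have hexv : ∃ v, ∃ s₀, a ^ s₀ * b ^ p ^ v ∈ R := by
    refine ⟨ℓ, (p ^ m - 1) * w, ?_⟩
    rw [T.pow_ell, ← pow_add]
    have : (p ^ m - 1) * w + w = p ^ m * w := by
      have : 1 ≤ p ^ m := Nat.one_le_pow _ _ hp.pos
      obtain ⟨d, hd⟩ := Nat.exists_eq_add_of_le this
      rw [hd, Nat.add_sub_cancel_left]; ring
    rw [this, pow_mul, hapm, one_pow]
    exact R.one_mem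
  obtain ⟨v, hv, hvmin⟩ : ∃ v, (∃ s₀, a ^ s₀ * b ^ p ^ v ∈ R) ∧
      ∀ v', (∃ s₀, a ^ s₀ * b ^ p ^ v' ∈ R) → v ≤ v' :=
    ⟨Nat.find hexv, Nat.find_spec hexv, fun v' h => Nat.find_min' hexv h⟩
  have hvℓ : v ≤ ℓ := hvmin ℓ (by
    refine ⟨(p ^ m - 1) * w, ?_⟩
    rw [T.pow_ell, ← pow_add]
    have : (p ^ m - 1) * w + w = p ^ m * w := by
      have : 1 ≤ p ^ m := Nat.one_le_pow _ _ hp.pos
      obtain ⟨d, hd⟩ := Nat.exists_eq_add_of_le this
      rw [hd, Nat.add_sub_cancel_left]; ring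
    rw [this, pow_mul, hapm, one_pow]
    exact R.one_mem)
  obtain ⟨s₀, hs₀⟩ := hv
  have hbℓ : (QuotientGroup.mk b : G ⧸ zpowers a) ^ p ^ ℓ = 1 := by
    rw [← QuotientGroup.mk_pow, QuotientGroup.eq_one_iff, T.mem_iff]
  have ha1 : (QuotientGroup.mk a : G ⧸ zpowers a) = 1 :=
    (QuotientGroup.eq_one_iff a).mpr (mem_zpowers a)
  have hJ : ∀ i j : ℕ, a ^ i * b ^ j ∈ R → p ^ v ∣ j := by
    intro i j hg
    obtain ⟨e, he, heq⟩ := (Nat.dvd_prime_pow hp).mp (Nat.gcd_dvd_right j (p ^ ℓ))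
    have hbez := Nat.gcd_eq_gcd_ab j (p ^ ℓ)
    -- the element `g ^ A`
    have hgA : (a ^ i * b ^ j) ^ (Nat.gcdA j (p ^ ℓ)) ∈ R := R.zpow_mem hg _
    have hq : (QuotientGroup.mk ((a ^ i * b ^ j) ^ (Nat.gcdA j (p ^ ℓ))) : G ⧸ zpowers a) =
        QuotientGroup.mk (b ^ p ^ e) := by
      rw [QuotientGroup.mk_zpow, QuotientGroup.mk_mul, QuotientGroup.mk_pow, QuotientGroup.mk_pow,
        ha1, one_pow, one_mul, QuotientGroup.mk_pow, ← heq, ← zpow_natCast _ (Nat.gcd j (p ^ ℓ)),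
        hbez, zpow_add, zpow_mul, zpow_mul, zpow_natCast, zpow_natCast, hbℓ, one_zpow, mul_one]
    have hmemN : (a ^ i * b ^ j) ^ (Nat.gcdA j (p ^ ℓ)) * (b ^ p ^ e)⁻¹ ∈ zpowers a := by
      rw [← QuotientGroup.eq_one_iff, QuotientGroup.mk_mul, QuotientGroup.mk_inv, hq, mul_inv_cancel]
    obtain ⟨s₁, hs₁⟩ := mem_zpowers_iff_nat.mp hmemN
    have h1 : a ^ s₁ * b ^ p ^ e ∈ R := by
      rw [hs₁, inv_mul_cancel_right]
      exact hgA
    have h2 : v ≤ e := hvmin e ⟨s₁, h1⟩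
    calc p ^ v ∣ p ^ e := pow_dvd_pow p h2
      _ = Nat.gcd j (p ^ ℓ) := heq.symm
      _ ∣ j := Nat.gcd_dvd_left _ _
  refine ⟨u, v, s₀, hum, hvℓ, hu, hs₀, ?_, hN⟩
  intro g hg
  obtain ⟨i, j, rfl⟩ := T.gen g
  obtain ⟨k, rfl⟩ := hJ i j hg
  have hyk := T.pow_formula s₀ (p ^ v) k
  have h1 : a ^ i * b ^ (p ^ v * k) * ((a ^ s₀ * b ^ p ^ v) ^ k)⁻¹ ∈ R :=
    R.mul_mem hg (R.inv_mem (R.pow_mem hs₀ k))
  have h2 : a ^ i * b ^ (p ^ v * k) * ((a ^ s₀ * b ^ p ^ v) ^ k)⁻¹ ∈ zpowers a := by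
    rw [hyk]
    have : a ^ i * b ^ (p ^ v * k) *
        (a ^ (s₀ * ∑ t ∈ Finset.range k, (r ^ p ^ v) ^ t) * b ^ (p ^ v * k))⁻¹ =
        a ^ i * (a ^ (s₀ * ∑ t ∈ Finset.range k, (r ^ p ^ v) ^ t))⁻¹ := by group
    rw [this]
    exact (zpowers a).mul_mem (pow_mem (mem_zpowers a) _)
      ((zpowers a).inv_mem (pow_mem (mem_zpowers a) _))
  obtain ⟨i', hi'⟩ := mem_zpowers_iff_nat.mp h2
  rw [← hi'] at h1
  obtain ⟨c, rfl⟩ := hN i' h1
  refine ⟨c, k, ?_⟩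
  rw [← pow_mul, hi']
  group

/-- every subgroup carries metacyclic data with explicit parameters -/
theorem exists_sub_isMC (R : Subgroup G) :
    ∃ (u v : ℕ) (x y : R) (w' : ℕ), u ≤ m ∧ v ≤ ℓ ∧ (x : G) = a ^ p ^ u ∧
      (∃ s₀ : ℕ, (y : G) = a ^ s₀ * b ^ p ^ v) ∧
      IsMC p x y (r ^ p ^ v) (m - u) (ℓ - v) w' := by
  obtain ⟨u, v, s₀, hum, hvℓ, hx, hy, hgen, hN⟩ := T.exists_params R
  obtain ⟨w', hT⟩ := T.subTriple R u v s₀ hvℓ hx hy hgen hN
  exact ⟨u, v, ⟨a ^ p ^ u, hx⟩, ⟨a ^ s₀ * b ^ p ^ v, hy⟩, w', hum, hvℓ, rfl, ⟨s₀, rfl⟩, hT⟩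

theorem padicValNat_r_pow_sub_one (hp2 : p ≠ 2) (v : ℕ) :
    padicValNat p (r ^ p ^ v - 1) = padicValNat p (r - 1) + v := by
  have hp : p.Prime := hpf.out
  have hE := exactPow_pow_sub_one hp2 T.two_le T.dvd (j := p ^ v) (pow_ne_zero _ hp.ne_zero)
  rw [padicValNat.prime_pow] at hE
  exact hE.padicValNat_eq hp

theorem index_commutator : (commutator G).index = p ^ (m + ℓ - (m - padicValNat p (r - 1))) := by
  have hp : p.Prime := hpf.out
  have h1 := Subgroup.card_mul_index (commutator G)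
  rw [T.card_commutator, T.card_eq] at h1
  have h2 : p ^ (m + ℓ) = p ^ (m - padicValNat p (r - 1)) *
      p ^ (m + ℓ - (m - padicValNat p (r - 1))) := by
    rw [← pow_add]; congr 1; omega
  rw [h2] at h1
  exact Nat.eq_of_mul_eq_mul_left (pow_pos hp.pos _) h1

/-- a subgroup is abelian iff its order is at most `|G : G'|` -/
theorem sub_abelian_iff (hp2 : p ≠ 2) (R : Subgroup G) :
    IsMulCommutative R ↔ Nat.card R ≤ (commutator G).index := by
  have hp : p.Prime := hpf.out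
  obtain ⟨u, v, x, y, w', hum, hvℓ, -, -, TR⟩ := T.exists_sub_isMC R
  have hK := T.one_le_K
  rw [isMulCommutative_iff_commutator_eq_bot, ← Subgroup.card_eq_one, TR.card_commutator,
    T.padicValNat_r_pow_sub_one hp2, TR.card_eq, T.index_commutator,
    Nat.pow_le_pow_iff_right hp.one_lt, Nat.pow_eq_one]
  constructor
  · rintro (h | h)
    · exact absurd h hp.one_lt.ne'
    · omega
  · intro h
    right
    omega

/-- nonabelian subgroups all have the same `|R : R'|` -/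
theorem sub_card_of_not_abelian (hp2 : p ≠ 2) (R : Subgroup G) (h : ¬ IsMulCommutative R) :
    Nat.card R = (commutator G).index * Nat.card (commutator R) := by
  have hp : p.Prime := hpf.out
  obtain ⟨u, v, x, y, w', hum, hvℓ, -, -, TR⟩ := T.exists_sub_isMC R
  have hK := T.one_le_K
  have hne : (m - u) - (padicValNat p (r - 1) + v) ≠ 0 := by
    intro h0
    apply h
    rw [isMulCommutative_iff_commutator_eq_bot, ← Subgroup.card_eq_one, TR.card_commutator,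
      T.padicValNat_r_pow_sub_one hp2, h0, pow_zero]
  rw [TR.card_commutator, T.padicValNat_r_pow_sub_one hp2, TR.card_eq, T.index_commutator,
    ← pow_add]
  congr 1
  omega

theorem sub_index_center (hp2 : p ≠ 2) (R : Subgroup G) :
    (center R).index = Nat.card (commutator R) ^ 2 := by
  obtain ⟨u, v, x, y, w', hum, hvℓ, -, -, TR⟩ := T.exists_sub_isMC R
  rw [TR.index_center hp2, TR.card_commutator, ← pow_mul, mul_comm]

end finite

end IsMC

end Cfsg.Agent.Lib.Helper21.Meta
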