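import Mathlib
import Cfsg.Agent.Lib.Helper21.MetaSub

/-!
# Metacyclic `p`-groups, `p` odd: abelian subgroups and the products `|R| |Z(R)|`
-/

set_option autoImplicit false

namespace Cfsg.Agent.Lib.Helper21.Meta

open Subgroup

variable {G : Type*} [Group G]

namespace IsMC

variable {p : ℕ} {a b : G} {r m ℓ w : ℕ}

section finite

variable [Finite G] [hpf : Fact p.Prime] (T : IsMC p a b r m ℓ w)
include T

theorem maximal_abelian_iff (hG : IsPGroup p G) (hp2 : p ≠ 2) (L : Subgroup G) :
    Maximal (fun K : Subgroup G => IsMulCommutative K) L ↔ Nat.card L = (commutator G).index := by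
  have hp : p.Prime := hpf.out
  have hab := T.sub_abelian_iff hp2
  constructor
  · rintro ⟨hL, hmax⟩
    have hle := (hab L).mp hL
    by_contra hne
    have hlt : Nat.card L < (commutator G).index := lt_of_le_of_ne hle hne
    obtain ⟨c, hc⟩ := IsPGroup.iff_card.mp (hG.to_subgroup L)
    have hidx := T.index_commutator
    rw [hc, hidx] at hlt
    have hcd : c < m + ℓ - (m - padicValNat p (r - 1)) := (Nat.pow_lt_pow_iff_right hp.one_lt).mp hlt
    have hdvd : p ^ (c + 1) ∣ Nat.card G := by
      rw [T.card_eq]; exact pow_dvd_pow p (by omega)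
    obtain ⟨K', hK'card, hLK'⟩ := Sylow.exists_subgroup_card_pow_succ hdvd hc
    have hK'ab : IsMulCommutative K' := by
      rw [hab K', hK'card, hidx]
      exact Nat.pow_le_pow_right hp.pos (by omega)
    have h1 := Subgroup.card_le_of_le (hmax hK'ab hLK')
    rw [hK'card, hc] at h1
    have := (Nat.pow_le_pow_iff_right hp.one_lt).mp h1
    omega
  · intro hcard
    refine ⟨(hab L).mpr hcard.le, ?_⟩
    intro K' hK' hLK'
    have h1 := (hab K').mp hK'
    have : L = K' := Subgroup.eq_of_le_of_card_ge hLK' (by rw [hcard]; exact h1)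
    rw [this]

/-- `|R| |Z(R)| = |G : G'| ^ 2` for nonabelian `R` -/
theorem centralProduct_of_not_abelian (hp2 : p ≠ 2) (R : Subgroup G) (h : ¬ IsMulCommutative R) :
    Nat.card R * Nat.card (center R) = (commutator G).index ^ 2 := by
  have h1 := T.sub_card_of_not_abelian hp2 R h
  have h2 := T.sub_index_center hp2 R
  have h3 := Subgroup.card_mul_index (center R)
  have hpos : 0 < Nat.card (commutator R) := Nat.card_pos
  rw [h2, h1] at h3
  -- `|Z(R)| * c^2 = D * c`
  have h4 : Nat.card (center R) * Nat.card (commutator R) = (commutator G).index := by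
    apply Nat.eq_of_mul_eq_mul_right hpos
    rw [← h3]; ring
  rw [h1, sq, ← h4]; ring

theorem centralProduct_of_abelian (R : Subgroup G) (h : IsMulCommutative R) :
    Nat.card R * Nat.card (center R) = Nat.card R ^ 2 := by
  have : center R = ⊤ := by
    rw [eq_top_iff]
    intro x _
    rw [mem_center_iff]
    intro y
    exact h.is_comm.comm y x
  rw [this, Subgroup.card_top, sq]

theorem centralProduct_le (hp2 : p ≠ 2) (R : Subgroup G) :
    Nat.card R * Nat.card (center R) ≤ (commutator G).index ^ 2 := by
  by_cases h : IsMulCommutative R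
  · rw [T.centralProduct_of_abelian R h]
    exact Nat.pow_le_pow_left ((T.sub_abelian_iff hp2 R).mp h) 2
  · exact (T.centralProduct_of_not_abelian hp2 R h).le

theorem exists_centralProduct_eq (hG : IsPGroup p G) (hp2 : p ≠ 2) :
    ∃ R : Subgroup G, Nat.card R * Nat.card (center R) = (commutator G).index ^ 2 := by
  by_cases h : IsMulCommutative (⊤ : Subgroup G)
  · refine ⟨⊤, ?_⟩
    rw [T.centralProduct_of_abelian ⊤ h]
    congr 1
    have hmax : Maximal (fun K : Subgroup G => IsMulCommutative K) ⊤ := ⟨h, fun _ _ _ => le_top⟩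
    exact (T.maximal_abelian_iff hG hp2 ⊤).mp hmax
  · exact ⟨⊤, T.centralProduct_of_not_abelian hp2 ⊤ h⟩

end finite

end IsMC

end Cfsg.Agent.Lib.Helper21.Meta
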