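import Mathlib
import Cfsg.Agent.Lib.Helper21.MetaCL

/-!
# Metacyclic `p`-groups, `p` odd: the products `|R| |C_G(R)|`
-/

set_option autoImplicit false

namespace Cfsg.Agent.Lib.Helper21.Meta

open Subgroup

variable {G : Type*} [Group G]

/-- `Z(R)` corresponds to `C_G(R) ∩ R` -/
theorem card_center_sub (R : Subgroup G) :
    Nat.card (center R) = Nat.card ↥(centralizer (R : Set G) ⊓ R) := by
  have h1 : center R = (centralizer (R : Set G) ⊓ R).subgroupOf R := by
    ext x
    rw [mem_center_iff, mem_subgroupOf, mem_inf, mem_centralizer_iff]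
    constructor
    · intro h
      refine ⟨fun y hy => ?_, x.2⟩
      have := h ⟨y, hy⟩
      exact congrArg Subtype.val this
    · rintro ⟨h, -⟩ y
      apply Subtype.ext
      exact h y y.2
  rw [h1]
  exact Nat.card_congr (subgroupOfEquivOfLe inf_le_right).toEquiv

/-- centralizers of elements inside a subgroup -/
theorem card_centralizer_sub (C : Subgroup G) (h : C) :
    Nat.card (centralizer ({h} : Set C)) = Nat.card ↥(centralizer ({(h : G)} : Set G) ⊓ C) := by
  have h1 : centralizer ({h} : Set C) = (centralizer ({(h : G)} : Set G) ⊓ C).subgroupOf C := by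
    ext x
    rw [mem_centralizer_singleton_iff, mem_subgroupOf, mem_inf, mem_centralizer_singleton_iff]
    constructor
    · intro hx
      exact ⟨congrArg Subtype.val hx, x.2⟩
    · rintro ⟨hx, -⟩
      exact Subtype.ext hx
  rw [h1]
  exact Nat.card_congr (subgroupOfEquivOfLe inf_le_right).toEquiv

theorem le_centralizer_self_of_abelian (R : Subgroup G) (h : IsMulCommutative R) :
    R ≤ centralizer (R : Set G) := by
  intro x hx
  rw [mem_centralizer_iff]
  intro y hy
  exact congrArg Subtype.val (h.is_comm.comm ⟨y, hy⟩ ⟨x, hx⟩)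

namespace IsMC

variable {p : ℕ} {a b : G} {r m ℓ w : ℕ}

section finite

variable [Finite G] [hpf : Fact p.Prime] (T : IsMC p a b r m ℓ w)
include T

/-- root property: if `h ^ p` is central then the class of `h` has at most `p` elements -/
theorem index_centralizer_le_of_pow_mem_center (hp2 : p ≠ 2) (h : G) (hh : h ^ p ∈ center G) :
    (centralizer ({h} : Set G)).index ≤ p := by
  have hp : p.Prime := hpf.out
  rcases Nat.eq_zero_or_pos (m - padicValNat p (r - 1)) with hn0 | hn
  · have hmem : h ∈ lev a b p (m - padicValNat p (r - 1)) := by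
      rw [hn0]
      obtain ⟨i, j, rfl⟩ := T.gen h
      exact T.mem_lev.mpr ⟨i, j, by simp⟩
    have := (T.mem_lev_iff_index hp2 le_rfl h).mp hmem
    rw [Nat.sub_self, pow_zero] at this
    exact this.trans hp.one_lt.le
  · obtain ⟨i, j, rfl⟩ := T.gen h
    rw [T.center_eq hp2, T.pow_formula, T.mem_lev_iff hp2 le_rfl] at hh
    have hE := exactPow_geom_sum (p := p) hp2 (R := r ^ j) (T.one_le_r_pow j)
      (dvd_pow_sub_one T.two_le T.dvd j) (e := p) hp.ne_zero
    rw [padicValNat_self] at hE
    have hi : p ^ (m - padicValNat p (r - 1) - 1) ∣ i := (hE.pow_dvd_mul_iff hp _ i).mp hh.1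
    have hj : p ^ (m - padicValNat p (r - 1) - 1) ∣ j := by
      have h1 : ExactPow p 1 p := by
        have := exactPow_self_pow hp 1
        rwa [pow_one] at this
      exact (h1.pow_dvd_mul_iff hp _ j).mp hh.2
    have hmem : a ^ i * b ^ j ∈ lev a b p (m - padicValNat p (r - 1) - 1) :=
      (T.mem_lev_iff hp2 (Nat.sub_le _ _)).mpr ⟨hi, hj⟩
    have h2 := (T.mem_lev_iff_index hp2 (Nat.sub_le _ _) _).mp hmem
    have h3 : m - padicValNat p (r - 1) - (m - padicValNat p (r - 1) - 1) = 1 := by omega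
    rw [h3, pow_one] at h2
    exact h2

/-- nonabelian subgroups contain their centralizers -/
theorem centralizer_le_of_not_abelian (hp2 : p ≠ 2) (R : Subgroup G) (h : ¬ IsMulCommutative R) :
    centralizer (R : Set G) ≤ R := by
  have hp : p.Prime := hpf.out
  obtain ⟨u, v, s₀, hum, hvℓ, hx, hy, hgen, hN⟩ := T.exists_params R
  obtain ⟨w', TR⟩ := T.subTriple R u v s₀ hvℓ hx hy hgen hN
  have hK := T.one_le_K
  have hne : (m - u) - (padicValNat p (r - 1) + v) ≠ 0 := by
    intro h0
    apply h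
    rw [isMulCommutative_iff_commutator_eq_bot, ← Subgroup.card_eq_one, TR.card_commutator,
      T.padicValNat_r_pow_sub_one hp2, h0, pow_zero]
  intro g hg
  rw [mem_centralizer_iff] at hg
  obtain ⟨i, j, rfl⟩ := T.gen g
  -- step A: `p ^ v ∣ j`
  have hjv : p ^ v ∣ j := by
    rcases Nat.eq_zero_or_pos j with rfl | hj
    · exact dvd_zero _
    · have h1 := hg _ hx
      rw [T.pow_a_commute_iff] at h1
      have hE := exactPow_pow_sub_one hp2 T.two_le T.dvd (j := j) hj.ne'
      rw [hE.pow_dvd_mul_iff hp, Nat.pow_dvd_pow_iff_le_right hp.one_lt] at h1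
      rw [padicValNat_dvd_iff_le hj.ne']
      omega
  obtain ⟨k, rfl⟩ := hjv
  -- step B
  have hyk := T.pow_formula s₀ (p ^ v) k
  have hz : a ^ i * b ^ (p ^ v * k) * ((a ^ s₀ * b ^ p ^ v) ^ k)⁻¹ ∈ zpowers a := by
    rw [hyk]
    have : a ^ i * b ^ (p ^ v * k) *
        (a ^ (s₀ * ∑ t ∈ Finset.range k, (r ^ p ^ v) ^ t) * b ^ (p ^ v * k))⁻¹ =
        a ^ i * (a ^ (s₀ * ∑ t ∈ Finset.range k, (r ^ p ^ v) ^ t))⁻¹ := by group
    rw [this]
    exact (zpowers a).mul_mem (pow_mem (mem_zpowers a) _)
      ((zpowers a).inv_mem (pow_mem (mem_zpowers a) _))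
  obtain ⟨i', hi'⟩ := mem_zpowers_iff_nat.mp hz
  -- `a ^ i'` commutes with `y`
  have hcomm : a ^ i' * (a ^ s₀ * b ^ p ^ v) = (a ^ s₀ * b ^ p ^ v) * a ^ i' := by
    have h1 : Commute (a ^ i * b ^ (p ^ v * k)) (a ^ s₀ * b ^ p ^ v) := (hg _ hy).symm
    have h2 : Commute ((a ^ s₀ * b ^ p ^ v) ^ k)⁻¹ (a ^ s₀ * b ^ p ^ v) :=
      ((Commute.refl (a ^ s₀ * b ^ p ^ v)).pow_left k).inv_left
    rw [hi']
    exact (h1.mul_left h2).eq
  rw [T.pow_a_commute_iff] at hcomm
  have hE := exactPow_pow_sub_one hp2 T.two_le T.dvd (j := p ^ v) (pow_ne_zero _ hp.ne_zero)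
  rw [padicValNat.prime_pow] at hE
  rw [hE.pow_dvd_mul_iff hp] at hcomm
  have hui : p ^ u ∣ i' := (pow_dvd_pow p (by omega)).trans hcomm
  obtain ⟨c, rfl⟩ := hui
  have hzR : a ^ (p ^ u * c) ∈ R := by rw [pow_mul]; exact R.pow_mem hx c
  have : a ^ i * b ^ (p ^ v * k) = a ^ (p ^ u * c) * (a ^ s₀ * b ^ p ^ v) ^ k := by
    rw [hi']; group
  rw [this]
  exact R.mul_mem hzR (R.pow_mem hy k)

theorem measure_eq_of_not_abelian (hp2 : p ≠ 2) (R : Subgroup G) (h : ¬ IsMulCommutative R) :
    Nat.card R * Nat.card (centralizer (R : Set G)) = (commutator G).index ^ 2 := by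
  have hCR := T.centralizer_le_of_not_abelian hp2 R h
  have h1 : Nat.card (center R) = Nat.card (centralizer (R : Set G)) := by
    rw [card_center_sub, inf_of_le_left hCR]
  rw [← h1]
  exact T.centralProduct_of_not_abelian hp2 R h

theorem measure_le (hp2 : p ≠ 2) (R : Subgroup G) :
    Nat.card R * Nat.card (centralizer (R : Set G)) ≤ (commutator G).index ^ 2 := by
  by_cases hR : IsMulCommutative R
  · by_cases hC : IsMulCommutative (centralizer (R : Set G))
    · rw [sq]
      exact Nat.mul_le_mul ((T.sub_abelian_iff hp2 _).mp hR) ((T.sub_abelian_iff hp2 _).mp hC)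
    · have hRCC : R ≤ centralizer ((centralizer (R : Set G) : Subgroup G) : Set G) :=
        le_centralizer_iff.mp le_rfl
      have h2 := T.measure_eq_of_not_abelian hp2 _ hC
      calc Nat.card R * Nat.card (centralizer (R : Set G))
          ≤ Nat.card (centralizer ((centralizer (R : Set G) : Subgroup G) : Set G)) *
            Nat.card (centralizer (R : Set G)) := Nat.mul_le_mul_right _ (card_le_of_le hRCC)
        _ = (commutator G).index ^ 2 := by rw [mul_comm]; exact h2
  · exact (T.measure_eq_of_not_abelian hp2 R hR).le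

theorem measure_center (hp2 : p ≠ 2) :
    Nat.card (center G) * Nat.card (centralizer ((center G : Subgroup G) : Set G)) =
      (commutator G).index ^ 2 := by
  have hp : p.Prime := hpf.out
  have h1 : centralizer ((center G : Subgroup G) : Set G) = ⊤ := by
    rw [eq_top_iff]
    intro x _
    rw [mem_centralizer_iff]
    intro z hz
    exact ((mem_center_iff.mp hz) x).symm
  have hnℓ := T.n_le_ell hp2
  rw [h1, Subgroup.card_top, T.card_eq, T.index_commutator, T.center_eq hp2, T.card_lev hp2 le_rfl,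
    ← pow_add, ← pow_mul]
  congr 1
  omega

theorem measure_step (hG : IsPGroup p G) (hp2 : p ≠ 2) (R₁ : Subgroup G)
    (hm : Nat.card R₁ * Nat.card (centralizer (R₁ : Set G)) = (commutator G).index ^ 2)
    (h : G) (hC : h ∈ centralizer (R₁ : Set G)) (hpow : h ^ p ∈ R₁) (hnot : h ∉ R₁) :
    Nat.card ↥(R₁ ⊔ zpowers h) * Nat.card (centralizer ((R₁ ⊔ zpowers h : Subgroup G) : Set G)) =
      (commutator G).index ^ 2 := by
  have hp : p.Prime := hpf.out
  apply le_antisymm (T.measure_le hp2 _)
  -- the group `C₁`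
  obtain ⟨u, v, x, y, w', -, -, -, -, TC⟩ := T.exists_sub_isMC (centralizer (R₁ : Set G))
  have hcen : (⟨h, hC⟩ : centralizer (R₁ : Set G)) ^ p ∈ center (centralizer (R₁ : Set G)) := by
    rw [mem_center_iff]
    intro z
    apply Subtype.ext
    show (z : G) * ((⟨h, hC⟩ : centralizer (R₁ : Set G)) ^ p : centralizer (R₁ : Set G)).1 =
      ((⟨h, hC⟩ : centralizer (R₁ : Set G)) ^ p : centralizer (R₁ : Set G)).1 * (z : G)
    rw [SubmonoidClass.coe_pow]
    exact ((mem_centralizer_iff.mp z.2) (h ^ p) hpow).symm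
  have h1 := TC.index_centralizer_le_of_pow_mem_center hp2 _ hcen
  have h2 := Subgroup.card_mul_index (centralizer ({(⟨h, hC⟩ : centralizer (R₁ : Set G))} :
    Set (centralizer (R₁ : Set G))))
  rw [card_centralizer_sub] at h2
  -- `C_G(h) ∩ C₁ ≤ C_G(R₂)`
  have hle : centralizer ({h} : Set G) ⊓ centralizer (R₁ : Set G) ≤
      centralizer ((R₁ ⊔ zpowers h : Subgroup G) : Set G) := by
    intro z hz
    obtain ⟨hz1, hz2⟩ := mem_inf.mp hz
    rw [mem_centralizer_iff]
    have hsup : R₁ ⊔ zpowers h ≤ centralizer ({z} : Set G) := by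
      rw [sup_le_iff, zpowers_le]
      constructor
      · intro y hy
        rw [mem_centralizer_singleton_iff]
        exact (mem_centralizer_iff.mp hz2) y hy
      · rw [mem_centralizer_singleton_iff]
        exact (mem_centralizer_singleton_iff.mp hz1).symm
    intro y hy
    exact mem_centralizer_singleton_iff.mp (hsup hy)
  have h3 := card_le_of_le hle
  -- `|R₂| ≥ p |R₁|`
  have hlt : R₁ < R₁ ⊔ zpowers h := by
    refine lt_of_le_of_ne le_sup_left ?_
    intro heq
    apply hnot
    rw [heq]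
    exact mem_sup_right (mem_zpowers h)
  obtain ⟨c, hc⟩ := IsPGroup.iff_card.mp (hG.to_subgroup R₁)
  obtain ⟨d, hd⟩ := IsPGroup.iff_card.mp (hG.to_subgroup (R₁ ⊔ zpowers h))
  have hcd : c < d := by
    have hlt' : Nat.card R₁ < Nat.card ↥(R₁ ⊔ zpowers h) := by
      refine lt_of_le_of_ne (card_le_of_le hlt.le) ?_
      intro heq
      exact hlt.ne (Subgroup.eq_of_le_of_card_ge hlt.le heq.ge)
    rw [hc, hd] at hlt'
    exact (Nat.pow_lt_pow_iff_right hp.one_lt).mp hlt'
  have h4 : p * Nat.card R₁ ≤ Nat.card ↥(R₁ ⊔ zpowers h) := by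
    rw [hc, hd, ← pow_succ']
    exact Nat.pow_le_pow_right hp.pos hcd
  -- conclusion
  have h5 : Nat.card (centralizer (R₁ : Set G)) ≤
      Nat.card ↥(centralizer ({h} : Set G) ⊓ centralizer (R₁ : Set G)) * p := by
    rw [← h2]
    exact Nat.mul_le_mul_left _ h1
  calc (commutator G).index ^ 2 = Nat.card R₁ * Nat.card (centralizer (R₁ : Set G)) := hm.symm
    _ ≤ Nat.card R₁ * (Nat.card ↥(centralizer ({h} : Set G) ⊓ centralizer (R₁ : Set G)) * p) :=
        Nat.mul_le_mul_left _ h5
    _ = (p * Nat.card R₁) * Nat.card ↥(centralizer ({h} : Set G) ⊓ centralizer (R₁ : Set G)) := by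
        ring
    _ ≤ Nat.card ↥(R₁ ⊔ zpowers h) *
        Nat.card (centralizer ((R₁ ⊔ zpowers h : Subgroup G) : Set G)) := Nat.mul_le_mul h4 h3

theorem measure_eq_of_center_le (hG : IsPGroup p G) (hp2 : p ≠ 2) (R : Subgroup G)
    (hZ : center G ≤ R) :
    Nat.card R * Nat.card (centralizer (R : Set G)) = (commutator G).index ^ 2 := by
  classical
  have hp : p.Prime := hpf.out
  by_cases hR : IsMulCommutative R
  swap
  · exact T.measure_eq_of_not_abelian hp2 R hR
  have key : ∀ k : ℕ, ∀ R₁ : Subgroup G, R₁ ≤ R → center G ≤ R₁ →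
      Nat.card R₁ * Nat.card (centralizer (R₁ : Set G)) = (commutator G).index ^ 2 →
      Nat.card R - Nat.card R₁ ≤ k →
      Nat.card R * Nat.card (centralizer (R : Set G)) = (commutator G).index ^ 2 := by
    intro k
    induction k with
    | zero =>
      intro R₁ hle _ hm hk
      have : R₁ = R := Subgroup.eq_of_le_of_card_ge hle (by omega)
      rw [← this]; exact hm
    | succ k ih =>
      intro R₁ hle hZ₁ hm hk
      by_cases heq : R₁ = R
      · rw [← heq]; exact hm
      have hlt : R₁ < R := lt_of_le_of_ne hle heq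
      obtain ⟨g, hgR, hgn⟩ := SetLike.exists_of_lt hlt
      obtain ⟨h, hhR, hmin, hpow⟩ : ∃ h ∈ R, h ∉ R₁ ∧ h ^ p ∈ R₁ := by
        have hex : ∃ t, g ^ p ^ t ∈ R₁ := by
          obtain ⟨t, ht⟩ := hG g
          exact ⟨t, by rw [ht]; exact R₁.one_mem⟩
        have ht0 : Nat.find hex ≠ 0 := by
          intro h0
          have := Nat.find_spec hex
          rw [h0, pow_zero, pow_one] at this
          exact hgn this
        refine ⟨g ^ p ^ (Nat.find hex - 1), R.pow_mem hgR _, Nat.find_min hex (by omega), ?_⟩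
        have := Nat.find_spec hex
        rw [← pow_mul, ← pow_succ]
        have h1 : Nat.find hex - 1 + 1 = Nat.find hex := by omega
        rw [h1]; exact this
      have hC : h ∈ centralizer (R₁ : Set G) :=
        centralizer_le (show (R₁ : Set G) ⊆ R from hle) (le_centralizer_self_of_abelian R hR hhR)
      have hm2 := T.measure_step hG hp2 R₁ hm _ hC hpow hmin
      have hle2 : R₁ ⊔ zpowers h ≤ R :=
        sup_le hle ((zpowers_le).mpr hhR)
      have hlt2 : R₁ < R₁ ⊔ zpowers h := by
        refine lt_of_le_of_ne le_sup_left ?_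
        intro h'
        apply hmin
        rw [h']
        exact mem_sup_right (mem_zpowers _)
      have hcard : Nat.card R₁ < Nat.card ↥(R₁ ⊔ zpowers h) := by
        refine lt_of_le_of_ne (card_le_of_le hlt2.le) ?_
        intro h'
        exact hlt2.ne (Subgroup.eq_of_le_of_card_ge hlt2.le h'.ge)
      have hcard2 := card_le_of_le hle2
      exact ih _ hle2 (hZ₁.trans le_sup_left) hm2 (by omega)
  exact key _ (center G) hZ le_rfl (T.measure_center hp2) le_rfl

end finite

end IsMC

end Cfsg.Agent.Lib.Helper21.Meta
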