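import Mathlib
import Cfsg.Prelude.Def_OddOrderLocal
import Cfsg.Agent.Lib.Helper21.MetaLev

/-!
# Every finite metacyclic `p`-group carries metacyclic generating data
-/

set_option autoImplicit false

namespace Cfsg.Agent.Lib.Helper21.Meta

open Subgroup

variable {G : Type*} [Group G]

theorem pow_conj_pow_of {a b : G} {r : ℕ} (h : b * a * b⁻¹ = a ^ r) (j i : ℕ) :
    b ^ j * a ^ i * (b ^ j)⁻¹ = a ^ (i * r ^ j) := by
  have h1 : ∀ i : ℕ, b * a ^ i * b⁻¹ = a ^ (i * r) := by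
    intro i
    rw [← conj_pow, h, ← pow_mul, mul_comm]
  induction j generalizing i with
  | zero => simp
  | succ j ih =>
    calc b ^ (j + 1) * a ^ i * (b ^ (j + 1))⁻¹ = b * (b ^ j * a ^ i * (b ^ j)⁻¹) * b⁻¹ := by
          rw [pow_succ']; group
      _ = b * a ^ (i * r ^ j) * b⁻¹ := by rw [ih]
      _ = a ^ (i * r ^ j * r) := h1 _
      _ = a ^ (i * r ^ (j + 1)) := by rw [pow_succ, mul_assoc]

theorem exists_isMC [Finite G] {p : ℕ} [hpf : Fact p.Prime] (hG : IsPGroup p G)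
    (hmc : Cfsg.IsMetacyclic G) : ∃ (a b : G) (r m ℓ w : ℕ), IsMC p a b r m ℓ w := by
  have hp : p.Prime := hpf.out
  obtain ⟨N, hNn, hNc, hQc⟩ := hmc
  obtain ⟨a₀, ha₀⟩ := hNc.exists_generator
  obtain ⟨b₀, hb₀⟩ := hQc.exists_generator
  obtain ⟨b, rfl⟩ := QuotientGroup.mk_surjective b₀
  obtain ⟨a, haN⟩ := a₀
  have hN : zpowers a = N := by
    ext x
    constructor
    · intro hx
      obtain ⟨k, rfl⟩ := mem_zpowers_iff.mp hx
      exact N.zpow_mem haN k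
    · intro hx
      obtain ⟨k, hk⟩ := mem_zpowers_iff.mp (ha₀ ⟨x, hx⟩)
      refine mem_zpowers_iff.mpr ⟨k, ?_⟩
      have := congrArg Subtype.val hk
      simpa using this
  have hgen : ∀ g : G, ∃ i j : ℕ, g = a ^ i * b ^ j := by
    intro g
    obtain ⟨j, hj⟩ := mem_zpowers_iff_nat.mp (hb₀ (QuotientGroup.mk g))
    have h1 : g * (b ^ j)⁻¹ ∈ N := by
      rw [← QuotientGroup.eq_one_iff, QuotientGroup.mk_mul, QuotientGroup.mk_inv,
        QuotientGroup.mk_pow, hj, mul_inv_cancel]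
    rw [← hN] at h1
    obtain ⟨i, hi⟩ := mem_zpowers_iff_nat.mp h1
    exact ⟨i, j, by rw [hi]; group⟩
  have hconj0 : ∃ r₀ : ℕ, a ^ r₀ = b * a * b⁻¹ := by
    have : b * a * b⁻¹ ∈ N := hNn.conj_mem a haN b
    rw [← hN] at this
    exact mem_zpowers_iff_nat.mp this
  obtain ⟨r₀, hr₀⟩ := hconj0
  obtain ⟨m, hm⟩ := (IsPGroup.iff_orderOf.mp hG) a
  -- `ℓ` and `w`
  obtain ⟨ℓ, hℓ⟩ := (IsPGroup.iff_orderOf.mp (hG.to_quotient N)) (QuotientGroup.mk b)
  have hmem : ∀ x : ℕ, b ^ x ∈ zpowers a ↔ p ^ ℓ ∣ x := by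
    intro x
    rw [hN, ← hℓ, orderOf_dvd_iff_pow_eq_one, ← QuotientGroup.mk_pow, QuotientGroup.eq_one_iff]
  obtain ⟨w, hw⟩ := mem_zpowers_iff_nat.mp ((hmem (p ^ ℓ)).mpr dvd_rfl)
  by_cases hm0 : m = 0
  · -- `a = 1`
    have ha1 : a = 1 := by
      rw [hm0, pow_zero, orderOf_eq_one_iff] at hm
      exact hm
    refine ⟨a, b, p + 1, m, ℓ, w, ?_⟩
    exact
      { conj := by rw [ha1]; simp
        gen := hgen
        two_le := by have := hp.two_le; omega
        dvd := by simp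
        ord := hm
        mem_iff := hmem
        pow_ell := hw.symm }
  · have hapm : a ^ p ^ m = 1 := by rw [← hm]; exact pow_orderOf_eq_one a
    have hconj : b * a * b⁻¹ = a ^ (r₀ + 2 * p ^ m) := by
      rw [pow_add, hr₀, mul_comm 2, pow_mul, hapm, one_pow, mul_one]
    have h2 : 2 ≤ r₀ + 2 * p ^ m := by
      have : 1 ≤ p ^ m := Nat.one_le_pow _ _ hp.pos
      omega
    refine ⟨a, b, r₀ + 2 * p ^ m, m, ℓ, w, ?_⟩
    refine
      { conj := hconj
        gen := hgen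
        two_le := h2
        dvd := ?_
        ord := hm
        mem_iff := hmem
        pow_ell := hw.symm }
    -- `r ≡ 1 mod p`
    obtain ⟨e, he⟩ := (IsPGroup.iff_orderOf.mp hG) b
    have hb1 : b ^ p ^ e = 1 := by rw [← he]; exact pow_orderOf_eq_one b
    have h3 := pow_conj_pow_of hconj (p ^ e) 1
    rw [hb1, one_mul, inv_one, mul_one, one_mul] at h3
    have h4 : 1 ≡ (r₀ + 2 * p ^ m) ^ p ^ e [MOD p ^ m] := by
      have := pow_eq_pow_iff_modEq.mp h3
      rwa [hm] at this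
    have h5 : 1 ≡ (r₀ + 2 * p ^ m) ^ p ^ e [MOD p] :=
      h4.of_dvd (dvd_pow_self p hm0)
    have h6 : ((r₀ + 2 * p ^ m : ℕ) : ZMod p) = 1 := by
      have := (ZMod.natCast_eq_natCast_iff _ _ p).mpr h5
      rw [Nat.cast_pow, ZMod.pow_card_pow, Nat.cast_one] at this
      exact this.symm
    have h7 : 1 ≡ r₀ + 2 * p ^ m [MOD p] := by
      rw [← ZMod.natCast_eq_natCast_iff, h6, Nat.cast_one]
    exact (Nat.modEq_iff_dvd' (by omega)).mp h7

end Cfsg.Agent.Lib.Helper21.Meta
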