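import Mathlib

set_option autoImplicit false

/-!
Minimal covers by nilpotent subgroups: elementary lemmas on abelian Sylow subgroups
(Bryce–Serena style).
-/

namespace Cfsg.Agent.Lib.Helper21.NilCover

variable {G : Type*} [Group G] [Finite G]

/-- A minimal cover of `G` by proper subgroups, all of whose members are nilpotent. -/
def IsMinNilCover (𝓐 : Finset (Subgroup G)) : Prop :=
  ((∀ A ∈ 𝓐, A ≠ ⊤) ∧ (∀ g : G, ∃ A ∈ 𝓐, g ∈ A)) ∧
  (∀ 𝓑 : Finset (Subgroup G), (∀ A ∈ 𝓑, A ≠ ⊤) ∧ (∀ g : G, ∃ A ∈ 𝓑, g ∈ A) → 𝓐.card ≤ 𝓑.card) ∧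
  (∀ A ∈ 𝓐, Group.IsNilpotent ↥A)

theorem mem_smul_sylow {r : ℕ} (R : Sylow r G) (g x : G) :
    x ∈ ((g • R : Sylow r G) : Subgroup G) ↔ g⁻¹ * x * g ∈ (R : Subgroup G) := by
  rw [Sylow.coe_subgroup_smul, Subgroup.mem_pointwise_smul_iff_inv_smul_mem]
  simp [MulAut.smul_def, mul_assoc]

/-- Two distinct members of a minimal cover generate the whole group. -/
theorem merge {𝓐 : Finset (Subgroup G)} (h : IsMinNilCover 𝓐) {A B H : Subgroup G}
    (hA : A ∈ 𝓐) (hB : B ∈ 𝓐) (hAB : A ≠ B) (hH : H ≠ ⊤) (hAH : A ≤ H) (hBH : B ≤ H) : False := by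
  classical
  obtain ⟨⟨hprop, hcov⟩, hmin, -⟩ := h
  have hp𝓑 : ∀ C ∈ insert H ((𝓐.erase A).erase B), C ≠ ⊤ := by
    intro C hC
    rcases Finset.mem_insert.mp hC with rfl | hC
    · exact hH
    · exact hprop C (Finset.mem_of_mem_erase (Finset.mem_of_mem_erase hC))
  have hc𝓑 : ∀ g : G, ∃ C ∈ insert H ((𝓐.erase A).erase B), g ∈ C := by
    intro g
    obtain ⟨C, hC, hgC⟩ := hcov g
    by_cases h1 : C = A
    · exact ⟨H, Finset.mem_insert_self _ _, hAH (h1 ▸ hgC)⟩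
    by_cases h2 : C = B
    · exact ⟨H, Finset.mem_insert_self _ _, hBH (h2 ▸ hgC)⟩
    · exact ⟨C, Finset.mem_insert_of_mem
        (Finset.mem_erase.mpr ⟨h2, Finset.mem_erase.mpr ⟨h1, hC⟩⟩), hgC⟩
  have h1 := hmin _ ⟨hp𝓑, hc𝓑⟩
  have h2 : (insert H ((𝓐.erase A).erase B)).card ≤ ((𝓐.erase A).erase B).card + 1 :=
    Finset.card_insert_le _ _
  have h3 : ((𝓐.erase A).erase B).card = (𝓐.erase A).card - 1 :=
    Finset.card_erase_of_mem (Finset.mem_erase.mpr ⟨hAB.symm, hB⟩)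
  have h4 : (𝓐.erase A).card = 𝓐.card - 1 := Finset.card_erase_of_mem hA
  have h5 : 1 < 𝓐.card := Finset.one_lt_card.mpr ⟨A, hA, B, hB, hAB⟩
  omega

theorem isPGroup_zpowers {p : ℕ} {y : G} (hy : ∃ k : ℕ, y ^ p ^ k = 1) :
    IsPGroup p (Subgroup.zpowers y) := by
  obtain ⟨k, hk⟩ := hy
  rintro ⟨g, hg⟩
  obtain ⟨n, rfl⟩ := Subgroup.mem_zpowers_iff.mp hg
  refine ⟨k, Subtype.ext ?_⟩
  simp only [Subgroup.coe_pow, Subgroup.coe_one]
  rw [← zpow_natCast, ← zpow_mul, mul_comm, zpow_mul, zpow_natCast, hk, one_zpow]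

theorem pelt_of_mem {p : ℕ} {Q : Subgroup G} (hQ : IsPGroup p Q) {x : G} (hx : x ∈ Q) :
    ∃ k : ℕ, x ^ p ^ k = 1 := by
  obtain ⟨k, hk⟩ := hQ ⟨x, hx⟩
  exact ⟨k, by simpa using congrArg Subtype.val hk⟩

/-- All `p`-subgroups are abelian when one Sylow `p`-subgroup is. -/
theorem hab_of_sylow {p : ℕ} [Fact p.Prime] (P : Sylow p G)
    (hab : IsMulCommutative ↥(P : Subgroup G)) :
    ∀ Q : Subgroup G, IsPGroup p Q → ∀ x ∈ Q, ∀ y ∈ Q, x * y = y * x := by
  intro Q hQ x hx y hy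
  obtain ⟨R, hR⟩ := hQ.exists_le_sylow
  obtain ⟨g, rfl⟩ := MulAction.exists_smul_eq G P R
  have hx' := (mem_smul_sylow P g x).mp (hR hx)
  have hy' := (mem_smul_sylow P g y).mp (hR hy)
  have h := mul_comm' (⟨_, hx'⟩ : ↥(P : Subgroup G)) ⟨_, hy'⟩
  have h2 : (g⁻¹ * x * g) * (g⁻¹ * y * g) = (g⁻¹ * y * g) * (g⁻¹ * x * g) :=
    congrArg Subtype.val h
  have : g⁻¹ * (x * y) * g = g⁻¹ * (y * x) * g := by
    calc g⁻¹ * (x * y) * g = (g⁻¹ * x * g) * (g⁻¹ * y * g) := by group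
      _ = (g⁻¹ * y * g) * (g⁻¹ * x * g) := h2
      _ = g⁻¹ * (y * x) * g := by group
  exact mul_left_cancel (mul_right_cancel this)

/-- In a nilpotent subgroup, a `p`-element is central, provided `p`-subgroups are abelian. -/
theorem nilp_commute {p : ℕ} [Fact p.Prime]
    (hab : ∀ Q : Subgroup G, IsPGroup p Q → ∀ x ∈ Q, ∀ y ∈ Q, x * y = y * x)
    (A : Subgroup G) (hA : Group.IsNilpotent ↥A) {w : G} (hwA : w ∈ A)
    (hw : ∃ k : ℕ, w ^ p ^ k = 1) :
    ∀ a ∈ A, a * w = w * a := by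
  intro a ha
  haveI := hA
  have hw' : IsPGroup p (Subgroup.zpowers (⟨w, hwA⟩ : ↥A)) := by
    apply isPGroup_zpowers
    obtain ⟨k, hk⟩ := hw
    exact ⟨k, Subtype.ext (by simpa using hk)⟩
  obtain ⟨Sp, hSp⟩ := hw'.exists_le_sylow
  have hwSp : (⟨w, hwA⟩ : ↥A) ∈ Sp := hSp (Subgroup.mem_zpowers _)
  have hH : Subgroup.centralizer {(⟨w, hwA⟩ : ↥A)} = ⊤ := by
    rw [← Subgroup.index_eq_one, Nat.eq_one_iff_not_exists_prime_dvd]
    intro q hq hdvd
    haveI := Fact.mk hq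
    have key : ∃ S : Sylow q ↥A,
        (S : Subgroup ↥A) ≤ Subgroup.centralizer {(⟨w, hwA⟩ : ↥A)} := by
      by_cases hqp : q = p
      · subst hqp
        refine ⟨Sp, fun s hs => ?_⟩
        rw [Subgroup.mem_centralizer_iff]
        intro t ht
        rw [Set.mem_singleton_iff] at ht
        subst ht
        have := hab ((Sp : Subgroup ↥A).map A.subtype) (Sp.2.map _) w
          ⟨⟨w, hwA⟩, hwSp, rfl⟩ (s : G) ⟨s, hs, rfl⟩
        exact Subtype.ext this
      · obtain ⟨S⟩ : Nonempty (Sylow q ↥A) := inferInstance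
        refine ⟨S, fun s hs => ?_⟩
        rw [Subgroup.mem_centralizer_iff]
        intro t ht
        rw [Set.mem_singleton_iff] at ht
        subst ht
        exact (Subgroup.commute_of_normal_of_disjoint _ _ inferInstance inferInstance
          (IsPGroup.disjoint_of_ne p q (Ne.symm hqp) _ _ Sp.2 S.2) _ s hwSp hs).eq
    obtain ⟨S, hS⟩ := key
    exact S.not_dvd_index (dvd_trans hdvd (Subgroup.index_dvd_of_le hS))
  have hmem : (⟨a, ha⟩ : ↥A) ∈ Subgroup.centralizer {(⟨w, hwA⟩ : ↥A)} :=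
    hH ▸ Subgroup.mem_top _
  rw [Subgroup.mem_centralizer_iff] at hmem
  have := hmem _ rfl
  exact (congrArg Subtype.val this).symm

section main

variable {p : ℕ} [Fact p.Prime] {𝓐 : Finset (Subgroup G)}

/-- A nontrivial `p`-element lies in exactly one member of the cover. -/
theorem uniq (hZ : Subgroup.center G = ⊥) (h : IsMinNilCover 𝓐)
    (hab : ∀ Q : Subgroup G, IsPGroup p Q → ∀ x ∈ Q, ∀ y ∈ Q, x * y = y * x)
    {A B : Subgroup G} (hA : A ∈ 𝓐) (hB : B ∈ 𝓐) {w : G} (hw : ∃ k : ℕ, w ^ p ^ k = 1)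
    (hw1 : w ≠ 1) (hwA : w ∈ A) (hwB : w ∈ B) : A = B := by
  by_contra hne
  have hH : Subgroup.centralizer {w} ≠ ⊤ := by
    intro htop
    apply hw1
    have : w ∈ Subgroup.center G := by
      rw [Subgroup.mem_center_iff]
      intro g
      have hg : g ∈ Subgroup.centralizer {w} := htop ▸ Subgroup.mem_top g
      rw [Subgroup.mem_centralizer_iff] at hg
      exact (hg w rfl).symm
    rw [hZ] at this
    exact Subgroup.mem_bot.mp this
  refine merge h hA hB hne hH ?_ ?_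
  · intro a ha
    rw [Subgroup.mem_centralizer_iff]
    intro x hx
    rw [Set.mem_singleton_iff] at hx
    subst hx
    exact (nilp_commute hab A (h.2.2 A hA) hwA hw a ha).symm
  · intro a ha
    rw [Subgroup.mem_centralizer_iff]
    intro x hx
    rw [Set.mem_singleton_iff] at hx
    subst hx
    exact (nilp_commute hab B (h.2.2 B hB) hwB hw a ha).symm

/-- A `p`-element normalizing a Sylow `p`-subgroup lies in it. -/
theorem pelt_normalizer_mem (Q : Sylow p G) {y : G}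
    (hyN : y ∈ Subgroup.normalizer ((Q : Subgroup G) : Set G)) (hy : ∃ k : ℕ, y ^ p ^ k = 1) :
    y ∈ (Q : Subgroup G) := by
  have hy' : IsPGroup p (Subgroup.zpowers y) := isPGroup_zpowers hy
  have hle : Subgroup.zpowers y ≤ Subgroup.normalizer ((Q : Subgroup G) : Set G) :=
    (Subgroup.zpowers_le).mpr hyN
  have h1 : IsPGroup p (Subgroup.zpowers y ⊔ (Q : Subgroup G) : Subgroup G) :=
    IsPGroup.to_sup_of_normal_right' hy' Q.2 hle
  have h2 := Q.is_maximal' h1 le_sup_right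
  have : y ∈ Subgroup.zpowers y ⊔ (Q : Subgroup G) :=
    (le_sup_left : Subgroup.zpowers y ≤ _) (Subgroup.mem_zpowers y)
  rwa [h2] at this

theorem le_cent (h : IsMinNilCover 𝓐)
    (hab : ∀ Q : Subgroup G, IsPGroup p Q → ∀ x ∈ Q, ∀ y ∈ Q, x * y = y * x)
    {A : Subgroup G} (hA : A ∈ 𝓐) {Q : Subgroup G} (hQ : IsPGroup p Q) (hQA : Q ≤ A) :
    A ≤ Subgroup.centralizer (Q : Set G) := by
  intro a ha
  rw [Subgroup.mem_centralizer_iff]
  intro x hx
  exact (nilp_commute hab A (h.2.2 A hA) (hQA hx) (pelt_of_mem hQ hx) a ha).symm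

theorem cent_le (hZ : Subgroup.center G = ⊥) (h : IsMinNilCover 𝓐)
    (hab : ∀ Q : Subgroup G, IsPGroup p Q → ∀ x ∈ Q, ∀ y ∈ Q, x * y = y * x)
    {A : Subgroup G} (hA : A ∈ 𝓐) (Q : Sylow p G) (hQ1 : (Q : Subgroup G) ≠ ⊥)
    (hQA : (Q : Subgroup G) ≤ A) :
    Subgroup.centralizer ((Q : Subgroup G) : Set G) ≤ A := by
  have hp := (Fact.out : p.Prime)
  intro g hg
  obtain ⟨⟨x, hxQ⟩, hx1'⟩ := (Subgroup.ne_bot_iff_exists_ne_one).mp hQ1
  have hx1 : x ≠ 1 := fun hh => hx1' (Subtype.ext hh)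
  obtain ⟨k, n, hpn, ho⟩ :=
    Nat.exists_eq_pow_mul_and_not_dvd (orderOf_pos g).ne' p hp.ne_one
  have hgn : (g ^ n) ^ p ^ k = 1 := by
    rw [← pow_mul, mul_comm, ← ho, pow_orderOf_eq_one]
  have hgnQ : g ^ n ∈ (Q : Subgroup G) :=
    pelt_normalizer_mem Q (Subgroup.centralizer_le_normalizer _ (Subgroup.pow_mem _ hg n)) ⟨k, hgn⟩
  have hxn : x ^ n ≠ 1 := by
    intro hxn
    obtain ⟨j, hj⟩ := pelt_of_mem Q.2 hxQ
    have h1 : orderOf x ∣ n := orderOf_dvd_of_pow_eq_one hxn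
    have h2 : orderOf x ∣ p ^ j := orderOf_dvd_of_pow_eq_one hj
    have hcop : Nat.Coprime (p ^ j) n :=
      Nat.Coprime.pow_left j ((Nat.Prime.coprime_iff_not_dvd hp).mpr hpn)
    have h3 : orderOf x ∣ Nat.gcd (p ^ j) n := Nat.dvd_gcd h2 h1
    rw [hcop.gcd_eq_one, Nat.dvd_one, orderOf_eq_one_iff] at h3
    exact hx1 h3
  by_cases hg1 : g ^ n = 1
  · obtain ⟨B, hB, hxgB⟩ := h.1.2 (x * g)
    have hc : Commute x g := by
      rw [Subgroup.mem_centralizer_iff] at hg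
      exact hg x hxQ
    have hpow : (x * g) ^ n = x ^ n := by rw [hc.mul_pow, hg1, mul_one]
    have hxnQ : x ^ n ∈ (Q : Subgroup G) := Subgroup.pow_mem _ hxQ n
    have hBA : B = A := uniq hZ h hab hB hA (w := x ^ n) (pelt_of_mem Q.2 hxnQ) hxn
      (hpow ▸ B.pow_mem hxgB n) (hQA hxnQ)
    have h1 : x * g ∈ A := hBA ▸ hxgB
    have h2 := A.mul_mem (A.inv_mem (hQA hxQ)) h1
    simpa using h2
  · obtain ⟨B, hB, hgB⟩ := h.1.2 g
    have hBA : B = A := uniq hZ h hab hB hA (w := g ^ n) ⟨k, hgn⟩ hg1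
      (B.pow_mem hgB n) (hQA hgnQ)
    exact hBA ▸ hgB

theorem cent_eq (hZ : Subgroup.center G = ⊥) (h : IsMinNilCover 𝓐)
    (hab : ∀ Q : Subgroup G, IsPGroup p Q → ∀ x ∈ Q, ∀ y ∈ Q, x * y = y * x)
    {A : Subgroup G} (hA : A ∈ 𝓐) (Q : Sylow p G) (hQ1 : (Q : Subgroup G) ≠ ⊥)
    (hQA : (Q : Subgroup G) ≤ A) :
    Subgroup.centralizer ((Q : Subgroup G) : Set G) = A :=
  le_antisymm (cent_le hZ h hab hA Q hQ1 hQA) (le_cent h hab hA Q.2 hQA)

/-- Two Sylow `p`-subgroups inside the same member coincide. -/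
theorem same_member_eq (h : IsMinNilCover 𝓐)
    (hab : ∀ Q : Subgroup G, IsPGroup p Q → ∀ x ∈ Q, ∀ y ∈ Q, x * y = y * x)
    {A : Subgroup G} (hA : A ∈ 𝓐) (Q R : Sylow p G) (hQA : (Q : Subgroup G) ≤ A)
    (hRA : (R : Subgroup G) ≤ A) : Q = R := by
  have hRQ : (R : Subgroup G) ≤ Q := by
    intro r hr
    have hrc : r ∈ Subgroup.centralizer ((Q : Subgroup G) : Set G) :=
      le_cent h hab hA Q.2 hQA (hRA hr)
    have hrn : r ∈ Subgroup.normalizer ((Q : Subgroup G) : Set G) :=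
      Subgroup.centralizer_le_normalizer _ hrc
    exact pelt_normalizer_mem Q hrn (pelt_of_mem R.2 hr)
  exact Sylow.ext (R.is_maximal' Q.2 hRQ)

theorem cyc_member (h : IsMinNilCover 𝓐) (Q : Subgroup G) (hc : IsCyclic ↥Q) :
    ∃ A ∈ 𝓐, Q ≤ A := by
  obtain ⟨⟨x, hxQ⟩, hx⟩ := hc.exists_generator
  obtain ⟨A, hA, hxA⟩ := h.1.2 x
  refine ⟨A, hA, fun y hy => ?_⟩
  obtain ⟨n, hn⟩ := Subgroup.mem_zpowers_iff.mp (hx ⟨y, hy⟩)
  have : x ^ n = y := by simpa using congrArg Subtype.val hn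
  rw [← this]
  exact A.zpow_mem hxA n

/-- The partition argument: a Sylow `p`-subgroup which is not (exponent `p` of order `> p`)
lies in a member of the cover. -/
theorem member_of_sylow (hZ : Subgroup.center G = ⊥) (h : IsMinNilCover 𝓐)
    (hab : ∀ Q : Subgroup G, IsPGroup p Q → ∀ x ∈ Q, ∀ y ∈ Q, x * y = y * x)
    (Q : Sylow p G)
    (hnot : ¬ ((∀ a ∈ (Q : Subgroup G), a ^ p = 1) ∧ p < Nat.card ↥(Q : Subgroup G))) :
    ∃ A ∈ 𝓐, (Q : Subgroup G) ≤ A := by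
  have hp := (Fact.out : p.Prime)
  by_contra hno
  push Not at hno
  have hexp : ∀ a ∈ (Q : Subgroup G), a ^ p = 1 := by
    by_contra hex
    push Not at hex
    obtain ⟨x, hxQ, hxp⟩ := hex
    obtain ⟨A, hA, hxA⟩ := h.1.2 x
    apply hno A hA
    have hxpQ : x ^ p ∈ (Q : Subgroup G) := Subgroup.pow_mem _ hxQ p
    have claim : ∀ k : ℕ, ∀ y ∈ (Q : Subgroup G), y ^ p ^ k = 1 → y ∈ A := by
      intro k
      induction k with
      | zero =>
        intro y _ hy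
        rw [pow_zero, pow_one] at hy
        rw [hy]
        exact A.one_mem
      | succ k ih =>
        intro y hyQ hy
        have hyp : y ^ p ∈ A :=
          ih (y ^ p) (Subgroup.pow_mem _ hyQ p) (by rw [← pow_mul, ← pow_succ']; exact hy)
        by_cases hy1 : y ^ p = 1
        · obtain ⟨B, hB, hxyB⟩ := h.1.2 (x * y)
          have hc : Commute x y := hab Q Q.2 x hxQ y hyQ
          have hpow : (x * y) ^ p = x ^ p := by rw [hc.mul_pow, hy1, mul_one]
          have hBA : B = A := uniq hZ h hab hB hA (w := x ^ p) (pelt_of_mem Q.2 hxpQ) hxp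
            (hpow ▸ B.pow_mem hxyB p) (A.pow_mem hxA p)
          have h1 : x * y ∈ A := hBA ▸ hxyB
          have h2 := A.mul_mem (A.inv_mem hxA) h1
          simpa using h2
        · obtain ⟨B, hB, hyB⟩ := h.1.2 y
          have hBA : B = A := uniq hZ h hab hB hA (w := y ^ p)
            (pelt_of_mem Q.2 (Subgroup.pow_mem _ hyQ p)) hy1 (B.pow_mem hyB p) hyp
          exact hBA ▸ hyB
    intro y hyQ
    obtain ⟨k, hk⟩ := pelt_of_mem Q.2 hyQ
    exact claim k y hyQ hk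
  have hcard : Nat.card ↥(Q : Subgroup G) ≤ p := by
    by_contra hlt
    exact hnot ⟨hexp, not_le.mp hlt⟩
  have hcyc : IsCyclic ↥(Q : Subgroup G) := by
    obtain ⟨k, hk⟩ := IsPGroup.iff_card.mp Q.2
    rcases k with _ | _ | k
    · haveI : Subsingleton ↥(Q : Subgroup G) :=
        (Nat.card_eq_one_iff_unique.mp (by simpa using hk)).1
      exact isCyclic_of_subsingleton
    · exact isCyclic_of_prime_card (p := p) (by simpa using hk)
    · exfalso
      have h1 : p ^ 2 ≤ p ^ (k + 1 + 1) := Nat.pow_le_pow_right hp.pos (by omega)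
      have h2 : p < p ^ 2 := by nlinarith [hp.two_le]
      omega
  obtain ⟨A, hA, hQA⟩ := cyc_member h Q hcyc
  exact hno A hA hQA

theorem hnot_smul (P : Sylow p G) (g : G)
    (hnot : ¬ ((∀ a ∈ (P : Subgroup G), a ^ p = 1) ∧ p < Nat.card ↥(P : Subgroup G))) :
    ¬ ((∀ a ∈ ((g • P : Sylow p G) : Subgroup G), a ^ p = 1) ∧
      p < Nat.card ↥((g • P : Sylow p G) : Subgroup G)) := by
  rintro ⟨h1, h2⟩
  apply hnot
  refine ⟨fun a ha => ?_, ?_⟩
  · have hmem : g * a * g⁻¹ ∈ ((g • P : Sylow p G) : Subgroup G) := by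
      rw [mem_smul_sylow]
      have : g⁻¹ * (g * a * g⁻¹) * g = a := by group
      rw [this]
      exact ha
    have h3 := h1 _ hmem
    rw [conj_pow] at h3
    calc a ^ p = g⁻¹ * (g * a ^ p * g⁻¹) * g := by group
      _ = 1 := by rw [h3]; group
  · rwa [Nat.card_congr (Sylow.equivSMul P g).toEquiv]

/-- Core lemma: a proper subgroup containing `C_G(P)` lies in `N_G(P)`. -/
theorem core (hZ : Subgroup.center G = ⊥) (h : IsMinNilCover 𝓐)
    (hab : ∀ Q : Subgroup G, IsPGroup p Q → ∀ x ∈ Q, ∀ y ∈ Q, x * y = y * x)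
    (P : Sylow p G)
    (hnot : ¬ ((∀ a ∈ (P : Subgroup G), a ^ p = 1) ∧ p < Nat.card ↥(P : Subgroup G)))
    {M : Subgroup G} (hM : M ≠ ⊤)
    (hCM : Subgroup.centralizer ((P : Subgroup G) : Set G) ≤ M) :
    M ≤ Subgroup.normalizer ((P : Subgroup G) : Set G) := by
  obtain ⟨A, hA, hPA⟩ := member_of_sylow hZ h hab P hnot
  have hAM : A ≤ M := (le_cent h hab hA P.2 hPA).trans hCM
  intro m hm
  obtain ⟨B, hB, hQB⟩ := member_of_sylow hZ h hab (m • P) (hnot_smul P m hnot)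
  have hBM : B ≤ M := by
    intro b hb
    have hbc := le_cent h hab hB (m • P).2 hQB hb
    have hmem : m⁻¹ * b * m ∈ Subgroup.centralizer ((P : Subgroup G) : Set G) := by
      rw [Subgroup.mem_centralizer_iff]
      intro x hx
      have hx' : m * x * m⁻¹ ∈ ((m • P : Sylow p G) : Subgroup G) := by
        rw [mem_smul_sylow]
        have : m⁻¹ * (m * x * m⁻¹) * m = x := by group
        rw [this]
        exact hx
      rw [Subgroup.mem_centralizer_iff] at hbc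
      have hcomm := hbc _ hx'
      calc x * (m⁻¹ * b * m) = m⁻¹ * ((m * x * m⁻¹) * b) * m := by group
        _ = m⁻¹ * (b * (m * x * m⁻¹)) * m := by rw [hcomm]
        _ = m⁻¹ * b * m * x := by group
    have h2 := hCM hmem
    have h3 := M.mul_mem (M.mul_mem hm h2) (M.inv_mem hm)
    have h4 : m * (m⁻¹ * b * m) * m⁻¹ = b := by group
    rwa [h4] at h3
  have hAB : A = B := by
    by_contra hne
    exact merge h hA hB hne hM hAM hBM
  subst hAB
  have := same_member_eq h hab hA P (m • P) hPA hQB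
  exact Sylow.smul_eq_iff_mem_normalizer.mp this.symm

theorem coatom (hZ : Subgroup.center G = ⊥) (h : IsMinNilCover 𝓐)
    (hab : ∀ Q : Subgroup G, IsPGroup p Q → ∀ x ∈ Q, ∀ y ∈ Q, x * y = y * x)
    (P : Sylow p G)
    (hnot : ¬ ((∀ a ∈ (P : Subgroup G), a ^ p = 1) ∧ p < Nat.card ↥(P : Subgroup G)))
    (hnn : ¬ (P : Subgroup G).Normal) :
    IsCoatom (Subgroup.normalizer ((P : Subgroup G) : Set G)) := by
  refine ⟨fun htop => hnn (Subgroup.normalizer_eq_top_iff.mp htop), fun M hlt => ?_⟩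
  by_contra hM
  have := core hZ h hab P hnot hM ((Subgroup.centralizer_le_normalizer _).trans hlt.le)
  exact lt_irrefl _ (lt_of_lt_of_le hlt this)

theorem ti (hZ : Subgroup.center G = ⊥) (h : IsMinNilCover 𝓐)
    (hab : ∀ Q : Subgroup G, IsPGroup p Q → ∀ x ∈ Q, ∀ y ∈ Q, x * y = y * x)
    (P : Sylow p G)
    (hnot : ¬ ((∀ a ∈ (P : Subgroup G), a ^ p = 1) ∧ p < Nat.card ↥(P : Subgroup G)))
    {g : G} (hg : g ∉ Subgroup.normalizer ((P : Subgroup G) : Set G)) :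
    ¬ p ∣ Nat.card ↥(Subgroup.normalizer ((P : Subgroup G) : Set G) ⊓
          (Subgroup.normalizer ((P : Subgroup G) : Set G)).map (MulAut.conj g).toMonoidHom) := by
  have hp := (Fact.out : p.Prime)
  intro hdvd
  obtain ⟨⟨w, hw⟩, hwo⟩ := exists_prime_orderOf_dvd_card' p hdvd
  have hwo' : orderOf w = p := by
    rw [← hwo]
    exact (Subgroup.orderOf_mk w hw).symm
  obtain ⟨hwN, hwNg⟩ := Subgroup.mem_inf.mp hw
  have hwpow : w ^ p = 1 := by rw [← hwo', pow_orderOf_eq_one]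
  have hwp : ∃ k : ℕ, w ^ p ^ k = 1 := ⟨1, by rw [pow_one]; exact hwpow⟩
  have hw1 : w ≠ 1 := by
    intro h1
    rw [h1, orderOf_one] at hwo'
    exact hp.one_lt.ne hwo'
  have hwP : w ∈ (P : Subgroup G) := pelt_normalizer_mem P hwN hwp
  obtain ⟨n, hnN, hnw⟩ := Subgroup.mem_map.mp hwNg
  have hnw' : g * n * g⁻¹ = w := by simpa using hnw
  have hn : n = g⁻¹ * w * g := by rw [← hnw']; group
  have hnp : ∃ k : ℕ, n ^ p ^ k = 1 := by
    refine ⟨1, ?_⟩
    rw [pow_one, hn]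
    calc (g⁻¹ * w * g) ^ p = g⁻¹ * w ^ p * g := by
          have := conj_pow (i := p) (a := g⁻¹) (b := w)
          rwa [inv_inv] at this
      _ = 1 := by rw [hwpow]; group
  have hnP : n ∈ (P : Subgroup G) := pelt_normalizer_mem P hnN hnp
  have hwQ : w ∈ ((g • P : Sylow p G) : Subgroup G) := by
    rw [mem_smul_sylow, ← hn]
    exact hnP
  obtain ⟨A, hA, hPA⟩ := member_of_sylow hZ h hab P hnot
  obtain ⟨B, hB, hQB⟩ := member_of_sylow hZ h hab (g • P) (hnot_smul P g hnot)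
  have hAB : A = B := uniq hZ h hab hA hB hwp hw1 (hPA hwP) (hQB hwQ)
  subst hAB
  have := same_member_eq h hab hA P (g • P) hPA hQB
  exact hg (Sylow.smul_eq_iff_mem_normalizer.mp this.symm)

end main

end Cfsg.Agent.Lib.Helper21.NilCover
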