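import Mathlib

/-!
# S2098 piece [KS22] (helper21): a group of order at most four with a homomorphism separating
`1, z₁, z₂, z₁ z₂` and killing the squares of `z₁, z₂` is a four-group
-/

set_option autoImplicit false

namespace Cfsg.Agent.Lib.Helper1.O8p

universe u v

/-- [KS22] a group of order at most four with a homomorphism which separates `1, z₁, z₂, z₁ z₂`
and kills the squares of `z₁, z₂` is a four-group (generic) -/
theorem kernel_c2c2 {K : Type u} {H : Type v} [Group K] [Finite K] [Group H] (hK : Nat.card K ≤ 4)
    (ψ : K →* H) (z1 z2 : K) (h1 : ψ z1 ≠ 1) (h2 : ψ z2 ≠ 1) (h12 : ψ (z1 * z2) ≠ 1)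
    (hs1 : ψ (z1 * z1) = 1) (hs2 : ψ (z2 * z2) = 1) :
    Nonempty (K ≃* Multiplicative (ZMod 2 × ZMod 2)) := by
  classical
  have n1 : z1 ≠ 1 := fun h => h1 (by rw [h, map_one])
  have n2 : z2 ≠ 1 := fun h => h2 (by rw [h, map_one])
  have n12 : z1 * z2 ≠ 1 := fun h => h12 (by rw [h, map_one])
  have d12 : z1 ≠ z2 := by
    intro h
    apply h12
    rw [← h]; exact hs1
  have d1 : z1 ≠ z1 * z2 := by
    intro h
    apply n2
    have h' : z1 * 1 = z1 * z2 := by rw [mul_one]; exact h
    exact (mul_left_cancel h').symm
  have d2 : z2 ≠ z1 * z2 := by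
    intro h
    apply n1
    have h' : 1 * z2 = z1 * z2 := by rw [one_mul]; exact h
    exact (mul_right_cancel h').symm
  have := Fintype.ofFinite K
  have hS : ({1, z1, z2, z1 * z2} : Finset K).card = 4 := by
    rw [Finset.card_insert_of_notMem, Finset.card_insert_of_notMem, Finset.card_insert_of_notMem,
      Finset.card_singleton]
    · rw [Finset.mem_singleton]; exact d2
    · rw [Finset.mem_insert, Finset.mem_singleton]
      rintro (h | h)
      · exact d12 h
      · exact d1 h
    · rw [Finset.mem_insert, Finset.mem_insert, Finset.mem_singleton]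
      rintro (h | h | h)
      · exact n1 h.symm
      · exact n2 h.symm
      · exact n12 h.symm
  have hcard : Fintype.card K = 4 := by
    apply le_antisymm
    · rw [← Nat.card_eq_fintype_card]; exact hK
    · rw [← hS]; exact Finset.card_le_univ _
  have hSuniv : ({1, z1, z2, z1 * z2} : Finset K) = Finset.univ :=
    Finset.eq_univ_of_card _ (hS.trans hcard.symm)
  have hall : ∀ k : K, k = 1 ∨ k = z1 ∨ k = z2 ∨ k = z1 * z2 := by
    intro k
    have hk := Finset.mem_univ k
    rw [← hSuniv, Finset.mem_insert, Finset.mem_insert, Finset.mem_insert, Finset.mem_singleton] at hk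
    exact hk
  have sq1 : z1 * z1 = 1 := by
    rcases hall (z1 * z1) with h | h | h | h
    · exact h
    · rw [h] at hs1; exact absurd hs1 h1
    · rw [h] at hs1; exact absurd hs1 h2
    · rw [h] at hs1; exact absurd hs1 h12
  have sq2 : z2 * z2 = 1 := by
    rcases hall (z2 * z2) with h | h | h | h
    · exact h
    · rw [h] at hs2; exact absurd hs2 h1
    · rw [h] at hs2; exact absurd hs2 h2
    · rw [h] at hs2; exact absurd hs2 h12
  have hcomm : z2 * z1 = z1 * z2 := by
    rcases hall (z2 * z1) with h | h | h | h
    · exfalso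
      apply d12
      calc z1 = 1 * z1 := (one_mul z1).symm
        _ = z2 * z1 * z1 := by rw [h]
        _ = z2 * (z1 * z1) := mul_assoc _ _ _
        _ = z2 := by rw [sq1, mul_one]
    · exfalso
      apply n2
      have h' : z2 * z1 = 1 * z1 := by rw [one_mul]; exact h
      exact mul_right_cancel h'
    · exfalso
      apply n1
      have h' : z2 * z1 = z2 * 1 := by rw [mul_one]; exact h
      exact mul_left_cancel h'
    · exact h
  have hsq : ∀ k : K, k * k = 1 := by
    intro k
    rcases hall k with h | h | h | h
    · rw [h, one_mul]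
    · rw [h]; exact sq1
    · rw [h]; exact sq2
    · rw [h]
      calc z1 * z2 * (z1 * z2) = z1 * (z2 * z1) * z2 := by simp only [mul_assoc]
        _ = z1 * (z1 * z2) * z2 := by rw [hcomm]
        _ = (z1 * z1) * (z2 * z2) := by simp only [mul_assoc]
        _ = 1 := by rw [sq1, sq2, one_mul]
  have hexp : Monoid.exponent K = 2 := by
    have hdvd : Monoid.exponent K ∣ 2 :=
      Monoid.exponent_dvd_of_forall_pow_eq_one (fun k => by rw [pow_two]; exact hsq k)
    have hne1 : Monoid.exponent K ≠ 1 := by
      intro h
      rw [Monoid.exp_eq_one_iff] at h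
      exact n1 (Subsingleton.elim _ _)
    rcases (Nat.dvd_prime Nat.prime_two).mp hdvd with h | h
    · exact absurd h hne1
    · exact h
  have : IsKleinFour K := ⟨by rw [Nat.card_eq_fintype_card]; exact hcard, hexp⟩
  exact IsKleinFour.nonempty_mulEquiv

end Cfsg.Agent.Lib.Helper1.O8p
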