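import Mathlib

/-!
# Even orthogonal front, OE-F5CORE piece P1 (NORM)  (helper21, for helper17)

Abstract setting: `L / F` finite fields, `V` a two-dimensional `L`-space with basis `v, w`, `Q` an `F`-quadratic form on
`V` of the shape `ν ∘ N`, `N (x, y) = x² + β x y + γ y²` anisotropic over `L`, `J` the `L`-linear map with
`J v = w`, `J w = -γ v + β w` (multiplication by a root of `X² - β X + γ`).  Every `σ`-semilinear `F`-isometry `g` of `Q`
normalises `L[J]`: `g J g⁻¹ = p + s J`.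
-/

set_option autoImplicit false

namespace Cfsg.Agent.Lib.Helper21.OEField5P1

open Module QuadraticMap

section Abstract
variable {F L V : Type*} [Field F] [Field L] [Finite L] [Algebra F L]
  [AddCommGroup V] [Module F V] [Module L V] [IsScalarTower F L V]

/-- the squares span `L` over `F`: an `F`-linear functional vanishing on all squares is zero -/
theorem eq_zero_of_vanish_on_squares (ψ : L →ₗ[F] F) (h : ∀ c : L, ψ (c ^ 2) = 0) : ψ = 0 := by
  ext d
  rw [LinearMap.zero_apply]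
  by_cases h2 : (2 : L) = 0
  · have hch : ringChar L = 2 :=
      CharP.ringChar_of_prime_eq_zero Nat.prime_two (by exact_mod_cast h2)
    obtain ⟨r, hr⟩ := FiniteField.isSquare_of_char_two hch d
    rw [hr, ← pow_two]
    exact h r
  · have hd : d = ((d + 1) / 2) ^ 2 - ((d - 1) / 2) ^ 2 := by
      field_simp
      ring
    rw [hd, map_sub, h, h, sub_zero]

/-- every `F`-linear functional on `L` is `ν (e * ·)` -/
theorem exists_dual_rep (ν : L →ₗ[F] F) (hν : ν ≠ 0) (φ : L →ₗ[F] F) :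
    ∃ e : L, ∀ d, φ d = ν (e * d) := by
  haveI : Module.Finite F L := Module.Finite.of_finite
  let Φ : L →ₗ[F] (L →ₗ[F] F) := (LinearMap.mul F L).compr₂ ν
  have hΦ : ∀ e d, Φ e d = ν (e * d) := fun e d => rfl
  have hinj : Function.Injective Φ := by
    rw [← LinearMap.ker_eq_bot, LinearMap.ker_eq_bot']
    intro e he
    by_contra hne
    apply hν
    ext d
    have h1 := LinearMap.congr_fun he (e⁻¹ * d)
    rw [hΦ, ← mul_assoc, mul_inv_cancel₀ hne, one_mul] at h1
    simpa using h1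
  have hfr : finrank F L = finrank F (L →ₗ[F] F) := (Subspace.dual_finrank_eq).symm
  have hsurj := (LinearMap.injective_iff_surjective_of_finrank_eq_finrank hfr).mp hinj
  obtain ⟨e, he⟩ := hsurj φ
  exact ⟨e, fun d => by rw [← he, hΦ]⟩

/-- the twist constant of a field automorphism with respect to `ν` -/
theorem exists_twist (ν : L →ₗ[F] F) (hν : ν ≠ 0) (σ : L ≃ₐ[F] L) :
    ∃ a₀ : L, ∀ A B : L, (∀ c : L, ν (σ c ^ 2 * A) = ν (c ^ 2 * B)) → A = a₀ * σ B := by
  obtain ⟨e₀, he₀⟩ := exists_dual_rep ν hν (ν.comp σ.toLinearMap)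
  have he₀' : ∀ d, ν (σ d) = ν (e₀ * d) := fun d => he₀ d
  have hnd : ∀ t : L, (∀ d, ν (d * t) = 0) → t = 0 := by
    intro t ht
    by_contra hne
    apply hν
    ext d
    have h1 := ht (d * t⁻¹)
    rw [mul_assoc, inv_mul_cancel₀ hne, mul_one] at h1
    simpa using h1
  have he₀0 : e₀ ≠ 0 := by
    rintro rfl
    apply hν
    ext d
    have h1 := he₀' (σ.symm d)
    rw [AlgEquiv.apply_symm_apply, zero_mul, map_zero] at h1
    simpa using h1
  refine ⟨(σ e₀)⁻¹, fun A B h => ?_⟩
  let ψ : L →ₗ[F] F :=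
    (ν.comp (LinearMap.mulRight F A)).comp σ.toLinearMap - ν.comp (LinearMap.mulRight F B)
  have hψ : ∀ d, ψ d = ν (σ d * A) - ν (d * B) := fun d => rfl
  have hψ0 : ψ = 0 :=
    eq_zero_of_vanish_on_squares ψ (fun c => by rw [hψ, map_pow, h c, sub_self])
  have h1 : ∀ d, ν (σ d * A) = ν (d * B) := fun d => by
    have h2 := LinearMap.congr_fun hψ0 d
    rw [hψ, LinearMap.zero_apply, sub_eq_zero] at h2
    exact h2
  have h2 : e₀ * σ.symm A - B = 0 := by
    apply hnd
    intro d
    have h3 := h1 d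
    have h4 : σ d * A = σ (d * σ.symm A) := by rw [map_mul, AlgEquiv.apply_symm_apply]
    rw [h4, he₀'] at h3
    rw [mul_sub, map_sub, ← h3, sub_eq_zero]
    congr 1
    ring
  have h3 : σ e₀ * A = σ B := by
    have h4 : e₀ * σ.symm A = B := sub_eq_zero.mp h2
    rw [← h4, map_mul, AlgEquiv.apply_symm_apply]
  have hσe : σ e₀ ≠ 0 := fun h0 => he₀0 (by
    have := congrArg σ.symm h0
    rwa [AlgEquiv.symm_apply_apply, map_zero] at this)
  rw [← h3, ← mul_assoc, inv_mul_cancel₀ hσe, one_mul]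

/-- **P1 (NORM)** -/
theorem conj_mem_of_semilinear_isometry (Q : QuadraticForm F V)
    (v w : V) (hspan : ∀ z : V, ∃ x y : L, z = x • v + y • w)
    (hind : ∀ x y : L, x • v + y • w = 0 → x = 0 ∧ y = 0)
    (ν : L →ₗ[F] F) (hν : ν ≠ 0) (β γ : L)
    (hrep : ∀ x y : L, Q (x • v + y • w) = ν (x ^ 2 + β * x * y + γ * y ^ 2))
    (haniso : ∀ x y : L, x ^ 2 + β * x * y + γ * y ^ 2 = 0 → x = 0 ∧ y = 0)
    (J : V →ₗ[L] V) (hJv : J v = w) (hJw : J w = -γ • v + β • w)
    (g : V ≃ₗ[F] V) (hg : ∀ z, Q (g z) = Q z)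
    (σ : L ≃ₐ[F] L) (hσ : ∀ (x : L) (z : V), g (x • z) = σ x • g z) :
    ∃ p s : L, ∀ z : V, g (J (g.symm z)) = p • z + s • J z := by
  obtain ⟨a, b, hgv⟩ := hspan (g v)
  obtain ⟨c, d, hgw⟩ := hspan (g w)
  obtain ⟨a₀, ha₀⟩ := exists_twist ν hν σ
  have hgz : ∀ x y : L, g (x • v + y • w) =
      (σ x * a + σ y * c) • v + (σ x * b + σ y * d) • w := by
    intro x y
    rw [map_add, hσ, hσ, hgv, hgw]
    module
  have hstar : ∀ x y : L,
      (σ x * a + σ y * c) ^ 2 + β * (σ x * a + σ y * c) * (σ x * b + σ y * d) +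
        γ * (σ x * b + σ y * d) ^ 2 = a₀ * σ (x ^ 2 + β * x * y + γ * y ^ 2) := by
    intro x y
    apply ha₀
    intro k
    have h1 := hg ((k * x) • v + (k * y) • w)
    rw [hgz, hrep, hrep] at h1
    have e1 : (σ (k * x) * a + σ (k * y) * c) ^ 2 +
        β * (σ (k * x) * a + σ (k * y) * c) * (σ (k * x) * b + σ (k * y) * d) +
        γ * (σ (k * x) * b + σ (k * y) * d) ^ 2 =
        σ k ^ 2 * ((σ x * a + σ y * c) ^ 2 + β * (σ x * a + σ y * c) * (σ x * b + σ y * d) +
          γ * (σ x * b + σ y * d) ^ 2) := by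
      simp only [map_mul]
      ring
    have e2 : (k * x) ^ 2 + β * (k * x) * (k * y) + γ * (k * y) ^ 2 =
        k ^ 2 * (x ^ 2 + β * x * y + γ * y ^ 2) := by ring
    rw [e1, e2] at h1
    exact h1
  have hss : ∀ x y : L,
      (x * a + y * c) ^ 2 + β * (x * a + y * c) * (x * b + y * d) + γ * (x * b + y * d) ^ 2 =
        a₀ * (x ^ 2 + σ β * x * y + σ γ * y ^ 2) := by
    intro x y
    have h1 := hstar (σ.symm x) (σ.symm y)
    simp only [AlgEquiv.apply_symm_apply, map_add, map_mul, map_pow] at h1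
    exact h1
  have E10 : a ^ 2 + β * a * b + γ * b ^ 2 = a₀ := by
    have h1 := hss 1 0
    linear_combination h1
  have E01 : c ^ 2 + β * c * d + γ * d ^ 2 = a₀ * σ γ := by
    have h1 := hss 0 1
    linear_combination h1
  have Ecross : 2 * a * c + β * (a * d + b * c) + 2 * γ * b * d = a₀ * σ β := by
    have h1 := hss 1 1
    linear_combination h1 - E10 - E01
  have hv0 : v ≠ 0 := by
    rintro rfl
    have h1 := (hind 1 0 (by simp)).1
    exact one_ne_zero h1
  have hgv0 : g v ≠ 0 := fun h => hv0 (by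
    have := congrArg g.symm h
    rwa [LinearEquiv.symm_apply_apply, map_zero] at this)
  have hab : ¬ (a = 0 ∧ b = 0) := by
    rintro ⟨rfl, rfl⟩
    apply hgv0
    rw [hgv]
    simp
  have hn0 : a ^ 2 + β * a * b + γ * b ^ 2 ≠ 0 := fun h => hab (haniso a b h)
  obtain ⟨p, hp⟩ : ∃ p : L, p = (c * (a + β * b) + γ * b * d) / (a ^ 2 + β * a * b + γ * b ^ 2) := ⟨_, rfl⟩
  obtain ⟨s, hs⟩ : ∃ s : L, s = (a * d - b * c) / (a ^ 2 + β * a * b + γ * b ^ 2) := ⟨_, rfl⟩
  have hpn : p * (a ^ 2 + β * a * b + γ * b ^ 2) = c * (a + β * b) + γ * b * d := by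
    rw [hp, div_mul_cancel₀ _ hn0]
  have hsn : s * (a ^ 2 + β * a * b + γ * b ^ 2) = a * d - b * c := by
    rw [hs, div_mul_cancel₀ _ hn0]
  have hG1a : c = p * a - s * γ * b := by
    apply mul_right_cancel₀ hn0
    linear_combination (-a) * hpn + γ * b * hsn
  have hG1b : d = p * b + s * (a + β * b) := by
    apply mul_right_cancel₀ hn0
    linear_combination (-b) * hpn - (a + β * b) * hsn
  have hG2a : -σ γ * a + σ β * c = p * c - s * γ * d := by
    apply mul_right_cancel₀ hn0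
    linear_combination (-σ γ * a + σ β * c) * E10 + a * E01 - c * Ecross - c * hpn + γ * d * hsn
  have hG2b : -σ γ * b + σ β * d = p * d + s * (c + β * d) := by
    apply mul_right_cancel₀ hn0
    linear_combination (-σ γ * b + σ β * d) * E10 + b * E01 - d * Ecross - d * hpn - (c + β * d) * hsn
  refine ⟨p, s, ?_⟩
  have hJc : ∀ x y : L, J (x • v + y • w) = (-γ * y) • v + (x + β * y) • w := by
    intro x y
    rw [map_add, map_smul, map_smul, hJv, hJw]
    module
  have key : ∀ X Y X' Y' : L, X = X' → Y = Y' → X • v + Y • w = X' • v + Y' • w := by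
    intro X Y X' Y' h1 h2
    rw [h1, h2]
  intro z
  obtain ⟨x, y, hu⟩ := hspan (g.symm z)
  have hz : z = g (x • v + y • w) := by rw [← hu, LinearEquiv.apply_symm_apply]
  rw [hu, hJc, hgz, hz, hgz, hJc]
  have hR : p • ((σ x * a + σ y * c) • v + (σ x * b + σ y * d) • w) +
      s • ((-γ * (σ x * b + σ y * d)) • v + ((σ x * a + σ y * c) + β * (σ x * b + σ y * d)) • w) =
      (p * (σ x * a + σ y * c) - s * γ * (σ x * b + σ y * d)) • v +
        (p * (σ x * b + σ y * d) + s * ((σ x * a + σ y * c) + β * (σ x * b + σ y * d))) • w := by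
    module
  rw [hR]
  apply key
  · simp only [map_mul, map_add, map_neg]
    linear_combination (σ x) * hG1a + (σ y) * hG2a
  · simp only [map_mul, map_add, map_neg]
    linear_combination (σ x) * hG1b + (σ y) * hG2b

end Abstract

end Cfsg.Agent.Lib.Helper21.OEField5P1
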