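import Mathlib
import Cfsg.Prelude.Def_GeometricClasses
import Cfsg.Agent.Lib.Helper13.OrthMax
import Cfsg.Agent.Lib.Helper13.OrthNondeg
import Cfsg.Agent.Lib.Helper13.OrthSmallGeo

/-!
# Even orthogonal rows, piece S1-(5,2,2) (helper21, for helper13's `small_decomp`)

`q = 2`: an orthogonal decomposition into plus-type planes.  Each plane has exactly one non-singular vector `dᵢ`;
every isometry permuting the planes permutes the `dᵢ`, hence fixes `v = Σ dᵢ`, and `Q v = t`.  So the stabiliser of the
decomposition in the isometry group stabilises the line `⟨v⟩`: non-singular for `t` odd (class (1c)), singular for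
`t` even (class (1a)).
-/

set_option autoImplicit false
set_option linter.unusedSectionVars false
set_option linter.unusedVariables false

namespace Cfsg.Agent.Lib.Helper21.OEPlusS522

open Matrix Cfsg Cfsg.Geo Module QuadraticMap
open Cfsg.Agent.Lib.Helper13 (toQF toQF_nondegenerate)
open Cfsg.Agent.Lib.Helper6 Cfsg.Agent.Lib.Helper13 Cfsg.Agent.Lib.Helper13.OND

variable {F : Type*} [Field F] [Fintype F] {n : ℕ}

/-- the value of a quadratic form on a sum of pairwise orthogonal vectors -/
theorem Q_sum_orth {κ : Type*} [DecidableEq κ] (Q : QuadraticForm F (Fin n → F)) (s : Finset κ)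
    (x : κ → Fin n → F) (h : ∀ i ∈ s, ∀ j ∈ s, i ≠ j → polar (⇑Q) (x i) (x j) = 0) :
    Q (∑ i ∈ s, x i) = ∑ i ∈ s, Q (x i) := by
  induction s using Finset.induction_on with
  | empty => simp
  | insert a s ha ih =>
    rw [Finset.sum_insert ha, Finset.sum_insert ha, Q_add, ih (fun i hi j hj hij =>
      h i (Finset.mem_insert_of_mem hi) j (Finset.mem_insert_of_mem hj) hij)]
    have h0 : polar (⇑Q) (x a) (∑ i ∈ s, x i) = 0 := by
      have h1 : polar (⇑Q) (x a) (∑ i ∈ s, x i) = ∑ i ∈ s, polar (⇑Q) (x a) (x i) := by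
        simp only [← polarBilin_apply_apply]
        exact map_sum _ _ _
      rw [h1]
      apply Finset.sum_eq_zero
      intro i hi
      exact h a (Finset.mem_insert_self a s) i (Finset.mem_insert_of_mem hi)
        (fun hai => ha (hai ▸ hi))
    rw [h0, add_zero]

/-- **S1-(5,2,2)** and its even twin -/
theorem planes_two_le_stab {Q : (Fin n → F) → F} (hQ : IsNondegenerateQuadraticForm Q)
    (hq : Fintype.card F = 2) {t : ℕ} (D : Fin t → Submodule F (Fin n → F))
    (hD : IsOrthogonalMDecomposition Q 2 D) (hplus : ∀ i, IsPlusTypeOn Q (D i)) :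
    ∃ v : Fin n → F, v ≠ 0 ∧ Q v = (t : F) ∧
      decompositionStabilizer D ⊓ isometryGroup F Q ≤ subspaceStabilizer (Submodule.span F {v}) := by
  classical
  set Q' : QuadraticForm F (Fin n → F) := toQF Q hQ with hQ'
  have hQQ : ∀ x, Q' x = Q x := fun x => rfl
  have hdec := hD.decomp.decomp
  have ho := hD.decomp.orthogonal
  have h01 := zero_or_one_of_card_two hq
  -- the unique non-singular vector of each plane
  have hex : ∀ i, ∃ d ∈ D i, Q d = 1 ∧ ∀ x ∈ D i, Q x ≠ 0 → x = d := by
    intro i
    have hNd : NdOn Q' (D i) := fun x hx hx0 => (hD.decomp.nondegenerate i x hx hx0).2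
    obtain ⟨e, heD, he0, he⟩ := exists_singular_of_plus Q' (D i) (hplus i) (hdec.finrank_eq i)
    obtain ⟨e', he'D, he', hee'⟩ := exists_partner Q' (D i) hNd heD he0 he
    have hval : ∀ α β : F, Q' (α • e + β • e') = α * β := by
      intro α β
      rw [Q_add, Q_smul, Q_smul, he, he', polar_smul_left, polar_smul_right, hee', smul_eq_mul, smul_eq_mul]
      ring
    have hind : ∀ c : F, e' ≠ c • e := by
      intro c h
      have h1 : polar (⇑Q') e e' = 0 := by
        rw [h, polar_smul_right, polar_self, he]
        simp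
      rw [hee'] at h1
      exact one_ne_zero h1
    have hspan := plane_span (D i) (hdec.finrank_eq i) e e' heD he'D he0 hind
    refine ⟨e + e', (D i).add_mem heD he'D, ?_, ?_⟩
    · have := hval 1 1
      rw [one_smul, one_smul, mul_one] at this
      exact this
    · intro x hx hQx
      obtain ⟨α, β, rfl⟩ := hspan x hx
      have h1 : α * β ≠ 0 := by
        rw [← hval α β]
        exact hQx
      have hα : α = 1 := by
        rcases h01 α with h | h
        · rw [h, zero_mul] at h1
          exact absurd rfl h1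
        · exact h
      have hβ : β = 1 := by
        rcases h01 β with h | h
        · rw [h, mul_zero] at h1
          exact absurd rfl h1
        · exact h
      rw [hα, hβ, one_smul, one_smul]
  choose d hdD hQd huniq using hex
  have ht2 := hdec.two_le
  let i₀ : Fin t := ⟨0, by omega⟩
  have hporth : ∀ i ∈ (Finset.univ : Finset (Fin t)), ∀ j ∈ (Finset.univ : Finset (Fin t)), i ≠ j →
      polar (⇑Q') (d i) (d j) = 0 := fun i _ j _ hij => ho i j hij (d i) (hdD i) (d j) (hdD j)
  refine ⟨∑ i, d i, ?_, ?_, ?_⟩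
  · -- `v ≠ 0`
    intro hv
    have hd0 : d i₀ ≠ 0 := by
      intro h
      have := hQd i₀
      rw [h, ← hQQ, map_zero] at this
      exact zero_ne_one this
    obtain ⟨x, hxD, hx⟩ := (hD.decomp.nondegenerate i₀ (d i₀) (hdD i₀) hd0).1
    apply hx
    have h1 : polar (⇑Q') x (∑ i, d i) = ∑ i, polar (⇑Q') x (d i) := by
      simp only [← polarBilin_apply_apply]
      exact map_sum _ _ _
    have h2 : ∑ i, polar (⇑Q') x (d i) = polar (⇑Q') x (d i₀) := by
      apply Finset.sum_eq_single i₀
      · intro j _ hj
        exact ho i₀ j hj.symm x hxD (d j) (hdD j)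
      · intro h
        exact absurd (Finset.mem_univ i₀) h
    have h3 : polar (⇑Q') x (d i₀) = 0 := by
      rw [← h2, ← h1, hv]
      simp
    exact h3
  · -- `Q v = t`
    have h1 := Q_sum_orth Q' Finset.univ d hporth
    have h2 : Q (∑ i, d i) = ∑ i : Fin t, Q (d i) := h1
    rw [h2, Finset.sum_congr rfl (fun i _ => hQd i)]
    simp
  · -- the containment
    rintro g ⟨⟨σ, hσ⟩, hgI⟩
    have hgd : ∀ i, (g : Matrix (Fin n) (Fin n) F) *ᵥ d i = d (σ i) := by
      intro i
      apply huniq (σ i)
      · rw [← hσ i]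
        exact ⟨d i, hdD i, by rw [Matrix.toLin'_apply]⟩
      · have h1 : Q ((g : Matrix (Fin n) (Fin n) F) *ᵥ d i) = Q (d i) := hgI (d i) (d i)
        rw [h1, hQd i]
        exact one_ne_zero
    have hgv : (g : Matrix (Fin n) (Fin n) F) *ᵥ (∑ i, d i) = ∑ i, d i := by
      rw [Matrix.mulVec_sum]
      have h1 : ∑ i, (g : Matrix (Fin n) (Fin n) F) *ᵥ d i = ∑ i, d (σ i) :=
        Finset.sum_congr rfl (fun i _ => hgd i)
      rw [h1]
      exact Equiv.sum_comp σ d
    intro x
    constructor
    · intro hx
      obtain ⟨c, rfl⟩ := Submodule.mem_span_singleton.mp hx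
      show (g : Matrix (Fin n) (Fin n) F) *ᵥ (c • ∑ i, d i) ∈ _
      rw [Matrix.mulVec_smul, hgv]
      exact Submodule.smul_mem _ c (Submodule.mem_span_singleton_self _)
    · intro hx
      obtain ⟨c, hc⟩ := Submodule.mem_span_singleton.mp hx
      have hx' : (g : Matrix (Fin n) (Fin n) F) *ᵥ x = (g : Matrix (Fin n) (Fin n) F) *ᵥ (c • ∑ i, d i) := by
        rw [Matrix.mulVec_smul, hgv]
        exact hc.symm
      have hinj : x = c • ∑ i, d i := by
        have h1 := congrArg (fun y => ((g⁻¹ : GL (Fin n) F) : Matrix (Fin n) (Fin n) F) *ᵥ y) hx'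
        simp only [Matrix.mulVec_mulVec] at h1
        rw [← Units.val_mul, inv_mul_cancel, Units.val_one, Matrix.one_mulVec, Matrix.one_mulVec] at h1
        exact h1
      rw [hinj]
      exact Submodule.smul_mem _ c (Submodule.mem_span_singleton_self _)

end Cfsg.Agent.Lib.Helper21.OEPlusS522
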