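import Cfsg.Agent.Lib.Helper18.ONM.Conj

/-!
S2052-[E8] (architect helper18), SPARE (`ONM.Helper21.sq_lift_a_eq_one`; use helper17's `Lib/Helper17/ONME8`): in a central extension of the O'Nan group `P` with kernel of exponent `2`
every lift of the generator `a` is an involution.
-/

set_option autoImplicit false
set_option maxRecDepth 100000

namespace Cfsg.Agent.Lib.Helper18.ONM

open Cfsg Cfsg.Agent.Helper4.TC

namespace Helper21

/-- the group-theoretic core: three elements `A, C, F` whose seven products `A, C, F, CA, FA, FC, FCA` all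
square to the same central element `z` with `z ^ 2 = 1` force `z = 1` -/
theorem z_eq_one {Γ : Type*} [Group Γ] (A C F z : Γ) (hz : ∀ x : Γ, x * z = z * x) (hz2 : z * z = 1)
    (hA : A * A = z) (hC : C * C = z) (hF : F * F = z)
    (hCA : C * A * (C * A) = z) (hFA : F * A * (F * A) = z) (hFC : F * C * (F * C) = z)
    (hFCA : F * C * A * (F * C * A) = z) : z = 1 := by
  -- `X Y = z Y X` from `(X Y)^2 = X^2 = Y^2 = z`
  have swap : ∀ X Y : Γ, X * X = z → Y * Y = z → X * Y * (X * Y) = z → X * Y = z * (Y * X) := by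
    intro X Y hX hY hXY
    have h1 : X * (X * Y * (X * Y)) * Y = X * z * Y := by rw [hXY]
    have h2 : X * (X * Y * (X * Y)) * Y = (X * X) * (Y * X) * (Y * Y) := by group
    rw [h2, hX, hY] at h1
    -- z * (Y * X) * z = X * z * Y
    have h3 : z * (Y * X) * z = z * z * (Y * X) := by
      rw [mul_assoc, hz (Y * X), ← mul_assoc]
    have h4 : X * z * Y = z * (X * Y) := by
      rw [hz X, mul_assoc]
    rw [h3, h4, hz2, one_mul] at h1
    rw [h1, ← mul_assoc, hz2, one_mul]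
  have sCA := swap C A hC hA hCA
  have sFA := swap F A hF hA hFA
  have sFC := swap F C hF hC hFC
  -- `F C A = A (F C)`
  have h5 : F * C * A = A * (F * C) := by
    calc F * C * A = F * (C * A) := by rw [mul_assoc]
      _ = F * (z * (A * C)) := by rw [sCA]
      _ = z * (F * A * C) := by rw [← mul_assoc F z, hz F, mul_assoc z F, ← mul_assoc F A C]
      _ = z * (z * (A * F) * C) := by rw [sFA]
      _ = z * z * (A * F * C) := by simp only [mul_assoc]
      _ = A * (F * C) := by rw [hz2, one_mul, mul_assoc]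
  have h6 : F * C * A * (F * C * A) = 1 := by
    calc F * C * A * (F * C * A) = A * (F * C) * (F * C * A) := by rw [h5]
      _ = A * (F * C * (F * C)) * A := by simp only [mul_assoc]
      _ = A * z * A := by rw [hFC]
      _ = z * (A * A) := by rw [hz A, mul_assoc]
      _ = 1 := by rw [hA, hz2]
  rw [← hFCA, h6]

/-- two lifts of the same element have the same square -/
theorem sq_eq_of_lift {Γ Q : Type*} [Group Γ] [Group Q] (σ : Γ →* Q) (hc : σ.ker ≤ Subgroup.center Γ)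
    (hexp : ∀ z ∈ σ.ker, z ^ 2 = 1) (γ γ' : Γ) (h : σ γ' = σ γ) : γ' ^ 2 = γ ^ 2 := by
  have hk : γ⁻¹ * γ' ∈ σ.ker := by
    rw [MonoidHom.mem_ker, map_mul, map_inv, h, inv_mul_cancel]
  have hk2 : (γ⁻¹ * γ') * (γ⁻¹ * γ') = 1 := by
    have := hexp _ hk
    rwa [pow_two] at this
  have hkc : ∀ x : Γ, x * (γ⁻¹ * γ') = (γ⁻¹ * γ') * x := Subgroup.mem_center_iff.mp (hc hk)
  have h1 : γ' = γ * (γ⁻¹ * γ') := by group
  calc γ' ^ 2 = γ * (γ⁻¹ * γ') * (γ * (γ⁻¹ * γ')) := by rw [pow_two, ← h1]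
    _ = γ * ((γ⁻¹ * γ') * γ) * (γ⁻¹ * γ') := by simp only [mul_assoc]
    _ = γ * (γ * (γ⁻¹ * γ')) * (γ⁻¹ * γ') := by rw [hkc γ]
    _ = γ * γ * ((γ⁻¹ * γ') * (γ⁻¹ * γ')) := by simp only [mul_assoc]
    _ = γ ^ 2 := by rw [hk2, mul_one, pow_two]

/-- a lift of a conjugate of `σ γ` has the same square as `γ` when `γ ^ 2` lies in the kernel -/
theorem sq_eq_of_conj {Γ Q : Type*} [Group Γ] [Group Q] (σ : Γ →* Q) (hs : Function.Surjective σ)
    (hc : σ.ker ≤ Subgroup.center Γ) (hexp : ∀ z ∈ σ.ker, z ^ 2 = 1) (γ ω : Γ) (U : Q)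
    (hγ2 : γ ^ 2 ∈ σ.ker) (h : σ ω = U * σ γ * U⁻¹) : ω ^ 2 = γ ^ 2 := by
  obtain ⟨υ, rfl⟩ := hs U
  have h1 : σ (υ⁻¹ * ω * υ) = σ γ := by
    rw [map_mul, map_mul, map_inv, h]
    group
  have h2 := sq_eq_of_lift σ hc hexp γ (υ⁻¹ * ω * υ) h1
  have hzc : ∀ x : Γ, x * γ ^ 2 = γ ^ 2 * x := Subgroup.mem_center_iff.mp (hc hγ2)
  have h3 : ω ^ 2 = υ * (υ⁻¹ * ω * υ) ^ 2 * υ⁻¹ := by
    rw [pow_two, pow_two]
    group
  rw [h3, h2, hzc υ, mul_assoc, mul_inv_cancel, mul_one]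

theorem evc1 {Q : Type*} [Group Q] (f : Gen → Q) (c : ℕ) : evc f dec [c] = gl f (dec c) := by
  rw [evc_cons, evc_nil, one_mul]

theorem evc2 {Q : Type*} [Group Q] (f : Gen → Q) (c1 c2 : ℕ) :
    evc f dec [c1, c2] = gl f (dec c2) * gl f (dec c1) := by
  rw [evc_cons, evc1]

theorem evc3 {Q : Type*} [Group Q] (f : Gen → Q) (c1 c2 c3 : ℕ) :
    evc f dec [c1, c2, c3] = gl f (dec c3) * gl f (dec c2) * gl f (dec c1) := by
  rw [evc_cons, evc2]

theorem gl_a {Q : Type*} [Group Q] (f : Gen → Q) : gl f (dec 2) = f Cfsg.Spor.ON.Gen.a := rfl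

theorem gl_c {Q : Type*} [Group Q] (f : Gen → Q) : gl f (dec 6) = f Cfsg.Spor.ON.Gen.c := rfl

theorem gl_f {Q : Type*} [Group Q] (f : Gen → Q) : gl f (dec 12) = f Cfsg.Spor.ON.Gen.f := rfl

end Helper21

/-- [E8] SPARE copy (helper17's `Lib/Helper17/ONME8` landed first and has the plain name) -/
theorem Helper21.sq_lift_a_eq_one (hP : RelPOK) (hconj : ConjOK)
    {Γ : Type} [Group Γ] [Finite Γ] (σ : Γ →* P) (hs : Function.Surjective σ)
    (hc : σ.ker ≤ Subgroup.center Γ) (hexp : ∀ z ∈ σ.ker, z ^ 2 = 1)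
    (γ : Γ) (hγ : σ γ = PresentedGroup.of Cfsg.Spor.ON.Gen.a) : γ ^ 2 = 1 := by
  -- `a ^ 2 = 1` in `P`
  have ha2 : (PresentedGroup.of (rels := RP) Cfsg.Spor.ON.Gen.a) *
      PresentedGroup.of (rels := RP) Cfsg.Spor.ON.Gen.a = 1 := by
    have h := hP [2, 2] (by decide)
    rw [Helper21.evc2, Helper21.gl_a] at h
    exact h
  have hzker : γ ^ 2 ∈ σ.ker := by
    rw [MonoidHom.mem_ker, map_pow, hγ, pow_two, ha2]
  have hzc : ∀ x : Γ, x * γ ^ 2 = γ ^ 2 * x := Subgroup.mem_center_iff.mp (hc hzker)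
  have hz2 : γ ^ 2 * γ ^ 2 = 1 := by
    have := hexp _ hzker
    rwa [pow_two] at this
  -- lifts of the generators
  choose g hg using fun x : Gen => hs (PresentedGroup.of x)
  have hσg : (fun x => σ (g x)) = PresentedGroup.of (rels := RP) := funext hg
  -- the words of `conjI`
  have hw : ∀ p ∈ conjI, (evc g dec p.1) ^ 2 = γ ^ 2 := by
    intro p hp
    apply Helper21.sq_eq_of_conj σ hs hc hexp γ _ (evc (PresentedGroup.of (rels := RP)) dec p.2) hzker
    rw [Cfsg.Agent.Helper4.TC.Schur.map_evc, hσg, hγ]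
    exact hconj p hp
  have hA : g .a * g .a = γ ^ 2 := by
    rw [← pow_two]
    exact Helper21.sq_eq_of_lift σ hc hexp γ (g .a) (by rw [hg, hγ])
  have hC : g .c * g .c = γ ^ 2 := by
    have h := hw ([6], [4, 2, 6, 4]) (by decide)
    rw [pow_two] at h
    simpa only [Helper21.evc1, Helper21.gl_c] using h
  have hF : g .f * g .f = γ ^ 2 := by
    have h := hw ([12], [4, 1, 6, 4, 2, 8, 6, 4, 8, 10, 1, 6, 4, 8, 7, 0, 9, 11, 9, 7, 1, 9, 1, 11]) (by decide)
    rw [pow_two] at h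
    simpa only [Helper21.evc1, Helper21.gl_f] using h
  have hCA : g .c * g .a * (g .c * g .a) = γ ^ 2 := by
    have h := hw ([2, 6], [4, 0, 6, 4, 1, 4]) (by decide)
    rw [pow_two] at h
    simpa only [Helper21.evc2, Helper21.gl_a, Helper21.gl_c] using h
  have hFA : g .f * g .a * (g .f * g .a) = γ ^ 2 := by
    have h := hw ([2, 12], [4, 0, 6, 4, 1, 4, 8, 6, 4, 2, 8, 6, 4]) (by decide)
    rw [pow_two] at h
    simpa only [Helper21.evc2, Helper21.gl_a, Helper21.gl_f] using h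
  have hFC : g .f * g .c * (g .f * g .c) = γ ^ 2 := by
    have h := hw ([6, 12], [4, 0, 6, 4, 1, 4, 8, 6, 8]) (by decide)
    rw [pow_two] at h
    simpa only [Helper21.evc2, Helper21.gl_c, Helper21.gl_f] using h
  have hFCA : g .f * g .c * g .a * (g .f * g .c * g .a) = γ ^ 2 := by
    have h := hw ([2, 6, 12], [4, 2, 6, 4, 8, 6, 8]) (by decide)
    rw [pow_two] at h
    simpa only [Helper21.evc3, Helper21.gl_a, Helper21.gl_c, Helper21.gl_f] using h
  exact Helper21.z_eq_one (g .a) (g .c) (g .f) (γ ^ 2) hzc hz2 hA hC hF hCA hFA hFC hFCA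

end Cfsg.Agent.Lib.Helper18.ONM
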