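import Mathlib
import Cfsg.Agent.Lib.Helper28.OTDefs
import Cfsg.Agent.Lib.Helper18.TensOmegaBridge
import Cfsg.Agent.Lib.Helper18.S5704FOBRIDGE

/-!
# OT BRIDGE (S5681 / S5709, helper28's skeleton PART 7) : `bridgeOT` (helper21)

From the frozen-shape data (a quadratic form `Q` given as a function, a tensor form structure for its polar form with two
non-degenerate symmetric forms `f₁`, `f₂`) to the core statement on `Fin n₁ × Fin n₂`.
-/

set_option autoImplicit false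

namespace Cfsg.Agent.Lib.Helper21.OTBridge

open Matrix Module
open scoped Kronecker
open Cfsg.Agent.Lib.Helper28.OT
open Cfsg.Agent.Lib.Helper3.SpT (bf)
open Cfsg.Agent.Lib.Helper13.TensSO (OrthG IsoG)
open Cfsg.Agent.Lib.Helper18.TensOmegaBridge Cfsg.Agent.Lib.Helper18.S5704BRIDGE

/-- the Gram matrix of a non-degenerate symmetric form, scaled, is an orthogonal Gram matrix -/
theorem orthG_gram {F : Type*} [Field F] {κ : Type} [Fintype κ] [DecidableEq κ]
    {f : (κ → F) → (κ → F) → F} (hf : Cfsg.Geo.IsSymmetricForm f) {c : F} (hc : c ≠ 0) :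
    OrthG (c • Cfsg.Geo.gramMatrix f) := by
  constructor
  · intro x y
    rw [bf_smul_mat, bf_smul_mat, ← bilin_eq_bf hf.bilinear, ← bilin_eq_bf hf.bilinear, hf.symm]
  · intro x hx
    by_contra hne
    obtain ⟨_, y, hy⟩ := hf.nondegenerate x hne
    apply hy
    have := hx y
    rw [bf_smul_mat, ← bilin_eq_bf hf.bilinear] at this
    exact (mul_eq_zero.1 this).resolve_left hc

/-- the pulled-back quadratic form as a `QuadraticForm` -/
def pullQF {ι : Type} [Fintype ι] [DecidableEq ι] {F : Type*} [Field F] {κ : Type} [Fintype κ] [DecidableEq κ]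
    (Q : (ι → F) → F) (hQs : ∀ (c : F) (v : ι → F), Q (c • v) = c ^ 2 * Q v)
    (hQb : Cfsg.Geo.IsBilinearForm (QuadraticMap.polar Q)) (e : ι ≃ κ) (P : GL ι F) :
    QuadraticForm F (κ → F) where
  toFun := pullQ Q e P
  toFun_smul := fun a x => by
    have : pullQ Q e P (a • x) = Q (LL e P (a • x)) := rfl
    rw [this, LL_smul, hQs, smul_eq_mul, pow_two]
    rfl
  exists_companion' := ⟨LinearMap.mk₂ F (QuadraticMap.polar (pullQ Q e P))
    (fun x y v => by rw [polar_pullQ, polar_pullQ, polar_pullQ, LL_add, hQb.add_left])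
    (fun c x v => by rw [polar_pullQ, polar_pullQ, LL_smul, hQb.smul_left, smul_eq_mul])
    (fun v x y => by rw [polar_pullQ, polar_pullQ, polar_pullQ, LL_add, hQb.add_right])
    (fun c v x => by rw [polar_pullQ, polar_pullQ, LL_smul, hQb.smul_right, smul_eq_mul]), fun x y => by
      rw [LinearMap.mk₂_apply]
      unfold QuadraticMap.polar
      ring⟩

theorem pullQF_coe {ι : Type} [Fintype ι] [DecidableEq ι] {F : Type*} [Field F] {κ : Type} [Fintype κ] [DecidableEq κ]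
    (Q : (ι → F) → F) (hQs : ∀ (c : F) (v : ι → F), Q (c • v) = c ^ 2 * Q v)
    (hQb : Cfsg.Geo.IsBilinearForm (QuadraticMap.polar Q)) (e : ι ≃ κ) (P : GL ι F) :
    ⇑(pullQF Q hQs hQb e P) = pullQ Q e P := rfl

/-- **BRIDGE** (exact stub signature of helper28's skeleton v3, PART 7) -/
theorem bridgeOT {ι : Type} [Fintype ι] [DecidableEq ι] {F : Type*} [Field F] [Fintype F] (Q : (ι → F) → F)
    (hQs : ∀ (c : F) (v : ι → F), Q (c • v) = c ^ 2 * Q v)
    (hQb : Cfsg.Geo.IsBilinearForm (QuadraticMap.polar Q)) (h2 : (2 : F) ≠ 0) (n₁ n₂ : ℕ)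
    (e : ι ≃ Fin n₁ × Fin n₂) (P : Matrix.GeneralLinearGroup ι F)
    (f₁ : (Fin n₁ → F) → (Fin n₁ → F) → F) (f₂ : (Fin n₂ → F) → (Fin n₂ → F) → F)
    (hf₁ : Cfsg.Geo.IsSymmetricForm f₁) (hf₂ : Cfsg.Geo.IsSymmetricForm f₂)
    (hT : Cfsg.Geo.IsTensorFormStructure id (QuadraticMap.polar Q) f₁ f₂ e P)
    (hmain : ∀ (c : F), c ≠ 0 → ∀ Q' : QuadraticForm F (Fin n₁ × Fin n₂ → F),
      SetupO (c • Cfsg.Geo.gramMatrix f₁) (Cfsg.Geo.gramMatrix f₂) Q' →
      Cfsg.Geo.IsMaximalIn (Cfsg.Geo.omegaGL (⇑Q'))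
        (Cfsg.Geo.kroneckerSubgroup n₁ n₂ F ⊓ Cfsg.Geo.omegaGL (⇑Q'))) :
    Cfsg.Geo.IsMaximalIn (Cfsg.Geo.omegaGL Q) (Cfsg.Geo.tensorProductSubgroup n₁ n₂ e P ⊓ Cfsg.Geo.omegaGL Q) := by
  classical
  obtain ⟨c, hc, hT⟩ := hT
  have hS : SetupO (c • Cfsg.Geo.gramMatrix f₁) (Cfsg.Geo.gramMatrix f₂) (pullQF Q hQs hQb e P) := by
    refine ⟨orthG_gram hf₁ hc, ?_, h2, ?_⟩
    · have := orthG_gram hf₂ (one_ne_zero (α := F))
      rwa [one_smul] at this
    · intro x y
      rw [pullQF_coe, polar_pullQ]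
      have := hT x y
      unfold LL
      rw [this, formOfGram_id_eq_bf, Matrix.smul_kronecker, bf_smul_mat]
  have hm := hmain c hc _ hS
  rw [pullQF_coe] at hm
  exact bridge_omega Q n₁ n₂ e P hm

end Cfsg.Agent.Lib.Helper21.OTBridge
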