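import Mathlib
import Cfsg.Agent.Lib.Helper21.OTSFour

/-!
# OT EXIT, T3: the S-lemma for all `a ≥ 4` (any type, any odd `q`)

(A) the `p`-group fixed point on `S / F·1`, realised as a projected action on the complement
`{C ∈ S | C i0 i0 = 0}`; (B) `lam = 0` for `a ≥ 4` by two orthogonal anisotropic vectors;
(C) `OTSFour.comm_eq`; (D) `E e e` and `E e' e'` do not commute.
-/

set_option autoImplicit false

namespace Cfsg.Agent.Lib.Helper21.OTSGen

open Matrix Module
open Cfsg.Agent.Lib.Helper3.SpT (bf E adj bf_add_left bf_add_right bf_smul_left bf_smul_right bf_neg_left bf_neg_right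
  bf_sub_left bf_sub_right E_mulVec mat_ext_mulVec)
open Cfsg.Agent.Lib.Helper13.TensSO (OrthG)
open Cfsg.Agent.Lib.Helper21.OTKSpread
open Cfsg.Agent.Lib.Helper21.OTSFour

variable {F : Type*} [Field F] {a : ℕ} {J : Matrix (Fin a) (Fin a) F}

/-- conjugation by `ρ_{e,z}` -/
noncomputable def cj (J : Matrix (Fin a) (Fin a) F) (e z : Fin a → F) (C : Matrix (Fin a) (Fin a) F) :
    Matrix (Fin a) (Fin a) F := eichM J e z * C * eichM J e (-z)

/-- projection onto `{C | C i0 i0 = 0}` along `F·1` -/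
def pr (i0 : Fin a) (X : Matrix (Fin a) (Fin a) F) : Matrix (Fin a) (Fin a) F :=
  X - X i0 i0 • (1 : Matrix (Fin a) (Fin a) F)

/-- the complement of `F·1` in `S` -/
def S0sub (S : Submodule F (Matrix (Fin a) (Fin a) F)) (i0 : Fin a) : Submodule F (Matrix (Fin a) (Fin a) F) where
  carrier := {C | C ∈ S ∧ C i0 i0 = 0}
  add_mem' := by
    intro x y hx hy
    exact ⟨S.add_mem hx.1 hy.1, by rw [Matrix.add_apply, hx.2, hy.2, add_zero]⟩
  zero_mem' := ⟨S.zero_mem, rfl⟩
  smul_mem' := by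
    intro c x hx
    exact ⟨S.smul_mem c hx.1, by rw [Matrix.smul_apply, hx.2, smul_zero]⟩

theorem pr_apply (i0 : Fin a) (X : Matrix (Fin a) (Fin a) F) : pr i0 X i0 i0 = 0 := by
  unfold pr
  rw [Matrix.sub_apply, Matrix.smul_apply, Matrix.one_apply_eq, smul_eq_mul, mul_one, sub_self]

theorem pr_mem (i0 : Fin a) {S : Submodule F (Matrix (Fin a) (Fin a) F)} (h1 : (1 : Matrix (Fin a) (Fin a) F) ∈ S)
    {X : Matrix (Fin a) (Fin a) F} (hX : X ∈ S) : pr i0 X ∈ S0sub S i0 :=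
  ⟨S.sub_mem hX (S.smul_mem _ h1), pr_apply i0 X⟩

theorem pr_id (i0 : Fin a) {X : Matrix (Fin a) (Fin a) F} (hX : X i0 i0 = 0) : pr i0 X = X := by
  unfold pr
  rw [hX, zero_smul, sub_zero]

theorem pr_sub_smul_one (i0 : Fin a) (Y : Matrix (Fin a) (Fin a) F) (t : F) :
    pr i0 (Y - t • (1 : Matrix (Fin a) (Fin a) F)) = pr i0 Y := by
  unfold pr
  rw [Matrix.sub_apply, Matrix.smul_apply, Matrix.one_apply_eq, smul_eq_mul, mul_one, sub_smul]
  abel

theorem cj_zero (e : Fin a → F) (C : Matrix (Fin a) (Fin a) F) : cj J e 0 C = C := by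
  unfold cj
  rw [neg_zero, eichM_zero, one_mul, mul_one]

theorem cj_add (hJ : OrthG J) (h2 : (2 : F) ≠ 0) {e z z' : Fin a → F} (he : bf J e e = 0) (hz : bf J e z = 0)
    (hz' : bf J e z' = 0) (C : Matrix (Fin a) (Fin a) F) : cj J e (z + z') C = cj J e z (cj J e z' C) := by
  unfold cj
  rw [neg_add_rev, ← eichM_mul hJ h2 he hz hz',
    ← eichM_mul hJ h2 he (by rw [bf_neg_right, hz', neg_zero]) (by rw [bf_neg_right, hz, neg_zero])]
  simp only [Matrix.mul_assoc]

theorem cj_sub_smul_one (hJ : OrthG J) (h2 : (2 : F) ≠ 0) {e z : Fin a → F} (he : bf J e e = 0) (hz : bf J e z = 0)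
    (X : Matrix (Fin a) (Fin a) F) (t : F) :
    cj J e z (X - t • (1 : Matrix (Fin a) (Fin a) F)) = cj J e z X - t • (1 : Matrix (Fin a) (Fin a) F) := by
  unfold cj
  rw [Matrix.mul_sub, Matrix.sub_mul, Matrix.mul_smul, Matrix.smul_mul, mul_one, eichM_mul_neg hJ h2 he hz]

/-- **(A)** the fixed point of the `p`-group `{ρ_{e,z}}` on `S / F·1` -/
theorem exists_proj_fixed [Fintype F] (hJ : OrthG J) (h2 : (2 : F) ≠ 0) (i0 : Fin a)
    {S : Submodule F (Matrix (Fin a) (Fin a) F)} (h1 : (1 : Matrix (Fin a) (Fin a) F) ∈ S) {e : Fin a → F}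
    (hee : bf J e e = 0)
    (hinv : ∀ z, bf J e z = 0 → ∀ C ∈ S, eichM J e z * C * eichM J e (-z) ∈ S)
    (hns : ∃ C ∈ S, ¬ ∃ c : F, C = c • (1 : Matrix (Fin a) (Fin a) F)) :
    ∃ K ∈ S, (¬ ∃ c : F, K = c • (1 : Matrix (Fin a) (Fin a) F)) ∧
      ∀ z, bf J e z = 0 →
        ∃ d : F, eichM J e z * K * eichM J e (-z) = K + d • (1 : Matrix (Fin a) (Fin a) F) := by
  classical
  obtain ⟨p, hp⟩ := CharP.exists F
  haveI := hp
  haveI : Fact p.Prime := ⟨CharP.char_is_prime F p⟩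
  letI act : MulAction (Multiplicative (perpS J e)) (S0sub S i0) :=
    { smul := fun g K => ⟨pr i0 (cj J e (Multiplicative.toAdd g).1 K.1),
        pr_mem i0 h1 (hinv _ (Multiplicative.toAdd g).2 K.1 K.2.1)⟩
      one_smul := by
        intro K
        apply Subtype.ext
        show pr i0 (cj J e (0 : Fin a → F) K.1) = K.1
        rw [cj_zero, pr_id i0 K.2.2]
      mul_smul := by
        intro g h K
        apply Subtype.ext
        show pr i0 (cj J e ((Multiplicative.toAdd g).1 + (Multiplicative.toAdd h).1) K.1) =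
          pr i0 (cj J e (Multiplicative.toAdd g).1 (pr i0 (cj J e (Multiplicative.toAdd h).1 K.1)))
        have hg : bf J e (Multiplicative.toAdd g).1 = 0 := (Multiplicative.toAdd g).2
        have hh : bf J e (Multiplicative.toAdd h).1 = 0 := (Multiplicative.toAdd h).2
        have hY : ∀ Y : Matrix (Fin a) (Fin a) F,
            pr i0 (cj J e (Multiplicative.toAdd g).1 (pr i0 Y)) = pr i0 (cj J e (Multiplicative.toAdd g).1 Y) := by
          intro Y
          rw [show pr i0 Y = Y - Y i0 i0 • (1 : Matrix (Fin a) (Fin a) F) from rfl,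
            cj_sub_smul_one hJ h2 hee hg, pr_sub_smul_one]
        rw [cj_add hJ h2 hee hg hh, hY] }
  have hsmul : ∀ (g : Multiplicative (perpS J e)) (K : S0sub S i0),
      ((g • K : S0sub S i0) : Matrix (Fin a) (Fin a) F) = pr i0 (cj J e (Multiplicative.toAdd g).1 K.1) :=
    fun _ _ => rfl
  have hG : IsPGroup p (Multiplicative (perpS J e)) := by
    intro g
    refine ⟨1, ?_⟩
    rw [pow_one]
    apply Multiplicative.toAdd.injective
    rw [toAdd_pow, toAdd_one, ← Nat.cast_smul_eq_nsmul F, CharP.cast_eq_zero, zero_smul]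
  have hpD : p ∣ Nat.card (S0sub S i0) := by
    obtain ⟨C0, hC0, hC0ns⟩ := hns
    have hK : pr i0 C0 ∈ S0sub S i0 := pr_mem i0 h1 hC0
    have hK0 : pr i0 C0 ≠ 0 := by
      intro h
      apply hC0ns
      refine ⟨C0 i0 i0, ?_⟩
      unfold pr at h
      exact sub_eq_zero.mp h
    have h1' : p • (⟨pr i0 C0, hK⟩ : S0sub S i0) = 0 := by
      rw [← Nat.cast_smul_eq_nsmul F, CharP.cast_eq_zero, zero_smul]
    have h3 : addOrderOf (⟨pr i0 C0, hK⟩ : S0sub S i0) ∣ p := addOrderOf_dvd_of_nsmul_eq_zero h1'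
    have h4 : addOrderOf (⟨pr i0 C0, hK⟩ : S0sub S i0) ≠ 1 := by
      rw [Ne, AddMonoid.addOrderOf_eq_one_iff]
      intro h
      exact hK0 (congrArg Subtype.val h)
    have h5 : addOrderOf (⟨pr i0 C0, hK⟩ : S0sub S i0) = p := ((Nat.dvd_prime Fact.out).1 h3).resolve_left h4
    rw [← h5]
    exact addOrderOf_dvd_natCard _
  have h0 : (0 : S0sub S i0) ∈ MulAction.fixedPoints (Multiplicative (perpS J e)) (S0sub S i0) := by
    intro g
    apply Subtype.ext
    rw [hsmul]
    show pr i0 (cj J e _ 0) = 0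
    unfold cj pr
    simp
  obtain ⟨b, hb, hb0⟩ := hG.exists_fixed_point_of_prime_dvd_card_of_fixed_point (S0sub S i0) hpD h0
  refine ⟨b.1, b.2.1, ?_, fun z hz => ?_⟩
  · rintro ⟨c, hc⟩
    apply hb0
    apply Subtype.ext
    have h := b.2.2
    rw [hc, Matrix.smul_apply, Matrix.one_apply_eq, smul_eq_mul, mul_one] at h
    show (0 : Matrix (Fin a) (Fin a) F) = b.1
    rw [hc, h, zero_smul]
  · have h3 := congrArg Subtype.val (hb (Multiplicative.ofAdd ⟨z, hz⟩))
    rw [hsmul] at h3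
    have h4 : pr i0 (cj J e z b.1) = b.1 := h3
    refine ⟨(cj J e z b.1) i0 i0, ?_⟩
    show cj J e z b.1 = _
    unfold pr at h4
    exact sub_eq_iff_eq_add.mp h4

/-- **(B)** for `a ≥ 4`: `lam = 0` -/
theorem lam_zero_ge4 (hJ : OrthG J) (h2 : (2 : F) ≠ 0) {e f w1 w2 : Fin a → F} (hee : bf J e e = 0)
    (hef : bf J e f = 1) (hew1 : bf J e w1 = 0) (hew2 : bf J e w2 = 0) (hw12 : bf J w1 w2 = 0)
    (hw1 : bf J w1 w1 ≠ 0) (hw2 : bf J w2 w2 ≠ 0) {K : Matrix (Fin a) (Fin a) F} (hK : Sym J K)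
    (lam : (Fin a → F) → F)
    (hlam : ∀ z, bf J e z = 0 →
      eichM J e z * K * eichM J e (-z) = K + lam z • (1 : Matrix (Fin a) (Fin a) F)) :
    ∀ z, bf J e z = 0 → lam z = 0 := by
  have he0 : e ≠ 0 := by
    intro h
    rw [h, bf_zero_left] at hef
    exact zero_ne_one hef
  have hw21 : bf J w2 w1 = 0 := by rw [hJ.symm, hw12]
  -- the twisted commutation relation on vectors
  have hc : ∀ z, bf J e z = 0 → ∀ v,
      eichM J e z *ᵥ (K *ᵥ v) = K *ᵥ (eichM J e z *ᵥ v) + lam z • (eichM J e z *ᵥ v) := by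
    intro z hz v
    have h := hlam z hz
    have h3 : eichM J e z * K = (K + lam z • (1 : Matrix (Fin a) (Fin a) F)) * eichM J e z := by
      rw [← h, Matrix.mul_assoc, eichM_neg_mul hJ h2 hee hz, Matrix.mul_one]
    rw [Matrix.mulVec_mulVec, h3, ← Matrix.mulVec_mulVec, Matrix.add_mulVec, Matrix.smul_mulVec, Matrix.one_mulVec]
  -- `bf (K e) e = 0`
  have hKee : bf J (K *ᵥ e) e = 0 := by
    have h := hc w1 hew1 e
    rw [eich_self hee hew1, eichM_mulVec] at h
    have h3 := congrArg (fun t => bf J t w1) h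
    simp only [bf_add_left, bf_sub_left, bf_smul_left] at h3
    rw [hew1] at h3
    have h4 : bf J (K *ᵥ e) e * bf J w1 w1 = 0 := by linear_combination -h3
    exact (mul_eq_zero.1 h4).resolve_right hw1
  -- (H1) `lam z = bf (K e) z`
  have hH1 : ∀ z, bf J e z = 0 → lam z = bf J (K *ᵥ e) z := by
    intro z hz
    have h := hc z hz e
    rw [eich_self hee hz, eichM_mulVec, hKee] at h
    have h3 : (bf J (K *ᵥ e) z - lam z) • e = 0 := by
      have h4 := congrArg (fun t => t - K *ᵥ e) h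
      simp only [add_sub_cancel_left] at h4
      rw [sub_smul, ← h4]
      simp
    have h5 := (smul_eq_zero.1 h3).resolve_right he0
    linear_combination -h5
  -- (H2) for anisotropic `w ⟂ e`
  have hH2 : ∀ w, bf J e w = 0 → ∃ c : F, bf J w w • (K *ᵥ e) = (-2 * lam w) • w + c • e := by
    intro w hw
    have hwe : bf J w e = 0 := by rw [hJ.symm, hw]
    have h := hc w hw w
    have h5 : bf J (K *ᵥ w) e = lam w := by
      rw [hK, hJ.symm w, hH1 w hw]
    rw [eich_perp hwe, eichM_mulVec, h5, Matrix.mulVec_add, Matrix.mulVec_smul] at h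
    refine ⟨bf J (K *ᵥ w) w - (2 : F)⁻¹ * bf J w w * lam w - lam w * bf J w w, ?_⟩
    funext i
    have hi := congrFun h i
    simp only [Pi.add_apply, Pi.sub_apply, Pi.smul_apply, smul_eq_mul] at hi ⊢
    linear_combination -hi
  obtain ⟨c1, hc1⟩ := hH2 w1 hew1
  obtain ⟨c2, hc2⟩ := hH2 w2 hew2
  have hl2 : lam w2 = 0 := by
    have h := congrArg (fun t => bf J t w2) hc1
    simp only [bf_add_left, bf_smul_left] at h
    rw [hw12, hew2, mul_zero, mul_zero, add_zero] at h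
    rw [hH1 w2 hew2]
    exact (mul_eq_zero.1 h).resolve_left hw1
  have hl1 : lam w1 = 0 := by
    have h := congrArg (fun t => bf J t w1) hc2
    simp only [bf_add_left, bf_smul_left] at h
    rw [hw21, hew1, mul_zero, mul_zero, add_zero] at h
    rw [hH1 w1 hew1]
    exact (mul_eq_zero.1 h).resolve_left hw2
  rw [hl1, mul_zero, zero_smul, zero_add] at hc1
  intro z hz
  rw [hH1 z hz]
  have h := congrArg (fun t => bf J t z) hc1
  simp only [bf_smul_left] at h
  rw [hz, mul_zero] at h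
  exact (mul_eq_zero.1 h).resolve_left hw1

/-- **(D)** `E e e ∉ S` for a commutative Eichler-invariant `S` -/
theorem E_not_mem (hJ : OrthG J) (h2 : (2 : F) ≠ 0) {S : Submodule F (Matrix (Fin a) (Fin a) F)}
    (hcomm : ∀ C ∈ S, ∀ D ∈ S, C * D = D * C)
    (hinv : ∀ e z, bf J e e = 0 → bf J e z = 0 → ∀ C ∈ S, eichM J e z * C * eichM J e (-z) ∈ S)
    {e f w : Fin a → F} (hee : bf J e e = 0) (hff : bf J f f = 0) (hef : bf J e f = 1) (hew : bf J e w = 0)
    (hfw : bf J f w = 0) (hww : bf J w w ≠ 0) : E J e e ∉ S := by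
  intro hEe
  have he0 : e ≠ 0 := by
    intro h
    rw [h, bf_zero_left] at hef
    exact zero_ne_one hef
  have hEe' := hinv f w hff hfw _ hEe
  rw [conj_E hJ h2 hff hfw, eich_partner (e := f) (z := w) (f := e) hef hew] at hEe'
  obtain ⟨e', he'⟩ : ∃ e' : Fin a → F, e' = e - w - ((2 : F)⁻¹ * bf J w w) • f := ⟨_, rfl⟩
  rw [← he'] at hEe'
  have hee' : bf J e e' = -((2 : F)⁻¹ * bf J w w) := by
    rw [he', bf_sub_right, bf_sub_right, bf_smul_right, hee, hew, hef]
    ring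
  have hee'0 : bf J e e' ≠ 0 := by
    rw [hee']
    exact neg_ne_zero.2 (mul_ne_zero (inv_ne_zero h2) hww)
  have hcm := hcomm _ hEe _ hEe'
  have h5 := congrArg (fun M => M *ᵥ e) hcm
  simp only [← Matrix.mulVec_mulVec, E_mulVec, hee, zero_smul, Matrix.mulVec_zero, Matrix.mulVec_smul] at h5
  rw [hJ.symm e' e, smul_smul] at h5
  exact he0 ((smul_eq_zero.1 h5).resolve_left (mul_ne_zero hee'0 hee'0))

/-- the S-lemma for `a ≥ 3`, given **(B)** as a hypothesis -/
theorem s_lemma_of_lam [Fintype F] (hJ : OrthG J) (h2 : (2 : F) ≠ 0) (ha : 3 ≤ a)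
    (hB : ∀ e : Fin a → F, e ≠ 0 → bf J e e = 0 → ∀ C : Matrix (Fin a) (Fin a) F, adj J C = C →
      ∀ lam : (Fin a → F) → F,
        (∀ z, bf J e z = 0 →
          eichM J e z * C * eichM J e (-z) = C + lam z • (1 : Matrix (Fin a) (Fin a) F)) →
        ∀ z, bf J e z = 0 → lam z = 0)
    (S : Submodule F (Matrix (Fin a) (Fin a) F)) (hsa : ∀ C ∈ S, adj J C = C)
    (h1 : (1 : Matrix (Fin a) (Fin a) F) ∈ S) (hcomm : ∀ C ∈ S, ∀ D ∈ S, C * D = D * C)
    (hinv : ∀ e z, bf J e e = 0 → bf J e z = 0 → ∀ C ∈ S, eichM J e z * C * eichM J e (-z) ∈ S) :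
    ∀ C ∈ S, ∃ c : F, C = c • (1 : Matrix (Fin a) (Fin a) F) := by
  classical
  by_contra hcon
  have hns : ∃ C ∈ S, ¬ ∃ c : F, C = c • (1 : Matrix (Fin a) (Fin a) F) := by
    by_contra h
    apply hcon
    intro C hC
    by_contra h'
    exact h ⟨C, hC, h'⟩
  -- a hyperbolic pair
  obtain ⟨Q₀, hQ₀, hQ₀'⟩ := Cfsg.Agent.Lib.Helper3.OTT.SymG.exists_quad (J := J) ⟨hJ.symm, hJ.nondeg⟩ h2
  have hnd : ∀ v : Fin a → F, v ≠ 0 → ∃ x, QuadraticMap.polar (⇑Q₀) v x ≠ 0 := by
    intro v hv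
    by_contra hcon
    exact hv (hJ.nondeg v (fun y => by
      rw [← hQ₀]
      exact not_not.1 (fun h => hcon ⟨y, h⟩)))
  obtain ⟨e, f, he, hf, hef0⟩ := Cfsg.Agent.Lib.Helper10.QGeo.exists_hyp_pair Q₀ hnd ha
  have hee : bf J e e = 0 := by rw [← hQ₀' e, he, mul_zero]
  have hff : bf J f f = 0 := by rw [← hQ₀' f, hf, mul_zero]
  have hef : bf J e f = 1 := by rw [← hQ₀]; exact hef0
  have hfe : bf J f e = 1 := by rw [hJ.symm, hef]
  have he0 : e ≠ 0 := by
    intro h
    rw [h, bf_zero_left] at hef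
    exact zero_ne_one hef
  -- an anisotropic vector orthogonal to `e, f`
  have hproj1 : ∀ x, ∃ x', (∀ i, bf J ((![e, f] : Fin 2 → Fin a → F) i) x' = 0) ∧
      ∀ u, (∀ i, bf J ((![e, f] : Fin 2 → Fin a → F) i) u = 0) → bf J u x' = bf J u x := by
    intro x
    refine ⟨x - bf J x f • e - bf J x e • f, ?_, ?_⟩
    · intro i
      fin_cases i
      · show bf J e (x - bf J x f • e - bf J x e • f) = 0
        rw [bf_sub_right, bf_sub_right, bf_smul_right, bf_smul_right, hee, hef, hJ.symm e x]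
        ring
      · show bf J f (x - bf J x f • e - bf J x e • f) = 0
        rw [bf_sub_right, bf_sub_right, bf_smul_right, bf_smul_right, hfe, hff, hJ.symm f x]
        ring
    · intro u hu
      have hu0 : bf J u e = 0 := by rw [hJ.symm]; exact hu 0
      have hu1 : bf J u f = 0 := by rw [hJ.symm]; exact hu 1
      rw [bf_sub_right, bf_sub_right, bf_smul_right, bf_smul_right, hu0, hu1]
      ring
  obtain ⟨w, hwp, hww⟩ := exists_aniso_perp hJ h2 (![e, f] : Fin 2 → Fin a → F) (by omega) hproj1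
  have hew : bf J e w = 0 := hwp 0
  have hfw : bf J f w = 0 := hwp 1
  -- (A)
  obtain ⟨K, hKS, hKns, hKd⟩ := exists_proj_fixed hJ h2 (⟨0, by omega⟩ : Fin a) h1 hee
    (fun z hz C hC => hinv e z hee hz C hC) hns
  choose! lam hlam using hKd
  -- (B)
  have hl0 := hB e he0 hee K (hsa K hKS) lam hlam
  -- (C)
  have hKc : ∀ z, bf J e z = 0 → eichM J e z * K = K * eichM J e z := by
    intro z hz
    have h := hlam z hz
    rw [hl0 z hz, zero_smul, add_zero] at h
    calc eichM J e z * K = eichM J e z * K * (eichM J e (-z) * eichM J e z) := by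
          rw [eichM_neg_mul hJ h2 hee hz, mul_one]
      _ = (eichM J e z * K * eichM J e (-z)) * eichM J e z := by simp only [Matrix.mul_assoc]
      _ = K * eichM J e z := by rw [h]
  obtain ⟨l, n, hKeq⟩ := comm_eq hJ h2 hee hef hew hww (sym_of_adj hJ (hsa K hKS)) hKc
  have hn : n ≠ 0 := by
    intro hn
    apply hKns
    exact ⟨l, by rw [hKeq, hn, zero_smul, add_zero]⟩
  have hEe : E J e e ∈ S := by
    have h : E J e e = n⁻¹ • (K - l • (1 : Matrix (Fin a) (Fin a) F)) := by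
      rw [hKeq, add_sub_cancel_left, smul_smul, inv_mul_cancel₀ hn, one_smul]
    rw [h]
    exact S.smul_mem _ (S.sub_mem hKS (S.smul_mem _ h1))
  -- (D)
  exact E_not_mem hJ h2 hcomm hinv hee hff hef hew hfw hww hEe

/-- **S-lemma for all `a ≥ 4`** (any type, any odd `q`) -/
theorem s_lemma_ge4 [Fintype F] (hJ : OrthG J) (h2 : (2 : F) ≠ 0) (ha : 4 ≤ a)
    (S : Submodule F (Matrix (Fin a) (Fin a) F)) (hsa : ∀ C ∈ S, adj J C = C)
    (h1 : (1 : Matrix (Fin a) (Fin a) F) ∈ S) (hcomm : ∀ C ∈ S, ∀ D ∈ S, C * D = D * C)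
    (hinv : ∀ e z, bf J e e = 0 → bf J e z = 0 → ∀ C ∈ S, eichM J e z * C * eichM J e (-z) ∈ S) :
    ∀ C ∈ S, ∃ c : F, C = c • (1 : Matrix (Fin a) (Fin a) F) := by
  refine s_lemma_of_lam hJ h2 (by omega) ?_ S hsa h1 hcomm hinv
  intro e he0 hee C hC lam hlam
  -- a partner of `e`
  obtain ⟨x, hx⟩ : ∃ x, bf J e x ≠ 0 := by
    by_contra hcon
    exact he0 (hJ.nondeg e (fun y => not_not.1 (fun h => hcon ⟨y, h⟩)))
  obtain ⟨f0, hf0⟩ : ∃ f0 : Fin a → F, f0 = (bf J e x)⁻¹ • x := ⟨_, rfl⟩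
  have hef0 : bf J e f0 = 1 := by rw [hf0, bf_smul_right, inv_mul_cancel₀ hx]
  obtain ⟨f, hf⟩ : ∃ f : Fin a → F, f = f0 - ((2 : F)⁻¹ * bf J f0 f0) • e := ⟨_, rfl⟩
  have hef : bf J e f = 1 := by
    rw [hf, bf_sub_right, bf_smul_right, hee, hef0]
    ring
  have hfe : bf J f e = 1 := by rw [hJ.symm, hef]
  have hf0e : bf J f0 e = 1 := by rw [hJ.symm, hef0]
  have hff : bf J f f = 0 := by
    rw [hf, bf_sub_left, bf_sub_right, bf_sub_right, bf_smul_left, bf_smul_left, bf_smul_right, bf_smul_right,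
      hee, hef0, hf0e]
    field_simp
    ring
  -- two orthogonal anisotropic vectors in `⟨e, f⟩^⟂`
  have hproj1 : ∀ x, ∃ x', (∀ i, bf J ((![e, f] : Fin 2 → Fin a → F) i) x' = 0) ∧
      ∀ u, (∀ i, bf J ((![e, f] : Fin 2 → Fin a → F) i) u = 0) → bf J u x' = bf J u x := by
    intro x
    refine ⟨x - bf J x f • e - bf J x e • f, ?_, ?_⟩
    · intro i
      fin_cases i
      · show bf J e (x - bf J x f • e - bf J x e • f) = 0
        rw [bf_sub_right, bf_sub_right, bf_smul_right, bf_smul_right, hee, hef, hJ.symm e x]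
        ring
      · show bf J f (x - bf J x f • e - bf J x e • f) = 0
        rw [bf_sub_right, bf_sub_right, bf_smul_right, bf_smul_right, hfe, hff, hJ.symm f x]
        ring
    · intro u hu
      have hu0 : bf J u e = 0 := by rw [hJ.symm]; exact hu 0
      have hu1 : bf J u f = 0 := by rw [hJ.symm]; exact hu 1
      rw [bf_sub_right, bf_sub_right, bf_smul_right, bf_smul_right, hu0, hu1]
      ring
  obtain ⟨w1, hw1p, hw1⟩ := exists_aniso_perp hJ h2 (![e, f] : Fin 2 → Fin a → F) (by omega) hproj1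
  have hew1 : bf J e w1 = 0 := hw1p 0
  have hfw1 : bf J f w1 = 0 := hw1p 1
  have hproj2 : ∀ x, ∃ x', (∀ i, bf J ((![e, f, w1] : Fin 3 → Fin a → F) i) x' = 0) ∧
      ∀ u, (∀ i, bf J ((![e, f, w1] : Fin 3 → Fin a → F) i) u = 0) → bf J u x' = bf J u x := by
    intro x
    refine ⟨x - bf J x f • e - bf J x e • f - (bf J x w1 / bf J w1 w1) • w1, ?_, ?_⟩
    · intro i
      fin_cases i
      · show bf J e (x - bf J x f • e - bf J x e • f - (bf J x w1 / bf J w1 w1) • w1) = 0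
        rw [bf_sub_right, bf_sub_right, bf_sub_right, bf_smul_right, bf_smul_right, bf_smul_right, hee, hef, hew1,
          hJ.symm e x]
        ring
      · show bf J f (x - bf J x f • e - bf J x e • f - (bf J x w1 / bf J w1 w1) • w1) = 0
        rw [bf_sub_right, bf_sub_right, bf_sub_right, bf_smul_right, bf_smul_right, bf_smul_right, hfe, hff, hfw1,
          hJ.symm f x]
        ring
      · show bf J w1 (x - bf J x f • e - bf J x e • f - (bf J x w1 / bf J w1 w1) • w1) = 0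
        rw [bf_sub_right, bf_sub_right, bf_sub_right, bf_smul_right, bf_smul_right, bf_smul_right, hJ.symm w1 e,
          hJ.symm w1 f, hew1, hfw1, hJ.symm w1 x]
        field_simp
        ring
    · intro u hu
      have hu0 : bf J u e = 0 := by rw [hJ.symm]; exact hu 0
      have hu1 : bf J u f = 0 := by rw [hJ.symm]; exact hu 1
      have hu2 : bf J u w1 = 0 := by rw [hJ.symm]; exact hu 2
      rw [bf_sub_right, bf_sub_right, bf_sub_right, bf_smul_right, bf_smul_right, bf_smul_right, hu0, hu1, hu2]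
      ring
  obtain ⟨w2, hw2p, hw2⟩ := exists_aniso_perp hJ h2 (![e, f, w1] : Fin 3 → Fin a → F) (by omega) hproj2
  have hew2 : bf J e w2 = 0 := hw2p 0
  have hw12 : bf J w1 w2 = 0 := hw2p 2
  exact lam_zero_ge4 hJ h2 hee hef hew1 hew2 hw12 hw1 hw2 (sym_of_adj hJ hC) lam hlam

end Cfsg.Agent.Lib.Helper21.OTSGen
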