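import Cfsg.Agent.S0904
import Cfsg.Agent.Lib.Helper7.PrimeSylowNC
import Cfsg.Agent.Lib.Helper11.ExcSimple
import Cfsg.Agent.Lib.Helper11.ExcDegree5
import Cfsg.Agent.Lib.Helper11.Clifford5
import Cfsg.Agent.Lib.Helper21.BSWCountE
import Cfsg.Agent.Lib.Helper21.BSWCountG

/-!
# No simple group of order 4032

`4032 = 2^6 * 3^2 * 7`.  A Sylow 7-subgroup `P` is self-centralising with `|N(P)| = 14`.  The
Brauer-Suzuki exceptional character data force one non-exceptional character of degree `8` and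
three exceptional characters of degree `9`, all taking the same (odd) value at an involution `t`
inverting a generator `x` of `P`; the class-algebra count
`7 |C(t)|^2 = |G| ∑ χ(t)^2 χ(x) / χ(1)` then has no solution.
-/

set_option autoImplicit false

open Cfsg
open Cfsg.Agent.Lib.Helper2
open Cfsg.Agent.Lib.Helper7
open Cfsg.Agent.Lib.Helper11
open Cfsg.Agent.Lib.Helper21.BSWCount
open scoped ComplexConjugate

namespace Cfsg.Agent.Lib.Helper21.Ord4032

set_option maxRecDepth 100000 in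
theorem brute_4032 : ∀ a ≤ 8, ∀ b ≤ 9, ∀ c ≤ 72, 1 ≤ c →
    c * c + 256 * b * b + 2304 * a ≠ 288 * a * a + 2304 * b := by
  decide

set_option maxHeartbeats 1600000 in
theorem no_4032_core {G : Type*} [Group G] [Finite G] [IsSimpleGroup G] : Nat.card G ≠ 4032 := by
  intro hG
  classical
  haveI : Fact (Nat.Prime 7) := ⟨by norm_num⟩
  obtain ⟨S⟩ : Nonempty (Sylow 7 G) := inferInstance
  have hC := Cfsg.Agent.S0904.result 2 3 7 6 2 Nat.prime_two Nat.prime_three (by norm_num)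
    (by norm_num) (by norm_num) (by rw [hG]; norm_num) S
  have hC' : Subgroup.centralizer ((S : Subgroup G) : Set G) = (S : Subgroup G) := hC
  have hS : Nat.card (S : Subgroup G) = 7 :=
    card_eq_prime_of_sylow S (by rw [hG]; norm_num) (by rw [hG]; norm_num)
  have hrel := relIndex_centralizer_normalizer_dvd_sub_one (S : Subgroup G) (by norm_num : Nat.Prime 7) hS
  rw [hC'] at hrel
  have hle : (S : Subgroup G) ≤ Subgroup.normalizer ((S : Subgroup G) : Set G) :=
    Subgroup.le_normalizer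
  have hN : Nat.card (Subgroup.normalizer ((S : Subgroup G) : Set G))
      = 7 * (S : Subgroup G).relIndex (Subgroup.normalizer ((S : Subgroup G) : Set G)) := by
    have h1 := Subgroup.card_mul_index
      ((S : Subgroup G).subgroupOf (Subgroup.normalizer ((S : Subgroup G) : Set G)))
    rw [Nat.card_congr (Subgroup.subgroupOfEquivOfLe hle).toEquiv, hS] at h1
    exact h1.symm
  have hn7 : Nat.card (Sylow 7 G) = (Subgroup.normalizer ((S : Subgroup G) : Set G)).index :=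
    Sylow.card_eq_index_normalizer S
  have hmod : Nat.card (Sylow 7 G) ≡ 1 [MOD 7] := card_sylow_modEq_one 7 G
  have hidx := Subgroup.card_mul_index (Subgroup.normalizer ((S : Subgroup G) : Set G))
  rw [hN, hG, ← hn7] at hidx
  set e := (S : Subgroup G).relIndex (Subgroup.normalizer ((S : Subgroup G) : Set G)) with he
  set n := Nat.card (Sylow 7 G) with hn
  have he2 : e = 2 := by
    have h6 : e ∣ 6 := hrel
    have hle6 : e ≤ 6 := Nat.le_of_dvd (by norm_num) h6
    have hmod' : n % 7 = 1 := hmod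
    interval_cases e <;> omega
  rw [he2] at hN
  clear hidx hmod hn7 hn he2 hrel he
  -- the exceptional character data
  set P : Subgroup G := (S : Subgroup G) with hPdef
  haveI : Fintype G := Fintype.ofFinite G
  haveI : Fintype (IrrCharacter G) := Fintype.ofFinite _
  haveI : Fintype (Subgroup.normalizer (P : Set G)) := Fintype.ofFinite _
  have hp7 : Nat.Prime 7 := by norm_num
  have hHn : ∀ x ∈ Subgroup.normalizer (P : Set G), ∀ h ∈ P, x * h * x⁻¹ ∈ P := by
    intro x hx h hh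
    exact (Subgroup.mem_normalizer_iff.1 hx h).1 hh
  have hab : ∀ a ∈ P, ∀ b ∈ P, a * b = b * a := by
    intro a ha b hb
    have ha' : a ∈ Subgroup.centralizer (P : Set G) := by rw [hC']; exact ha
    exact ((Subgroup.mem_centralizer_iff.1 ha') b hb).symm
  have hcent : ∀ h ∈ P, h ≠ 1 → ∀ x ∈ Subgroup.normalizer (P : Set G),
      x * h = h * x → x ∈ P := by
    intro h hh hh1 x _ hxh
    rw [← hC', Subgroup.mem_centralizer_iff]
    intro y hy
    have hy' : y ∈ Subgroup.zpowers h := by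
      rw [zpowers_eq_of_prime_card P hp7 hS hh hh1]
      exact hy
    obtain ⟨k, rfl⟩ := Subgroup.mem_zpowers_iff.1 hy'
    have hc : Commute x h := hxh
    exact (hc.zpow_right k).symm.eq
  have hTI := isTISubset_of_prime_card P hp7 hS
  haveI hKn : (P.subgroupOf (Subgroup.normalizer (P : Set G))).Normal :=
    subgroupOf_normal_of_conj P _ hHn
  haveI : Fintype (ExcIdx P (Subgroup.normalizer (P : Set G))) := Fintype.ofFinite _
  have hidx : (P.subgroupOf (Subgroup.normalizer (P : Set G))).index = 2 := by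
    have h1 := Subgroup.card_mul_index (P.subgroupOf (Subgroup.normalizer (P : Set G)))
    rw [Nat.card_congr (Subgroup.subgroupOfEquivOfLe hle).toEquiv, hS, hN] at h1
    omega
  have hcm := exc_card_mul P (Subgroup.normalizer (P : Set G)) hle hcent hab
  rw [hidx, hS, ← Nat.card_eq_fintype_card] at hcm
  have hcard : Nat.card (ExcIdx P (Subgroup.normalizer (P : Set G))) = 3 := by omega
  obtain ⟨ε, m₀, x₀, f, Nz, m, d, hε, hinj, hd, hdf, htriv, hmtriv, hNz, hmv, hcong, -, hsame,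
    hnorm, hdeg, -⟩ :=
    exc_degree_main2 P (Subgroup.normalizer (P : Set G)) hHn hcent hTI rfl hab
      (by rw [hcard]; norm_num)
  rw [hcard, hidx] at hnorm
  rw [hcard] at hdeg
  rw [hS] at hcong
  push_cast at hnorm hdeg hcong
  have hna : ¬ ∀ a b : G, a * b = b * a :=
    not_comm_of_normalizer_card_lt P (by rw [hN, hG]; norm_num)
  have hdvd : ∀ χ : IrrCharacter G, d χ ∣ 4032 := by
    intro χ
    obtain ⟨d', h1, h2⟩ := IsIrrCharacter.exists_degree_dvd_card χ.2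
    have : (d χ : ℂ) = (d' : ℂ) := by rw [← hd χ, h1]
    have h3 : d χ = d' := by exact_mod_cast this
    rw [h3, ← hG]
    exact h2
  set τ₀ : IrrCharacter G := trivialIrr G with hτ₀
  have hτ₀v : ∀ g : G, (τ₀ : G → ℂ) g = 1 := fun g => rfl
  have hdτ₀ : d τ₀ = 1 := by
    have := hd τ₀
    rw [hτ₀v] at this
    exact_mod_cast this.symm
  have hτ₀Nz : τ₀ ∈ Nz := (hNz τ₀).2 ⟨htriv, by rw [hmtriv]; norm_num⟩
  set R : Finset (IrrCharacter G) := Nz.erase τ₀ with hR
  have hRm : ∀ χ ∈ R, m χ ≠ 0 := fun χ hχ => ((hNz χ).1 (Finset.mem_of_mem_erase hχ)).2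
  have hnorm' : ∑ χ ∈ R, (m χ) ^ 2 + 3 * m₀ ^ 2 - 2 * ε * m₀ = 1 := by
    rw [← Finset.add_sum_erase Nz (fun χ => (m χ) ^ 2) hτ₀Nz, hmtriv] at hnorm
    linarith
  have hdeg' : 1 + ∑ χ ∈ R, m χ * (d χ : ℤ) + (3 * m₀ - ε) * (x₀ : ℤ) = 0 := by
    rw [← Finset.add_sum_erase Nz (fun χ => m χ * (d χ : ℤ)) hτ₀Nz, hmtriv, hdτ₀] at hdeg
    push_cast at hdeg
    linarith
  have hRnn : (0 : ℤ) ≤ ∑ χ ∈ R, (m χ) ^ 2 := Finset.sum_nonneg (fun χ _ => sq_nonneg _)
  have hm₀ : m₀ = 0 ∨ m₀ = ε := by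
    have h1 : m₀ ≤ 1 := by rcases hε with rfl | rfl <;> nlinarith
    have h2 : -1 ≤ m₀ := by rcases hε with rfl | rfl <;> nlinarith
    rcases hε with rfl | rfl <;> interval_cases m₀ <;> omega
  obtain ⟨θ₀⟩ : Nonempty (ExcIdx P (Subgroup.normalizer (P : Set G))) := by
    rw [← Finite.card_pos_iff (α := ExcIdx P (Subgroup.normalizer (P : Set G))), hcard]
    norm_num
  have hx₀dvd : x₀ ∣ 4032 := by rw [← hdf θ₀]; exact hdvd _
  rcases hm₀ with hm0 | hm0
  swap
  · -- m₀ = ε: impossible by parity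
    rw [hm0] at hnorm' hdeg'
    have hR0 : ∑ χ ∈ R, (m χ) ^ 2 = 0 := by
      rcases hε with rfl | rfl <;> linarith
    have hc := card_le_sum_sq R m hRm
    rw [hR0] at hc
    have hRe : R = ∅ := by
      rw [← Finset.card_eq_zero]
      omega
    rw [hRe, Finset.sum_empty] at hdeg'
    rcases hε with rfl | rfl <;> omega
  · -- m₀ = 0
    rw [hm0] at hnorm' hdeg'
    have hR1 : ∑ χ ∈ R, (m χ) ^ 2 = 1 := by linarith
    obtain ⟨χ₁, hRχ, hδ⟩ := exc_T_one R m hRm hR1
    have hχ₁R : χ₁ ∈ R := by rw [hRχ]; simp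
    have hχ₁τ : χ₁ ≠ τ₀ := (Finset.mem_erase.1 hχ₁R).1
    have hχ₁Nz : χ₁ ∈ Nz := Finset.mem_of_mem_erase hχ₁R
    have hχ₁f : χ₁ ∉ Set.range f := ((hNz χ₁).1 hχ₁Nz).1
    rw [hRχ, Finset.sum_singleton] at hdeg'
    have hd11 : d χ₁ ≠ 1 := by
      intro h1
      apply hχ₁τ
      apply eq_trivialIrr_of_degree_one hna χ₁
      rw [hd χ₁, h1]
      simp
    have hcong1 := hcong χ₁ hχ₁f
    have hd1mem : d χ₁ ∈ Nat.divisors 4032 := Nat.mem_divisors.2 ⟨hdvd χ₁, by norm_num⟩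
    have hxmem : x₀ ∈ Nat.divisors 4032 := Nat.mem_divisors.2 ⟨hx₀dvd, by norm_num⟩
    simp only [Nat.divisors_ofNat, Finset.mem_insert, Finset.mem_singleton] at hd1mem hxmem
    have hsol : ε = 1 ∧ m χ₁ = 1 ∧ d χ₁ = 8 ∧ x₀ = 9 := by
      clear hnorm' hnorm hdeg hRnn hR1
      rcases hε with rfl | rfl <;> rcases hδ with h | h <;> rw [h] at hcong1 hdeg' <;> omega
    obtain ⟨rfl, hm1, hd1, rfl⟩ := hsol
    clear hd1mem hxmem hcong1 hdeg' hnorm' hnorm hdeg
    -- local elements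
    obtain ⟨x, t, hox, hzx, hCx, htN, htt, ht1, htx⟩ :=
      exists_local_setup P hp7 (by norm_num) hS hC' (by rw [hN]; norm_num)
    have hodd : Odd (orderOf x) := by rw [hox]; decide
    have hx1 : x ≠ 1 := by
      intro h
      rw [h, orderOf_one] at hox
      omega
    have hxP : x ∈ P := by rw [← hzx]; exact Subgroup.mem_zpowers x
    have hxiP : x⁻¹ ∈ P := inv_mem hxP
    have hxi1 : x⁻¹ ≠ 1 := inv_ne_one.2 hx1
    have hnc : ∀ k : G, k * t * k⁻¹ ∉ P :=
      not_conj_mem_of_involution htt ht1 P (by rw [hS]; decide)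
    have hτ : ∀ θ, (f θ : G → ℂ) t = (f θ₀ : G → ℂ) t := fun θ => hsame θ θ₀ t hnc
    obtain ⟨aτ, dτ, haτ, hdτ1, hτv⟩ :=
      exists_value_degree_at_involution htt ht1 (IsIrrCharacter.isCharacter (f θ₀).2)
    have hdτ9 : dτ = 9 := by
      have h1 := hd (f θ₀)
      rw [hdf θ₀, hdτ1] at h1
      exact_mod_cast h1
    rw [hdτ9] at haτ hτv
    obtain ⟨a₁, d₁, ha₁, hd₁1, hkv⟩ :=
      exists_value_degree_at_involution htt ht1 (IsIrrCharacter.isCharacter χ₁.2)
    have hd₁8 : d₁ = 8 := by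
      have h1 := hd χ₁
      rw [hd1, hd₁1] at h1
      exact_mod_cast h1
    rw [hd₁8] at ha₁ hkv
    clear hdτ1 hd₁1 hdτ9 hd₁8
    -- splitting sums over the irreducible characters
    have hsplit : ∀ F : IrrCharacter G → ℂ,
        (∀ χ, χ ∉ Set.range f → m χ = 0 → F χ = 0) →
        ∑ χ, F χ = ∑ θ, F (f θ) + (F τ₀ + F χ₁) := by
      intro F hF
      rw [← Finset.sum_add_sum_compl (Finset.univ.image f) F,
        Finset.sum_image (fun a _ b _ h => hinj h)]
      congr 1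
      have hsub : Nz ⊆ (Finset.univ.image f)ᶜ := by
        intro χ hχ
        rw [Finset.mem_compl, Finset.mem_image]
        rintro ⟨θ, -, rfl⟩
        exact ((hNz _).1 hχ).1 ⟨θ, rfl⟩
      rw [← Finset.sum_subset hsub, ← Finset.add_sum_erase Nz F hτ₀Nz, ← hR, hRχ,
        Finset.sum_singleton]
      intro χ hχ hχNz
      have hχf : χ ∉ Set.range f := by
        rintro ⟨θ, rfl⟩
        rw [Finset.mem_compl, Finset.mem_image] at hχ
        exact hχ ⟨θ, Finset.mem_univ _, rfl⟩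
      apply hF χ hχf
      by_contra h0
      exact hχNz ((hNz χ).2 ⟨hχf, h0⟩)
    have hmxi : ∀ χ, χ ∉ Set.range f → (χ : G → ℂ) x⁻¹ = (m χ : ℂ) :=
      fun χ hχ => hmv χ hχ x⁻¹ hxiP hxi1
    have hsumθ : ∑ θ, (f θ : G → ℂ) x⁻¹ = -1 := by
      have h := sum_irr_mul_one x⁻¹
      rw [if_neg hxi1, hsplit (fun χ => (χ : G → ℂ) x⁻¹ * (χ : G → ℂ) 1)
        (by intro χ hχ h0; rw [hmxi χ hχ, h0]; simp)] at h
      simp only [hτ₀v] at h
      rw [hmxi χ₁ hχ₁f, hm1, hd χ₁, hd1] at h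
      have h2 : ∑ θ, (f θ : G → ℂ) x⁻¹ * (f θ : G → ℂ) 1
          = (∑ θ, (f θ : G → ℂ) x⁻¹) * 9 := by
        rw [Finset.sum_mul]
        apply Finset.sum_congr rfl
        intro θ _
        rw [hd (f θ), hdf θ]
        norm_num
      rw [h2] at h
      push_cast at h
      linear_combination (1 / 9 : ℂ) * h
    have hid := bsw_identity t x hodd hCx htt htx
    rw [hox, hG, hsplit (fun χ => (χ : G → ℂ) t * (χ : G → ℂ) t * (χ : G → ℂ) x⁻¹
        / (χ : G → ℂ) 1)
      (by intro χ hχ h0; rw [hmxi χ hχ, h0]; simp)] at hid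
    simp only [hτ₀v] at hid
    rw [hmxi χ₁ hχ₁f, hm1, hd χ₁, hd1, hkv] at hid
    have h3 : ∑ θ, (f θ : G → ℂ) t * (f θ : G → ℂ) t * (f θ : G → ℂ) x⁻¹ / (f θ : G → ℂ) 1
        = ((2 * (aτ : ℂ) - ((9 : ℕ) : ℂ)) * (2 * (aτ : ℂ) - ((9 : ℕ) : ℂ)) / 9)
          * ∑ θ, (f θ : G → ℂ) x⁻¹ := by
      rw [Finset.mul_sum]
      apply Finset.sum_congr rfl
      intro θ _
      rw [hτ θ, hτv, hd (f θ), hdf θ]
      push_cast
      ring
    rw [h3, hsumθ] at hid
    set c : ℕ := Nat.card (Subgroup.centralizer ({t} : Set G)) with hc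
    have hc1 : 1 ≤ c := Nat.card_pos
    have hQ : (c : ℤ) * c = 576 + 72 * ((2 * (a₁ : ℤ) - 8) * (2 * (a₁ : ℤ) - 8))
        - 64 * ((2 * (aτ : ℤ) - 9) * (2 * (aτ : ℤ) - 9)) := by
      have : (((c : ℤ) * c : ℤ) : ℂ) = ((576 + 72 * ((2 * (a₁ : ℤ) - 8) * (2 * (a₁ : ℤ) - 8))
          - 64 * ((2 * (aτ : ℤ) - 9) * (2 * (aτ : ℤ) - 9)) : ℤ) : ℂ) := by
        push_cast at hid ⊢
        linear_combination (1 / 7 : ℂ) * hid
      exact_mod_cast this
    have hc72 : c ≤ 72 := by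
      have h1 : (a₁ : ℤ) ≤ 8 := by exact_mod_cast ha₁
      have h2 : (0 : ℤ) ≤ a₁ := Int.natCast_nonneg _
      have h3 : (2 * (a₁ : ℤ) - 8) * (2 * (a₁ : ℤ) - 8) ≤ 64 := by nlinarith
      have h4 : (0 : ℤ) ≤ (2 * (aτ : ℤ) - 9) * (2 * (aτ : ℤ) - 9) := mul_self_nonneg _
      have h5 : (c : ℤ) * c ≤ 5184 := by linarith
      have h6 : (c : ℤ) ≤ 72 := by nlinarith
      exact_mod_cast h6
    have hnat : c * c + 256 * aτ * aτ + 2304 * a₁ = 288 * a₁ * a₁ + 2304 * aτ := by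
      have : ((c * c + 256 * aτ * aτ + 2304 * a₁ : ℕ) : ℤ)
          = ((288 * a₁ * a₁ + 2304 * aτ : ℕ) : ℤ) := by
        push_cast
        linear_combination hQ
      exact_mod_cast this
    exact brute_4032 a₁ ha₁ aτ haτ c hc72 hc1 hnat

/-- No simple group of order 4032 (in the form requested by the S0983 assembly). -/
theorem no_4032 {G : Type*} [Group G] [Finite G] [IsSimpleGroup G]
    (_hG : ¬ IsMulCommutative G) : Nat.card G ≠ 4032 :=
  no_4032_core

end Cfsg.Agent.Lib.Helper21.Ord4032
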