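import Cfsg.Agent.S0904
import Cfsg.Agent.Lib.Helper7.PrimeSylowNC
import Cfsg.Agent.Lib.Helper11.ExcSimple
import Cfsg.Agent.Lib.Helper11.Clifford5
import Cfsg.Agent.Lib.Helper21.BSWCountE
import Cfsg.Agent.Lib.Helper21.BSWCountF

/-!
# No simple group of order 4320

`4320 = 2^5 * 3^3 * 5`.  A Sylow 5-subgroup `P` is self-centralising with `|N(P)| = 20`, so all
elements of `P \ {1}` are conjugate and every irreducible character takes a constant integer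
value on them.  Column orthogonality leaves four non-principal characters with values `±1`,
the degree equation leaves four degree patterns, and the Brauer-Suzuki class-algebra count
`5 |C(t)|^2 = |G| ∑ χ(t)^2 χ(x) / χ(1)` for an involution `t` inverting `x` kills them all.
-/

set_option autoImplicit false

open Cfsg
open Cfsg.Agent.Lib.Helper2
open Cfsg.Agent.Lib.Helper7
open Cfsg.Agent.Lib.Helper11
open Cfsg.Agent.Lib.Helper21.BSWCount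
open scoped ComplexConjugate

namespace Cfsg.Agent.Lib.Helper21.Ord4320

theorem type_4320 (m : ℤ) (d l a : ℕ) (hm : m = 1 ∨ m = -1) (hd : d ∣ 4320) (hd1 : d ≠ 1)
    (hdsq : d * d ≤ 4320) (hdl : (d : ℤ) + 4 * m = 5 * l) (hal : a ≤ l) :
    ∃ E K : ℤ, K = (2 * (a : ℤ) - l) * (2 * (a : ℤ) - l) ∧
      (E : ℂ) = 864 * (((2 * (a : ℤ) - l : ℤ) : ℂ) * ((2 * (a : ℤ) - l : ℤ) : ℂ) * (m : ℂ))
        / (d : ℂ) ∧
      ((m * d = 6 ∧ E = 144 * K ∧ (K = 0 ∨ K = 4)) ∨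
       (m * d = 16 ∧ E = 54 * K ∧ (K = 0 ∨ K = 4 ∨ K = 16)) ∨
       (m * d = 36 ∧ E = 24 * K ∧ (K = 0 ∨ K = 4 ∨ K = 16 ∨ K = 36 ∨ K = 64)) ∨
       (m * d = -4 ∧ E = 0 ∧ K = 0) ∨
       (m * d = -9 ∧ E = -96 ∧ K = 1) ∨
       (m * d = -24 ∧ E = -36 * K ∧ (K = 0 ∨ K = 4 ∨ K = 16)) ∨
       (m * d = -54)) := by
  have hd65 : d ≤ 65 := by
    by_contra h
    have h66 : 66 ≤ d := by omega
    have := Nat.mul_le_mul h66 h66
    omega
  clear hdsq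
  rcases hm with rfl | rfl
  · have h3 : d = 6 ∨ d = 16 ∨ d = 36 := by
      clear hal
      interval_cases d <;> omega
    clear hd hd1 hd65
    rcases h3 with rfl | rfl | rfl
    · obtain rfl : l = 2 := by omega
      clear hdl
      interval_cases a
      · exact ⟨144 * 4, 4, by norm_num, by norm_num, by norm_num⟩
      · exact ⟨144 * 0, 0, by norm_num, by norm_num, by norm_num⟩
      · exact ⟨144 * 4, 4, by norm_num, by norm_num, by norm_num⟩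
    · obtain rfl : l = 4 := by omega
      clear hdl
      interval_cases a
      · exact ⟨54 * 16, 16, by norm_num, by norm_num, by norm_num⟩
      · exact ⟨54 * 4, 4, by norm_num, by norm_num, by norm_num⟩
      · exact ⟨54 * 0, 0, by norm_num, by norm_num, by norm_num⟩
      · exact ⟨54 * 4, 4, by norm_num, by norm_num, by norm_num⟩
      · exact ⟨54 * 16, 16, by norm_num, by norm_num, by norm_num⟩
    · obtain rfl : l = 8 := by omega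
      clear hdl
      interval_cases a
      · exact ⟨24 * 64, 64, by norm_num, by norm_num, by norm_num⟩
      · exact ⟨24 * 36, 36, by norm_num, by norm_num, by norm_num⟩
      · exact ⟨24 * 16, 16, by norm_num, by norm_num, by norm_num⟩
      · exact ⟨24 * 4, 4, by norm_num, by norm_num, by norm_num⟩
      · exact ⟨24 * 0, 0, by norm_num, by norm_num, by norm_num⟩
      · exact ⟨24 * 4, 4, by norm_num, by norm_num, by norm_num⟩
      · exact ⟨24 * 16, 16, by norm_num, by norm_num, by norm_num⟩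
      · exact ⟨24 * 36, 36, by norm_num, by norm_num, by norm_num⟩
      · exact ⟨24 * 64, 64, by norm_num, by norm_num, by norm_num⟩
  · have h4 : d = 4 ∨ d = 9 ∨ d = 24 ∨ d = 54 := by
      clear hal
      interval_cases d <;> omega
    clear hd hd1 hd65
    rcases h4 with rfl | rfl | rfl | rfl
    · obtain rfl : l = 0 := by omega
      clear hdl
      interval_cases a
      exact ⟨0, 0, by norm_num, by norm_num, by norm_num⟩
    · obtain rfl : l = 1 := by omega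
      clear hdl
      interval_cases a
      · exact ⟨-96, 1, by norm_num, by norm_num, by norm_num⟩
      · exact ⟨-96, 1, by norm_num, by norm_num, by norm_num⟩
    · obtain rfl : l = 4 := by omega
      clear hdl
      interval_cases a
      · exact ⟨-36 * 16, 16, by norm_num, by norm_num, by norm_num⟩
      · exact ⟨-36 * 4, 4, by norm_num, by norm_num, by norm_num⟩
      · exact ⟨-36 * 0, 0, by norm_num, by norm_num, by norm_num⟩
      · exact ⟨-36 * 4, 4, by norm_num, by norm_num, by norm_num⟩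
      · exact ⟨-36 * 16, 16, by norm_num, by norm_num, by norm_num⟩
    · refine ⟨-16 * ((2 * (a : ℤ) - l) * (2 * (a : ℤ) - l)), _, rfl, ?_, ?_⟩
      · push_cast
        ring
      · norm_num

theorem sq_mod_nine (c : ℤ) :
    (c * c) % 9 = 0 ∨ (c * c) % 9 = 1 ∨ (c * c) % 9 = 4 ∨ (c * c) % 9 = 7 := by
  have h1 : 0 ≤ c % 9 := Int.emod_nonneg c (by norm_num)
  have h2 : c % 9 < 9 := Int.emod_lt_of_pos c (by norm_num)
  rw [Int.mul_emod]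
  interval_cases (c % 9) <;> norm_num

set_option maxHeartbeats 4000000 in
theorem final_4320 (c Q : ℤ) (hQ : Q = c * c) (hc0 : 0 ≤ c)
    (s₁ s₂ s₃ s₄ E₁ E₂ E₃ E₄ K₁ K₂ K₃ K₄ : ℤ)
    (hdeg : 1 + (s₁ + (s₂ + (s₃ + s₄))) = 0)
    (hid : Q = 864 + (E₁ + (E₂ + (E₃ + E₄))))
    (hcol : 1 + (K₁ + (K₂ + (K₃ + K₄))) ≤ c)
    (h1 : (s₁ = 6 ∧ E₁ = 144 * K₁ ∧ (K₁ = 0 ∨ K₁ = 4)) ∨
       (s₁ = 16 ∧ E₁ = 54 * K₁ ∧ (K₁ = 0 ∨ K₁ = 4 ∨ K₁ = 16)) ∨
       (s₁ = 36 ∧ E₁ = 24 * K₁ ∧ (K₁ = 0 ∨ K₁ = 4 ∨ K₁ = 16 ∨ K₁ = 36 ∨ K₁ = 64)) ∨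
       (s₁ = -4 ∧ E₁ = 0 ∧ K₁ = 0) ∨
       (s₁ = -9 ∧ E₁ = -96 ∧ K₁ = 1) ∨
       (s₁ = -24 ∧ E₁ = -36 * K₁ ∧ (K₁ = 0 ∨ K₁ = 4 ∨ K₁ = 16)) ∨
       (s₁ = -54))
    (h2 : (s₂ = 6 ∧ E₂ = 144 * K₂ ∧ (K₂ = 0 ∨ K₂ = 4)) ∨
       (s₂ = 16 ∧ E₂ = 54 * K₂ ∧ (K₂ = 0 ∨ K₂ = 4 ∨ K₂ = 16)) ∨
       (s₂ = 36 ∧ E₂ = 24 * K₂ ∧ (K₂ = 0 ∨ K₂ = 4 ∨ K₂ = 16 ∨ K₂ = 36 ∨ K₂ = 64)) ∨
       (s₂ = -4 ∧ E₂ = 0 ∧ K₂ = 0) ∨
       (s₂ = -9 ∧ E₂ = -96 ∧ K₂ = 1) ∨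
       (s₂ = -24 ∧ E₂ = -36 * K₂ ∧ (K₂ = 0 ∨ K₂ = 4 ∨ K₂ = 16)) ∨
       (s₂ = -54))
    (h3 : (s₃ = 6 ∧ E₃ = 144 * K₃ ∧ (K₃ = 0 ∨ K₃ = 4)) ∨
       (s₃ = 16 ∧ E₃ = 54 * K₃ ∧ (K₃ = 0 ∨ K₃ = 4 ∨ K₃ = 16)) ∨
       (s₃ = 36 ∧ E₃ = 24 * K₃ ∧ (K₃ = 0 ∨ K₃ = 4 ∨ K₃ = 16 ∨ K₃ = 36 ∨ K₃ = 64)) ∨
       (s₃ = -4 ∧ E₃ = 0 ∧ K₃ = 0) ∨
       (s₃ = -9 ∧ E₃ = -96 ∧ K₃ = 1) ∨
       (s₃ = -24 ∧ E₃ = -36 * K₃ ∧ (K₃ = 0 ∨ K₃ = 4 ∨ K₃ = 16)) ∨
       (s₃ = -54))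
    (h4 : (s₄ = 6 ∧ E₄ = 144 * K₄ ∧ (K₄ = 0 ∨ K₄ = 4)) ∨
       (s₄ = 16 ∧ E₄ = 54 * K₄ ∧ (K₄ = 0 ∨ K₄ = 4 ∨ K₄ = 16)) ∨
       (s₄ = 36 ∧ E₄ = 24 * K₄ ∧ (K₄ = 0 ∨ K₄ = 4 ∨ K₄ = 16 ∨ K₄ = 36 ∨ K₄ = 64)) ∨
       (s₄ = -4 ∧ E₄ = 0 ∧ K₄ = 0) ∨
       (s₄ = -9 ∧ E₄ = -96 ∧ K₄ = 1) ∨
       (s₄ = -24 ∧ E₄ = -36 * K₄ ∧ (K₄ = 0 ∨ K₄ = 4 ∨ K₄ = 16)) ∨
       (s₄ = -54)) : False := by
  have h9 := sq_mod_nine c
  rw [← hQ] at h9
  rcases h1 with ⟨hs1, hE1, hK1⟩ | ⟨hs1, hE1, hK1⟩ | ⟨hs1, hE1, hK1⟩ | ⟨hs1, hE1, hK1⟩ |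
    ⟨hs1, hE1, hK1⟩ | ⟨hs1, hE1, hK1⟩ | hs1 <;>
  rcases h2 with ⟨hs2, hE2, hK2⟩ | ⟨hs2, hE2, hK2⟩ | ⟨hs2, hE2, hK2⟩ | ⟨hs2, hE2, hK2⟩ |
    ⟨hs2, hE2, hK2⟩ | ⟨hs2, hE2, hK2⟩ | hs2 <;>
  rcases h3 with ⟨hs3, hE3, hK3⟩ | ⟨hs3, hE3, hK3⟩ | ⟨hs3, hE3, hK3⟩ | ⟨hs3, hE3, hK3⟩ |
    ⟨hs3, hE3, hK3⟩ | ⟨hs3, hE3, hK3⟩ | hs3 <;>
  rcases h4 with ⟨hs4, hE4, hK4⟩ | ⟨hs4, hE4, hK4⟩ | ⟨hs4, hE4, hK4⟩ | ⟨hs4, hE4, hK4⟩ |
    ⟨hs4, hE4, hK4⟩ | ⟨hs4, hE4, hK4⟩ | hs4 <;>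
  first
    | omega
    | (have hQle : Q ≤ 2304 := by omega
       have hcle : c ≤ 48 := by nlinarith
       interval_cases c <;> omega)

set_option maxHeartbeats 1600000 in
theorem no_4320_core {G : Type*} [Group G] [Finite G] [IsSimpleGroup G] : Nat.card G ≠ 4320 := by
  intro hG
  classical
  haveI : Fact (Nat.Prime 5) := ⟨by norm_num⟩
  obtain ⟨S⟩ : Nonempty (Sylow 5 G) := inferInstance
  have hC := Cfsg.Agent.S0904.result 2 3 5 5 3 Nat.prime_two Nat.prime_three (by norm_num)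
    (by norm_num) (by norm_num) (by rw [hG]; norm_num) S
  have hC' : Subgroup.centralizer ((S : Subgroup G) : Set G) = (S : Subgroup G) := hC
  have hS : Nat.card (S : Subgroup G) = 5 :=
    card_eq_prime_of_sylow S (by rw [hG]; norm_num) (by rw [hG]; norm_num)
  have hrel := relIndex_centralizer_normalizer_dvd_sub_one (S : Subgroup G) (by norm_num : Nat.Prime 5) hS
  rw [hC'] at hrel
  have hle : (S : Subgroup G) ≤ Subgroup.normalizer ((S : Subgroup G) : Set G) :=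
    Subgroup.le_normalizer
  have hN : Nat.card (Subgroup.normalizer ((S : Subgroup G) : Set G))
      = 5 * (S : Subgroup G).relIndex (Subgroup.normalizer ((S : Subgroup G) : Set G)) := by
    have h1 := Subgroup.card_mul_index
      ((S : Subgroup G).subgroupOf (Subgroup.normalizer ((S : Subgroup G) : Set G)))
    rw [Nat.card_congr (Subgroup.subgroupOfEquivOfLe hle).toEquiv, hS] at h1
    exact h1.symm
  have hn5 : Nat.card (Sylow 5 G) = (Subgroup.normalizer ((S : Subgroup G) : Set G)).index :=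
    Sylow.card_eq_index_normalizer S
  have hmod : Nat.card (Sylow 5 G) ≡ 1 [MOD 5] := card_sylow_modEq_one 5 G
  have hidx := Subgroup.card_mul_index (Subgroup.normalizer ((S : Subgroup G) : Set G))
  rw [hN, hG, ← hn5] at hidx
  set e := (S : Subgroup G).relIndex (Subgroup.normalizer ((S : Subgroup G) : Set G)) with he
  set n := Nat.card (Sylow 5 G) with hn
  have he4 : e = 4 := by
    have h4 : e ∣ 4 := hrel
    have hle4 : e ≤ 4 := Nat.le_of_dvd (by norm_num) h4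
    have hmod' : n % 5 = 1 := hmod
    interval_cases e <;> omega
  rw [he4] at hN
  obtain ⟨x, t, hox, hzx, hCx, htN, htt, ht1, htx⟩ :=
    exists_local_setup (S : Subgroup G) (by norm_num : Nat.Prime 5) (by norm_num) hS hC'
      (by rw [hN]; norm_num)
  have hodd : Odd (orderOf x) := by rw [hox]; decide
  have hx1 : x ≠ 1 := by
    intro h
    rw [h, orderOf_one] at hox
    omega
  have hconj : ∀ y ∈ Subgroup.zpowers x, y ≠ 1 → IsConj x y := by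
    intro y hy hy1
    exact isConj_of_card_normalizer (S : Subgroup G) (by norm_num : Nat.Prime 5) hS
      (by rw [hN]) hzx hCx (hzx ▸ hy) hy1
  haveI : Fintype G := Fintype.ofFinite G
  haveI : Fintype (IrrCharacter G) := Fintype.ofFinite _
  have hna : ¬ ∀ a b : G, a * b = b * a :=
    not_comm_of_normalizer_card_lt (S : Subgroup G) (by rw [hN, hG]; norm_num)
  have hdata : ∀ χ : IrrCharacter G, ∃ (m : ℤ) (d l a : ℕ), a ≤ l ∧
      (χ : G → ℂ) 1 = (d : ℂ) ∧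
      (∀ y ∈ Subgroup.zpowers x, y ≠ 1 → (χ : G → ℂ) y = (m : ℂ)) ∧
      (d : ℤ) + 4 * m = 5 * l ∧ (χ : G → ℂ) t = ((2 * (a : ℤ) - (l : ℤ) : ℤ) : ℂ) := by
    intro χ
    obtain ⟨m, d, l, a, h1, h2, h3, h4, h5⟩ :=
      exists_int_value hodd htt ht1 htx hx1 hconj (IsIrrCharacter.isCharacter χ.2)
    refine ⟨m, d, l, a, h1, h2, h3, ?_, h5⟩
    rw [hox] at h4
    push_cast at h4
    linarith
  choose m d l a hal hd hmv hdl hkt using hdata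
  have hmx : ∀ χ : IrrCharacter G, (χ : G → ℂ) x = (m χ : ℂ) :=
    fun χ => hmv χ x (Subgroup.mem_zpowers x) hx1
  have hmxi : ∀ χ : IrrCharacter G, (χ : G → ℂ) x⁻¹ = (m χ : ℂ) :=
    fun χ => hmv χ x⁻¹ (inv_mem (Subgroup.mem_zpowers x)) (inv_ne_one.2 hx1)
  set τ : IrrCharacter G := trivialIrr G with hτ
  have hτv : ∀ g : G, (τ : G → ℂ) g = 1 := fun g => rfl
  have hmτ : m τ = 1 := by
    have := hmx τ
    rw [hτv] at this
    exact_mod_cast this.symm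
  have hdτ : d τ = 1 := by
    have := hd τ
    rw [hτv] at this
    exact_mod_cast this.symm
  have hkτ : 2 * (a τ : ℤ) - (l τ : ℤ) = 1 := by
    have := hkt τ
    rw [hτv] at this
    exact_mod_cast this.symm
  -- global sums
  have hcolx : ∑ χ : IrrCharacter G, (m χ) ^ 2 = 5 := by
    have h := column_orthogonality x x
    rw [if_pos (IsConj.refl x), hCx, Nat.card_zpowers, hox] at h
    have h2 : ∑ χ : IrrCharacter G, (χ : G → ℂ) x * conj ((χ : G → ℂ) x)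
        = ((∑ χ : IrrCharacter G, (m χ) ^ 2 : ℤ) : ℂ) := by
      push_cast
      apply Finset.sum_congr rfl
      intro χ _
      rw [hmx χ, map_intCast]
      ring
    rw [h2] at h
    exact_mod_cast h
  have hdegx : ∑ χ : IrrCharacter G, m χ * (d χ : ℤ) = 0 := by
    have h := sum_irr_mul_one x
    rw [if_neg hx1] at h
    have h2 : ∑ χ : IrrCharacter G, (χ : G → ℂ) x * (χ : G → ℂ) 1
        = ((∑ χ : IrrCharacter G, m χ * (d χ : ℤ) : ℤ) : ℂ) := by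
      push_cast
      apply Finset.sum_congr rfl
      intro χ _
      rw [hmx χ, hd χ]
    rw [h2] at h
    exact_mod_cast h
  have hdsum : ∑ χ : IrrCharacter G, d χ * d χ = 4320 := by
    have h := sum_irr_mul_one (1 : G)
    rw [if_pos rfl, hG] at h
    have h2 : ∑ χ : IrrCharacter G, (χ : G → ℂ) 1 * (χ : G → ℂ) 1
        = ((∑ χ : IrrCharacter G, d χ * d χ : ℕ) : ℂ) := by
      push_cast
      apply Finset.sum_congr rfl
      intro χ _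
      rw [hd χ]
    rw [h2] at h
    exact_mod_cast h
  set c : ℕ := Nat.card (Subgroup.centralizer ({t} : Set G)) with hc
  have hcolt : ∑ χ : IrrCharacter G, (2 * (a χ : ℤ) - (l χ : ℤ)) * (2 * (a χ : ℤ) - (l χ : ℤ))
      = (c : ℤ) := by
    have h := column_orthogonality t t
    rw [if_pos (IsConj.refl t)] at h
    have h2 : ∑ χ : IrrCharacter G, (χ : G → ℂ) t * conj ((χ : G → ℂ) t)
        = ((∑ χ : IrrCharacter G,
            (2 * (a χ : ℤ) - (l χ : ℤ)) * (2 * (a χ : ℤ) - (l χ : ℤ)) : ℤ) : ℂ) := by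
      rw [Int.cast_sum]
      apply Finset.sum_congr rfl
      intro χ _
      rw [hkt χ, map_intCast, Int.cast_mul]
    rw [h2] at h
    exact_mod_cast h
  have hid := bsw_identity t x hodd hCx htt htx
  rw [hox, hG, ← hc] at hid
  -- the set of characters not vanishing on x
  set T : Finset (IrrCharacter G) := (Finset.univ.erase τ).filter (fun χ => m χ ≠ 0) with hT
  have hsumT : ∀ {M : Type} [AddCommMonoid M] (F : IrrCharacter G → M),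
      (∀ χ, m χ = 0 → F χ = 0) → ∑ χ, F χ = F τ + ∑ χ ∈ T, F χ := by
    intro M _ F hF
    rw [← Finset.add_sum_erase Finset.univ F (Finset.mem_univ τ)]
    congr 1
    symm
    apply Finset.sum_filter_of_ne
    intro χ _ hne h0
    exact hne (hF χ h0)
  have hTm : ∀ χ ∈ T, m χ ≠ 0 := fun χ hχ => (Finset.mem_filter.1 hχ).2
  have hTτ : ∀ χ ∈ T, χ ≠ τ := fun χ hχ => (Finset.mem_erase.1 (Finset.mem_filter.1 hχ).1).1
  have hdvd : ∀ χ : IrrCharacter G, d χ ∣ 4320 := by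
    intro χ
    obtain ⟨d', h1, h2⟩ := IsIrrCharacter.exists_degree_dvd_card χ.2
    have : (d χ : ℂ) = (d' : ℂ) := by rw [← hd χ, h1]
    have h3 : d χ = d' := by exact_mod_cast this
    rw [h3, ← hG]
    exact h2
  have hd1 : ∀ χ ∈ T, d χ ≠ 1 := by
    intro χ hχ h1
    apply hTτ χ hχ
    apply eq_trivialIrr_of_degree_one hna χ
    rw [hd χ, h1]
    simp
  have hdsq : ∀ χ : IrrCharacter G, d χ * d χ ≤ 4320 := by
    intro χ
    rw [← hdsum]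
    exact Finset.single_le_sum (f := fun χ => d χ * d χ) (fun _ _ => Nat.zero_le _)
      (Finset.mem_univ χ)
  have hm4 : ∑ χ ∈ T, (m χ) ^ 2 = 4 := by
    have h := hsumT (fun χ => (m χ) ^ 2) (by intro χ h0; simp [h0])
    rw [hcolx] at h
    simp only [hmτ] at h
    omega
  have hdeg : 1 + ∑ χ ∈ T, m χ * (d χ : ℤ) = 0 := by
    have h := hsumT (fun χ => m χ * (d χ : ℤ)) (by intro χ h0; simp [h0])
    rw [hdegx] at h
    simp only [hmτ, hdτ] at h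
    push_cast at h
    omega
  have hidT : (5 : ℂ) * (c : ℂ) ^ 2 = 4320 * (1 + ∑ χ ∈ T,
      ((2 * (a χ : ℤ) - (l χ : ℤ) : ℤ) : ℂ) * ((2 * (a χ : ℤ) - (l χ : ℤ) : ℤ) : ℂ) * (m χ : ℂ)
        / (d χ : ℂ)) := by
    have h := hsumT (fun χ => (χ : G → ℂ) t * (χ : G → ℂ) t * (χ : G → ℂ) x⁻¹ / (χ : G → ℂ) 1)
      (by
        intro χ h0
        rw [hmxi χ, h0]
        simp)
    simp only [hτv] at h
    rw [h] at hid
    rw [show ((5 : ℕ) : ℂ) = 5 by norm_num, show ((4320 : ℕ) : ℂ) = 4320 by norm_num] at hid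
    rw [hid]
    congr 2
    · norm_num
    · apply Finset.sum_congr rfl
      intro χ _
      rw [hkt χ, hmxi χ, hd χ]
  have hcolT : 1 + ∑ χ ∈ T, (2 * (a χ : ℤ) - (l χ : ℤ)) * (2 * (a χ : ℤ) - (l χ : ℤ))
      ≤ (c : ℤ) := by
    rw [← hcolt, ← Finset.add_sum_erase Finset.univ _ (Finset.mem_univ τ)]
    have h1 : (2 * (a τ : ℤ) - (l τ : ℤ)) * (2 * (a τ : ℤ) - (l τ : ℤ)) = 1 := by
      rw [hkτ]; norm_num
    rw [h1]
    refine add_le_add le_rfl ?_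
    apply Finset.sum_le_sum_of_subset_of_nonneg (Finset.filter_subset _ _)
    intro χ _ _
    exact mul_self_nonneg _
  rcases sq_sum_four T m hTm hm4 with ⟨χ, hTχ, hχ2⟩ | ⟨χ₁, χ₂, χ₃, χ₄, h12, h13, h14, h23, h24, h34,
    hTeq, hm1, hm2, hm3, hm4'⟩
  · rw [hTχ, Finset.sum_singleton] at hdeg
    rcases hχ2 with h | h <;> rw [h] at hdeg <;> omega
  · have hT4 : ∀ {M : Type} [AddCommMonoid M] (F : IrrCharacter G → M),
        ∑ χ ∈ T, F χ = F χ₁ + (F χ₂ + (F χ₃ + F χ₄)) := by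
      intro M _ F
      rw [hTeq, Finset.sum_insert (by simp [h12, h13, h14]),
        Finset.sum_insert (by simp [h23, h24]), Finset.sum_insert (by simp [h34]),
        Finset.sum_singleton]
    have hmem1 : χ₁ ∈ T := by rw [hTeq]; simp
    have hmem2 : χ₂ ∈ T := by rw [hTeq]; simp
    have hmem3 : χ₃ ∈ T := by rw [hTeq]; simp
    have hmem4 : χ₄ ∈ T := by rw [hTeq]; simp
    obtain ⟨E₁, K₁, hK1, hE1, ht1'⟩ := type_4320 (m χ₁) (d χ₁) (l χ₁) (a χ₁) hm1 (hdvd χ₁)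
      (hd1 χ₁ hmem1) (hdsq χ₁) (hdl χ₁) (hal χ₁)
    obtain ⟨E₂, K₂, hK2, hE2, ht2'⟩ := type_4320 (m χ₂) (d χ₂) (l χ₂) (a χ₂) hm2 (hdvd χ₂)
      (hd1 χ₂ hmem2) (hdsq χ₂) (hdl χ₂) (hal χ₂)
    obtain ⟨E₃, K₃, hK3, hE3, ht3'⟩ := type_4320 (m χ₃) (d χ₃) (l χ₃) (a χ₃) hm3 (hdvd χ₃)
      (hd1 χ₃ hmem3) (hdsq χ₃) (hdl χ₃) (hal χ₃)
    obtain ⟨E₄, K₄, hK4, hE4, ht4'⟩ := type_4320 (m χ₄) (d χ₄) (l χ₄) (a χ₄) hm4' (hdvd χ₄)
      (hd1 χ₄ hmem4) (hdsq χ₄) (hdl χ₄) (hal χ₄)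
    rw [hT4] at hdeg hidT hcolT
    rw [← hK1, ← hK2, ← hK3, ← hK4] at hcolT
    have hQ : ((c : ℤ) * (c : ℤ)) = 864 + (E₁ + (E₂ + (E₃ + E₄))) := by
      have : (((c : ℤ) * (c : ℤ) : ℤ) : ℂ) = ((864 + (E₁ + (E₂ + (E₃ + E₄))) : ℤ) : ℂ) := by
        push_cast
        rw [hE1, hE2, hE3, hE4]
        linear_combination (1 / 5 : ℂ) * hidT
      exact_mod_cast this
    exact final_4320 (c : ℤ) ((c : ℤ) * (c : ℤ)) rfl (Int.natCast_nonneg c)
      (m χ₁ * d χ₁) (m χ₂ * d χ₂) (m χ₃ * d χ₃) (m χ₄ * d χ₄) E₁ E₂ E₃ E₄ K₁ K₂ K₃ K₄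
      hdeg hQ hcolT ht1' ht2' ht3' ht4'

/-- No simple group of order 4320 (in the form requested by the S0983 assembly). -/
theorem no_4320 {G : Type*} [Group G] [Finite G] [IsSimpleGroup G]
    (_hG : ¬ IsMulCommutative G) : Nat.card G ≠ 4320 :=
  no_4320_core

end Cfsg.Agent.Lib.Helper21.Ord4320
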