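import Mathlib
import Cfsg.Agent.Lib.Helper6.OrtA1
import Cfsg.Agent.Lib.Helper6.OrtS13

/-!
# Arithmetic of the numerical criterion for `ε = η = -1`
-/

set_option autoImplicit false

namespace Cfsg.Agent.Lib.Helper21.OrtM

open Cfsg.Agent.Lib.Helper15.PSpJ Cfsg.Agent.Lib.Helper6.OrtS

/-- the criterion without multiplications, general `ε` -/
def CritLe (ε : ℤ) (s₀ k m₀ l : ℕ) (η : ℤ) (i : ℕ) : Prop :=
  ∀ s, 1 ≤ s → s ≤ s₀ → (s = s₀ → k = 0 → tau i s = ε) →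
    ∃ t, t ≤ s ∧ t ≤ m₀ ∧
      ((m₀ - t < s₀ - s ∨ (m₀ - t = s₀ - s ∧ l ≤ k)) ∧
        ((m₀ - t = 0 ∧ l = 0) → η * tau i t = 1) ∧
        ((m₀ - t = s₀ - s ∧ l = k) → η * tau i t = ε * tau i s))

theorem crit_lex_gen (n m i : ℕ) (hi : 0 < i) (ε η : ℤ) :
    Crit n ε m η i ↔ CritLe ε (n / cOf i) (n % cOf i) (m / cOf i) (m % cOf i) η i := by
  obtain ⟨c, hc⟩ : ∃ c, c = cOf i := ⟨_, rfl⟩
  have hcpos : 0 < c := by rw [hc]; exact cOf_pos hi
  rw [← hc]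
  have hn := Nat.div_add_mod n c
  have hm := Nat.div_add_mod m c
  have hk := Nat.mod_lt n hcpos
  have hl := Nat.mod_lt m hcpos
  obtain ⟨s₀, hs₀⟩ : ∃ s₀, s₀ = n / c := ⟨_, rfl⟩
  obtain ⟨k, hk'⟩ : ∃ k, k = n % c := ⟨_, rfl⟩
  obtain ⟨m₀, hm₀⟩ : ∃ m₀, m₀ = m / c := ⟨_, rfl⟩
  obtain ⟨l, hl'⟩ : ∃ l, l = m % c := ⟨_, rfl⟩
  rw [← hs₀, ← hk'] at hn
  rw [← hm₀, ← hl'] at hm
  rw [← hk'] at hk
  rw [← hl'] at hl
  rw [← hs₀, ← hk', ← hm₀, ← hl']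
  unfold Crit CritLe
  rw [← hc]
  have hle_s : ∀ s, c * s ≤ n ↔ s ≤ s₀ := by
    intro s
    rw [hs₀, Nat.le_div_iff_mul_le hcpos, mul_comm]
  have hle_t : ∀ t, c * t ≤ m ↔ t ≤ m₀ := by
    intro t
    rw [hm₀, Nat.le_div_iff_mul_le hcpos, mul_comm]
  have hsub_s : ∀ s, s ≤ s₀ → n - c * s = c * (s₀ - s) + k := by
    intro s hs
    have : c * (s₀ - s) = c * s₀ - c * s := Nat.mul_sub c s₀ s
    have h2 : c * s ≤ c * s₀ := Nat.mul_le_mul_left c hs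
    omega
  have hsub_t : ∀ t, t ≤ m₀ → m - c * t = c * (m₀ - t) + l := by
    intro t ht
    have : c * (m₀ - t) = c * m₀ - c * t := Nat.mul_sub c m₀ t
    have h2 : c * t ≤ c * m₀ := Nat.mul_le_mul_left c ht
    omega
  have hfull : ∀ s, s ≤ s₀ → (c * s = n ↔ (s = s₀ ∧ k = 0)) := by
    intro s hs
    constructor
    · intro h
      have h1 := hsub_s s hs
      rw [h, Nat.sub_self] at h1
      have h2 : c * (s₀ - s) = 0 := by omega
      rcases Nat.mul_eq_zero.mp h2 with h3 | h3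
      · omega
      · exact ⟨by omega, by omega⟩
    · rintro ⟨rfl, hk0⟩
      omega
  constructor
  · intro h s hs1 hss hf
    obtain ⟨t, hts, htm, hsub⟩ := h s hs1 ((hle_s s).mpr hss) (fun hcs => by
      obtain ⟨h1, h2⟩ := (hfull s hss).mp hcs
      exact hf h1 h2)
    have htm' := (hle_t t).mp htm
    rw [hsub_t t htm', hsub_s s hss, hasSub_lex c _ _ l k _ _ hcpos hl hk] at hsub
    exact ⟨t, hts, htm', hsub⟩
  · intro h s hs1 hsn hf
    have hss := (hle_s s).mp hsn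
    obtain ⟨t, hts, htm, hsub⟩ := h s hs1 hss (fun h1 h2 => hf ((hfull s hss).mpr ⟨h1, h2⟩))
    refine ⟨t, hts, (hle_t t).mpr htm, ?_⟩
    rw [hsub_t t htm, hsub_s s hss, hasSub_lex c _ _ l k _ _ hcpos hl hk]
    exact hsub

/-- pure form of the criterion, `i` even, `ε = η = -1` -/
def PureE (N k M l : ℕ) : Prop :=
  ∀ s, 1 ≤ s → s ≤ N → (s = N → k = 0 → s % 2 = 1) →
    ∃ t, t ≤ s ∧ t ≤ M ∧
      ((M - t < N - s ∨ (M - t = N - s ∧ l ≤ k)) ∧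
        ((M - t = 0 ∧ l = 0) → t % 2 = 1) ∧
        ((M - t = N - s ∧ l = k) → t % 2 = s % 2))

/-- pure form of the criterion, `i` odd, `ε = η = -1` -/
def PureO (N k M l : ℕ) : Prop :=
  ∀ s, 1 ≤ s → s ≤ N → (s = N → k = 0 → False) →
    ∃ t, t ≤ s ∧ t ≤ M ∧
      ((M - t < N - s ∨ (M - t = N - s ∧ l ≤ k)) ∧ ((M - t = 0 ∧ l = 0) → False))

theorem tau_neg_iff {i : ℕ} (hi : Even i) (x : ℕ) : tau i x = -1 ↔ x % 2 = 1 := by
  rcases tau_even_cases i hi x with ⟨h1, h2⟩ | ⟨h1, h2⟩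
  · rw [h1]; constructor
    · intro h; omega
    · intro h; omega
  · rw [h1]; constructor
    · intro _; exact h2
    · intro _; rfl

theorem tau_B {i : ℕ} (hi : Even i) (x : ℕ) : (-1 : ℤ) * tau i x = 1 ↔ x % 2 = 1 := by
  rw [← tau_neg_iff hi x]
  constructor
  · intro h; linarith
  · intro h; rw [h]; norm_num

theorem tau_C {i : ℕ} (hi : Even i) (x y : ℕ) :
    (-1 : ℤ) * tau i x = -1 * tau i y ↔ x % 2 = y % 2 := by
  rcases tau_even_cases i hi x with ⟨h1, h2⟩ | ⟨h1, h2⟩ <;>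
  rcases tau_even_cases i hi y with ⟨h3, h4⟩ | ⟨h3, h4⟩ <;>
  rw [h1, h3] <;> constructor <;> intro h <;> omega

theorem critLe_even {i : ℕ} (hi : Even i) (N k M l : ℕ) :
    CritLe (-1) N k M l (-1) i ↔ PureE N k M l := by
  unfold CritLe PureE
  constructor
  · intro h s hs1 hsN hex
    obtain ⟨t, ht1, ht2, hA, hB, hC⟩ := h s hs1 hsN
      (fun h1 h2 => (tau_neg_iff hi s).mpr (hex h1 h2))
    exact ⟨t, ht1, ht2, hA, fun hb => (tau_B hi t).mp (hB hb),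
      fun hc => (tau_C hi t s).mp (hC hc)⟩
  · intro h s hs1 hsN hex
    obtain ⟨t, ht1, ht2, hA, hB, hC⟩ := h s hs1 hsN
      (fun h1 h2 => (tau_neg_iff hi s).mp (hex h1 h2))
    exact ⟨t, ht1, ht2, hA, fun hb => (tau_B hi t).mpr (hB hb),
      fun hc => (tau_C hi t s).mpr (hC hc)⟩

theorem critLe_odd {i : ℕ} (hi : ¬ Even i) (N k M l : ℕ) :
    CritLe (-1) N k M l (-1) i ↔ PureO N k M l := by
  unfold CritLe PureO
  constructor
  · intro h s hs1 hsN hex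
    obtain ⟨t, ht1, ht2, hA, hB, -⟩ := h s hs1 hsN (fun h1 h2 => (hex h1 h2).elim)
    refine ⟨t, ht1, ht2, hA, fun hb => ?_⟩
    have := hB hb
    rw [tau_odd i hi] at this
    omega
  · intro h s hs1 hsN hex
    obtain ⟨t, ht1, ht2, hA, hB⟩ := h s hs1 hsN (fun h1 h2 => by
      have := hex h1 h2
      rw [tau_odd i hi] at this
      omega)
    refine ⟨t, ht1, ht2, hA, fun hb => (hB hb).elim, fun _ => ?_⟩
    rw [tau_odd i hi, tau_odd i hi]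

end Cfsg.Agent.Lib.Helper21.OrtM
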