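import Mathlib
import Cfsg.Agent.Lib.Helper21.OrtM3

/-!
# Closed forms of the numerical criterion for `ε = η = -1`
-/

set_option autoImplicit false

namespace Cfsg.Agent.Lib.Helper21.OrtM

open Cfsg.Agent.Lib.Helper15.PSpJ Cfsg.Agent.Lib.Helper6.OrtS

theorem pureO_iff (N k M l : ℕ) (hside : M < N ∨ (M = N ∧ l + 2 ≤ k)) (hm0 : 1 ≤ M ∨ 2 ≤ l) :
    (PureO N k M l ∧ ¬ (M = 0 ∧ 0 < k ∧ l ≤ k)) ↔ (k = 0 ∨ (1 ≤ M ∧ 0 < l ∧ l ≤ k)) := by
  constructor
  · rintro ⟨h, hE⟩
    by_cases hk : k = 0
    · exact Or.inl hk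
    · right
      have hN1 : 1 ≤ N := by
        by_contra hcon
        exact hE ⟨by omega, by omega, by omega⟩
      obtain ⟨t, ht1, ht2, hA, hB⟩ := h N hN1 le_rfl (fun _ hk0 => hk hk0)
      have hl0 : l ≠ 0 := fun hl => hB ⟨by omega, hl⟩
      have hM1 : 1 ≤ M := by
        by_contra hcon
        exact hE ⟨by omega, by omega, by omega⟩
      exact ⟨hM1, by omega, by omega⟩
  · intro hcl
    constructor
    · intro s hs1 hsN hex
      by_cases h1 : s < M
      · exact ⟨s, le_rfl, by omega, by omega, by omega⟩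
      · by_cases hl0 : l = 0
        · have hk : k = 0 := by omega
          have hsN' : s ≠ N := fun h => hex h hk
          exact ⟨M - 1, by omega, by omega, by omega, by omega⟩
        · by_cases hsN' : s = N
          · have hk0 : k ≠ 0 := fun h => hex hsN' h
            exact ⟨M, by omega, le_rfl, by omega, by omega⟩
          · exact ⟨M, by omega, le_rfl, by omega, by omega⟩
    · rintro ⟨h1, h2, h3⟩
      omega

theorem pureE_iff (N k M l : ℕ) (hside : M < N ∨ (M = N ∧ l + 2 ≤ k)) (hm0 : 1 ≤ M ∨ 2 ≤ l)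
    (hN : k = 0 → 1 ≤ N) :
    (PureE N k M l ∧ ¬ (M = 0 ∧ 0 < k ∧ l ≤ k ∧ (l = k → N % 2 = 0))) ↔
    ((k = 0 ∧ (N % 2 = 0 ∨ (l = 0 ∧ M % 2 = 1))) ∨
      (0 < k ∧ 1 ≤ M ∧ ((0 < l ∧ l < k) ∨ (l = 0 ∧ M % 2 = 1) ∨ (l = k ∧ (N + M) % 2 = 0)))) := by
  constructor
  · rintro ⟨h, hE⟩
    by_cases hk : k = 0
    · left
      refine ⟨hk, ?_⟩
      by_cases hNpar : N % 2 = 0
      · exact Or.inl hNpar
      · right
        obtain ⟨t, ht1, ht2, hA, hB, hC⟩ := h N (hN hk) le_rfl (fun _ _ => by omega)
        have hl0 : l = 0 := by omega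
        have htM : M - t = 0 := by omega
        have := hB ⟨htM, hl0⟩
        exact ⟨hl0, by omega⟩
    · right
      have hN1 : 1 ≤ N := by
        by_contra hcon
        exact hE ⟨by omega, by omega, by omega, by omega⟩
      obtain ⟨t, ht1, ht2, hA, hB, hC⟩ := h N hN1 le_rfl (fun _ hk0 => absurd hk0 hk)
      have htM : M - t = 0 := by omega
      have hlk : l ≤ k := by omega
      have hM1 : 1 ≤ M := by
        by_contra hcon
        apply hE
        refine ⟨by omega, by omega, hlk, fun hlk' => ?_⟩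
        have := hC ⟨by omega, hlk'⟩
        omega
      refine ⟨by omega, hM1, ?_⟩
      by_cases hl0 : l = 0
      · right; left
        have := hB ⟨htM, hl0⟩
        exact ⟨hl0, by omega⟩
      · by_cases hlk' : l = k
        · right; right
          have := hC ⟨by omega, hlk'⟩
          exact ⟨hlk', by omega⟩
        · left
          omega
  · intro hcl
    constructor
    · intro s hs1 hsN hex
      by_cases h1 : s < M
      · exact ⟨s, le_rfl, by omega, by omega, by omega, fun _ => rfl⟩
      · by_cases h2 : s = N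
        · rcases hcl with ⟨hk, hc⟩ | ⟨hk, hM, hc⟩
          · have hpar : s % 2 = 1 := hex h2 hk
            refine ⟨M, by omega, le_rfl, by omega, fun _ => by omega, fun _ => by omega⟩
          · refine ⟨M, by omega, le_rfl, by omega, fun _ => by omega, fun _ => by omega⟩
        · by_cases h3 : l = 0 ∧ M % 2 = 0
          · refine ⟨M - 1, by omega, by omega, by omega, fun _ => by omega, fun hc' => ?_⟩
            rcases hcl with ⟨hk, hc⟩ | ⟨hk, hM, hc⟩
            · omega
            · omega
          · refine ⟨M, by omega, le_rfl, by omega, fun hb => ?_, fun _ => by omega⟩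
            rcases hcl with ⟨hk, hc⟩ | ⟨hk, hM, hc⟩
            · omega
            · omega
    · rintro ⟨h1, h2, h3, h4⟩
      omega

end Cfsg.Agent.Lib.Helper21.OrtM
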