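import Mathlib
import Cfsg.Agent.Lib.Helper21.OrtM4

/-!
# The right hand side of S5990 for odd `r`
-/

set_option autoImplicit false

namespace Cfsg.Agent.Lib.Helper21.OrtM

open Cfsg.Agent.Lib.Helper15.PSpJ Cfsg.Agent.Lib.Helper6.OrtS

theorem extra_iff (n m i : ℕ) (hi : 0 < i) (hm : 2 ≤ m) :
    Extra n (-1) m (-1) i ↔
      (m / cOf i = 0 ∧ 0 < n % cOf i ∧ m % cOf i ≤ n % cOf i ∧
        (m % cOf i = n % cOf i → (-1 : ℤ) = -1 * tau i (n / cOf i))) := by
  unfold Extra HasSub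
  have hcpos := cOf_pos hi
  constructor
  · rintro ⟨h1, h2, h3, -, h5⟩
    have hM : m / cOf i = 0 := Nat.div_eq_of_lt h1
    have hl : m % cOf i = m := Nat.mod_eq_of_lt h1
    rw [hl]
    exact ⟨hM, h2, h3, h5⟩
  · rintro ⟨h1, h2, h3, h4⟩
    have hlt : m < cOf i := by
      rcases (Nat.div_eq_zero_iff).mp h1 with h | h
      · omega
      · exact h
    have hl : m % cOf i = m := Nat.mod_eq_of_lt hlt
    rw [hl] at h3 h4
    exact ⟨hlt, h2, h3, fun h => by omega, h4⟩

theorem arith_mm (d m i : ℕ) (hi : 0 < i) (hd : 4 ≤ d) (hm : 2 ≤ m) (hmn : m + 2 ≤ 2 * d) :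
    (Crit (2 * d) (-1) m (-1) i ∧ ¬ Extra (2 * d) (-1) m (-1) i) ↔
    ((Odd i ∧ ((2 * d) % cOf i = 0 ∨
        (cOf i ≤ m ∧ 0 < m % cOf i ∧ m % cOf i ≤ (2 * d) % cOf i))) ∨
     (Even i ∧
       (((2 * d) % cOf i = 0 ∧ (Even ((2 * d) / i) ∨ (m % cOf i = 0 ∧ Odd (m / i)))) ∨
        (0 < (2 * d) % cOf i ∧ i ≤ m ∧ ((0 < m % cOf i ∧ m % cOf i < (2 * d) % cOf i) ∨
          (m % cOf i = 0 ∧ Odd (m / i)) ∨
          (m % cOf i = (2 * d) % cOf i ∧
            Even ((2 * d + m - 2 * ((2 * d) % cOf i)) / i))))))) := by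
  rw [crit_lex_gen (2 * d) m i hi, extra_iff (2 * d) m i hi hm]
  obtain ⟨c, hc⟩ : ∃ c, c = cOf i := ⟨_, rfl⟩
  have hcpos : 0 < c := by rw [hc]; exact cOf_pos hi
  rw [← hc]
  have hn := Nat.div_add_mod (2 * d) c
  have hm' := Nat.div_add_mod m c
  have hk := Nat.mod_lt (2 * d) hcpos
  have hl := Nat.mod_lt m hcpos
  obtain ⟨N, hN⟩ : ∃ N, N = (2 * d) / c := ⟨_, rfl⟩
  obtain ⟨k, hk'⟩ : ∃ k, k = (2 * d) % c := ⟨_, rfl⟩
  obtain ⟨M, hM⟩ : ∃ M, M = m / c := ⟨_, rfl⟩
  obtain ⟨l, hl'⟩ : ∃ l, l = m % c := ⟨_, rfl⟩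
  rw [← hN, ← hk'] at hn
  rw [← hM, ← hl'] at hm'
  rw [← hk'] at hk
  rw [← hl'] at hl
  rw [← hN, ← hk', ← hM, ← hl']
  have hMN : N < M → c * (N + 1) ≤ c * M := fun h => Nat.mul_le_mul_left c h
  have hM0 : M = 0 → c * M = 0 := by rintro rfl; rfl
  have hN0 : N = 0 → c * N = 0 := by rintro rfl; rfl
  have hM1 : 1 ≤ M → c ≤ c * M := fun h => Nat.le_mul_of_pos_right c h
  have hside : M < N ∨ (M = N ∧ l + 2 ≤ k) := by
    rcases Nat.lt_trichotomy M N with h | h | h
    · exact Or.inl h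
    · right
      subst h
      exact ⟨rfl, by omega⟩
    · exfalso
      have := hMN h
      rw [mul_add, mul_one] at this
      omega
  have hm0 : 1 ≤ M ∨ 2 ≤ l := by
    by_cases h : M = 0
    · right
      have := hM0 h
      omega
    · left; omega
  have hNk : k = 0 → 1 ≤ N := by
    intro h
    by_contra hcon
    have := hN0 (by omega)
    omega
  have hcm : c ≤ m ↔ 1 ≤ M := by
    constructor
    · intro h
      by_contra hcon
      have := hM0 (by omega)
      omega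
    · intro h
      have := hM1 h
      omega
  by_cases hie : Even i
  · have hci : c = i := by rw [hc]; unfold cOf; rw [if_pos hie]
    have hodd : ¬ Odd i := by rw [Nat.not_odd_iff_even]; exact hie
    rw [critLe_even hie]
    have hEx : (l = k → (-1 : ℤ) = -1 * tau i N) ↔ (l = k → N % 2 = 0) := by
      rcases tau_even_cases i hie N with ⟨h1, h2⟩ | ⟨h1, h2⟩
      · rw [h1]
        constructor
        · intro _ _; exact h2
        · intro _ _; norm_num
      · rw [h1]
        constructor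
        · intro h h'
          have := h h'
          norm_num at this
        · intro h h'
          have := h h'
          omega
    rw [hEx, pureE_iff N k M l hside hm0 hNk]
    have hNi : (2 * d) / i = N := by rw [hN, hci]
    have hMi : m / i = M := by rw [hM, hci]
    have hsum : l = k → (2 * d + m - 2 * k) / i = N + M := by
      intro hlk
      rw [← hci]
      have : 2 * d + m - 2 * k = c * (N + M) := by
        rw [mul_add]
        omega
      rw [this, Nat.mul_div_cancel_left _ hcpos]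
    have hcm' : i ≤ m ↔ 1 ≤ M := by rw [← hci]; exact hcm
    rw [hNi, hMi, hcm']
    constructor
    · rintro (⟨h1, h2⟩ | ⟨h1, h2, h3⟩)
      · right
        refine ⟨hie, Or.inl ⟨h1, ?_⟩⟩
        rcases h2 with h | ⟨h, h'⟩
        · exact Or.inl (Nat.even_iff.mpr h)
        · exact Or.inr ⟨h, Nat.odd_iff.mpr h'⟩
      · right
        refine ⟨hie, Or.inr ⟨h1, h2, ?_⟩⟩
        rcases h3 with h | ⟨h, h'⟩ | ⟨h, h'⟩
        · exact Or.inl h
        · exact Or.inr (Or.inl ⟨h, Nat.odd_iff.mpr h'⟩)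
        · refine Or.inr (Or.inr ⟨h, ?_⟩)
          rw [hsum h]
          exact Nat.even_iff.mpr h'
    · rintro (⟨h, -⟩ | ⟨-, h⟩)
      · exact absurd h hodd
      · rcases h with ⟨h1, h2⟩ | ⟨h1, h2, h3⟩
        · left
          refine ⟨h1, ?_⟩
          rcases h2 with h | ⟨h, h'⟩
          · exact Or.inl (Nat.even_iff.mp h)
          · exact Or.inr ⟨h, Nat.odd_iff.mp h'⟩
        · right
          refine ⟨h1, h2, ?_⟩
          rcases h3 with h | ⟨h, h'⟩ | ⟨h, h'⟩
          · exact Or.inl h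
          · exact Or.inr (Or.inl ⟨h, Nat.odd_iff.mp h'⟩)
          · refine Or.inr (Or.inr ⟨h, ?_⟩)
            rw [hsum h] at h'
            exact Nat.even_iff.mp h'
  · have hodd : Odd i := Nat.not_even_iff_odd.mp hie
    rw [critLe_odd hie]
    have hEx : (l = k → (-1 : ℤ) = -1 * tau i N) ↔ True := by
      rw [tau_odd i hie]
      simp
    rw [hEx, and_true, pureO_iff N k M l hside hm0, hcm]
    constructor
    · intro h
      exact Or.inl ⟨hodd, h⟩
    · rintro (⟨-, h⟩ | ⟨h, -⟩)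
      · exact h
      · exact absurd h hie

end Cfsg.Agent.Lib.Helper21.OrtM
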