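import Mathlib
import Cfsg.Agent.Lib.Helper21.OrtM5
import Cfsg.Agent.Lib.Helper21.OrtT9

/-!
# The right hand side of S5990 for `r = 2`, odd characteristic
-/

set_option autoImplicit false

namespace Cfsg.Agent.Lib.Helper21.OrtM

open Cfsg.Agent.Lib.Helper21.OrtT

theorem arith_two_mm {F : Type*} [Field F] [Fintype F] (hq : Fintype.card F % 2 = 1) (d m : ℕ)
    (hme : Even m) :
    (¬ ((-1 : ℤ) = dl F ^ d ∧ (Even d ∨ IsSquare (2 : F))) ∨ (-1 : ℤ) = dl F ^ (m / 2)) ↔
      (Even d ∨ Fintype.card F % 8 ≠ 7 ∨ m % 4 = 2) := by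
  have hpow : ∀ x : ℕ, ((-1 : ℤ) = (-1) ^ x ↔ Odd x) := by
    intro x
    rcases Nat.even_or_odd x with h | h
    · rw [h.neg_one_pow]
      constructor
      · intro h'; norm_num at h'
      · intro h'
        exact absurd h (Nat.not_even_iff_odd.mpr h')
    · rw [h.neg_one_pow]
      exact ⟨fun _ => h, fun _ => rfl⟩
  by_cases hsq : IsSquare (-1 : F)
  · have h4 := FiniteField.isSquare_neg_one_iff.mp hsq
    rw [dl_pos hsq, one_pow, one_pow]
    constructor
    · intro _
      right; left
      omega
    · intro _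
      left
      rintro ⟨h, -⟩
      norm_num at h
  · have h4 : Fintype.card F % 4 = 3 := by
      by_contra hcon
      exact hsq (FiniteField.isSquare_neg_one_iff.mpr hcon)
    rw [dl_neg hsq, hpow, hpow, FiniteField.isSquare_two_iff]
    obtain ⟨a, ha⟩ := hme
    have hm2 : m / 2 = a := by omega
    rw [hm2]
    have hodd_a : Odd a ↔ m % 4 = 2 := by
      rw [Nat.odd_iff]
      omega
    rw [hodd_a]
    constructor
    · rintro (h | h)
      · by_cases hd : Even d
        · exact Or.inl hd
        · right; left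
          intro h7
          apply h
          exact ⟨Nat.not_even_iff_odd.mp hd, Or.inr ⟨by omega, by omega⟩⟩
      · exact Or.inr (Or.inr h)
    · rintro (h | h | h)
      · left
        rintro ⟨hd, -⟩
        exact (Nat.not_even_iff_odd.mpr hd) h
      · left
        rintro ⟨hd, hd' | ⟨h3, h5⟩⟩
        · exact (Nat.not_even_iff_odd.mpr hd) hd'
        · omega
      · exact Or.inr h

end Cfsg.Agent.Lib.Helper21.OrtM
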