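import Mathlib
import Cfsg.Agent.Lib.Helper1.Frattini
import Cfsg.Agent.Lib.Helper21.AbelianSylowAut

set_option autoImplicit false

namespace Cfsg.Agent.Lib.Helper21

open Cfsg.Agent.Lib.Helper1

/-- If a `p'`-element `g` normalizes but does not centralize a `p`-subgroup `Q`, then some prime
`q ∣ o(g)` divides `p ^ i - 1` with `1 ≤ i ≤ rank Q` and `p ^ i ∣ |Q|`. -/
theorem exists_dvd_of_not_mem_centralizer {G : Type*} [Group G] [Finite G] {p : ℕ}
    [Fact p.Prime] (Q : Subgroup G) (hQ : IsPGroup p Q) (g : G)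
    (hgN : g ∈ Subgroup.normalizer (Q : Set G)) (hgC : g ∉ Subgroup.centralizer (Q : Set G))
    (hcop : (orderOf g).Coprime p) :
    ∃ q i : ℕ, q.Prime ∧ q ∣ orderOf g ∧ 1 ≤ i ∧ i ≤ Group.rank Q ∧
      p ^ i ∣ Nat.card Q ∧ q ∣ p ^ i - 1 := by
  classical
  have hp : p.Prime := Fact.out
  have hNC : ¬ Subgroup.zpowers g ≤ Subgroup.centralizer (Q : Set G) :=
    fun h => hgC (h (Subgroup.mem_zpowers g))
  obtain ⟨x, q, k, hq, hxZ, hxC, hxo, hxq⟩ := exists_prime_pow_order_not_mem _ _ hNC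
  haveI : Fact q.Prime := ⟨hq⟩
  have hxN : x ∈ Subgroup.normalizer (Q : Set G) := by
    have : Subgroup.zpowers g ≤ Subgroup.normalizer (Q : Set G) := by
      rw [Subgroup.zpowers_le]; exact hgN
    exact this hxZ
  have hk : k ≠ 0 := by
    rintro rfl
    rw [pow_zero, orderOf_eq_one_iff] at hxo
    rw [hxo] at hxC
    exact hxC (Subgroup.one_mem _)
  have hqg : q ∣ orderOf g := by
    have h1 : orderOf x ∣ orderOf g := orderOf_dvd_of_mem_zpowers hxZ
    rw [hxo] at h1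
    exact (dvd_pow_self q hk).trans h1
  have hqp : q ≠ p := by
    rintro rfl
    have := Nat.Coprime.eq_one_of_dvd hcop.symm hqg
    exact hq.one_lt.ne' this
  -- the action on `Q / Φ(Q)`
  set Φ' : Subgroup G := (frattini ↥Q).map Q.subtype with hΦ'
  have hxΦ : x ∈ Subgroup.normalizer (Φ' : Set G) :=
    normalizer_le_normalizer_map_of_characteristic _ _ hxN
  have hnontriv : ∃ k0 ∈ Q, x * k0 * x⁻¹ * k0⁻¹ ∉ Φ' := by
    by_contra hcon
    push Not at hcon
    apply hxC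
    have hA : Subgroup.zpowers x ≤ Subgroup.centralizer (Q : Set G) := by
      apply le_centralizer_of_commutator_le_frattini (Subgroup.zpowers x) Q
      · rw [Subgroup.zpowers_le]; exact hxN
      · rw [Nat.card_zpowers, hxo]
        obtain ⟨j, hj⟩ := IsPGroup.iff_card.mp (hQ.to_subgroup (frattini ↥Q))
        rw [hj]
        exact Nat.Coprime.pow _ _ ((Nat.coprime_primes hq hp).mpr hqp)
      · intro a ha
        rw [← mem_powers_iff_mem_zpowers] at ha
        obtain ⟨j, rfl⟩ := ha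
        induction j with
        | zero =>
          intro b _
          simp only [pow_zero, one_mul, inv_one, mul_one, mul_inv_cancel]
          exact Subgroup.one_mem _
        | succ j ih =>
          intro b hb
          have h1 := ih b hb
          have h2 := hcon b hb
          have h3 : x * (x ^ j * b * (x ^ j)⁻¹ * b⁻¹) * x⁻¹ ∈ Φ' :=
            (Subgroup.mem_normalizer_iff.mp hxΦ _).mp h1
          have e1 : x ^ (j + 1) * b * (x ^ (j + 1))⁻¹ * b⁻¹ =
              (x * (x ^ j * b * (x ^ j)⁻¹ * b⁻¹) * x⁻¹) * (x * b * x⁻¹ * b⁻¹) := by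
            rw [pow_succ']; group
          rw [e1]
          exact Subgroup.mul_mem _ h3 h2
    exact hA (Subgroup.mem_zpowers x)
  obtain ⟨k0, hk0P, hk0⟩ := hnontriv
  let φ : ↥Q ≃* ↥Q := conjNormalizer Q x hxN
  have hφ : ∀ a : ↥Q, ((φ a : ↥Q) : G) = x * a * x⁻¹ := fun a => rfl
  have hchar : frattini ↥Q ≤ (frattini ↥Q).comap φ.toMonoidHom := by
    have := (Subgroup.characteristic_iff_comap_eq.mp (frattini_characteristic (G := ↥Q))) φ
    exact this.symm.le
  let φbar : (↥Q ⧸ frattini ↥Q) →* (↥Q ⧸ frattini ↥Q) :=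
    QuotientGroup.map _ _ φ.toMonoidHom hchar
  have hφbar : ∀ a : ↥Q, φbar (QuotientGroup.mk a) = QuotientGroup.mk (φ a) := fun a => rfl
  have hVp : IsPGroup p (↥Q ⧸ frattini ↥Q) := hQ.to_quotient _
  have hiter1 : ∀ (n : ℕ) (a : ↥Q), (φbar^[n]) (QuotientGroup.mk a) =
      QuotientGroup.mk (φ^[n] a) := by
    intro n
    induction n with
    | zero => intro a; rfl
    | succ n ih =>
      intro a
      rw [Function.iterate_succ_apply', ih, hφbar, Function.iterate_succ_apply']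
  have hiter2 : ∀ (n : ℕ) (a : ↥Q), ((φ^[n] a : ↥Q) : G) =
      x ^ n * a * (x ^ n)⁻¹ := by
    intro n
    induction n with
    | zero => intro a; simp
    | succ n ih =>
      intro a
      rw [Function.iterate_succ_apply', hφ, ih, pow_succ']
      group
  have hφq : ∀ v, φbar^[q] v = v := by
    intro v
    obtain ⟨a, rfl⟩ := QuotientGroup.mk_surjective v
    rw [hiter1]
    congr 1
    apply Subtype.ext
    rw [hiter2]
    have := (Subgroup.mem_centralizer_iff.mp hxq) a a.2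
    rw [← this, mul_inv_cancel_right]
  have hφ1 : ∃ v, φbar v ≠ v := by
    refine ⟨QuotientGroup.mk ⟨k0, hk0P⟩, ?_⟩
    rw [hφbar]
    intro heq
    rw [QuotientGroup.eq] at heq
    apply hk0
    have h1 : (φ ⟨k0, hk0P⟩) * (⟨k0, hk0P⟩ : ↥Q)⁻¹ ∈ frattini ↥Q := by
      have h2 := Subgroup.inv_mem _ heq
      have h3 := (inferInstance : (frattini ↥Q).Normal).conj_mem _ h2 (φ ⟨k0, hk0P⟩)
      have e : (φ ⟨k0, hk0P⟩) * ((φ ⟨k0, hk0P⟩)⁻¹ * (⟨k0, hk0P⟩ : ↥Q))⁻¹ * (φ ⟨k0, hk0P⟩)⁻¹ =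
          (φ ⟨k0, hk0P⟩) * (⟨k0, hk0P⟩ : ↥Q)⁻¹ := by group
      rwa [e] at h3
    refine ⟨_, h1, ?_⟩
    simp only [Subgroup.subtype_apply, Subgroup.coe_mul, Subgroup.coe_inv, hφ]
  obtain ⟨i, hi1, hi2, hi3⟩ := exists_dvd_pow_sub_one_of_aut hqp hVp φbar hφq hφ1
  refine ⟨q, i, hq, hqg, hi1, ?_, ?_, hi3⟩
  · have hexp : ∀ v : ↥Q ⧸ frattini ↥Q, v ^ p = 1 := by
      intro v
      obtain ⟨a, rfl⟩ := QuotientGroup.mk_surjective v
      rw [← QuotientGroup.mk_pow, QuotientGroup.eq_one_iff]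
      exact IsPGroup.pow_mem_frattini hQ a
    have hcommV : ∀ u v : ↥Q ⧸ frattini ↥Q, u * v = v * u := by
      intro u v
      obtain ⟨a, rfl⟩ := QuotientGroup.mk_surjective u
      obtain ⟨b, rfl⟩ := QuotientGroup.mk_surjective v
      rw [← QuotientGroup.mk_mul, ← QuotientGroup.mk_mul, QuotientGroup.eq]
      apply IsPGroup.commutator_le_frattini hQ
      have h0 := Subgroup.commutator_mem_commutator (Subgroup.mem_top b⁻¹) (Subgroup.mem_top a⁻¹)
      rw [commutatorElement_def] at h0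
      have : (a * b)⁻¹ * (b * a) = b⁻¹ * a⁻¹ * b⁻¹⁻¹ * a⁻¹⁻¹ := by group
      rw [this]
      exact h0
    letI : CommGroup (↥Q ⧸ frattini ↥Q) :=
      { (inferInstance : Group (↥Q ⧸ frattini ↥Q)) with mul_comm := hcommV }
    have h1 : Nat.card (↥Q ⧸ frattini ↥Q) ∣ p ^ Group.rank (↥Q ⧸ frattini ↥Q) :=
      card_dvd_exponent_pow_rank' _ hexp
    have h2 : Group.rank (↥Q ⧸ frattini ↥Q) ≤ Group.rank ↥Q :=
      Group.rank_le_of_surjective (QuotientGroup.mk' (frattini ↥Q))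
        (QuotientGroup.mk'_surjective _)
    have h3 := hi2.trans h1
    have h4 := (Nat.pow_dvd_pow_iff_le_right hp.one_lt).mp h3
    exact h4.trans h2
  · exact hi2.trans (Subgroup.card_quotient_dvd_card _)

end Cfsg.Agent.Lib.Helper21
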