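import Mathlib
import Cfsg.Prelude.Def_Blocks

set_option autoImplicit false
set_option linter.unusedSectionVars false

/-! S4640 farm (helper24): SPARES of the two tiny leaves [B] `mem_of_isPRegular` and [C] `comm_mod`
(helper21), under `_spare` names in the sub-namespace `Helper21`. -/

namespace Cfsg.Agent.Lib.Helper24.PIdx.Helper21

open Cfsg

variable {G : Type*} [Group G] [Fintype G] {p : ℕ} [Fact p.Prime]

/-- [B] `p`-regular elements lie in a normal subgroup of `p`-power index -/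
theorem mem_of_isPRegular_spare (N : Subgroup G) [N.Normal] (hNi : ∃ k : ℕ, N.index = p ^ k)
    (g : G) (hg : Cfsg.IsPRegular p g) : g ∈ N := by
  obtain ⟨k, hk⟩ := hNi
  have hp : p.Prime := Fact.out
  rw [← QuotientGroup.eq_one_iff]
  have h1 : orderOf (QuotientGroup.mk g : G ⧸ N) ∣ orderOf g :=
    orderOf_dvd_of_pow_eq_one (by rw [← QuotientGroup.mk_pow, pow_orderOf_eq_one]; rfl)
  have h2 : orderOf (QuotientGroup.mk g : G ⧸ N) ∣ p ^ k := by
    have := orderOf_dvd_natCard (QuotientGroup.mk g : G ⧸ N)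
    rwa [← Subgroup.index_eq_card, hk] at this
  obtain ⟨m, -, hm⟩ := (Nat.dvd_prime_pow hp).mp h2
  rw [← orderOf_eq_one_iff, hm]
  rcases Nat.eq_zero_or_pos m with rfl | hmpos
  · exact pow_zero p
  · exfalso
    apply hg
    refine dvd_trans ?_ h1
    rw [hm]
    exact dvd_pow_self p (by omega)

/-- [C] `G = N P` with `P` abelian: `G / N` is abelian -/
theorem comm_mod_spare (N : Subgroup G) [N.Normal] (P : Subgroup G) (hsup : N ⊔ P = ⊤)
    (hPab : ∀ x ∈ P, ∀ y ∈ P, x * y = y * x) (x y : G) : x * y * x⁻¹ * y⁻¹ ∈ N := by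
  -- every element of `G` is `n * a` with `n ∈ N`, `a ∈ P`
  have hdec : ∀ g : G, ∃ a ∈ P, (QuotientGroup.mk g : G ⧸ N) = QuotientGroup.mk a := by
    intro g
    have hg : g ∈ N ⊔ P := by rw [hsup]; exact Subgroup.mem_top g
    rw [Subgroup.mem_sup_of_normal_left] at hg
    obtain ⟨n, hn, a, ha, rfl⟩ := hg
    refine ⟨a, ha, ?_⟩
    rw [QuotientGroup.mk_mul, (QuotientGroup.eq_one_iff n).mpr hn, one_mul]
  obtain ⟨a, ha, hxa⟩ := hdec x
  obtain ⟨b, hb, hyb⟩ := hdec y
  rw [← QuotientGroup.eq_one_iff]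
  simp only [QuotientGroup.mk_mul, QuotientGroup.mk_inv, hxa, hyb]
  rw [← QuotientGroup.mk_mul, hPab a ha b hb, QuotientGroup.mk_mul]
  group

end Cfsg.Agent.Lib.Helper24.PIdx.Helper21
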