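import Mathlib
import Cfsg.Agent.Lib.Helper10.UniqueOrderP
import Cfsg.Agent.Lib.Helper16.Q8Aut
import Cfsg.Agent.Lib.Helper21.GL23Concrete

/-!
Finite groups with a normal self-centralizing quaternion subgroup of order eight:
they have a normal Sylow `2`-subgroup, or are `GL₂(𝔽₃)`, or the binary octahedral group.
-/

set_option autoImplicit false
set_option linter.unusedSectionVars false
set_option linter.style.haveILetI false

namespace Cfsg.Agent.Lib.Helper21.Q8Core

open QuaternionGroup DihedralGroup Cfsg.Agent.Lib.Helper16 Cfsg.Agent.Lib.Helper21.GL23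
  Cfsg.Agent.Lib.Helper10

theorem card_sylow_two {X : Type*} [Group X] [Finite X] (P : Sylow 2 X) (k m : ℕ)
    (hX : Nat.card X = 2 ^ k * m) (hm : ¬ 2 ∣ m) : Nat.card P = 2 ^ k := by
  have hm0 : m ≠ 0 := by
    rintro rfl
    exact hm (dvd_zero 2)
  rw [Sylow.card_eq_multiplicity, hX, Nat.factorization_mul (pow_ne_zero k two_ne_zero) hm0]
  simp [Nat.Prime.factorization_pow Nat.prime_two, Nat.factorization_eq_zero_of_not_dvd hm]

/-- the map from the dihedral group of order six determined by `c` and `t` -/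
def rhoFun {X : Type*} [Group X] (c t : X) : DihedralGroup 3 → X
  | r i => c ^ i.val
  | sr i => t * c ^ i.val

theorem rhoFun_mul {X : Type*} [Group X] (c t : X) (hc3 : c ^ 3 = 1) (ht2 : t * t = 1)
    (htc : t * c * t = c⁻¹) :
    ∀ x y : DihedralGroup 3, rhoFun c t (x * y) = rhoFun c t x * rhoFun c t y := by
  have hpadd : ∀ i j : ZMod 3, c ^ (i + j).val = c ^ i.val * c ^ j.val := by
    intro i j
    rw [← pow_add, ZMod.val_add, ← pow_eq_pow_mod _ hc3]
  have hpsub : ∀ i j : ZMod 3, c ^ (j - i).val = c ^ j.val * (c ^ i.val)⁻¹ := by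
    intro i j
    have h := hpadd (j - i) i
    rw [sub_add_cancel] at h
    rw [h, mul_inv_cancel_right]
  have htpow : ∀ k : ℕ, c ^ k * t = t * (c ^ k)⁻¹ := by
    intro k
    have htinv : t⁻¹ = t := inv_eq_of_mul_eq_one_left ht2
    have h1 : t * c ^ k * t = (c ^ k)⁻¹ := by
      have h := conj_pow (a := t) (b := c) (i := k)
      rw [htinv, htc, inv_pow] at h
      exact h.symm
    rw [← h1, ← mul_assoc, ← mul_assoc, ht2, one_mul]
  have hcomm : ∀ m n : ℕ, (c ^ m)⁻¹ * c ^ n = c ^ n * (c ^ m)⁻¹ := fun m n =>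
    (((Commute.refl c).pow_pow m n).inv_left).eq
  intro x y
  rcases x with i | i <;> rcases y with j | j
  · rw [r_mul_r]
    exact hpadd i j
  · rw [r_mul_sr]
    show t * c ^ (j - i).val = c ^ i.val * (t * c ^ j.val)
    calc t * c ^ (j - i).val = t * (c ^ j.val * (c ^ i.val)⁻¹) := by rw [hpsub]
      _ = t * ((c ^ i.val)⁻¹ * c ^ j.val) := by rw [hcomm]
      _ = (t * (c ^ i.val)⁻¹) * c ^ j.val := by rw [mul_assoc]
      _ = (c ^ i.val * t) * c ^ j.val := by rw [htpow]
      _ = c ^ i.val * (t * c ^ j.val) := by rw [mul_assoc]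
  · rw [sr_mul_r]
    show t * c ^ (i + j).val = t * c ^ i.val * c ^ j.val
    rw [hpadd, mul_assoc]
  · rw [sr_mul_sr]
    show c ^ (j - i).val = t * c ^ i.val * (t * c ^ j.val)
    calc c ^ (j - i).val = c ^ j.val * (c ^ i.val)⁻¹ := hpsub i j
      _ = (c ^ i.val)⁻¹ * c ^ j.val := (hcomm _ _).symm
      _ = (t * t) * (c ^ i.val)⁻¹ * c ^ j.val := by rw [ht2, one_mul]
      _ = t * (t * (c ^ i.val)⁻¹) * c ^ j.val := by rw [mul_assoc t t]
      _ = t * (c ^ i.val * t) * c ^ j.val := by rw [htpow]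
      _ = t * c ^ i.val * (t * c ^ j.val) := by simp only [mul_assoc]

section

variable {X : Type*} [Group X] (R : Subgroup X) [R.Normal]

/-- conjugation action on `R` -/
abbrev phi : X →* MulAut R := MulAut.conjNormal

theorem mem_ker_phi_iff (x : X) :
    x ∈ (phi R).ker ↔ x ∈ Subgroup.centralizer (R : Set X) := by
  rw [MonoidHom.mem_ker, Subgroup.mem_centralizer_iff]
  constructor
  · intro h r hr
    have h1 := congrArg (fun f : MulAut R => ((f ⟨r, hr⟩ : R) : X)) h
    simp only [MulAut.conjNormal_apply, MulAut.one_apply] at h1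
    exact (mul_inv_eq_iff_eq_mul.1 h1).symm
  · intro h
    apply MulEquiv.ext
    intro r
    apply Subtype.ext
    rw [MulAut.conjNormal_apply, MulAut.one_apply, mul_inv_eq_iff_eq_mul]
    exact (h r r.2).symm

variable (e : ↥R ≃* Q8)

/-- the conjugation action transported to `Q₈` -/
noncomputable def psi : X →* MulAut Q8 := (MulAut.congr e).toMonoidHom.comp (phi R)

theorem psi_apply (x : X) (r : R) : psi R e x (e r) = e (MulAut.conjNormal x r) := by
  show e (MulAut.conjNormal x (e.symm (e r))) = _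
  rw [e.symm_apply_apply]

theorem psi_coe (s : R) (h : Q8) : psi R e (s : X) h = e s * h * (e s)⁻¹ := by
  show e (MulAut.conjNormal (s : X) (e.symm h)) = _
  rw [MulAut.conjNormal_val, MulAut.conj_apply, map_mul, map_mul, map_inv, e.apply_symm_apply]

theorem psi_eq_one_iff (x : X) :
    psi R e x = 1 ↔ x ∈ Subgroup.centralizer (R : Set X) := by
  rw [← mem_ker_phi_iff, MonoidHom.mem_ker]
  show (MulAut.congr e) (phi R x) = 1 ↔ _
  exact MulEquiv.map_eq_one_iff (MulAut.congr e)

/-- the central involution -/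
noncomputable def zR : R := e.symm (a 2)

theorem zR_sq : zR R e * zR R e = 1 := by
  unfold zR
  rw [← map_mul, q8_a2_sq, map_one]

theorem zR_sq' : ((zR R e : R) : X) * (zR R e : X) = 1 := by
  have h := congrArg Subtype.val (zR_sq R e)
  simpa using h

theorem zR_ne_one : zR R e ≠ 1 := by
  unfold zR
  intro h
  exact q8_a2_ne_one ((MulEquiv.map_eq_one_iff e.symm).1 h)

theorem zR_comm (r : R) : zR R e * r = r * zR R e := by
  apply e.injective
  rw [map_mul, map_mul]
  unfold zR
  rw [e.apply_symm_apply]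
  exact q8_a2_central (e r)

theorem eq_zR_of_sq (r : R) (h2 : r * r = 1) (h1 : r ≠ 1) : r = zR R e := by
  apply e.injective
  unfold zR
  rw [e.apply_symm_apply]
  apply q8_unique_involution
  · rw [← map_mul, h2, map_one]
  · intro h
    exact h1 ((MulEquiv.map_eq_one_iff e).1 h)

theorem zR_conj (x : X) : x * (zR R e : X) * x⁻¹ = zR R e := by
  have hmem : x * (zR R e : X) * x⁻¹ ∈ R :=
    Subgroup.Normal.conj_mem inferInstance _ (zR R e).2 x
  have h := eq_zR_of_sq R e ⟨_, hmem⟩ ?_ ?_
  · exact congrArg Subtype.val h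
  · apply Subtype.ext
    show (x * ↑(zR R e) * x⁻¹) * (x * ↑(zR R e) * x⁻¹) = 1
    calc (x * ↑(zR R e) * x⁻¹) * (x * ↑(zR R e) * x⁻¹)
        = x * ((zR R e : X) * (zR R e : X)) * x⁻¹ := by group
      _ = 1 := by rw [zR_sq' R e]; group
  · intro h
    have h1 : x * (zR R e : X) * x⁻¹ = 1 := congrArg Subtype.val h
    have h3 : (zR R e : X) = 1 := by
      have h4 := congrArg (fun y => x⁻¹ * y * x) h1
      simpa [mul_assoc] using h4
    exact zR_ne_one R e (Subtype.ext h3)

theorem zR_commute (x : X) : Commute x (zR R e : X) :=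
  mul_inv_eq_iff_eq_mul.1 (zR_conj R e x)

theorem orderOf_zR : orderOf (zR R e : X) = 2 := by
  apply orderOf_eq_prime
  · rw [pow_two]
    exact zR_sq' R e
  · intro h
    exact zR_ne_one R e (Subtype.ext h)

include e in
theorem card_mulAut_R : Nat.card (MulAut R) = 24 := by
  rw [Nat.card_congr (MulAut.congr e).toEquiv, card_mulAut_q8]

include e in
theorem card_R : Nat.card R = 8 := by
  rw [Nat.card_congr e.toEquiv, Nat.card_eq_fintype_card, QuaternionGroup.card]

variable (hcent : Subgroup.centralizer (R : Set X) ≤ R)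

include hcent in
theorem eq_one_or_eq_zR_of_mem_centralizer (x : X)
    (hx : x ∈ Subgroup.centralizer (R : Set X)) : x = 1 ∨ x = (zR R e : X) := by
  have hxR : x ∈ R := hcent hx
  have hc : ∀ h : Q8, e ⟨x, hxR⟩ * h = h * e ⟨x, hxR⟩ := by
    intro h
    have h1 : (⟨x, hxR⟩ : R) * e.symm h = e.symm h * ⟨x, hxR⟩ := by
      apply Subtype.ext
      show x * (e.symm h : X) = (e.symm h : X) * x
      exact ((Subgroup.mem_centralizer_iff.1 hx) _ (e.symm h).2).symm
    have h2 := congrArg e h1
    rwa [map_mul, map_mul, e.apply_symm_apply] at h2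
  rcases q8_center _ hc with h | h
  · left
    have h1 : (⟨x, hxR⟩ : R) = 1 := (MulEquiv.map_eq_one_iff e).1 h
    exact congrArg Subtype.val h1
  · right
    have h1 : (⟨x, hxR⟩ : R) = zR R e := by
      apply e.injective
      unfold zR
      rw [e.apply_symm_apply]
      exact h
    exact congrArg Subtype.val h1

include hcent in
theorem ker_phi_eq : (phi R).ker = Subgroup.zpowers (zR R e : X) := by
  ext x
  rw [mem_ker_phi_iff]
  constructor
  · intro hx
    rcases eq_one_or_eq_zR_of_mem_centralizer R e hcent x hx with h | h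
    · rw [h]
      exact Subgroup.one_mem _
    · rw [h]
      exact Subgroup.mem_zpowers _
  · intro hx
    have hz : (zR R e : X) ∈ Subgroup.centralizer (R : Set X) := by
      rw [Subgroup.mem_centralizer_iff]
      intro r hr
      have h := zR_comm R e ⟨r, hr⟩
      exact (congrArg Subtype.val h).symm
    exact (Subgroup.zpowers_le.2 hz) hx

include e hcent in
theorem card_ker_phi : Nat.card (phi R).ker = 2 := by
  rw [ker_phi_eq R e hcent, Nat.card_zpowers, orderOf_zR]

include e hcent in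
theorem card_eq_two_mul : Nat.card X = 2 * Nat.card (phi R).range := by
  rw [← Subgroup.card_mul_index (phi R).ker, card_ker_phi R e hcent, Subgroup.index_ker]

include e hcent in
theorem center_eq : Subgroup.center X = (phi R).ker := by
  rw [ker_phi_eq R e hcent]
  apply le_antisymm
  · intro x hx
    have hxc : x ∈ Subgroup.centralizer (R : Set X) := Subgroup.center_le_centralizer _ hx
    rcases eq_one_or_eq_zR_of_mem_centralizer R e hcent x hxc with h | h
    · rw [h]
      exact Subgroup.one_mem _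
    · rw [h]
      exact Subgroup.mem_zpowers _
  · rw [Subgroup.zpowers_le, Subgroup.mem_center_iff]
    intro x
    exact zR_commute R e x

include e hcent in
theorem phi_surjective [Finite X] (h48 : Nat.card X = 48) : Function.Surjective (phi R) := by
  rw [← MonoidHom.range_eq_top, ← Subgroup.card_eq_iff_eq_top, card_mulAut_R R e]
  have h := card_eq_two_mul R e hcent
  omega

include e hcent in
theorem quot_center_equiv [Finite X] (h48 : Nat.card X = 48) :
    Nonempty (X ⧸ Subgroup.center X ≃* Equiv.Perm (Fin 4)) := by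
  obtain ⟨f⟩ := mulAut_q8_equiv_perm
  have e1 : X ⧸ Subgroup.center X ≃* X ⧸ (phi R).ker :=
    QuotientGroup.quotientMulEquivOfEq (center_eq R e hcent)
  have e2 : X ⧸ (phi R).ker ≃* MulAut R :=
    QuotientGroup.quotientKerEquivOfSurjective (phi R) (phi_surjective R e hcent h48)
  exact ⟨(e1.trans e2).trans ((MulAut.congr e).trans f)⟩

/-- compatibility of conjugation by `x` on `R` with conjugation by the matrix `m` -/
def Compat (x : X) (m : G23) : Prop :=
  ∀ r : R, Mfun (e (MulAut.conjNormal x r)) = m * Mfun (e r) * m⁻¹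

theorem compat_one : Compat R e 1 1 := by
  intro r
  simp

theorem compat_mul {x y : X} {m n : G23} (hx : Compat R e x m) (hy : Compat R e y n) :
    Compat R e (x * y) (m * n) := by
  intro r
  rw [map_mul, MulAut.mul_apply, hx, hy]
  group

theorem compat_pow {x : X} {m : G23} (h : Compat R e x m) (k : ℕ) :
    Compat R e (x ^ k) (m ^ k) := by
  induction k with
  | zero =>
    rw [pow_zero, pow_zero]
    exact compat_one R e
  | succ k ih =>
    rw [pow_succ, pow_succ]
    exact compat_mul R e ih h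

include e hcent in
theorem normalize_e (t : X) (ht2 : t * t = 1) (htR : t ∉ R) :
    ∃ e' : ↥R ≃* Q8, ∀ r : R, e' (MulAut.conjNormal t r) = tau0 (e' r) := by
  obtain ⟨τ, hτ⟩ : ∃ τ : MulAut Q8, τ = psi R e t := ⟨_, rfl⟩
  have hτ2 : ∀ g, τ (τ g) = g := by
    intro g
    have h1 : τ * τ = 1 := by rw [hτ, ← map_mul, ht2, map_one]
    have h2 := congrArg (fun f : MulAut Q8 => f g) h1
    simpa using h2
  have hgood : Q8Good (τ (a 1), τ (xa 0)) := q8Good_of_aut τ
  have hfun : ∀ g, q8AutFun (τ (a 1), τ (xa 0)) g = τ g := fun g => (q8_aut_eq τ g).symm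
  have hninner : ∀ g : Q8, ¬ ((τ (a 1), τ (xa 0)).1 = g * a 1 * g⁻¹ ∧
      (τ (a 1), τ (xa 0)).2 = g * xa 0 * g⁻¹) := by
    rintro g ⟨h1, h2⟩
    apply htR
    obtain ⟨s, hs⟩ : ∃ s : R, e s = g := ⟨e.symm g, e.apply_symm_apply g⟩
    have hs1 : psi R e (s : X) (a 1) = g * a 1 * g⁻¹ := by rw [psi_coe, hs]
    have hs2 : psi R e (s : X) (xa 0) = g * xa 0 * g⁻¹ := by rw [psi_coe, hs]
    have hu1 : psi R e ((s : X)⁻¹ * t) (a 1) = a 1 := by
      rw [map_mul, map_inv, MulAut.mul_apply, ← hτ]
      have h1' : τ (a 1) = g * a 1 * g⁻¹ := h1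
      rw [h1', ← hs1]
      exact MulAut.inv_apply_self _ _ _
    have hu2 : psi R e ((s : X)⁻¹ * t) (xa 0) = xa 0 := by
      rw [map_mul, map_inv, MulAut.mul_apply, ← hτ]
      have h2' : τ (xa 0) = g * xa 0 * g⁻¹ := h2
      rw [h2', ← hs2]
      exact MulAut.inv_apply_self _ _ _
    have hu : psi R e ((s : X)⁻¹ * t) = 1 := q8_aut_eq_one _ hu1 hu2
    have huR : (s : X)⁻¹ * t ∈ R := hcent ((psi_eq_one_iff R e _).1 hu)
    have ht : t = (s : X) * ((s : X)⁻¹ * t) := by group
    rw [ht]
    exact R.mul_mem s.2 huR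
  obtain ⟨r₀, hr₀, hr₀τ⟩ := q8_normalize_invol (τ (a 1), τ (xa 0)) hgood
    (by simp only [hfun]; exact hτ2 _) (by simp only [hfun]; exact hτ2 _) hninner
  refine ⟨e.trans (q8AutOfGood ⟨r₀, hr₀⟩), fun r => ?_⟩
  show q8AutFun r₀ (e (MulAut.conjNormal t r)) = tau0 (q8AutFun r₀ (e r))
  rw [← psi_apply R e t r, ← hr₀τ (e r), hfun, hτ]

include hcent in
theorem exists_c [Finite X] (h48 : Nat.card X = 48) :
    ∃ c : X, c ^ 3 = 1 ∧ ∀ r : R, e (MulAut.conjNormal c r) = sig0 (e r) := by
  obtain ⟨σ, hσ⟩ : ∃ σ : MulAut Q8, σ = q8AutOfGood ⟨(xa 0, xa 3), good_sig0⟩ := ⟨_, rfl⟩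
  have hσa : ∀ g, σ g = sig0 g := fun g => by rw [hσ]; rfl
  have hσ3 : σ ^ 3 = 1 := by
    apply MulEquiv.ext
    intro g
    rw [pow_succ, pow_two, MulAut.mul_apply, MulAut.mul_apply, hσa, hσa, hσa]
    exact sig0_cube g
  obtain ⟨c₀, hc₀⟩ := phi_surjective R e hcent h48 ((MulAut.congr e).symm σ)
  have hψ : psi R e c₀ = σ := by
    show (MulAut.congr e) (phi R c₀) = σ
    rw [hc₀, MulEquiv.apply_symm_apply]
  have h3 : psi R e (c₀ ^ 3) = 1 := by rw [map_pow, hψ, hσ3]
  have h3' : c₀ ^ 3 ∈ Subgroup.centralizer (R : Set X) := (psi_eq_one_iff R e _).1 h3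
  have h6 : (c₀ ^ 3) ^ 2 = 1 := by
    rcases eq_one_or_eq_zR_of_mem_centralizer R e hcent _ h3' with h | h
    · rw [h, one_pow]
    · rw [h, pow_two]
      exact zR_sq' R e
  refine ⟨c₀ ^ 4, ?_, ?_⟩
  · have h12 : (c₀ ^ 4) ^ 3 = ((c₀ ^ 3) ^ 2) ^ 2 := by
      rw [← pow_mul, ← pow_mul, ← pow_mul]
    rw [h12, h6, one_pow]
  · intro r
    rw [← psi_apply, map_pow, hψ]
    have h4 : σ ^ 4 = σ := by rw [pow_succ, hσ3, one_mul]
    rw [h4, hσa]

include hcent in
theorem relation_tc (t c : X) (ht2 : t * t = 1) (hc3 : c ^ 3 = 1)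
    (het : ∀ r : R, e (MulAut.conjNormal t r) = tau0 (e r))
    (hec : ∀ r : R, e (MulAut.conjNormal c r) = sig0 (e r)) : t * c * t = c⁻¹ := by
  have hw : psi R e (t * c * t * c) = 1 := by
    apply MulEquiv.ext
    intro g
    obtain ⟨r, rfl⟩ := e.surjective g
    rw [psi_apply, map_mul, map_mul, map_mul, MulAut.mul_apply, MulAut.mul_apply,
      MulAut.mul_apply, het, hec, het, hec]
    exact tau_sig_rel (e r)
  have hwc := (psi_eq_one_iff R e _).1 hw
  rcases eq_one_or_eq_zR_of_mem_centralizer R e hcent _ hwc with h | h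
  · exact eq_inv_of_mul_eq_one_left h
  · exfalso
    have htinv : t⁻¹ = t := inv_eq_of_mul_eq_one_left ht2
    have h1 : t * c * t = (zR R e : X) * c⁻¹ := by rw [← h, mul_inv_cancel_right]
    have h2 : (t * c * t) ^ 3 = 1 := by
      have h5 := conj_pow (a := t) (b := c) (i := 3)
      rw [htinv] at h5
      rw [h5, hc3, mul_one, ht2]
    have hcomm : Commute (zR R e : X) c⁻¹ := (zR_commute R e c⁻¹).symm
    rw [h1, hcomm.mul_pow] at h2
    have hz3 : (zR R e : X) ^ 3 = zR R e := by
      rw [pow_succ, pow_two, zR_sq' R e, one_mul]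
    rw [hz3, inv_pow, hc3, inv_one, mul_one] at h2
    exact zR_ne_one R e (Subtype.ext h2)

theorem recog_key [Finite X] (h48 : Nat.card X = 48) (K : Subgroup X)
    (dK : ↥K ≃* DihedralGroup 3)
    (hcompat : ∀ k : K, Compat R e (k : X) (Dfun (dK k)))
    (φ' : ↥K →* MulAut ↥R) (hφ' : ∀ (k : K) (r : R), ((φ' k r : R) : X) = k * r * (k : X)⁻¹)
    (E : R ⋊[φ'] K ≃* X) : Nonempty (X ≃* G23) := by
  let fn : ↥R →* G23 := Mhom.comp e.toMonoidHom
  let fg : ↥K →* G23 := Dhom.comp dK.toMonoidHom
  have hlift : ∀ k : K,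
      fn.comp (φ' k).toMonoidHom = (MulAut.conj (fg k)).toMonoidHom.comp fn := by
    intro k
    apply MonoidHom.ext
    intro r
    show Mfun (e (φ' k r)) = Dfun (dK k) * Mfun (e r) * (Dfun (dK k))⁻¹
    have h1 : φ' k r = MulAut.conjNormal (k : X) r := by
      apply Subtype.ext
      rw [hφ', MulAut.conjNormal_apply]
    rw [h1]
    exact hcompat k r
  let F : R ⋊[φ'] K →* G23 := SemidirectProduct.lift fn fg hlift
  have hF : Function.Injective F := by
    rw [injective_iff_map_eq_one]
    intro x hx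
    have hx' : Mfun (e x.left) * Dfun (dK x.right) = 1 := hx
    obtain ⟨h1, h2⟩ := MD_inj _ _ hx'
    have h1' : x.left = 1 := (MulEquiv.map_eq_one_iff e).1 h1
    have h2' : x.right = 1 := (MulEquiv.map_eq_one_iff dK).1 h2
    exact SemidirectProduct.ext (by rw [h1']; rfl) (by rw [h2']; rfl)
  have hΘ : Function.Injective (F.comp E.symm.toMonoidHom) := hF.comp E.symm.injective
  have hbij : Function.Bijective (F.comp E.symm.toMonoidHom) := by
    apply hΘ.bijective_of_nat_card_le
    rw [card_G23, h48]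
  exact ⟨MulEquiv.ofBijective _ hbij⟩

theorem recog_of_data [Finite X] (h48 : Nat.card X = 48) (t c : X) (ht2 : t * t = 1)
    (hc3 : c ^ 3 = 1) (htc : t * c * t = c⁻¹)
    (het : ∀ r : R, e (MulAut.conjNormal t r) = tau0 (e r))
    (hec : ∀ r : R, e (MulAut.conjNormal c r) = sig0 (e r)) : Nonempty (X ≃* G23) := by
  obtain ⟨ρ, hρ⟩ : ∃ ρ : DihedralGroup 3 →* X, ∀ d, ρ d = rhoFun c t d :=
    ⟨MonoidHom.mk' (rhoFun c t) (rhoFun_mul c t hc3 ht2 htc), fun d => rfl⟩
  have hcompat : ∀ d, Compat R e (ρ d) (Dfun d) := by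
    have hC : Compat R e c mC := fun r => by rw [hec, M_sigma]
    have hT : Compat R e t mT := fun r => by rw [het, M_tau]
    intro d
    rw [hρ]
    cases d with
    | r i => exact compat_pow R e hC i.val
    | sr i => exact compat_mul R e hT (compat_pow R e hC i.val)
  have hρR : ∀ d, ρ d ∈ R → d = 1 := by
    intro d hd
    apply MD_central (e ⟨ρ d, hd⟩) d
    intro h
    obtain ⟨r, rfl⟩ := e.surjective h
    rw [← hcompat d r]
    have h1 : MulAut.conjNormal (ρ d) r = ⟨ρ d, hd⟩ * r * (⟨ρ d, hd⟩ : R)⁻¹ := by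
      apply Subtype.ext
      rw [MulAut.conjNormal_apply]
      rfl
    rw [h1, map_mul, map_mul, map_inv]
  have hinj : Function.Injective ρ := by
    rw [injective_iff_map_eq_one]
    intro d hd
    exact hρR d (by rw [hd]; exact R.one_mem)
  have hdisj : Disjoint R ρ.range := by
    rw [Subgroup.disjoint_def]
    rintro x hxR ⟨d, rfl⟩
    rw [hρR d hxR, map_one]
  have hcardK : Nat.card ρ.range = 6 := by
    rw [← Nat.card_congr (MonoidHom.ofInjective hinj).toEquiv, DihedralGroup.nat_card]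
  have hcompl : R.IsComplement' ρ.range := by
    apply Subgroup.isComplement'_of_card_mul_and_disjoint _ hdisj
    rw [card_R R e, hcardK, h48]
  refine recog_key R e h48 ρ.range (MonoidHom.ofInjective hinj).symm ?_ _ ?_
    (SemidirectProduct.mulEquivSubgroup hcompl)
  · intro k
    have h := hcompat ((MonoidHom.ofInjective hinj).symm k)
    rw [MonoidHom.apply_ofInjective_symm] at h
    exact h
  · intro k r
    rfl

include e hcent in
theorem gl23_recog [Finite X] (h48 : Nat.card X = 48) (t : X) (ht2 : t * t = 1)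
    (htR : t ∉ R) : Nonempty (X ≃* G23) := by
  obtain ⟨e', he't⟩ := normalize_e R e hcent t ht2 htR
  obtain ⟨c, hc3, hce⟩ := exists_c R e' hcent h48
  have htc : t * c * t = c⁻¹ := relation_tc R e' hcent t c ht2 hc3 he't hce
  exact recog_of_data R e' h48 t c ht2 hc3 htc he't hce

include e in
theorem isPGroup_R : IsPGroup 2 R :=
  IsPGroup.of_card (n := 3) (by rw [card_R R e]; norm_num)

include e in
theorem exists_invol [Finite X] (P : Sylow 2 X) (h48 : Nat.card X = 48)
    (hP : ¬ Nonempty (↥(P : Subgroup X) ≃* QuaternionGroup 4)) :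
    ∃ t : X, t * t = 1 ∧ t ∉ R := by
  by_contra hcon
  push Not at hcon
  have hRP : R ≤ P := (isPGroup_R R e).le_sylow_of_normal P
  have key : ∀ w : (P : Subgroup X), w ^ 2 = 1 → w ≠ 1 → (w : X) = (zR R e : X) := by
    intro w hw hw1
    have hw' : (w : X) * (w : X) = 1 := by
      have h := congrArg Subtype.val hw
      rw [pow_two] at h
      simpa using h
    have hwR : (w : X) ∈ R := hcon _ hw'
    have h := eq_zR_of_sq R e ⟨_, hwR⟩ (Subtype.ext hw') (fun h0 => by
      have h00 : (w : X) = 1 := congrArg Subtype.val h0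
      exact hw1 (Subtype.ext h00))
    exact congrArg Subtype.val h
  have hu : UniqueOrderP 2 ↥(P : Subgroup X) := by
    intro x y hx hx1 hy
    by_cases hy1 : y = 1
    · rw [hy1]
      exact Subgroup.one_mem _
    · have hxy : y = x := Subtype.ext ((key y hy hy1).trans (key x hx hx1).symm)
      rw [hxy]
      exact Subgroup.mem_zpowers x
  rcases isCyclic_or_quaternion_of_uniqueOrderP P.2 hu with hc | ⟨_, n, ⟨f⟩⟩
  · haveI : IsCyclic ↥(P : Subgroup X) := hc
    haveI : IsCyclic R := Subgroup.isCyclic_of_le hRP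
    haveI : IsCyclic Q8 := isCyclic_of_surjective e e.surjective
    exact q8_not_comm (fun g h => (IsCyclic.commGroup (α := Q8)).mul_comm g h)
  · have hn : 2 ^ n = 4 := by
      haveI : NeZero (2 ^ n) := ⟨by positivity⟩
      have h1 := Nat.card_congr f.toEquiv
      rw [card_sylow_two P 4 3 (by rw [h48]; norm_num) (by norm_num),
        Nat.card_eq_fintype_card, QuaternionGroup.card] at h1
      omega
    exact hP ⟨hn ▸ f⟩

include e hcent in
/-- A finite group with a normal self-centralizing quaternion subgroup of order eight has a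
normal Sylow `2`-subgroup, or is `GL₂(𝔽₃)`, or is the binary octahedral group. -/
theorem q8_core_cases [Finite X] :
    (∃ P : Sylow 2 X, (P : Subgroup X).Normal) ∨ Nonempty (X ≃* GL (Fin 2) (ZMod 3)) ∨
    (Nat.card X = 48 ∧ Nat.card ↥(Subgroup.center X) = 2 ∧
      Nonempty (X ⧸ Subgroup.center X ≃* Equiv.Perm (Fin 4)) ∧
      ∀ P : Sylow 2 X, Nonempty (↥(P : Subgroup X) ≃* QuaternionGroup 4)) := by
  have hR8 := card_R R e
  have hdvd : Nat.card X ∣ 2 * 24 := by
    rw [card_eq_two_mul R e hcent]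
    have h := Subgroup.card_subgroup_dvd_card (phi R).range
    rw [card_mulAut_R R e] at h
    exact Nat.mul_dvd_mul_left 2 h
  have h8 : 8 ∣ Nat.card X := hR8 ▸ Subgroup.card_subgroup_dvd_card R
  obtain ⟨k, hk⟩ := h8
  have hk6 : k ∣ 6 := by
    rw [hk] at hdvd
    exact (Nat.mul_dvd_mul_iff_left (by norm_num : 0 < 8)).1 (by simpa using hdvd)
  have hkle : k ≤ 6 := Nat.le_of_dvd (by norm_num) hk6
  obtain ⟨P⟩ := (Sylow.nonempty : Nonempty (Sylow 2 X))
  have hRP : R ≤ P := (isPGroup_R R e).le_sylow_of_normal P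
  have hnormal8 : Nat.card P = 8 → (P : Subgroup X).Normal := by
    intro h
    have h1 : R = P := Subgroup.eq_of_le_of_card_ge hRP (by rw [h, hR8])
    rw [← h1]
    infer_instance
  have hpos : 0 < Nat.card X := Nat.card_pos
  interval_cases k
  · omega
  · left
    exact ⟨P, hnormal8 (card_sylow_two P 3 1 (by norm_num [hk]) (by norm_num))⟩
  · left
    have h16 := card_sylow_two P 4 1 (by norm_num [hk]) (by norm_num)
    have htop : (P : Subgroup X) = ⊤ := (Subgroup.card_eq_iff_eq_top _).1 (by norm_num [h16, hk])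
    refine ⟨P, ?_⟩
    rw [htop]
    infer_instance
  · left
    exact ⟨P, hnormal8 (card_sylow_two P 3 3 (by norm_num [hk]) (by norm_num))⟩
  · exfalso
    revert hk6
    norm_num
  · exfalso
    revert hk6
    norm_num
  · have h48 : Nat.card X = 48 := by rw [hk]
    by_cases hQ : ∀ P : Sylow 2 X, Nonempty (↥(P : Subgroup X) ≃* QuaternionGroup 4)
    · right
      right
      refine ⟨h48, ?_, quot_center_equiv R e hcent h48, hQ⟩
      rw [center_eq R e hcent, card_ker_phi R e hcent]
    · right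
      left
      obtain ⟨P', hP'⟩ := not_forall.1 hQ
      obtain ⟨t, ht2, htR⟩ := exists_invol R e P' h48 hP'
      exact gl23_recog R e hcent h48 t ht2 htR

end

end Cfsg.Agent.Lib.Helper21.Q8Core
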