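import Mathlib

/-!
The automorphism group of a generalized quaternion group of order at least sixteen is a
`2`-group; a finite group with a self-centralizing normal `2`-subgroup whose automorphism
group is a `2`-group is itself a `2`-group.
-/

set_option autoImplicit false

namespace Cfsg.Agent.Lib.Helper21.QuatAut

open QuaternionGroup

variable {m : ℕ}

theorem a_pow_eq (j : ZMod (2 * m)) (k : ℕ) : (a j : QuaternionGroup m) ^ k = a ((k : ZMod (2 * m)) * j) := by
  induction k with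
  | zero => simp [a_zero]
  | succ k ih =>
    rw [pow_succ, ih, a_mul_a]
    congr 1
    push_cast
    ring

theorem aut_a_one [NeZero m] (hm : 3 ≤ m) (σ : MulAut (QuaternionGroup m)) :
    ∃ j, σ (a 1) = a j := by
  cases h : σ (a 1) with
  | a j => exact ⟨j, rfl⟩
  | xa j =>
    exfalso
    have h1 : orderOf (σ (a 1)) = orderOf (a 1 : QuaternionGroup m) := MulEquiv.orderOf_eq σ (a 1)
    rw [h, orderOf_xa, orderOf_a_one] at h1
    omega

theorem aut_a [NeZero m] (σ : MulAut (QuaternionGroup m)) (j : ZMod (2 * m))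
    (h : σ (a 1) = a j) (x : ZMod (2 * m)) : σ (a x) = a (x * j) := by
  have hx : (a x : QuaternionGroup m) = (a 1) ^ x.val := by
    rw [a_one_pow, ZMod.natCast_zmod_val]
  rw [hx, map_pow, h, a_pow_eq, ZMod.natCast_zmod_val]

theorem aut_pow_a [NeZero m] (σ : MulAut (QuaternionGroup m)) (j : ZMod (2 * m))
    (h : σ (a 1) = a j) (i : ℕ) (x : ZMod (2 * m)) : (σ ^ i) (a x) = a (x * j ^ i) := by
  induction i generalizing x with
  | zero => simp
  | succ i ih =>
    rw [pow_succ, MulAut.mul_apply, aut_a σ j h, ih]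
    congr 1
    ring

theorem aut_unit_pow (n : ℕ) (hm : 3 ≤ 2 ^ n) (σ : MulAut (QuaternionGroup (2 ^ n)))
    (j : ZMod (2 * 2 ^ n)) (h : σ (a 1) = a j) : j ^ (2 ^ n) = 1 := by
  have : NeZero (2 ^ n) := ⟨by positivity⟩
  obtain ⟨j', hj'⟩ := aut_a_one hm σ⁻¹
  have h1 : σ (σ⁻¹ (a 1)) = a 1 := by simp
  rw [hj', aut_a σ j h] at h1
  have h2 : j' * j = 1 := QuaternionGroup.a.inj h1
  let u : (ZMod (2 * 2 ^ n))ˣ := Units.mkOfMulEqOne j j' ((mul_comm j j').trans h2)
  have h3 := ZMod.pow_totient u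
  have h4 : (2 * 2 ^ n).totient = 2 ^ n := by
    rw [← pow_succ', Nat.totient_prime_pow_succ Nat.prime_two]
    simp
  rw [h4] at h3
  have h5 := congrArg Units.val h3
  simpa [u] using h5

/-- The automorphism group of a generalized quaternion group of order at least `16` is a
`2`-group. -/
theorem isPGroup_mulAut_quaternion (n : ℕ) (hn : 2 ≤ n) :
    IsPGroup 2 (MulAut (QuaternionGroup (2 ^ n))) := by
  have : NeZero (2 ^ n) := ⟨by positivity⟩
  have hm : 3 ≤ 2 ^ n := by
    calc 3 ≤ 2 ^ 2 := by norm_num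
      _ ≤ 2 ^ n := Nat.pow_le_pow_right (by norm_num) hn
  intro σ
  obtain ⟨j, hj⟩ := aut_a_one hm σ
  have hjp := aut_unit_pow n hm σ j hj
  obtain ⟨τ, hτ⟩ : ∃ τ : MulAut (QuaternionGroup (2 ^ n)), τ = σ ^ (2 ^ n) := ⟨_, rfl⟩
  have hτa : ∀ x, τ (a x) = a x := by
    intro x
    rw [hτ, aut_pow_a σ j hj, hjp, mul_one]
  have hτa' : ∀ (i : ℕ) x, (τ ^ i) (a x) = a x := by
    intro i x
    induction i with
    | zero => rfl
    | succ i ih => rw [pow_succ', MulAut.mul_apply, ih, hτa]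
  obtain ⟨k, hk⟩ : ∃ k, τ (xa 0) = xa k := by
    cases h : τ (xa 0) with
    | a k =>
      exfalso
      have h1 : τ (xa 0) = τ (a k) := by rw [h, hτa]
      have h2 := τ.injective h1
      cases h2
    | xa k => exact ⟨k, rfl⟩
  have hτxa : ∀ i : ℕ, (τ ^ i) (xa 0) = xa ((i : ZMod (2 * 2 ^ n)) * k) := by
    intro i
    induction i with
    | zero => simp
    | succ i ih =>
      rw [pow_succ', MulAut.mul_apply, ih]
      have h1 : (xa ((i : ZMod (2 * 2 ^ n)) * k) : QuaternionGroup (2 ^ n)) =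
          xa 0 * a ((i : ZMod (2 * 2 ^ n)) * k) := by rw [xa_mul_a, zero_add]
      rw [h1, map_mul, hk, hτa, xa_mul_a]
      congr 1
      push_cast
      ring
  refine ⟨n + (n + 1), ?_⟩
  have hpow : σ ^ (2 ^ (n + (n + 1))) = τ ^ (2 * 2 ^ n) := by
    rw [hτ, ← pow_mul, pow_add, pow_succ' 2 n]
  rw [hpow]
  ext g
  cases g with
  | a x => rw [hτa']; rfl
  | xa x =>
    have hx : (xa x : QuaternionGroup (2 ^ n)) = xa 0 * a x := by rw [xa_mul_a, zero_add]
    rw [hx, map_mul, hτxa, hτa', ZMod.natCast_self, zero_mul]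
    rfl

/-- A finite group with a normal self-centralizing `2`-subgroup whose automorphism group is a
`2`-group is a `2`-group. -/
theorem isPGroup_of_normal_aut {X : Type*} [Group X] (R : Subgroup X) [R.Normal]
    (hR : IsPGroup 2 R) (hA : IsPGroup 2 (MulAut R))
    (hcent : Subgroup.centralizer (R : Set X) ≤ R) : IsPGroup 2 X := by
  intro g
  obtain ⟨a, ha⟩ := hA (MulAut.conjNormal g)
  rw [← map_pow] at ha
  have hmem : g ^ 2 ^ a ∈ R := by
    apply hcent
    rw [Subgroup.mem_centralizer_iff]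
    intro n hn
    have h1 := congrArg (fun φ : MulAut R => ((φ ⟨n, hn⟩ : R) : X)) ha
    simp only [MulAut.conjNormal_apply, MulAut.one_apply] at h1
    have h2 : g ^ 2 ^ a * n = n * g ^ 2 ^ a := mul_inv_eq_iff_eq_mul.1 h1
    exact h2.symm
  obtain ⟨b, hb⟩ := hR ⟨g ^ 2 ^ a, hmem⟩
  have hb' : (g ^ 2 ^ a) ^ 2 ^ b = 1 := by
    have := congrArg Subtype.val hb
    simpa using this
  refine ⟨a + b, ?_⟩
  rw [pow_add, pow_mul]
  exact hb'

end Cfsg.Agent.Lib.Helper21.QuatAut
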