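import Mathlib

set_option autoImplicit false

/-! S5046 reduction farm (helper3): SPARE of the leaf [TC3] (helper21), under a `_spare` name in the
sub-namespace `Helper21`. -/

namespace Cfsg.Agent.Lib.Helper3.Red.Helper21

variable {G : Type*} [Group G]

/-- [TC3] a finite 2-group equal to its commutator subgroup is trivial. -/
theorem eq_bot_of_le_commutator_spare [Finite G] (Q : Subgroup G) (hQ : IsPGroup 2 Q)
    (h : Q ≤ ⁅Q, Q⁆) : Q = ⊥ := by
  by_contra hne
  have hnt : Nontrivial Q := (Subgroup.nontrivial_iff_ne_bot Q).mpr hne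
  have hp : Fact (Nat.Prime 2) := ⟨Nat.prime_two⟩
  have hnil : Group.IsNilpotent Q := hQ.isNilpotent
  have hsol : Group.IsSolvable Q := inferInstance
  have hlt := Group.IsSolvable.commutator_lt_top_of_nontrivial Q
  apply hlt.ne
  rw [eq_top_iff]
  intro x _
  have hx : (x : G) ∈ ⁅Q, Q⁆ := h x.2
  rw [← Subgroup.map_subtype_commutator] at hx
  obtain ⟨y, hy, hyx⟩ := hx
  have : y = x := Subtype.ext hyx
  rw [← this]
  exact hy

end Cfsg.Agent.Lib.Helper3.Red.Helper21
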