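import Cfsg.Agent.Lib.Helper21.GL23Defs
import Cfsg.Agent.Lib.Helper19.S0197BB
import Cfsg.Agent.Lib.Helper22.S0197B2
import Cfsg.Agent.Lib.Helper24.S0197C2
import Cfsg.Agent.Lib.Helper11.S0197E
import Cfsg.Agent.Lib.Helper23.S0197G
import Cfsg.Agent.Lib.Helper23.S0197N
import Cfsg.Agent.Lib.Helper29.S0197D
import Cfsg.Agent.Lib.Helper11.TIInduction
import Cfsg.Agent.Lib.Helper11.GenChar
import Cfsg.Agent.Lib.Helper11.FrobTI
import Cfsg.Agent.Lib.Helper11.Frobenius
import Cfsg.Agent.Lib.Helper11.ExcPrime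
import Cfsg.Agent.Lib.Helper11.Clifford5
import Cfsg.Agent.Lib.Helper7.PairCount2
import Cfsg.Agent.Lib.Helper2.Linear

/-!
# S0197: a simple group with an involution centralizer `GL(2,3)` has order 5616 or 7920
(assembly; helper21)
-/

set_option autoImplicit false

open Cfsg
open Cfsg.Agent.Lib.Helper2
open Cfsg.Agent.Lib.Helper7
open Cfsg.Agent.Lib.Helper11
open Cfsg.Agent.Lib.Helper21.GL23
open Cfsg.Agent.Lib.Helper19.S0197B
open Cfsg.Agent.Lib.Helper24.S0197C
open Cfsg.Agent.Lib.Helper23.S0197G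
open Cfsg.Agent.Lib.Helper23.S0197N
open Cfsg.Agent.Lib.Helper29.S0197D
open scoped ComplexConjugate

namespace Cfsg.Agent.Lib.Helper21.S0197

/-- The concrete `GL(2,3)` facts (helper19) packaged for helper11's package E. -/
theorem hBFacts : Cfsg.Agent.Lib.Helper11.S0197E.BFacts :=
  ⟨card_cls, exists_conj_of_cls_eq, eq_of_sixteen_dvd_centralizer, inD_iff, orderOf_eq_two_iff,
    cls_eq_one_iff, no_inverting, card_Gam⟩

/-- Inner product of two generalized characters via multiplicities. -/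
theorem classInner_eq_sum_mul {G : Type*} [Group G] [Fintype G] [Fintype (IrrCharacter G)]
    {ξ η : G → ℂ} (n m : IrrCharacter G → ℤ)
    (hξ : ξ = ∑ μ : IrrCharacter G, (n μ : ℂ) • (μ : G → ℂ))
    (hm : ∀ μ : IrrCharacter G, classInner η (μ : G → ℂ) = (m μ : ℂ)) :
    classInner ξ η = ((∑ μ : IrrCharacter G, n μ * m μ : ℤ) : ℂ) := by
  have e1 : classInner ξ η
      = classInner (∑ μ : IrrCharacter G, (n μ : ℂ) • (μ : G → ℂ)) η :=
    congrArg (fun f => classInner f η) hξ
  rw [e1, classInner_sum_left]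
  push_cast
  apply Finset.sum_congr rfl
  intro μ _
  rw [classInner_smul_left, ← classInner_conj_symm, hm μ]
  simp

/-- Sums of class-label functions over `GL(2,3)`. -/
theorem sum_cls [Fintype Gam] (F : Fin 8 → ℂ) : ∑ M : Gam, F (cls M) = ∑ c : Fin 8, (csize c : ℂ) * F c := by
  classical
  rw [← Finset.sum_fiberwise (s := (Finset.univ : Finset Gam)) (g := cls) (f := fun M => F (cls M))]
  apply Finset.sum_congr rfl
  intro c _
  have h1 : ∀ M ∈ Finset.univ.filter (fun M : Gam => cls M = c), F (cls M) = F c := by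
    intro M hM
    rw [(Finset.mem_filter.1 hM).2]
  rw [Finset.sum_congr rfl h1, Finset.sum_const, nsmul_eq_mul]
  congr 2
  rw [← card_cls c, Nat.card_eq_fintype_card, Fintype.card_subtype]

/-- Sum of a function vanishing off the range of an injective family. -/
theorem sum_eq_sum_range {I M : Type*} [Fintype I] [DecidableEq I] [AddCommMonoid M] {m : ℕ}
    (ι : Fin m → I) (hι : Function.Injective ι) (F : I → M)
    (hF : ∀ i, i ∉ Set.range ι → F i = 0) : ∑ i, F i = ∑ j, F (ι j) := by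
  rw [← Finset.sum_image (s := Finset.univ) (g := ι) (f := F) (fun a _ b _ h => hι h)]
  symm
  apply Finset.sum_subset (Finset.subset_univ _)
  intro i _ hi
  apply hF
  rintro ⟨j, rfl⟩
  exact hi (Finset.mem_image_of_mem _ (Finset.mem_univ j))

/-- Tables vanish off `𝒟`. -/
theorem bt_eq_zero (α : ℂ) (k : Fin 5) (c : Fin 8) (hc : ¬ inD c) : bt α k c = 0 := by
  fin_cases k <;> fin_cases c <;> simp [bt, inD] at hc ⊢

set_option maxHeartbeats 1600000 in
theorem main {G : Type*} [Group G] [Finite G] [IsSimpleGroup G] (t : G) (ht : orderOf t = 2)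
    (e : Subgroup.centralizer ({t} : Set G) ≃* Gam) :
    Nat.card G = 5616 ∨ Nat.card G = 7920 := by
  classical
  haveI : Fintype G := Fintype.ofFinite G
  haveI : Fintype (IrrCharacter G) := Fintype.ofFinite _
  haveI : Fintype Gam := Fintype.ofFinite _
  haveI : Fintype (Subgroup.centralizer ({t} : Set G)) := Fintype.ofFinite _
  obtain ⟨α, hα2, hαc, hgc⟩ := exists_alpha_genChar
  have hHcard : Nat.card (Subgroup.centralizer ({t} : Set G)) = 48 := by
    rw [Nat.card_congr e.toEquiv, card_Gam]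
  -- class labels on `H`
  set cl : Subgroup.centralizer ({t} : Set G) → Fin 8 := fun h => cls (e h) with hcl
  set β : Fin 5 → Subgroup.centralizer ({t} : Set G) → ℂ := fun k h => bt α k (cl h) with hβ
  have hβgc : ∀ k, IsGeneralizedCharacter (Subgroup.centralizer ({t} : Set G)) (β k) := by
    intro k
    obtain ⟨χ, ψ, hχ, hψ, hsub⟩ := hgc k
    refine ⟨fun h => χ (e h), fun h => ψ (e h), IsCharacter.comp hχ e.toMonoidHom,
      IsCharacter.comp hψ e.toMonoidHom, ?_⟩
    funext h
    have := congrFun hsub (e h)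
    simpa [hβ, hcl] using this
  have hβcf : ∀ k, IsClassFunction (Subgroup.centralizer ({t} : Set G)) (β k) := fun k =>
    IsGeneralizedCharacter.isClassFunction (hβgc k)
  -- sums over `H`
  have hsumH : ∀ F : Fin 8 → ℂ, ∑ h : Subgroup.centralizer ({t} : Set G), F (cl h)
      = ∑ c : Fin 8, (csize c : ℂ) * F c := by
    intro F
    rw [← sum_cls F]
    exact Fintype.sum_equiv e.toEquiv _ _ (fun h => rfl)
  -- the TI set
  set A : Set G := {x | ∃ h : Subgroup.centralizer ({t} : Set G), (h : G) = x ∧ inD (cl h)} with hA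
  have hTI : ∀ a ∈ A, ∀ x : G, x⁻¹ * a * x ∈ A → x ∈ Subgroup.centralizer ({t} : Set G) := by
    rintro a ⟨h, rfl, hh⟩ x ⟨b, hb, hbD⟩
    exact Cfsg.Agent.Lib.Helper11.S0197E.ti_property hBFacts t ht e h hh x b hbD hb.symm
  have hβA : ∀ k, ∀ l : Subgroup.centralizer ({t} : Set G), (l : G) ∉ A → β k l = 0 := by
    intro k l hl
    apply bt_eq_zero
    intro hD
    exact hl ⟨l, rfl, hD⟩
  -- induced generalized characters
  set B : Fin 5 → G → ℂ := fun k => indFun (Subgroup.centralizer ({t} : Set G)) (β k) with hB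
  have hBgc : ∀ k, IsGeneralizedCharacter G (B k) := fun k => isGenChar_indFun _ (hβgc k)
  have hBgram : ∀ k l, classInner (B k) (B l) = (gram k l : ℂ) := by
    intro k l
    rw [hB]
    simp only
    rw [classInner_indFun_indFun_of_TI _ A hTI (β k) (β l) (hβA k) (hβcf l) (hβA l),
      classInner_def, hHcard]
    have h1 := hsumH (fun c => bt α k c * conj (bt α l c))
    simp only [hβ]
    rw [h1]
    have h2 := gram_eq α hα2 hαc k l
    simp only [← mul_assoc] at h2 ⊢
    rw [h2]
    push_cast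
    ring
  -- multiplicities
  have hexp : ∀ k, ∃ n : IrrCharacter G → ℤ,
      (∀ μ : IrrCharacter G, classInner (B k) (μ : G → ℂ) = (n μ : ℂ)) ∧
      B k = ∑ μ : IrrCharacter G, (n μ : ℂ) • (μ : G → ℂ) := by
    intro k
    obtain ⟨n, h1, h2, _⟩ := IsGeneralizedCharacter.exists_int_expansion (hBgc k)
    exact ⟨n, h1, h2⟩
  choose n hn hnexp using hexp
  have hngram : ∀ k l, ∑ μ : IrrCharacter G, n k μ * n l μ = gram k l := by
    intro k l
    have h1 := classInner_eq_sum_mul (n k) (n l) (hnexp k) (hn l)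
    rw [hBgram k l] at h1
    exact_mod_cast h1.symm
  -- degrees
  have hdeg : ∀ μ : IrrCharacter G, ∃ d : ℕ, (μ : G → ℂ) 1 = (d : ℂ) ∧ 0 < d := by
    intro μ
    obtain ⟨d, h1, _⟩ := IsIrrCharacter.exists_degree_dvd_card μ.2
    refine ⟨d, h1, Nat.pos_of_ne_zero ?_⟩
    rintro rfl
    exact IsIrrCharacter.apply_one_ne_zero μ.2 (by simpa using h1)
  choose dN hdN hdNpos using hdeg
  set D : IrrCharacter G → ℤ := fun μ => (dN μ : ℤ) with hD
  have hDpos : ∀ μ, 0 < D μ := fun μ => by simp only [hD]; exact_mod_cast hdNpos μ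
  have hDC : ∀ μ : IrrCharacter G, (μ : G → ℂ) 1 = (D μ : ℂ) := fun μ => by
    rw [hdN μ, hD]; push_cast; rfl
  have hDo : D (trivialIrr G) = 1 := by
    have h1 := hDC (trivialIrr G)
    have h2 : ((trivialIrr G : IrrCharacter G) : G → ℂ) 1 = 1 := rfl
    rw [h2] at h1
    exact_mod_cast h1.symm
  have hB1 : ∀ k, B k 1 = 0 := by
    intro k
    rw [hB]
    simp only
    rw [indFun_apply_one]
    have h0 : β k 1 = 0 := by
      simp only [hβ, hcl, map_one]
      have : cls (1 : Gam) = 0 := by simp [cls]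
      rw [this]
      exact bt_eq_zero α k 0 (by decide)
    rw [h0, mul_zero]
  have hdegsum : ∀ k, ∑ μ : IrrCharacter G, n k μ * D μ = 0 := by
    intro k
    have h1 := congrFun (hnexp k) 1
    rw [hB1 k, Finset.sum_apply] at h1
    simp only [Pi.smul_apply, smul_eq_mul, hDC] at h1
    exact_mod_cast h1.symm
  -- class representatives and class values
  have hrep : ∀ c : Fin 8, ∃ h : Subgroup.centralizer ({t} : Set G), cl h = c := by
    intro c
    have h1 := card_cls c
    have h2 : 0 < Nat.card {M : Gam // cls M = c} := by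
      rw [h1]; fin_cases c <;> simp [csize]
    obtain ⟨⟨M, hM⟩⟩ := (Nat.card_pos_iff.1 h2).1
    exact ⟨e.symm M, by simp [hcl, hM]⟩
  choose rep hrepc using hrep
  have hXval : ∀ (χ : IrrCharacter G) (h : Subgroup.centralizer ({t} : Set G)),
      (χ : G → ℂ) (h : G) = (χ : G → ℂ) (rep (cl h) : G) := by
    intro χ h
    have h1 : cls (e h) = cls (e (rep (cl h))) := (hrepc (cl h)).symm
    obtain ⟨X, hX⟩ := exists_conj_of_cls_eq _ _ h1
    have h2 : e.symm X * h * (e.symm X)⁻¹ = rep (cl h) := by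
      apply e.injective
      simp [hX]
    have h3 : ((e.symm X : Subgroup.centralizer ({t} : Set G)) : G) * (h : G)
        * ((e.symm X : Subgroup.centralizer ({t} : Set G)) : G)⁻¹ = (rep (cl h) : G) := by
      rw [← h2]; simp
    rw [← h3]
    exact (IrrCharacter.isClassFunction χ (h : G) _).symm
  set X : IrrCharacter G → Fin 8 → ℂ := fun χ c => (χ : G → ℂ) (rep c : G) with hXdef
  have hstar : ∀ (χ : IrrCharacter G) (k : Fin 5),
      ∑ c : Fin 8, (csize c : ℂ) * bt α k c * conj (X χ c) = 48 * (n k χ : ℂ) := by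
    intro χ k
    have h1 := hn k χ
    rw [hB] at h1
    simp only at h1
    rw [classInner_indFun_left _ (β k) _ (IrrCharacter.isClassFunction χ), classInner_def,
      hHcard] at h1
    have h2 : ∀ h : Subgroup.centralizer ({t} : Set G),
        β k h * conj ((χ : G → ℂ) (h : G)) = bt α k (cl h) * conj (X χ (cl h)) := by
      intro h
      rw [hXval χ h]
    rw [Finset.sum_congr rfl (fun h _ => h2 h),
      hsumH (fun c => bt α k c * conj (X χ c))] at h1
    simp only [← mul_assoc] at h1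
    rw [← h1]
    push_cast
    field_simp
  -- the trivial character
  have hXtriv : ∀ c, X (trivialIrr G) c = 1 := fun c => rfl
  have hmt0 : ∀ c, mt α 0 c = 1 := by
    intro c
    fin_cases c <;> simp [GL23.mt]
  have h48 : (48 : ℂ) ≠ 0 := by norm_num
  have hno : ∀ k, n k (trivialIrr G) = wt 0 k := by
    intro k
    have h1 := hstar (trivialIrr G) k
    have h2 := wt_eq α hα2 hαc 0 k
    simp only [hXtriv] at h1
    simp only [hmt0] at h2
    rw [h2] at h1
    have h3 : ((wt 0 k : ℤ) : ℂ) = (n k (trivialIrr G) : ℂ) := mul_left_cancel₀ h48 h1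
    exact_mod_cast h3.symm
  obtain ⟨ι, ε, hιinj, hι0, hε, hε0, hε2, hε3, hnι, hnout⟩ :=
    lattice_coherence (trivialIrr G) n D hDpos hDo hngram hno hdegsum
  -- values on the TI set
  have hvalout : ∀ χ : IrrCharacter G, χ ∉ Set.range ι → ∀ c, inD c → X χ c = 0 := by
    intro χ hχ c hc
    have h1 : ∀ k : Fin 5, ∑ c : Fin 8, (csize c : ℂ) * bt α k c * conj (X χ c) = 0 := by
      intro k
      rw [hstar, hnout χ hχ k]
      simp
    have h2 := la_nondeg α hα2 (fun c => conj (X χ c)) h1 c hc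
    simpa using h2
  have hvalin : ∀ (j : Fin 8) (c : Fin 8), inD c → X (ι j) c = (ε j : ℂ) * mt α j c := by
    intro j c hc
    have h1 : ∀ k : Fin 5, ∑ c : Fin 8, (csize c : ℂ) * bt α k c
        * (conj (X (ι j) c) - (ε j : ℂ) * conj (mt α j c)) = 0 := by
      intro k
      have ha := hstar (ι j) k
      have hb := wt_eq α hα2 hαc j k
      rw [hnι k j] at ha
      simp only [mul_sub]
      rw [Finset.sum_sub_distrib, ha]
      have h5 : ∑ c : Fin 8, (csize c : ℂ) * bt α k c * ((ε j : ℂ) * conj (mt α j c))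
          = (ε j : ℂ) * ∑ c : Fin 8, (csize c : ℂ) * bt α k c * conj (mt α j c) := by
        rw [Finset.mul_sum]
        apply Finset.sum_congr rfl
        intros
        ring
      rw [h5, hb]
      push_cast
      ring
    have h2 := la_nondeg α hα2 _ h1 c hc
    have h3 : conj (X (ι j) c) = (ε j : ℂ) * conj (mt α j c) := sub_eq_zero.1 h2
    have h4 := congrArg conj h3
    simpa using h4
  -- signed degrees
  set d : Fin 8 → ℤ := fun j => ε j * D (ι j) with hd
  have hεsq : ∀ j, ε j * ε j = 1 := by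
    intro j
    rcases hε j with h | h <;> rw [h] <;> norm_num
  have hDd : ∀ j, D (ι j) = ε j * d j := by
    intro j
    simp only [hd]
    rw [← mul_assoc, hεsq, one_mul]
  have hdne : ∀ j, d j ≠ 0 := by
    intro j
    simp only [hd]
    have := hDpos (ι j)
    rcases hε j with h | h <;> rw [h] <;> omega
  have hdrel : ∀ k : Fin 5, ∑ j : Fin 8, wt j k * d j = 0 := by
    intro k
    have h1 := hdegsum k
    rw [sum_eq_sum_range ι hιinj (fun μ => n k μ * D μ)
      (fun μ hμ => by rw [hnout μ hμ k, zero_mul])] at h1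
    rw [← h1]
    apply Finset.sum_congr rfl
    intro j _
    simp only [hd]
    rw [hnι k j]
    ring
  have hd0 : d 0 = 1 := by
    simp only [hd]
    rw [hε0, hι0, hDo]
    norm_num
  have hr0 := hdrel 0
  have hr1 := hdrel 1
  have hr2 := hdrel 2
  have hr3 := hdrel 3
  have hr4 := hdrel 4
  simp [Fin.sum_univ_eight, wt] at hr0 hr1 hr2 hr3 hr4
  -- the involution `t` as an element of `H`
  set t' : Subgroup.centralizer ({t} : Set G) :=
    ⟨t, by simp [Subgroup.mem_centralizer_iff]⟩ with ht'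
  have hclt : cl t' = 1 := by
    simp only [hcl]
    rw [cls_eq_one_iff]
    exact Cfsg.Agent.Lib.Helper11.S0197E.e_t hBFacts t ht e
  have hχt : ∀ χ : IrrCharacter G, (χ : G → ℂ) t = X χ 1 := by
    intro χ
    have h1 := hXval χ t'
    rw [hclt] at h1
    exact h1
  have hmt1 : ∀ j : Fin 8, conj (mt α j 1) = mt α j 1 := by
    intro j
    fin_cases j <;> simp [GL23.mt] <;> exact map_ofNat (starRingEnd ℂ) _
  -- general pair-count evaluation
  have hpc : ∀ (w : Subgroup.centralizer ({t} : Set G)) (c : Fin 8), cl w = c → inD c →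
      ((48 : ℂ) * 48) * (Nat.card {p : G × G // IsConj t p.1 ∧ IsConj t p.2 ∧ p.1 * p.2 = (w : G)} : ℂ)
        = (Nat.card G : ℂ) * ∑ j : Fin 8, (mt α j 1) ^ 2 * mt α j c / (d j : ℂ) := by
    intro w c hwc hc
    have h1 := card_centralizer_mul_card_pairs2 t t (w : G)
    rw [hHcard] at h1
    push_cast at h1
    rw [h1]
    congr 1
    rw [sum_eq_sum_range ι hιinj _ (fun χ hχ => by
      rw [hχt χ, hvalout χ hχ 1 (by decide)]; simp)]
    apply Finset.sum_congr rfl
    intro j _
    have hw : ((ι j : IrrCharacter G) : G → ℂ) (w : G) = X (ι j) c := by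
      rw [hXval (ι j) w, hwc]
    rw [hχt (ι j), hvalin j 1 (by decide), hw, hvalin j c hc, hDC (ι j), hDd j]
    have hdj : (d j : ℂ) ≠ 0 := by exact_mod_cast hdne j
    rw [map_div₀, map_mul, map_mul, hmt1 j]
    rcases hε j with h | h <;> rw [h] <;> push_cast <;> simp <;> field_simp
  have hEt := hpc t' 1 hclt (by decide)
  have hEg := hpc (rep 6) 6 (hrepc 6) (by decide)
  rw [show ((t' : Subgroup.centralizer ({t} : Set G)) : G) = t from rfl, Cfsg.Agent.Lib.Helper11.S0197E.pairs_t hBFacts t ht e] at hEt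
  rw [Cfsg.Agent.Lib.Helper11.S0197E.pairs_g hBFacts t ht e (rep 6) (hrepc 6)] at hEg
  -- explicit degrees
  have e2 : d 2 = d 1 := by omega
  have e3 : d 3 = d 1 := by omega
  have e4 : d 4 = 1 + d 1 := by omega
  have e6 : d 6 = d 1 + d 5 := by omega
  have e7 : d 7 = 1 + d 1 + d 5 := by omega
  have c0 : (d 0 : ℂ) = 1 := by rw [hd0]; norm_num
  have c2 : (d 2 : ℂ) = (d 1 : ℂ) := by rw [e2]
  have c3 : (d 3 : ℂ) = (d 1 : ℂ) := by rw [e3]
  have c4 : (d 4 : ℂ) = 1 + (d 1 : ℂ) := by rw [e4]; push_cast; ring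
  have c6' : (d 6 : ℂ) = (d 1 : ℂ) + (d 5 : ℂ) := by rw [e6]; push_cast; ring
  have c7 : (d 7 : ℂ) = 1 + (d 1 : ℂ) + (d 5 : ℂ) := by rw [e7]; push_cast; ring
  have hsumt : ∑ j : Fin 8, (mt α j 1) ^ 2 * mt α j 1 / (d j : ℂ)
      = 1 + 1 / (d 5 : ℂ) - 8 / (d 1 : ℂ) + 27 / (1 + (d 1 : ℂ)) + 27 / ((d 1 : ℂ) + (d 5 : ℂ))
        - 64 / (1 + (d 1 : ℂ) + (d 5 : ℂ)) := by
    rw [Fin.sum_univ_eight]
    simp only [GL23.mt, c0, c2, c3, c4, c6', c7]
    simp
    ring
  have hsumg : ∑ j : Fin 8, (mt α j 1) ^ 2 * mt α j 6 / (d j : ℂ)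
      = 1 - 1 / (d 5 : ℂ) - 9 / (1 + (d 1 : ℂ)) + 9 / ((d 1 : ℂ) + (d 5 : ℂ)) := by
    rw [Fin.sum_univ_eight]
    simp only [GL23.mt, c0, c2, c3, c4, c6', c7]
    simp
    ring
  rw [hsumt] at hEt
  rw [hsumg] at hEg
  -- `G` is not abelian
  have hna : ¬ ∀ a b : G, a * b = b * a := by
    intro hab
    have h1 : e.symm c8 * e.symm c6 = e.symm c6 * e.symm c8 := Subtype.ext (hab _ _)
    have h2 : c8 * c6 = c6 * c8 := by
      have := congrArg e h1
      simpa using this
    have h3 := congrArg (fun M : Gam => (M : Matrix (Fin 2) (Fin 2) (ZMod 3)) 0 0) h2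
    simp [c8, c6, Matrix.mul_apply, Fin.sum_univ_two] at h3
    revert h3
    decide
  have hs1 : d 5 ≠ 1 := by
    intro h1
    have hD5 : D (ι 5) = 1 := by
      have hp := hDpos (ι 5)
      simp only [hd] at h1
      rcases hε 5 with h | h <;> rw [h] at h1 <;> omega
    have h2 : ((ι 5 : IrrCharacter G) : G → ℂ) 1 = 1 := by
      rw [hDC, hD5]; norm_num
    have h3 := eq_trivialIrr_of_degree_one hna (ι 5) h2
    rw [← hι0] at h3
    have := hιinj h3
    revert this
    decide
  have h2p := Cfsg.Agent.Lib.Helper11.S0197E.two_part hBFacts t ht e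
  refine order_arith (Nat.card G) (d 1) (d 5) (hdne 1) (hdne 5) hs1 ?_ ?_ ?_ ?_ ?_ h2p.1 h2p.2
  · rw [← e4]; exact hdne 4
  · rw [← e6]; exact hdne 6
  · rw [← e7]; exact hdne 7
  · rw [← hEg]; norm_num
  · rw [← hEt]; norm_num

end Cfsg.Agent.Lib.Helper21.S0197
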