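import Mathlib

/-!
# S1237 FO-E2 (helper21, for architect helper16)

A `3`-power-order automorphism `ρ` of a finite `2`-group `T` with `ρ³` fixed-point-free on
`T ⧸ Z(T) ≠ 1` forces `|T ⧸ Z(T)| ≥ 64`.
-/

set_option autoImplicit false

namespace Cfsg.Agent.Lib.Helper21.S1237E2

open Subgroup

/-- a permutation of `3`-power order whose cube has a unique fixed point acts on `1 mod 9` points -/
theorem card_mod_nine {M : Type*} [Finite M] (π : Equiv.Perm M) (k : ℕ) (hk : π ^ (3 ^ k) = 1)
    (m₀ : M) (h0 : π m₀ = m₀) (hfix : ∀ m, π (π (π m)) = m → m = m₀) : Nat.card M % 9 = 1 := by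
  classical
  have := Fintype.ofFinite M
  have horb : ∀ m : M, m ≠ m₀ → 9 ∣ Nat.card (MulAction.orbit (zpowers π) m) := by
    intro m hm
    have := Fintype.ofFinite (MulAction.orbit (zpowers π) m)
    rw [Nat.card_eq_fintype_card, ← MulAction.minimalPeriod_eq_card π m]
    have hper : Function.IsPeriodicPt (π • ·) (3 ^ k) m := by
      rw [Function.IsPeriodicPt, Function.IsFixedPt, smul_iterate, hk]
      exact one_smul _ m
    have hdvd := hper.minimalPeriod_dvd
    obtain ⟨i, hi, hpi⟩ := (Nat.dvd_prime_pow Nat.prime_three).mp hdvd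
    by_contra h9
    have hi1 : i ≤ 1 := by
      by_contra hh
      have hh := not_le.mp hh
      apply h9
      rw [hpi]
      exact pow_dvd_pow 3 hh
    have h3 : Function.minimalPeriod (π • ·) m ∣ 3 := by
      rw [hpi]
      exact pow_dvd_pow 3 hi1
    have h4 : Function.IsPeriodicPt (π • ·) 3 m :=
      (Function.isPeriodicPt_iff_minimalPeriod_dvd).2 h3
    exact hm (hfix m h4)
  have horb0 : MulAction.orbit (zpowers π) m₀ = {m₀} := by
    ext a
    rw [MulAction.mem_orbit_iff, Set.mem_singleton_iff]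
    constructor
    · rintro ⟨⟨g, hg⟩, rfl⟩
      obtain ⟨n, rfl⟩ := mem_zpowers_iff.mp hg
      exact Equiv.Perm.zpow_apply_eq_self_of_apply_eq_self h0 n
    · rintro rfl
      exact ⟨1, one_smul _ _⟩
  have hsum : Nat.card M = ∑ ω : MulAction.orbitRel.Quotient (zpowers π) M,
      Nat.card (MulAction.orbit (zpowers π) ω.out) := by
    rw [Nat.card_congr (MulAction.selfEquivSigmaOrbits (zpowers π) M), Nat.card_sigma]
  rw [hsum]
  set ω₀ : MulAction.orbitRel.Quotient (zpowers π) M := Quotient.mk'' m₀ with hω₀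
  have hout : ω₀.out = m₀ := by
    have h1 : ω₀.out ∈ MulAction.orbit (zpowers π) m₀ := by
      rw [← MulAction.orbitRel_apply, ← Quotient.eq'', Quotient.out_eq']
    rw [horb0] at h1
    exact h1
  rw [← Finset.add_sum_erase Finset.univ _ (Finset.mem_univ ω₀)]
  have h1 : Nat.card (MulAction.orbit (zpowers π) ω₀.out) = 1 := by
    rw [hout, horb0]
    simp
  have h2 : 9 ∣ ∑ ω ∈ Finset.univ.erase ω₀, Nat.card (MulAction.orbit (zpowers π) ω.out) := by
    apply Finset.dvd_sum
    intro ω hω
    apply horb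
    intro h
    apply (Finset.mem_erase.mp hω).1
    rw [hω₀, ← h, Quotient.out_eq']
  rw [h1]
  omega


universe u

/-- **S1237 FO-E2**. -/
theorem card_ge_of_fpf_quot {T : Type u} [Group T] [Finite T] {ρ : MulAut T}
    (hT : IsPGroup 2 T) (hρ : ∃ k : ℕ, ρ ^ (3 ^ k) = 1)
    (hZ : center T ≠ ⊤) (hfix : ∀ t : T, t⁻¹ * ρ (ρ (ρ t)) ∈ center T → t ∈ center T) :
    64 * Nat.card (center T) ≤ Nat.card T := by
  obtain ⟨k, hk⟩ := hρ
  have hmap : (center T).map (ρ : T ≃* T).toMonoidHom = center T :=
    (Subgroup.characteristic_iff_map_eq.mp inferInstance) ρ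
  let π : (T ⧸ center T) ≃* (T ⧸ center T) := QuotientGroup.congr (center T) (center T) ρ hmap
  have hπ : ∀ t : T, π (t : T ⧸ center T) = ((ρ t : T) : T ⧸ center T) := fun t => rfl
  let σ : Equiv.Perm (T ⧸ center T) := π.toEquiv
  have hσ1 : ∀ m, σ m = π m := fun m => rfl
  have hσ : ∀ n : ℕ, ∀ t : T,
      (σ ^ n) (t : T ⧸ center T) = (((ρ ^ n) t : T) : T ⧸ center T) := by
    intro n
    induction n with
    | zero => intro t; simp
    | succ n ih =>
      intro t
      rw [pow_succ', Equiv.Perm.mul_apply, ih, pow_succ', MulAut.mul_apply, hσ1]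
      exact hπ _
  have hσk : σ ^ (3 ^ k) = 1 := by
    ext m
    induction m using QuotientGroup.induction_on with
    | H t => rw [hσ, hk]; simp
  have h0 : σ 1 = 1 := map_one π
  have hfixσ : ∀ m, σ (σ (σ m)) = m → m = 1 := by
    intro m
    induction m using QuotientGroup.induction_on with
    | H t =>
      intro h
      rw [QuotientGroup.eq_one_iff]
      apply hfix
      have h1 : ((ρ (ρ (ρ t)) : T) : T ⧸ center T) = (t : T ⧸ center T) := h
      exact QuotientGroup.eq.mp h1.symm
  have hmod := card_mod_nine σ k hσk 1 h0 hfixσ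
  obtain ⟨d, hd⟩ := IsPGroup.iff_card.mp (hT.to_quotient (center T))
  have hidx : (center T).index = Nat.card (T ⧸ center T) := rfl
  have hd6 : 6 ≤ d := by
    by_contra hlt
    have hlt := not_le.mp hlt
    rw [hd] at hmod
    have hne1 : (center T).index ≠ 1 := fun h => hZ (Subgroup.index_eq_one.mp h)
    rw [hidx, hd] at hne1
    interval_cases d <;> simp_all
  have h64 : 64 ≤ (center T).index := by
    rw [hidx, hd]
    calc 64 = 2 ^ 6 := by norm_num
      _ ≤ 2 ^ d := Nat.pow_le_pow_right (by norm_num) hd6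
  rw [← Subgroup.index_mul_card (center T)]
  exact Nat.mul_le_mul_right _ h64

end Cfsg.Agent.Lib.Helper21.S1237E2
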