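import Cfsg.Agent.Lib.Helper8.S1572Defs
import Cfsg.Agent.Lib.Helper4.LeechCount3

/-!
S1572-[C] (architect helper8): the numbers of minimal vectors of the three shapes.
-/

set_option autoImplicit false

namespace Cfsg.Agent.Lib.Helper8.S1572

open Cfsg Cfsg.Agent.Lib.Helper4 Cfsg.Agent.Helper4.CO Cfsg.Agent.Helper4.LC

namespace Helper21

theorem sq_v0 : sqNorm (toV v0L) = 32 := by decide +kernel

theorem sq_w0 : sqNorm (toV w0L) = 32 := by decide +kernel

theorem sq_odd : sqNorm (toV oddGen) = 32 := by decide +kernel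

theorem sqNorm_S1 (x : leechLattice) (h : IsS1 x) : sqNorm (x : GolayPt → ℤ) = 32 := by
  have h1 := conj_sqNorm (conj_S1 x h)
  rw [← h1, mkL_coe]
  exact sq_v0

theorem sqNorm_S2 (x : leechLattice) (h : IsS2 x) : sqNorm (x : GolayPt → ℤ) = 32 := by
  have h1 := conj_sqNorm (conj_S2 x h)
  rw [← h1, mkL_coe]
  exact sq_w0

theorem sqNorm_S3 (x : leechLattice) (h : IsS3 x) : sqNorm (x : GolayPt → ℤ) = 32 := by
  have h1 := conj_sqNorm (conj_S3 x h)
  rw [← h1, mkL_coe]
  exact sq_odd

/-- a set of lattice vectors and its image in the ambient space -/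
theorem ncard_eq (S : Set ↥leechLattice) (T : Set (GolayPt → ℤ)) (h : T = Subtype.val '' S) :
    S.ncard = T.ncard := by
  rw [h, Set.ncard_image_of_injective _ Subtype.val_injective]

end Helper21

/-- [C] -/
theorem ncard_S1set : S1set.ncard = 1104 := by
  have hc := ncard_norm_box 32 [-4, 0, 4] (by decide) 1104 (by decide +kernel)
  rw [Helper21.ncard_eq S1set _ ?_]
  · exact hc
  ext x
  constructor
  · rintro ⟨hx, hn, hL⟩
    refine ⟨⟨x, hx⟩, ?_, rfl⟩
    rcases shape32 x hx hn with h | h | h
    · exact h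
    · exfalso
      obtain ⟨O, hO, h2, _⟩ := h
      have hne : O.Nonempty := Finset.card_pos.mp (by rw [hO.2]; norm_num)
      obtain ⟨i, hi⟩ := hne
      have hLi := hL i
      rcases h2 i hi with h' | h' <;> rw [h'] at hLi <;> revert hLi <;> decide
    · exfalso
      obtain ⟨k, hk, _⟩ := h
      have hLk := hL k
      rcases hk with h' | h' <;> rw [h'] at hLk <;> revert hLk <;> decide
  · rintro ⟨⟨x, hx⟩, hS, rfl⟩
    refine ⟨hx, Helper21.sqNorm_S1 ⟨x, hx⟩ hS, ?_⟩
    have hS' : IsS1 x := hS
    obtain ⟨i, j, _, hi, hj, h0⟩ := hS'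
    intro k
    show x k ∈ [-4, 0, 4]
    by_cases hki : k = i
    · subst hki
      rcases hi with h | h <;> rw [h] <;> decide
    · by_cases hkj : k = j
      · subst hkj
        rcases hj with h | h <;> rw [h] <;> decide
      · rw [h0 k hki hkj]
        decide

theorem ncard_S2set : S2set.ncard = 97152 := by
  have hc := ncard_norm_box 32 [-2, 0, 2] (by decide) 97152 (by decide +kernel)
  rw [Helper21.ncard_eq S2set _ ?_]
  · exact hc
  ext x
  constructor
  · rintro ⟨hx, hn, hL⟩
    refine ⟨⟨x, hx⟩, ?_, rfl⟩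
    rcases shape32 x hx hn with h | h | h
    · exfalso
      obtain ⟨i, j, _, hi, _, _⟩ := h
      have hLi := hL i
      rcases hi with h' | h' <;> rw [h'] at hLi <;> revert hLi <;> decide
    · exact h
    · exfalso
      obtain ⟨k, hk, _⟩ := h
      have hLk := hL k
      rcases hk with h' | h' <;> rw [h'] at hLk <;> revert hLk <;> decide
  · rintro ⟨⟨x, hx⟩, hS, rfl⟩
    refine ⟨hx, Helper21.sqNorm_S2 ⟨x, hx⟩ hS, ?_⟩
    have hS' : IsS2 x := hS
    obtain ⟨O, _, h2, h0⟩ := hS'
    intro k
    show x k ∈ [-2, 0, 2]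
    by_cases hk : k ∈ O
    · rcases h2 k hk with h | h <;> rw [h] <;> decide
    · rw [h0 k hk]
      decide

theorem ncard_S3set : S3set.ncard = 98304 := by
  have hc := ncard_norm_box 32 [-3, -1, 1, 3] (by decide) 98304 (by decide +kernel)
  rw [Helper21.ncard_eq S3set _ ?_]
  · exact hc
  ext x
  constructor
  · rintro ⟨hx, hn, hL⟩
    refine ⟨⟨x, hx⟩, ?_, rfl⟩
    rcases shape32 x hx hn with h | h | h
    · exfalso
      obtain ⟨i, j, _, _, _, h0⟩ := h
      -- a third point
      obtain ⟨k, hki, hkj⟩ : ∃ k : GolayPt, k ≠ i ∧ k ≠ j := by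
        by_contra hne
        have hsub : (Finset.univ : Finset GolayPt) ⊆ {i, j} := by
          intro k _
          by_contra hk
          simp only [Finset.mem_insert, Finset.mem_singleton, not_or] at hk
          exact hne ⟨k, hk.1, hk.2⟩
        have h1 := Finset.card_le_card hsub
        have h2 : ({i, j} : Finset GolayPt).card ≤ 2 := Finset.card_le_two
        have h3 : (Finset.univ : Finset GolayPt).card = 24 := by decide
        omega
      have hLk := hL k
      rw [h0 k hki hkj] at hLk
      revert hLk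
      decide
    · exfalso
      obtain ⟨O, hO, _, h0⟩ := h
      obtain ⟨k, hk⟩ : ∃ k : GolayPt, k ∉ O := by
        by_contra hne
        have hsub : (Finset.univ : Finset GolayPt) ⊆ O := by
          intro k _
          by_contra hk
          exact hne ⟨k, hk⟩
        have h1 := Finset.card_le_card hsub
        have h3 : (Finset.univ : Finset GolayPt).card = 24 := by decide
        rw [hO.2] at h1
        omega
      have hLk := hL k
      rw [h0 k hk] at hLk
      revert hLk
      decide
    · exact h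
  · rintro ⟨⟨x, hx⟩, hS, rfl⟩
    refine ⟨hx, Helper21.sqNorm_S3 ⟨x, hx⟩ hS, ?_⟩
    have hS' : IsS3 x := hS
    obtain ⟨k0, h3, h1⟩ := hS'
    intro k
    show x k ∈ [-3, -1, 1, 3]
    by_cases hk : k = k0
    · subst hk
      rcases h3 with h | h <;> rw [h] <;> decide
    · rcases h1 k hk with h | h <;> rw [h] <;> decide

end Cfsg.Agent.Lib.Helper8.S1572
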