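import Cfsg.Agent.Lib.Helper21.S3805_P1
import Cfsg.Agent.Lib.Helper19.S3805Defs

/-!
# S3805, FO-A (`exists_cfg`) derived from the embedding of the model `D3 × D3`
-/

set_option autoImplicit false

namespace Cfsg.Agent.Lib.Helper21.S3805A

open DihedralGroup Cfsg.Agent.Lib.Helper13.S3805 Cfsg.Agent.Lib.Helper19.S3805

/-- **S3805, FO-A.** -/
theorem exists_cfg {G : Type*} [Group G] [Finite G] (T : Sylow 3 G)
    (hcomm : ∀ x ∈ (T : Subgroup G), ∀ y ∈ (T : Subgroup G), x * y = y * x)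
    (hexp : ∀ x ∈ (T : Subgroup G), x ^ 3 = 1)
    (hcard : Nat.card (T : Subgroup G) = 9)
    (hC : Subgroup.centralizer ((T : Subgroup G) : Set G) = T)
    [hn : ((T : Subgroup G).subgroupOf (Subgroup.normalizer ((T : Subgroup G) : Set G))).Normal]
    (hK : IsKleinFour (↥(Subgroup.normalizer ((T : Subgroup G) : Set G)) ⧸
      (T : Subgroup G).subgroupOf (Subgroup.normalizer ((T : Subgroup G) : Set G)))) :
    ∃ a b u v : G, Cfg T a b u v := by
  have hT : Cfsg.IsElementaryAbelian 3 (T : Subgroup G) :=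
    ⟨⟨⟨fun x y => Subtype.ext (hcomm x x.2 y y.2)⟩⟩, hexp⟩
  obtain ⟨Φ, hinj, hrange, hΦT⟩ := S3805P1.exists_embedding T hT hcard hC hK
  have hmemN : ∀ d : DD, Φ d ∈ Subgroup.normalizer ((T : Subgroup G) : Set G) := by
    intro d; rw [← hrange]; exact ⟨d, rfl⟩
  have hconj : ∀ d e : DD, Φ d * Φ e * (Φ d)⁻¹ = Φ (d * e * d⁻¹) := by
    intro d e; rw [map_mul, map_mul, map_inv]
  refine ⟨Φ (r 1, 1), Φ (1, r 1), Φ (1, sr 0), Φ (sr 0, 1), ?_⟩
  refine
    { haT := (hΦT _).mpr ⟨1, 0, rfl⟩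
      hbT := (hΦT _).mpr ⟨0, 1, rfl⟩
      ha1 := ?_
      hb1 := ?_
      hba := ?_
      hba' := ?_
      huN := hmemN _
      hvN := hmemN _
      hua := ?_
      hub := ?_
      hva := ?_
      hvb := ?_
      hNa := ?_
      hNb := ?_
      hNT := ?_ }
  · rw [← map_one Φ]; intro h; exact absurd (hinj h) (by decide)
  · rw [← map_one Φ]; intro h; exact absurd (hinj h) (by decide)
  · intro h; exact absurd (hinj h) (by decide)
  · rw [← map_inv]; intro h; exact absurd (hinj h) (by decide)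
  · rw [hconj]; exact congrArg Φ (by decide)
  · rw [hconj, ← map_inv]; exact congrArg Φ (by decide)
  · rw [hconj, ← map_inv]; exact congrArg Φ (by decide)
  · rw [hconj]; exact congrArg Φ (by decide)
  · intro n hn'
    rw [← hrange] at hn'
    obtain ⟨d, rfl⟩ := hn'
    rw [hconj, ← map_inv]
    have : ∀ d : DD, d * (r 1, 1) * d⁻¹ = (r 1, 1) ∨ d * (r 1, 1) * d⁻¹ = ((r 1, 1) : DD)⁻¹ := by
      decide
    rcases this d with h | h
    · left; rw [h]
    · right; rw [h]
  · intro n hn'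
    rw [← hrange] at hn'
    obtain ⟨d, rfl⟩ := hn'
    rw [hconj, ← map_inv]
    have : ∀ d : DD, d * (1, r 1) * d⁻¹ = (1, r 1) ∨ d * (1, r 1) * d⁻¹ = ((1, r 1) : DD)⁻¹ := by
      decide
    rcases this d with h | h
    · left; rw [h]
    · right; rw [h]
  · intro n hn' h1 h2
    rw [← hrange] at hn'
    obtain ⟨d, rfl⟩ := hn'
    rw [hconj] at h1 h2
    have h1' := hinj h1
    have h2' := hinj h2
    rw [hΦT]
    have : ∀ d : DD, d * (r 1, 1) * d⁻¹ = (r 1, 1) → d * (1, r 1) * d⁻¹ = (1, r 1) →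
        ∃ i j : ZMod 3, d = (r i, r j) := by decide
    exact this d h1' h2'

end Cfsg.Agent.Lib.Helper21.S3805A
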