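import Mathlib
import Cfsg.Prelude.Def_Transfer
import Cfsg.Agent.Lib.Helper13.S3805Defs

/-!
# S3805, piece P1 (`exists_embedding`)

`N_G(T) ≅ D3 × D3` for a self-centralising Sylow `3`-subgroup `T ≅ 3²` with Klein-four
automiser: construction of an explicit embedding of the model `DD`.
-/

set_option autoImplicit false

namespace Cfsg.Agent.Lib.Helper21.S3805P1

open DihedralGroup Cfsg.Agent.Lib.Helper13.S3805

section D3hom

variable {G : Type*} [Group G]

/-- `i ↦ x ^ i` on `ZMod 3`. -/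
def pw (x : G) (i : ZMod 3) : G := x ^ i.val

theorem pw_add (x : G) (hx : x ^ 3 = 1) (i j : ZMod 3) : pw x (i + j) = pw x i * pw x j := by
  unfold pw
  rw [ZMod.val_add, ← pow_add, ← pow_eq_pow_mod _ hx]

theorem pw_zero (x : G) : pw x 0 = 1 := by simp [pw]

theorem pw_sub (x : G) (hx : x ^ 3 = 1) (i j : ZMod 3) :
    pw x (j - i) = (pw x i)⁻¹ * pw x j := by
  have := pw_add x hx i (j - i)
  rw [add_sub_cancel] at this
  rw [this]; group

theorem conj_pw (x u : G) (hux : u * x * u⁻¹ = x⁻¹) (i : ZMod 3) :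
    u * pw x i * u⁻¹ = (pw x i)⁻¹ := by
  unfold pw
  rw [← inv_pow, ← hux, conj_pow]

theorem swap_of_conj_inv (p u : G) (h : u * p * u⁻¹ = p⁻¹) : p * u = u * p⁻¹ := by
  calc p * u = (u * p * u⁻¹)⁻¹ * u := by rw [h, inv_inv]
    _ = u * p⁻¹ := by group

/-- The underlying function of the homomorphism `D3 → G`. -/
def d3fun (x u : G) : DihedralGroup 3 → G
  | r i => pw x i
  | sr i => u * pw x i

/-- The homomorphism `D3 → G` attached to `x` of order dividing three and an involution `u`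
inverting it. -/
def d3hom (x u : G) (hx : x ^ 3 = 1) (hu : u * u = 1) (hux : u * x * u⁻¹ = x⁻¹) :
    DihedralGroup 3 →* G :=
  MonoidHom.mk' (d3fun x u) (by
    intro a b
    rcases a with i | i <;> rcases b with j | j
    · rw [r_mul_r]; exact pw_add x hx i j
    · rw [r_mul_sr]
      show u * pw x (j - i) = pw x i * (u * pw x j)
      rw [← mul_assoc, swap_of_conj_inv _ _ (conj_pw x u hux i), pw_sub x hx, mul_assoc]
    · rw [sr_mul_r]
      show u * pw x (i + j) = u * pw x i * pw x j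
      rw [pw_add x hx, mul_assoc]
    · rw [sr_mul_sr]
      show pw x (j - i) = u * pw x i * (u * pw x j)
      rw [pw_sub x hx]
      have := swap_of_conj_inv _ _ (conj_pw x u hux i)
      calc (pw x i)⁻¹ * pw x j = (u * u) * (pw x i)⁻¹ * pw x j := by rw [hu, one_mul]
        _ = u * (u * (pw x i)⁻¹) * pw x j := by group
        _ = u * (pw x i * u) * pw x j := by rw [this]
        _ = u * pw x i * (u * pw x j) := by group)

@[simp] theorem d3hom_r (x u : G) (hx : x ^ 3 = 1) (hu : u * u = 1) (hux : u * x * u⁻¹ = x⁻¹)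
    (i : ZMod 3) : d3hom x u hx hu hux (r i) = pw x i := rfl

@[simp] theorem d3hom_sr (x u : G) (hx : x ^ 3 = 1) (hu : u * u = 1) (hux : u * x * u⁻¹ = x⁻¹)
    (i : ZMod 3) : d3hom x u hx hu hux (sr i) = u * pw x i := rfl

end D3hom

/-- The relations satisfied by generators of `D3 × D3`. -/
structure Frame {G : Type*} [Group G] (x y u v : G) : Prop where
  x3 : x ^ 3 = 1
  y3 : y ^ 3 = 1
  u2 : u * u = 1
  v2 : v * v = 1
  xy : Commute x y
  uv : Commute u v
  ux : u * x * u⁻¹ = x⁻¹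
  uy : Commute u y
  vx : Commute v x
  vy : v * y * v⁻¹ = y⁻¹
  x1 : x ≠ 1
  y1 : y ≠ 1

section Phi

variable {G : Type*} [Group G] {x y u v : G}

theorem Frame.comm (h : Frame x y u v) (a b : DihedralGroup 3) :
    Commute (d3hom x u h.x3 h.u2 h.ux a) (d3hom y v h.y3 h.v2 h.vy b) := by
  have hxv : ∀ m n : ℕ, Commute (x ^ m) (v * y ^ n) := fun m n =>
    (h.vx.symm.pow_left m).mul_right (h.xy.pow_pow m n)
  rcases a with i | i <;> rcases b with j | j
  · exact h.xy.pow_pow _ _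
  · exact hxv _ _
  · exact (h.uy.pow_right _).mul_left (h.xy.pow_pow _ _)
  · exact (h.uv.mul_right (h.uy.pow_right _)).mul_left (hxv _ _)

/-- The embedding of the model. -/
def Phi (h : Frame x y u v) : DD →* G :=
  MonoidHom.noncommCoprod (d3hom x u h.x3 h.u2 h.ux) (d3hom y v h.y3 h.v2 h.vy) h.comm

theorem Phi_apply (h : Frame x y u v) (d : DD) :
    Phi h d = d3hom x u h.x3 h.u2 h.ux d.1 * d3hom y v h.y3 h.v2 h.vy d.2 := rfl

theorem sq_eq_one_of_cube (z : G) (h3 : z ^ 3 = 1) (h2 : z = z⁻¹) : z = 1 := by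
  have h2' : z * z = 1 := by
    nth_rewrite 2 [h2]; exact mul_inv_cancel z
  have : z ^ 3 = z * z * z := by rw [pow_succ, pow_two]
  rw [this, h2', one_mul] at h3
  exact h3

theorem pw_mem (T' : Subgroup G) (z : G) (hz : z ∈ T') (i : ZMod 3) : pw z i ∈ T' :=
  T'.pow_mem hz _

theorem pw_eq_one (z : G) (hz3 : z ^ 3 = 1) (hz1 : z ≠ 1) (i : ZMod 3) (h : pw z i = 1) :
    i = 0 := by
  unfold pw at h
  have hv : i.val < 3 := ZMod.val_lt i
  have : i.val = 0 := by
    rcases Nat.lt_or_ge i.val 1 with h0 | h0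
    · omega
    · exfalso
      interval_cases hi : i.val
      · exact hz1 (by simpa using h)
      · apply hz1
        have : z ^ 3 = z ^ 2 * z := pow_succ z 2
        rw [this, h, one_mul] at hz3
        exact hz3
  exact (ZMod.val_eq_zero i).mp this

theorem Phi_mem_iff (h : Frame x y u v) (T' : Subgroup G)
    (hcomm : ∀ a ∈ T', ∀ b ∈ T', a * b = b * a) (hx : x ∈ T') (hy : y ∈ T') (d : DD) :
    Phi h d ∈ T' ↔ ∃ i j : ZMod 3, d = (r i, r j) := by
  constructor
  · intro hd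
    rw [Phi_apply] at hd
    obtain ⟨d1, d2⟩ := d
    have hxne : x ≠ x⁻¹ := fun e => h.x1 (sq_eq_one_of_cube x h.x3 e)
    have hyne : y ≠ y⁻¹ := fun e => h.y1 (sq_eq_one_of_cube y h.y3 e)
    rcases d1 with i | i <;> rcases d2 with j | j
    · exact ⟨i, j, rfl⟩
    · -- x^i * (v * y^j) ∈ T'
      exfalso
      simp only [d3hom_r, d3hom_sr] at hd
      have hv : v ∈ T' := by
        have := T'.mul_mem (T'.mul_mem (T'.inv_mem (pw_mem T' x hx i)) hd)
          (T'.inv_mem (pw_mem T' y hy j))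
        have e : (pw x i)⁻¹ * (pw x i * (v * pw y j)) * (pw y j)⁻¹ = v := by group
        rwa [e] at this
      apply hyne
      have := hcomm v hv y hy
      rw [← h.vy, this]; group
    · exfalso
      simp only [d3hom_r, d3hom_sr] at hd
      have hu : u ∈ T' := by
        have := T'.mul_mem (T'.mul_mem hd (T'.inv_mem (pw_mem T' y hy j)))
          (T'.inv_mem (pw_mem T' x hx i))
        have e : u * pw x i * pw y j * (pw y j)⁻¹ * (pw x i)⁻¹ = u := by group
        rwa [e] at this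
      apply hxne
      have := hcomm u hu x hx
      rw [← h.ux, this]; group
    · exfalso
      simp only [d3hom_sr] at hd
      -- u * x^i * (v * y^j) ∈ T'
      have hc : Commute (pw x i) v := (h.vx.symm.pow_left _)
      have huv : u * v ∈ T' := by
        have := T'.mul_mem (T'.mul_mem hd (T'.inv_mem (pw_mem T' y hy j)))
          (T'.inv_mem (pw_mem T' x hx i))
        have e : u * pw x i * (v * pw y j) * (pw y j)⁻¹ * (pw x i)⁻¹ = u * v := by
          calc u * pw x i * (v * pw y j) * (pw y j)⁻¹ * (pw x i)⁻¹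
              = u * (pw x i * v) * (pw x i)⁻¹ := by group
            _ = u * (v * pw x i) * (pw x i)⁻¹ := by rw [hc.eq]
            _ = u * v := by group
        rwa [e] at this
      apply hxne
      have := hcomm (u * v) huv x hx
      have e2 : u * v * x = u * x * v := by rw [mul_assoc, h.vx.eq, ← mul_assoc]
      -- x⁻¹ = u x u⁻¹ ; x (u v) = u x v → ...
      have e3 : x⁻¹ * u = u * x := by rw [← h.ux]; group
      have : x * (u * v) = u * x * v := by rw [← this, e2]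
      have : x * u = u * x := by
        have h4 := congrArg (· * v⁻¹) this
        simpa [mul_assoc] using h4
      rw [← e3] at this
      have h5 := mul_right_cancel this
      exact h5
  · rintro ⟨i, j, rfl⟩
    rw [Phi_apply]
    exact T'.mul_mem (pw_mem T' x hx i) (pw_mem T' y hy j)

theorem Phi_injective (h : Frame x y u v) (T' : Subgroup G)
    (hcomm : ∀ a ∈ T', ∀ b ∈ T', a * b = b * a) (hx : x ∈ T') (hy : y ∈ T') :
    Function.Injective (Phi h) := by
  rw [injective_iff_map_eq_one]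
  intro d hd
  have hd' : Phi h d ∈ T' := by rw [hd]; exact T'.one_mem
  obtain ⟨i, j, rfl⟩ := (Phi_mem_iff h T' hcomm hx hy d).mp hd'
  rw [Phi_apply] at hd
  simp only [d3hom_r] at hd
  -- pw x i * pw y j = 1
  set z := pw x i with hz
  have hzy : z = (pw y j)⁻¹ := eq_inv_of_mul_eq_one_left hd
  have h1 : u * z * u⁻¹ = z⁻¹ := conj_pw x u h.ux i
  have h2 : u * z * u⁻¹ = z := by
    have hc : Commute u (pw y j)⁻¹ := (h.uy.pow_right _).inv_right
    rw [hzy, hc.eq]; group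
  have hz3 : z ^ 3 = 1 := by
    rw [hz]; unfold pw; rw [← pow_mul, mul_comm, pow_mul, h.x3, one_pow]
  have hz1 : z = 1 := sq_eq_one_of_cube z hz3 (h2.symm.trans h1)
  have hi : i = 0 := pw_eq_one x h.x3 h.x1 i hz1
  have hj : j = 0 := by
    apply pw_eq_one y h.y3 h.y1 j
    rw [hz1] at hzy
    have := inv_eq_one.mp hzy.symm
    exact this
  rw [hi, hj]; rfl

theorem Phi_range_le (h : Frame x y u v) (N : Subgroup G) (hx : x ∈ N) (hy : y ∈ N)
    (hu : u ∈ N) (hv : v ∈ N) : (Phi h).range ≤ N := by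
  rintro _ ⟨d, rfl⟩
  rw [Phi_apply]
  obtain ⟨d1, d2⟩ := d
  apply N.mul_mem
  · rcases d1 with i | i
    · exact pw_mem N x hx i
    · exact N.mul_mem hu (pw_mem N x hx i)
  · rcases d2 with j | j
    · exact pw_mem N y hy j
    · exact N.mul_mem hv (pw_mem N y hy j)

end Phi

section Klein

variable {G : Type*} [Group G]

/-- Schur–Zassenhaus: a Klein four complement `W` to `T` in `N_G(T)`. -/
theorem exists_klein [Finite G] (T : Sylow 3 G) (hcard : Nat.card T = 9)
    [hn : ((T : Subgroup G).subgroupOf (Subgroup.normalizer ((T : Subgroup G) : Set G))).Normal]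
    (hK : IsKleinFour (↥(Subgroup.normalizer ((T : Subgroup G) : Set G)) ⧸
      (T : Subgroup G).subgroupOf (Subgroup.normalizer ((T : Subgroup G) : Set G)))) :
    Nat.card (Subgroup.normalizer ((T : Subgroup G) : Set G)) = 36 ∧
    ∃ W : Subgroup G, W ≤ Subgroup.normalizer ((T : Subgroup G) : Set G) ∧
      (∀ w ∈ W, w ∈ (T : Subgroup G) → w = 1) ∧ Nat.card W = 4 ∧ ∀ w ∈ W, w * w = 1 := by
  set N := Subgroup.normalizer ((T : Subgroup G) : Set G) with hN
  set T' := (T : Subgroup G).subgroupOf N with hT'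
  have hT'card : Nat.card T' = 9 := by
    rw [← hcard]
    exact Nat.card_congr (Subgroup.subgroupOfEquivOfLe Subgroup.le_normalizer).toEquiv
  have hQ : Nat.card (N ⧸ T') = 4 := hK.card_four
  have hNcard : Nat.card N = 36 := by
    rw [Subgroup.card_eq_card_quotient_mul_card_subgroup T', hQ, hT'card]
  have hidx : T'.index = 4 := by rw [Subgroup.index_eq_card, hQ]
  obtain ⟨V, hV⟩ := Subgroup.exists_right_complement'_of_coprime (N := T')
    (by rw [hT'card, hidx]; decide)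
  have hVcard : Nat.card V = 4 := by
    have := hV.card_mul_card
    rw [hT'card, hNcard] at this
    omega
  have hVT : ∀ v : N, v ∈ V → v ∈ T' → v = 1 := fun v h1 h2 =>
    (Subgroup.disjoint_def.mp hV.disjoint) h2 h1
  have hV2 : ∀ v : N, v ∈ V → v * v = 1 := by
    intro v hv
    apply hVT _ (V.mul_mem hv hv)
    rw [← QuotientGroup.eq_one_iff]
    have h2 : (QuotientGroup.mk v : N ⧸ T') ^ 2 = 1 := by
      have := Monoid.pow_exponent_eq_one (QuotientGroup.mk v : N ⧸ T')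
      rwa [hK.exponent_two] at this
    rw [QuotientGroup.mk_mul, ← pow_two]
    exact h2
  refine ⟨hNcard, V.map N.subtype, Subgroup.map_subtype_le V, ?_, ?_, ?_⟩
  · rintro _ ⟨v, hv, rfl⟩ hw
    have : v = 1 := hVT v hv (Subgroup.mem_subgroupOf.mpr hw)
    rw [this]; rfl
  · rw [Subgroup.card_subtype, hVcard]
  · rintro _ ⟨v, hv, rfl⟩
    have := hV2 v hv
    exact congrArg Subtype.val this

/-- Three distinct elements in a group of order four and exponent two. -/
theorem exists_two_of_four {A : Type*} [Group A] (hcard : Nat.card A = 4)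
    (h2 : ∀ a : A, a * a = 1) : ∃ u v : A, u ≠ 1 ∧ v ≠ 1 ∧ u ≠ v := by
  haveI : Finite A := Nat.finite_of_card_ne_zero (by rw [hcard]; norm_num)
  haveI : Nontrivial A := by
    rw [← Finite.one_lt_card_iff_nontrivial, hcard]; norm_num
  obtain ⟨u, hu⟩ := exists_ne (1 : A)
  have hou : orderOf u ∣ 2 := orderOf_dvd_of_pow_eq_one (by rw [pow_two]; exact h2 u)
  have hle : orderOf u ≤ 2 := Nat.le_of_dvd (by norm_num) hou
  have hv : ∃ v : A, v ∉ Subgroup.zpowers u := by
    by_contra hcon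
    push Not at hcon
    have htop : Subgroup.zpowers u = ⊤ := (Subgroup.eq_top_iff' _).mpr hcon
    have hc : Nat.card (Subgroup.zpowers u) = 4 := by
      rw [htop, Subgroup.card_top, hcard]
    rw [Nat.card_zpowers] at hc
    omega
  obtain ⟨v, hv⟩ := hv
  refine ⟨u, v, hu, ?_, ?_⟩
  · rintro rfl
    exact hv (Subgroup.one_mem _)
  · rintro rfl
    exact hv (Subgroup.mem_zpowers u)

/-- `s` inverts `T` elementwise. -/
def Inverts (T : Subgroup G) (s : G) : Prop := ∀ t ∈ T, s * t * s⁻¹ = t⁻¹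

/-- `s` centralises `T` elementwise. -/
def Fixes (T : Subgroup G) (s : G) : Prop := ∀ t ∈ T, s * t * s⁻¹ = t

theorem exists_pair (T W : Subgroup G)
    (hWT : ∀ w ∈ W, w ∈ T → w = 1) (hW4 : Nat.card W = 4) (hW2 : ∀ w ∈ W, w * w = 1)
    (hCT : ∀ g : G, Fixes T g → g ∈ T) :
    ∃ a b : G, a ∈ W ∧ b ∈ W ∧ a ≠ 1 ∧ b ≠ 1 ∧ a ≠ b ∧ ¬ Inverts T a ∧ ¬ Inverts T b := by
  obtain ⟨u, v, hu1, hv1, huv⟩ := exists_two_of_four (A := W) hW4
    (fun a => Subtype.ext (hW2 a a.2))
  have hone : ∀ a ∈ W, ∀ b ∈ W, Inverts T a → Inverts T b → a = b := by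
    intro a ha b hb hia hib
    have hfix : Fixes T (a * b) := by
      intro t ht
      have e : a * b * t * (a * b)⁻¹ = a * (b * t * b⁻¹) * a⁻¹ := by group
      rw [e, hib t ht, hia _ (T.inv_mem ht), inv_inv]
    have h1 : a * b = 1 := hWT _ (W.mul_mem ha hb) (hCT _ hfix)
    have h2 := hW2 b hb
    exact mul_right_cancel (h1.trans h2.symm)
  have hu1' : (u : G) ≠ 1 := fun h => hu1 (Subtype.ext h)
  have hv1' : (v : G) ≠ 1 := fun h => hv1 (Subtype.ext h)
  have huv' : (u : G) ≠ v := fun h => huv (Subtype.ext h)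
  have huvW : (u : G) * v ∈ W := W.mul_mem u.2 v.2
  have huv1 : (u : G) * v ≠ 1 := by
    intro h
    apply huv'
    exact mul_right_cancel (h.trans (hW2 v v.2).symm)
  have huvu : (u : G) * v ≠ u := fun h => hv1' (by simpa using h)
  have huvv : (u : G) * v ≠ v := fun h => hu1' (by simpa using h)
  by_cases hiu : Inverts T u
  · refine ⟨v, u * v, v.2, huvW, hv1', huv1, huvv.symm, ?_, ?_⟩
    · intro hiv; exact huv' (hone _ u.2 _ v.2 hiu hiv)
    · intro hiuv; exact huvu (hone _ huvW _ u.2 hiuv hiu)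
  · by_cases hiv : Inverts T v
    · refine ⟨u, u * v, u.2, huvW, hu1', huv1, huvu.symm, hiu, ?_⟩
      intro hiuv; exact huvv (hone _ huvW _ v.2 hiuv hiv)
    · exact ⟨u, v, u.2, v.2, hu1', hv1', huv', hiu, hiv⟩

end Klein

section Eigen

variable {G : Type*} [Group G]

theorem card_three_of (T A : Subgroup G) [Finite T] (hT : Nat.card T = 9) (hA : A ≤ T)
    (h1 : A ≠ ⊥) (h2 : A ≠ T) : Nat.card A = 3 := by
  have hdvd : Nat.card A ∣ 9 := hT ▸ Subgroup.card_dvd_of_le hA
  have hmem : Nat.card A ∈ Nat.divisors 9 := Nat.mem_divisors.mpr ⟨hdvd, by norm_num⟩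
  have hdiv : Nat.divisors 9 = {1, 3, 9} := by decide
  rw [hdiv] at hmem
  simp only [Finset.mem_insert, Finset.mem_singleton] at hmem
  rcases hmem with h | h | h
  · exact absurd (Subgroup.eq_bot_of_card_eq A h) h1
  · exact h
  · exfalso
    apply h2
    exact Subgroup.eq_of_le_of_card_ge hA (by rw [hT, h])

theorem mem_three (A : Subgroup G) (hA : Nat.card A = 3) (y : G) (hy : y ∈ A) (hy1 : y ≠ 1)
    (c : G) (hc : c ∈ A) : c = 1 ∨ c = y ∨ c = y⁻¹ := by
  haveI : Fact (Nat.Prime 3) := ⟨Nat.prime_three⟩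
  have htop := zpowers_eq_top_of_prime_card hA (g := (⟨y, hy⟩ : A))
    (fun h => hy1 (congrArg Subtype.val h))
  have hmem : (⟨c, hc⟩ : A) ∈ Subgroup.zpowers (⟨y, hy⟩ : A) := by rw [htop]; trivial
  obtain ⟨k, hk⟩ := Subgroup.mem_zpowers_iff.mp hmem
  have hk' : y ^ k = c := by
    have := congrArg Subtype.val hk
    simpa using this
  have hy3 : y ^ 3 = 1 := by
    have := pow_card_eq_one' (x := (⟨y, hy⟩ : A))
    rw [hA] at this
    have := congrArg Subtype.val this
    simpa using this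
  rw [zpow_eq_zpow_emod' k hy3] at hk'
  obtain ⟨m, hm⟩ : ∃ m : ℤ, m = k % ((3 : ℕ) : ℤ) := ⟨_, rfl⟩
  rw [← hm] at hk'
  have h0 : 0 ≤ m := by rw [hm]; exact Int.emod_nonneg _ (by norm_num)
  have h3 : m < 3 := by rw [hm]; exact Int.emod_lt_of_pos _ (by norm_num)
  interval_cases m
  · left; rw [← hk']; simp
  · right; left; rw [← hk']; simp
  · right; right; rw [← hk']
    have : y ^ (2 : ℤ) = y * y := by
      have : (2 : ℤ) = ((2 : ℕ) : ℤ) := rfl
      rw [this, zpow_natCast, pow_two]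
    rw [this]
    have h3' : y * y * y = 1 := by rw [← hy3, pow_succ, pow_two]
    exact mul_eq_one_iff_eq_inv.mp h3'

/-- The fixed points of `u` on `T`. -/
def fixSub (T : Subgroup G) (u : G) : Subgroup G where
  carrier := {t | t ∈ T ∧ u * t * u⁻¹ = t}
  one_mem' := ⟨T.one_mem, by group⟩
  mul_mem' := by
    rintro a b ⟨ha, ha'⟩ ⟨hb, hb'⟩
    refine ⟨T.mul_mem ha hb, ?_⟩
    have e : u * (a * b) * u⁻¹ = (u * a * u⁻¹) * (u * b * u⁻¹) := by group
    rw [e, ha', hb']
  inv_mem' := by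
    rintro a ⟨ha, ha'⟩
    refine ⟨T.inv_mem ha, ?_⟩
    have e : u * a⁻¹ * u⁻¹ = (u * a * u⁻¹)⁻¹ := by group
    rw [e, ha']

/-- The elements of `T` inverted by `u` (`T` abelian). -/
def invSub (T : Subgroup G) (hcomm : ∀ a ∈ T, ∀ b ∈ T, a * b = b * a) (u : G) : Subgroup G where
  carrier := {t | t ∈ T ∧ u * t * u⁻¹ = t⁻¹}
  one_mem' := ⟨T.one_mem, by group⟩
  mul_mem' := by
    rintro a b ⟨ha, ha'⟩ ⟨hb, hb'⟩
    refine ⟨T.mul_mem ha hb, ?_⟩
    have e : u * (a * b) * u⁻¹ = (u * a * u⁻¹) * (u * b * u⁻¹) := by group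
    rw [e, ha', hb', mul_inv_rev, hcomm _ (T.inv_mem ha) _ (T.inv_mem hb)]
  inv_mem' := by
    rintro a ⟨ha, ha'⟩
    refine ⟨T.inv_mem ha, ?_⟩
    have e : u * a⁻¹ * u⁻¹ = (u * a * u⁻¹)⁻¹ := by group
    rw [e, ha']

theorem mem_fixSub {T : Subgroup G} {u t : G} : t ∈ fixSub T u ↔ t ∈ T ∧ u * t * u⁻¹ = t :=
  Iff.rfl

theorem mem_invSub {T : Subgroup G} {hcomm : ∀ a ∈ T, ∀ b ∈ T, a * b = b * a} {u t : G} :
    t ∈ invSub T hcomm u ↔ t ∈ T ∧ u * t * u⁻¹ = t⁻¹ := Iff.rfl

theorem exists_frame (T : Subgroup G) [Finite T] (hT9 : Nat.card T = 9)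
    (hcomm : ∀ a ∈ T, ∀ b ∈ T, a * b = b * a) (hT3 : ∀ a ∈ T, a ^ 3 = 1)
    (hCT : ∀ g : G, Fixes T g → g ∈ T)
    (u v : G) (hun : ∀ t ∈ T, u * t * u⁻¹ ∈ T) (hvn : ∀ t ∈ T, v * t * v⁻¹ ∈ T)
    (hu2 : u * u = 1) (hv2 : v * v = 1) (huv : Commute u v)
    (huT : u ∉ T) (hvT : v ∉ T) (huvT : u * v ∉ T)
    (hiu : ¬ Inverts T u) (hiv : ¬ Inverts T v) :
    ∃ x y : G, x ∈ T ∧ y ∈ T ∧ Frame x y u v := by
  set C := fixSub T u with hCdef
  set I := invSub T hcomm u with hIdef
  have hCle : C ≤ T := fun t h => h.1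
  have hIle : I ≤ T := fun t h => h.1
  have cmem : ∀ t ∈ T, t * (u * t * u⁻¹) ∈ C := by
    intro t ht
    refine ⟨T.mul_mem ht (hun t ht), ?_⟩
    have e : u * (t * (u * t * u⁻¹)) * u⁻¹ = (u * t * u⁻¹) * ((u * u) * t * (u * u)⁻¹) := by
      group
    rw [e, hu2]
    simp only [one_mul, inv_one, mul_one]
    exact hcomm _ (hun t ht) _ ht
  have imem : ∀ t ∈ T, t * (u * t * u⁻¹)⁻¹ ∈ I := by
    intro t ht
    refine ⟨T.mul_mem ht (T.inv_mem (hun t ht)), ?_⟩
    have e : u * (t * (u * t * u⁻¹)⁻¹) * u⁻¹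
        = (u * t * u⁻¹) * ((u * u) * t * (u * u)⁻¹)⁻¹ := by group
    rw [e, hu2]
    simp only [one_mul, inv_one, mul_one, mul_inv_rev, inv_inv]
  have hy : ∃ y ∈ C, y ≠ 1 := by
    unfold Inverts at hiu
    push Not at hiu
    obtain ⟨t, ht, hne⟩ := hiu
    refine ⟨t * (u * t * u⁻¹), cmem t ht, ?_⟩
    intro h
    exact hne (eq_inv_of_mul_eq_one_right h)
  have hx : ∃ x ∈ I, x ≠ 1 := by
    have hnf : ¬ Fixes T u := fun h => huT (hCT u h)
    unfold Fixes at hnf
    push Not at hnf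
    obtain ⟨t, ht, hne⟩ := hnf
    refine ⟨t * (u * t * u⁻¹)⁻¹, imem t ht, ?_⟩
    intro h
    exact hne (mul_inv_eq_one.mp h).symm
  obtain ⟨y, hyC, hy1⟩ := hy
  obtain ⟨x, hxI, hx1⟩ := hx
  have hdisj : ∀ c, c ∈ C → c ∈ I → c = 1 := by
    intro c hc hi
    exact sq_eq_one_of_cube c (hT3 c hc.1) (hc.2.symm.trans hi.2)
  have hC3 : Nat.card C = 3 := by
    apply card_three_of T C hT9 hCle
    · intro h
      apply hy1
      have : y ∈ (⊥ : Subgroup G) := by rw [← h]; exact hyC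
      simpa using this
    · intro h
      apply hx1
      exact hdisj x (by rw [h]; exact hxI.1) hxI
  have hI3 : Nat.card I = 3 := by
    apply card_three_of T I hT9 hIle
    · intro h
      apply hx1
      have : x ∈ (⊥ : Subgroup G) := by rw [← h]; exact hxI
      simpa using this
    · intro h
      apply hy1
      exact hdisj y hyC (by rw [h]; exact hyC.1)
  have hvC : ∀ c ∈ C, v * c * v⁻¹ ∈ C := by
    intro c hc
    refine ⟨hvn c hc.1, ?_⟩
    have e : u * (v * c * v⁻¹) * u⁻¹ = (u * v) * c * (u * v)⁻¹ := by group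
    rw [e, huv.eq]
    have e2 : v * u * c * (v * u)⁻¹ = v * (u * c * u⁻¹) * v⁻¹ := by group
    rw [e2, hc.2]
  have hvI : ∀ i ∈ I, v * i * v⁻¹ ∈ I := by
    intro i hi
    refine ⟨hvn i hi.1, ?_⟩
    have e : u * (v * i * v⁻¹) * u⁻¹ = (u * v) * i * (u * v)⁻¹ := by group
    rw [e, huv.eq]
    have e2 : v * u * i * (v * u)⁻¹ = v * (u * i * u⁻¹) * v⁻¹ := by group
    rw [e2, hi.2]; group
  have hdecomp : ∀ t ∈ T, ∃ c ∈ C, ∃ i ∈ I, t = (c * i) * (c * i) := by
    intro t ht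
    refine ⟨_, cmem t ht, _, imem t ht, ?_⟩
    set w := u * t * u⁻¹ with hw
    have hwT : w ∈ T := hun t ht
    have e1 : t * w * (t * w⁻¹) = t * t := by
      calc t * w * (t * w⁻¹) = t * (w * t) * w⁻¹ := by group
        _ = t * (t * w) * w⁻¹ := by rw [hcomm w hwT t ht]
        _ = t * t := by group
    rw [e1]
    have h3 := hT3 t ht
    have : t * t * (t * t) = t ^ 3 * t := by rw [pow_succ, pow_two]; group
    rw [this, h3, one_mul]
  have hfix_of : ∀ s : G, (∀ c ∈ C, s * c * s⁻¹ = c) → (∀ i ∈ I, s * i * s⁻¹ = i) →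
      Fixes T s := by
    intro s h1 h2 t ht
    obtain ⟨c, hc, i, hi, rfl⟩ := hdecomp t ht
    have e : s * (c * i * (c * i)) * s⁻¹
        = (s * c * s⁻¹) * (s * i * s⁻¹) * ((s * c * s⁻¹) * (s * i * s⁻¹)) := by group
    rw [e, h1 c hc, h2 i hi]
  have hinv_of : ∀ s : G, (∀ c ∈ C, s * c * s⁻¹ = c⁻¹) → (∀ i ∈ I, s * i * s⁻¹ = i⁻¹) →
      Inverts T s := by
    intro s h1 h2 t ht
    obtain ⟨c, hc, i, hi, rfl⟩ := hdecomp t ht
    have e : s * (c * i * (c * i)) * s⁻¹
        = (s * c * s⁻¹) * (s * i * s⁻¹) * ((s * c * s⁻¹) * (s * i * s⁻¹)) := by group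
    rw [e, h1 c hc, h2 i hi]
    have hci : c⁻¹ * i⁻¹ = (c * i)⁻¹ := by
      rw [mul_inv_rev]; exact hcomm _ (T.inv_mem hc.1) _ (T.inv_mem hi.1)
    rw [hci, ← mul_inv_rev]
  have hC_fix : v * y * v⁻¹ = y → ∀ c ∈ C, v * c * v⁻¹ = c := by
    intro h c hc
    rcases mem_three C hC3 y hyC hy1 c hc with h1 | h1 | h1
    · rw [h1]; group
    · rw [h1]; exact h
    · rw [h1]
      have e : v * y⁻¹ * v⁻¹ = (v * y * v⁻¹)⁻¹ := by group
      rw [e, h]
  have hC_inv : v * y * v⁻¹ = y⁻¹ → ∀ c ∈ C, v * c * v⁻¹ = c⁻¹ := by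
    intro h c hc
    rcases mem_three C hC3 y hyC hy1 c hc with h1 | h1 | h1
    · rw [h1]; group
    · rw [h1]; exact h
    · rw [h1]
      have e : v * y⁻¹ * v⁻¹ = (v * y * v⁻¹)⁻¹ := by group
      rw [e, h]
  have hI_fix : v * x * v⁻¹ = x → ∀ i ∈ I, v * i * v⁻¹ = i := by
    intro h c hc
    rcases mem_three I hI3 x hxI hx1 c hc with h1 | h1 | h1
    · rw [h1]; group
    · rw [h1]; exact h
    · rw [h1]
      have e : v * x⁻¹ * v⁻¹ = (v * x * v⁻¹)⁻¹ := by group
      rw [e, h]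
  have hI_inv : v * x * v⁻¹ = x⁻¹ → ∀ i ∈ I, v * i * v⁻¹ = i⁻¹ := by
    intro h c hc
    rcases mem_three I hI3 x hxI hx1 c hc with h1 | h1 | h1
    · rw [h1]; group
    · rw [h1]; exact h
    · rw [h1]
      have e : v * x⁻¹ * v⁻¹ = (v * x * v⁻¹)⁻¹ := by group
      rw [e, h]
  have hy'1 : v * y * v⁻¹ ≠ 1 := fun h => hy1 (conj_eq_one_iff.mp h)
  have hx'1 : v * x * v⁻¹ ≠ 1 := fun h => hx1 (conj_eq_one_iff.mp h)
  have hycases : v * y * v⁻¹ = y ∨ v * y * v⁻¹ = y⁻¹ := by
    rcases mem_three C hC3 y hyC hy1 _ (hvC y hyC) with h | h | h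
    · exact absurd h hy'1
    · exact Or.inl h
    · exact Or.inr h
  have hxcases : v * x * v⁻¹ = x ∨ v * x * v⁻¹ = x⁻¹ := by
    rcases mem_three I hI3 x hxI hx1 _ (hvI x hxI) with h | h | h
    · exact absurd h hx'1
    · exact Or.inl h
    · exact Or.inr h
  rcases hycases with hyv | hyv <;> rcases hxcases with hxv | hxv
  · exact absurd (hCT v (hfix_of v (hC_fix hyv) (hI_fix hxv))) hvT
  · exfalso
    apply huvT
    apply hCT
    apply hfix_of
    · intro c hc
      have e : u * v * c * (u * v)⁻¹ = u * (v * c * v⁻¹) * u⁻¹ := by group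
      rw [e, hC_fix hyv c hc, hc.2]
    · intro i hi
      have e : u * v * i * (u * v)⁻¹ = u * (v * i * v⁻¹) * u⁻¹ := by group
      rw [e, hI_inv hxv i hi]
      have e2 : u * i⁻¹ * u⁻¹ = (u * i * u⁻¹)⁻¹ := by group
      rw [e2, hi.2, inv_inv]
  · refine ⟨x, y, hxI.1, hyC.1, ?_⟩
    exact
      { x3 := hT3 x hxI.1
        y3 := hT3 y hyC.1
        u2 := hu2
        v2 := hv2
        xy := hcomm x hxI.1 y hyC.1
        uv := huv
        ux := hxI.2
        uy := mul_inv_eq_iff_eq_mul.mp hyC.2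
        vx := mul_inv_eq_iff_eq_mul.mp hxv
        vy := hyv
        x1 := hx1
        y1 := hy1 }
  · exact absurd (hinv_of v (hC_inv hyv) (hI_inv hxv)) hiv

end Eigen

/-- **S3805, P1.** -/
theorem exists_embedding {G : Type*} [Group G] [Finite G]
    (T : Sylow 3 G) (hT : Cfsg.IsElementaryAbelian 3 (T : Subgroup G)) (hcard : Nat.card T = 9)
    (hC : Subgroup.centralizer ((T : Subgroup G) : Set G) = T)
    [hn : ((T : Subgroup G).subgroupOf (Subgroup.normalizer ((T : Subgroup G) : Set G))).Normal]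
    (hK : IsKleinFour (↥(Subgroup.normalizer ((T : Subgroup G) : Set G)) ⧸
      (T : Subgroup G).subgroupOf (Subgroup.normalizer ((T : Subgroup G) : Set G)))) :
    ∃ Φ : DD →* G, Function.Injective Φ ∧
      Φ.range = Subgroup.normalizer ((T : Subgroup G) : Set G) ∧
      (∀ d : DD, Φ d ∈ (T : Subgroup G) ↔ ∃ i j : ZMod 3, d = (r i, r j)) := by
  obtain ⟨hTcomm, hT3⟩ := hT
  have hcomm : ∀ a ∈ (T : Subgroup G), ∀ b ∈ (T : Subgroup G), a * b = b * a := by
    intro a ha b hb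
    have := mul_comm' (⟨a, ha⟩ : (T : Subgroup G)) ⟨b, hb⟩
    exact congrArg Subtype.val this
  obtain ⟨hN36, W, hWN, hWT, hW4, hW2⟩ := exists_klein T hcard hK
  have hCT : ∀ g : G, Fixes (T : Subgroup G) g → g ∈ (T : Subgroup G) := by
    intro g hg
    rw [← hC, Subgroup.mem_centralizer_iff]
    intro t ht
    have := hg t ht
    rw [mul_inv_eq_iff_eq_mul] at this
    exact this.symm
  obtain ⟨a, b, haW, hbW, ha1, hb1, hab, hia, hib⟩ :=
    exists_pair (T : Subgroup G) W hWT hW4 hW2 hCT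
  have hnorm : ∀ w ∈ Subgroup.normalizer ((T : Subgroup G) : Set G),
      ∀ t ∈ (T : Subgroup G), w * t * w⁻¹ ∈ (T : Subgroup G) := by
    intro w hw t ht
    exact (Subgroup.mem_normalizer_iff.mp hw t).mp ht
  have hcommW : Commute a b := by
    have h1 := hW2 (a * b) (W.mul_mem haW hbW)
    have h2 := hW2 a haW
    have h3 := hW2 b hbW
    -- a b a b = 1 → a b = b⁻¹ a⁻¹ = b a
    have ha' : a⁻¹ = a := inv_eq_of_mul_eq_one_left h2
    have hb' : b⁻¹ = b := inv_eq_of_mul_eq_one_left h3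
    have : a * b = (a * b)⁻¹ := (inv_eq_of_mul_eq_one_left h1).symm
    rw [mul_inv_rev, ha', hb'] at this
    exact this
  have hab1 : a * b ≠ 1 := by
    intro h
    apply hab
    exact mul_right_cancel (h.trans (hW2 b hbW).symm)
  obtain ⟨x, y, hxT, hyT, hF⟩ := exists_frame (T : Subgroup G) hcard hcomm hT3 hCT a b
    (hnorm a (hWN haW)) (hnorm b (hWN hbW)) (hW2 a haW) (hW2 b hbW) hcommW
    (fun h => ha1 (hWT a haW h)) (fun h => hb1 (hWT b hbW h))
    (fun h => hab1 (hWT _ (W.mul_mem haW hbW) h)) hia hib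
  have hinj := Phi_injective hF (T : Subgroup G) hcomm hxT hyT
  refine ⟨Phi hF, hinj, ?_, Phi_mem_iff hF (T : Subgroup G) hcomm hxT hyT⟩
  apply Subgroup.eq_of_le_of_card_ge
  · exact Phi_range_le hF _ (Subgroup.le_normalizer hxT) (Subgroup.le_normalizer hyT)
      (hWN haW) (hWN hbW)
  · rw [hN36]
    have h1 : Nat.card (Phi hF).range = Nat.card DD :=
      Nat.card_congr (MonoidHom.ofInjective hinj).toEquiv.symm
    rw [h1, Nat.card_prod, DihedralGroup.nat_card]

end Cfsg.Agent.Lib.Helper21.S3805P1
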