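import Mathlib
import Cfsg.Prelude.Def_Transfer

/-!
# S3805, piece P4 (`normal_of_kernel`)

A normal subgroup `K ≥ T` with `K ∩ N_G(T) ≤ T` forces `T ⊴ G`: Burnside's transfer theorem
gives a normal `3`-complement `M` of `K`; every non-identity element of `T ≅ 3²` acts
fixed-point-freely on `M`, hence `M = 1`.
-/

set_option autoImplicit false

namespace Cfsg.Agent.Lib.Helper21.S3805P4

open Subgroup

/-- A fixed-point-free "automorphism" of order three (conjugation by `t`) of a finite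
subgroup `M`: the norm relation `m · m^t · m^{t²} = 1`. -/
theorem fpf3_norm {H : Type*} [Group H] (M : Subgroup H) [Finite M] (t : H) (ht : t ^ 3 = 1)
    (hnorm : ∀ m ∈ M, t * m * t⁻¹ ∈ M)
    (hfix : ∀ m ∈ M, t * m * t⁻¹ = m → m = 1) (m : H) (hm : m ∈ M) :
    m * (t * m * t⁻¹) * (t ^ 2 * m * (t ^ 2)⁻¹) = 1 := by
  let φ : M → M := fun n =>
    ⟨(n : H)⁻¹ * (t * n * t⁻¹), M.mul_mem (M.inv_mem n.2) (hnorm n n.2)⟩
  have hinj : Function.Injective φ := by
    intro a b hab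
    have h1 : (a : H)⁻¹ * (t * a * t⁻¹) = (b : H)⁻¹ * (t * b * t⁻¹) := congrArg Subtype.val hab
    have h2 : t * ((b : H) * (a : H)⁻¹) * t⁻¹ = (b : H) * (a : H)⁻¹ := by
      have e : t * ((b : H) * (a : H)⁻¹) * t⁻¹ = (t * b * t⁻¹) * (t * a * t⁻¹)⁻¹ := by group
      rw [e, mul_inv_eq_iff_eq_mul]
      have h1' : (t * b * t⁻¹) = (b : H) * ((a : H)⁻¹ * (t * a * t⁻¹)) := by
        rw [h1]; group
      rw [h1']; group
    have h3 := hfix _ (M.mul_mem b.2 (M.inv_mem a.2)) h2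
    rw [mul_inv_eq_one] at h3
    exact Subtype.ext h3.symm
  have hsurj : Function.Surjective φ := Finite.surjective_of_injective hinj
  obtain ⟨n, hn⟩ := hsurj ⟨m, hm⟩
  have hm' : m = (n : H)⁻¹ * (t * n * t⁻¹) := (congrArg Subtype.val hn).symm
  have key : ∀ n t : H, (n⁻¹ * (t * n * t⁻¹)) * (t * (n⁻¹ * (t * n * t⁻¹)) * t⁻¹) *
      (t ^ 2 * (n⁻¹ * (t * n * t⁻¹)) * (t ^ 2)⁻¹) = n⁻¹ * (t ^ 3 * n * (t ^ 3)⁻¹) := by
    intro n t
    simp only [pow_succ, pow_zero, one_mul, mul_assoc, mul_inv_rev, inv_mul_cancel_left,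
      mul_inv_cancel_left]
  rw [hm', key, ht]; group

/-- In the situation of `fpf3_norm`, `m` commutes with its conjugate `m^t`. -/
theorem fpf3_commute {H : Type*} [Group H] (M : Subgroup H) [Finite M] (t : H) (ht : t ^ 3 = 1)
    (hnorm : ∀ m ∈ M, t * m * t⁻¹ ∈ M)
    (hfix : ∀ m ∈ M, t * m * t⁻¹ = m → m = 1) (m : H) (hm : m ∈ M) :
    Commute m (t * m * t⁻¹) := by
  have hA := fpf3_norm M t ht hnorm hfix m hm
  have hB := fpf3_norm M t ht hnorm hfix m⁻¹ (M.inv_mem hm)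
  have e1 : t * m⁻¹ * t⁻¹ = (t * m * t⁻¹)⁻¹ := by group
  have e2 : t ^ 2 * m⁻¹ * (t ^ 2)⁻¹ = (t ^ 2 * m * (t ^ 2)⁻¹)⁻¹ := by group
  rw [e1, e2] at hB
  set c := t * m * t⁻¹
  set d := t ^ 2 * m * (t ^ 2)⁻¹
  -- hA : m * c * d = 1, hB : m⁻¹ * c⁻¹ * d⁻¹ = 1
  have h1 : m * c = d⁻¹ := mul_eq_one_iff_eq_inv.mp hA
  have h2 : m⁻¹ * c⁻¹ = d := by
    have := mul_eq_one_iff_eq_inv.mp hB
    rw [inv_inv] at this; exact this
  have h3 : c * m = d⁻¹ := by rw [← h2]; group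
  exact h1.trans h3.symm

/-- The commutative bookkeeping: five "line" relations among nine commuting elements. -/
theorem mul_nine {C : Type*} [CommGroup C] (m a a2 b b2 c c2 : C)
    (L2 : m * a * a2 = 1) (L3 : m * b * b2 = 1) (L4 : m * c * c2 = 1)
    (P1 : a * b * c2 = 1) (P2 : a2 * c * b2 = 1) : m ^ 3 = 1 := by
  have key : m * m * m * ((a * b * c2) * (a2 * c * b2))
      = (m * a * a2) * (m * b * b2) * (m * c * c2) := by ac_rfl
  rw [L2, L3, L4, P1, P2] at key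
  simpa [pow_succ] using key

/-- A non-cyclic elementary abelian `3`-group cannot act on a finite `3'`-group `M` with all
non-identity elements fixed-point-free unless `M = 1`. -/
theorem eq_bot_of_fpf_nine {H : Type*} [Group H] (M : Subgroup H) [Finite M]
    (A : Subgroup H) (hAcomm : ∀ a ∈ A, ∀ b ∈ A, a * b = b * a)
    (hA3 : ∀ a ∈ A, a ^ 3 = 1)
    (hnorm : ∀ a ∈ A, ∀ m ∈ M, a * m * a⁻¹ ∈ M)
    (hfix : ∀ a ∈ A, a ≠ 1 → ∀ m ∈ M, a * m * a⁻¹ = m → m = 1)
    (x y : H) (hx : x ∈ A) (hy : y ∈ A) (hx1 : x ≠ 1) (hy1 : y ≠ 1)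
    (hxy1 : x * y ≠ 1) (hxy2 : x * y ^ 2 ≠ 1)
    (h3 : (Nat.card M).Coprime 3) : M = ⊥ := by
  rw [Subgroup.eq_bot_iff_forall]
  intro m hm
  set f : H → H := fun g => g * m * g⁻¹ with hf
  have hfM : ∀ g ∈ A, f g ∈ M := fun g hg => hnorm g hg m hm
  have hcomm2 : ∀ g ∈ A, ∀ g' ∈ A, f g * f g' = f g' * f g := by
    intro g hg g' hg'
    by_cases h : g' = g
    · rw [h]
    · have ht : g' * g⁻¹ ∈ A := A.mul_mem hg' (A.inv_mem hg)
      have ht1 : g' * g⁻¹ ≠ 1 := fun h1 => h (mul_inv_eq_one.mp h1)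
      have := fpf3_commute M (g' * g⁻¹) (hA3 _ ht) (hnorm _ ht) (hfix _ ht ht1) (f g) (hfM g hg)
      have e : g' * g⁻¹ * f g * (g' * g⁻¹)⁻¹ = f g' := by simp only [hf]; group
      rw [e] at this; exact this.eq
  have hline : ∀ g ∈ A, ∀ t ∈ A, t ≠ 1 → f g * f (t * g) * f (t ^ 2 * g) = 1 := by
    intro g hg t ht ht1
    have := fpf3_norm M t (hA3 t ht) (hnorm t ht) (hfix t ht ht1) (f g) (hfM g hg)
    have e1 : t * f g * t⁻¹ = f (t * g) := by simp only [hf]; group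
    have e2 : t ^ 2 * f g * (t ^ 2)⁻¹ = f (t ^ 2 * g) := by simp only [hf]; group
    rw [e1, e2] at this; exact this
  -- the commutative group generated by the conjugates
  let k : Set H := Set.range (fun g : A => f (g : H))
  have hk : ∀ a ∈ k, ∀ b ∈ k, a * b = b * a := by
    rintro _ ⟨g, rfl⟩ _ ⟨g', rfl⟩
    exact hcomm2 g g.2 g' g'.2
  have hkc : IsMulCommutative (closure k) := Subgroup.isMulCommutative_closure hk
  let _i : CommGroup (closure k) :=
    { (closure k).toGroup with mul_comm := fun a b => mul_comm' a b }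
  have hmem : ∀ g ∈ A, f g ∈ closure k := fun g hg => subset_closure ⟨⟨g, hg⟩, rfl⟩
  have hxy : x * y ∈ A := A.mul_mem hx hy
  have hy2 : y ^ 2 ∈ A := A.pow_mem hy 2
  have hxy2' : x * y ^ 2 ∈ A := A.mul_mem hx hy2
  have hx2 : x ^ 2 ∈ A := A.pow_mem hx 2
  have e3 : (x * y) ^ 2 = x ^ 2 * y ^ 2 := by
    have := hAcomm x hx y hy
    exact (Commute.mul_pow this 2)
  have e4 : (x * y ^ 2) ^ 2 = x ^ 2 * y := by
    have hc : Commute x (y ^ 2) := hAcomm x hx _ hy2
    rw [hc.mul_pow 2, ← pow_mul]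
    have : y ^ (2 * 2) = y ^ 3 * y := by rw [← pow_succ]
    rw [this, hA3 y hy, one_mul]
  have L2 := hline 1 A.one_mem y hy hy1
  have L3 := hline 1 A.one_mem (x * y) hxy hxy1
  have L4 := hline 1 A.one_mem (x * y ^ 2) hxy2' hxy2
  have P1 := hline y hy x hx hx1
  have P2 := hline (y ^ 2) hy2 x hx hx1
  rw [mul_one, mul_one] at L2 L3 L4
  rw [e3] at L3
  rw [e4] at L4
  have h1A : (1 : H) ∈ A := A.one_mem
  have hx2y2 : x ^ 2 * y ^ 2 ∈ A := A.mul_mem hx2 hy2
  have hx2y : x ^ 2 * y ∈ A := A.mul_mem hx2 hy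
  have hm3 : (⟨f 1, hmem 1 h1A⟩ : closure k) ^ 3 = 1 :=
    mul_nine (⟨f 1, hmem 1 h1A⟩ : closure k) ⟨f y, hmem y hy⟩ ⟨f (y ^ 2), hmem _ hy2⟩
      ⟨f (x * y), hmem _ hxy⟩ ⟨f (x ^ 2 * y ^ 2), hmem _ hx2y2⟩
      ⟨f (x * y ^ 2), hmem _ hxy2'⟩ ⟨f (x ^ 2 * y), hmem _ hx2y⟩
      (Subtype.ext L2) (Subtype.ext L3) (Subtype.ext L4) (Subtype.ext P1) (Subtype.ext P2)
  have hm3' : m ^ 3 = 1 := by
    have := congrArg Subtype.val hm3
    simpa [hf] using this
  -- order argument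
  have ho : orderOf (⟨m, hm⟩ : M) ∣ 3 := by
    apply orderOf_dvd_of_pow_eq_one
    exact Subtype.ext hm3'
  have ho2 : orderOf (⟨m, hm⟩ : M) ∣ Nat.card M := orderOf_dvd_natCard _
  have ho1 : orderOf (⟨m, hm⟩ : M) = 1 := Nat.eq_one_of_dvd_coprimes h3 ho2 ho
  have := orderOf_eq_one_iff.mp ho1
  exact congrArg Subtype.val this

/-- Choice of two "independent" elements in a group of order nine and exponent three. -/
theorem exists_indep {A : Type*} [Group A] (hcard : Nat.card A = 9) (h3 : ∀ a : A, a ^ 3 = 1) :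
    ∃ x y : A, x ≠ 1 ∧ y ≠ 1 ∧ x * y ≠ 1 ∧ x * y ^ 2 ≠ 1 := by
  haveI : Finite A := Nat.finite_of_card_ne_zero (by rw [hcard]; norm_num)
  haveI : Nontrivial A := by
    rw [← Finite.one_lt_card_iff_nontrivial, hcard]; norm_num
  obtain ⟨x, hx⟩ := exists_ne (1 : A)
  have hox : orderOf x ∣ 3 := orderOf_dvd_of_pow_eq_one (h3 x)
  have hle : orderOf x ≤ 3 := Nat.le_of_dvd (by norm_num) hox
  have hy : ∃ y : A, y ∉ Subgroup.zpowers x := by
    by_contra hcon
    push Not at hcon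
    have htop : Subgroup.zpowers x = ⊤ := (Subgroup.eq_top_iff' _).mpr hcon
    have hc : Nat.card (Subgroup.zpowers x) = 9 := by
      rw [htop, Subgroup.card_top, hcard]
    rw [Nat.card_zpowers] at hc
    omega
  obtain ⟨y, hy⟩ := hy
  refine ⟨x, y, hx, ?_, ?_, ?_⟩
  · rintro rfl
    exact hy (Subgroup.one_mem _)
  · intro h
    have : y = x⁻¹ := (eq_inv_of_mul_eq_one_right h)
    exact hy (this ▸ Subgroup.inv_mem _ (Subgroup.mem_zpowers x))
  · intro h
    have h2 : y ^ 2 = x⁻¹ := (eq_inv_of_mul_eq_one_right h)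
    have h4 : y = (y ^ 2) ^ 2 := by
      rw [← pow_mul]
      have : y ^ (2 * 2) = y ^ 3 * y := by rw [← pow_succ]
      rw [this, h3 y, one_mul]
    apply hy
    rw [h4, h2]
    exact Subgroup.pow_mem _ (Subgroup.inv_mem _ (Subgroup.mem_zpowers x)) 2

/-- **S3805, P4.** -/
theorem normal_of_kernel {G : Type*} [Group G] [Finite G]
    (T : Sylow 3 G) (hT : Cfsg.IsElementaryAbelian 3 (T : Subgroup G)) (hcard : Nat.card T = 9)
    (hC : Subgroup.centralizer ((T : Subgroup G) : Set G) = T)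
    (hloc : ∀ t ∈ (T : Subgroup G), t ≠ 1 →
      Subgroup.centralizer ({t} : Set G) ≤ Subgroup.normalizer ((T : Subgroup G) : Set G))
    (K : Subgroup G) [K.Normal] (hTK : (T : Subgroup G) ≤ K)
    (hKN : K ⊓ Subgroup.normalizer ((T : Subgroup G) : Set G) ≤ T) :
    Subgroup.normalizer ((T : Subgroup G) : Set G) = ⊤ := by
  classical
  haveI : Fact (Nat.Prime 3) := ⟨Nat.prime_three⟩
  obtain ⟨hTcomm, hT3⟩ := hT
  have hcomm : ∀ a ∈ (T : Subgroup G), ∀ b ∈ (T : Subgroup G), a * b = b * a := by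
    intro a ha b hb
    have := mul_comm' (⟨a, ha⟩ : (T : Subgroup G)) ⟨b, hb⟩
    exact congrArg Subtype.val this
  let TK : Sylow 3 K := T.subtype hTK
  have hTKmem : ∀ k : K, k ∈ (TK : Subgroup K) ↔ (k : G) ∈ (T : Subgroup G) := fun k => Iff.rfl
  have hP : Subgroup.normalizer ((TK : Subgroup K) : Set K) ≤
      Subgroup.centralizer ((TK : Subgroup K) : Set K) := by
    intro k hk
    have hk' : k ∈ (Subgroup.normalizer ((T : Subgroup G) : Set G)).subgroupOf K := by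
      rw [subgroupOf_normalizer_eq hTK]; exact hk
    have hkT : (k : G) ∈ (T : Subgroup G) := hKN ⟨k.2, Subgroup.mem_subgroupOf.mp hk'⟩
    rw [Subgroup.mem_centralizer_iff]
    intro h hh
    have := hcomm (h : G) ((hTKmem h).mp hh) (k : G) hkT
    exact Subtype.ext this
  have hcompl := MonoidHom.ker_transferSylow_isComplement' TK hP
  have hnd : ¬ 3 ∣ Nat.card (MonoidHom.transferSylow TK hP).ker :=
    MonoidHom.not_dvd_card_ker_transferSylow TK hP
  set M₀ : Subgroup K := (MonoidHom.transferSylow TK hP).ker with hM₀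
  have hdisj : ∀ k : K, k ∈ M₀ → k ∈ (TK : Subgroup K) → k = 1 := by
    intro k h1 h2
    exact (Subgroup.disjoint_def.mp hcompl.disjoint) h1 h2
  obtain ⟨x, y, hx1, hy1, hxy1, hxy2⟩ :=
    exists_indep (A := (T : Subgroup G)) hcard (fun a => Subtype.ext (hT3 a a.2))
  have hM₀bot : M₀ = ⊥ := by
    refine eq_bot_of_fpf_nine M₀ (TK : Subgroup K) ?_ ?_ ?_ ?_
      ⟨(x : G), hTK x.2⟩ ⟨(y : G), hTK y.2⟩ x.2 y.2 ?_ ?_ ?_ ?_ ?_
    · intro a ha b hb
      exact Subtype.ext (hcomm a ((hTKmem a).mp ha) b ((hTKmem b).mp hb))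
    · intro a ha
      exact Subtype.ext (hT3 a ((hTKmem a).mp ha))
    · intro a _ m hm
      exact (MonoidHom.normal_ker _).conj_mem m hm a
    · intro a ha ha1 m hm hfix
      have hmc : (m : G) ∈ Subgroup.centralizer ({(a : G)} : Set G) := by
        rw [Subgroup.mem_centralizer_iff]
        intro h hh
        rw [Set.mem_singleton_iff] at hh
        subst hh
        have := congrArg Subtype.val hfix
        simp only [Subgroup.coe_mul, Subgroup.coe_inv] at this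
        rw [mul_inv_eq_iff_eq_mul] at this
        exact this
      have ha1' : (a : G) ≠ 1 := fun h => ha1 (Subtype.ext h)
      have hmN := hloc (a : G) ((hTKmem a).mp ha) ha1' hmc
      have hmT : (m : G) ∈ (T : Subgroup G) := hKN ⟨m.2, hmN⟩
      exact hdisj m hm ((hTKmem m).mpr hmT)
    · intro h; exact hx1 (Subtype.ext (congrArg (Subtype.val : K → G) h))
    · intro h; exact hy1 (Subtype.ext (congrArg (Subtype.val : K → G) h))
    · intro h; exact hxy1 (Subtype.ext (congrArg (Subtype.val : K → G) h))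
    · intro h; exact hxy2 (Subtype.ext (congrArg (Subtype.val : K → G) h))
    · exact (Nat.Prime.coprime_iff_not_dvd Nat.prime_three).mpr hnd |>.symm
  rw [hM₀bot] at hcompl
  have htop : (TK : Subgroup K) = ⊤ := Subgroup.isComplement'_bot_left.mp hcompl
  have hKT : K ≤ (T : Subgroup G) := by
    intro k hk
    have : (⟨k, hk⟩ : K) ∈ (TK : Subgroup K) := by rw [htop]; exact Subgroup.mem_top _
    exact (hTKmem _).mp this
  have hTeq : (T : Subgroup G) = K := le_antisymm hTK hKT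
  rw [Subgroup.normalizer_eq_top_iff, hTeq]
  infer_instance

end Cfsg.Agent.Lib.Helper21.S3805P4
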