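import Mathlib

/-!
S4427-[B] (architect helper24): Bezout in a local ring. `𝒪` a commutative ring, `𝔪` a proper ideal outside which
every element is a unit, `t` killed by `∏ (X - ρ)`, `n ∉ 𝔪`: a polynomial `h = X h₁` with `h(t)² = h(t)`, `h(n) = 1`.
-/

set_option autoImplicit false
set_option linter.unusedVariables false

namespace Cfsg.Agent.Lib.Helper24.S4427

namespace Helper21

open Polynomial

theorem isCoprime_multiset_prod_left {R : Type*} [CommSemiring R] (s : Multiset R) (x : R)
    (h : ∀ y ∈ s, IsCoprime y x) : IsCoprime s.prod x := by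
  induction s using Multiset.induction_on with
  | empty => rw [Multiset.prod_zero]; exact isCoprime_one_left
  | cons a s ih =>
    rw [Multiset.prod_cons]
    exact IsCoprime.mul_left (h a (Multiset.mem_cons_self a s))
      (ih fun y hy => h y (Multiset.mem_cons_of_mem hy))

theorem isCoprime_multiset_prod_right {R : Type*} [CommSemiring R] (s : Multiset R) (x : R)
    (h : ∀ y ∈ s, IsCoprime x y) : IsCoprime x s.prod :=
  (isCoprime_multiset_prod_left s x fun y hy => (h y hy).symm).symm

/-- the product of the linear factors of a multiset of roots -/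
noncomputable def lin {R : Type*} [CommRing R] (s : Multiset R) : R[X] := (s.map fun ρ => X - C ρ).prod

theorem lin_coprime_left {R : Type*} [CommRing R] (s : Multiset R) (x : R[X])
    (h : ∀ ρ ∈ s, IsCoprime (X - C ρ) x) : IsCoprime (lin s) x := by
  apply isCoprime_multiset_prod_left
  intro y hy
  obtain ⟨ρ, hρ, rfl⟩ := Multiset.mem_map.mp hy
  exact h ρ hρ

theorem lin_coprime_right {R : Type*} [CommRing R] (s : Multiset R) (x : R[X])
    (h : ∀ ρ ∈ s, IsCoprime x (X - C ρ)) : IsCoprime x (lin s) :=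
  (lin_coprime_left s x fun ρ hρ => (h ρ hρ).symm).symm

end Helper21

open Polynomial in
/-- [B] -/
theorem exists_poly_idem {𝒪 : Type*} [CommRing 𝒪] (𝔪 : Ideal 𝒪) (h𝔪 : ∀ x : 𝒪, x ∉ 𝔪 → IsUnit x)
    (hne : 𝔪 ≠ ⊤) {B : Type*} [Ring B] [Algebra 𝒪 B] (t : B) (n : 𝒪) (hn : n ∉ 𝔪)
    (roots : Multiset 𝒪)
    (hann : Polynomial.aeval t ((roots.map fun ρ => Polynomial.X - Polynomial.C ρ).prod) = 0) :
    ∃ h h₁ : Polynomial 𝒪, h = Polynomial.X * h₁ ∧ Polynomial.aeval t (h * h - h) = 0 ∧
      h.eval n = 1 := by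
  classical
  set Z : Multiset 𝒪 := roots.filter (· ∈ 𝔪) with hZ
  set U : Multiset 𝒪 := roots.filter (fun ρ => ¬ ρ ∈ 𝔪) with hU
  have hZU : Z + U = roots := Multiset.filter_add_not _ roots
  have hlin : Helper21.lin Z * Helper21.lin U = (roots.map fun ρ => X - C ρ).prod := by
    unfold Helper21.lin
    rw [← Multiset.prod_add, ← Multiset.map_add, hZU]
  have hZm : ∀ ρ ∈ Z, ρ ∈ 𝔪 := fun ρ hρ => (Multiset.mem_filter.mp hρ).2
  have hUm : ∀ ρ ∈ U, ρ ∉ 𝔪 := fun ρ hρ => (Multiset.mem_filter.mp hρ).2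
  -- units
  have hsub : ∀ a b : 𝒪, a ∈ 𝔪 → b ∉ 𝔪 → IsUnit (a - b) := by
    intro a b ha hb
    apply h𝔪
    intro hab
    apply hb
    have : b = a - (a - b) := by ring
    rw [this]
    exact 𝔪.sub_mem ha hab
  have hX : ∀ c : 𝒪, c ∉ 𝔪 → IsCoprime (X : 𝒪[X]) (X - C c) := by
    intro c hc
    have h0 : IsCoprime (X - C 0 : 𝒪[X]) (X - C c) :=
      isCoprime_X_sub_C_of_isUnit_sub (hsub 0 c 𝔪.zero_mem hc)
    rwa [C_0, sub_zero] at h0
  -- coprimality
  have hcop : IsCoprime (X * Helper21.lin Z) ((X - C n) * Helper21.lin U) := by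
    apply IsCoprime.mul_left
    · apply IsCoprime.mul_right
      · exact hX n hn
      · apply Helper21.lin_coprime_right
        intro ρ hρ
        exact hX ρ (hUm ρ hρ)
    · apply Helper21.lin_coprime_left
      intro ρ hρ
      apply IsCoprime.mul_right
      · exact isCoprime_X_sub_C_of_isUnit_sub (hsub ρ n (hZm ρ hρ) hn)
      · apply Helper21.lin_coprime_right
        intro ρ' hρ'
        exact isCoprime_X_sub_C_of_isUnit_sub (hsub ρ ρ' (hZm ρ hρ) (hUm ρ' hρ'))
  obtain ⟨a, b, hab⟩ := hcop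
  refine ⟨X * (a * Helper21.lin Z), a * Helper21.lin Z, rfl, ?_, ?_⟩
  · -- `h * h - h = -(a * b * X * (X - C n)) * ∏ (X - ρ)`
    have hfac : X * (a * Helper21.lin Z) * (X * (a * Helper21.lin Z)) - X * (a * Helper21.lin Z) =
        -(a * b * X * (X - C n)) * (roots.map fun ρ => X - C ρ).prod := by
      rw [← hlin]
      have h1 : b * ((X - C n) * Helper21.lin U) = 1 - a * (X * Helper21.lin Z) := by
        rw [← hab]; ring
      have h2 : X * (a * Helper21.lin Z) * (X * (a * Helper21.lin Z)) - X * (a * Helper21.lin Z) =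
          -(a * (X * Helper21.lin Z)) * (1 - a * (X * Helper21.lin Z)) := by ring
      rw [h2, ← h1]
      ring
    rw [hfac, map_mul, hann, mul_zero]
  · have h1 := congrArg (Polynomial.eval n) hab
    simp only [eval_add, eval_mul, eval_sub, eval_X, eval_C, sub_self, zero_mul, mul_zero, add_zero,
      eval_one] at h1
    rw [← h1]
    simp only [eval_mul, eval_X]
    ring

end Cfsg.Agent.Lib.Helper24.S4427
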