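import Mathlib
import Cfsg.Prelude.Def_Blocks
import Cfsg.Agent.Lib.Helper24.S4427Defs
import Cfsg.Agent.Lib.Helper24.Loc
import Cfsg.Agent.Lib.Helper21.S4427B

/-!
S4427-[C] (architect helper24): for `t ∈ ℤ[G]` whose coefficient sum is prime to `p`, an idempotent `ε = t y = y t`
of `ℂ[G]` with coefficients in the local ring at `M` and coefficient sum `1` (from [B], applied in `𝒪[G]`,
`𝒪 = Rloc hM`).
-/

set_option autoImplicit false
set_option linter.unusedVariables false

namespace Cfsg.Agent.Lib.Helper24.S4427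

open Cfsg.Agent.Lib.Helper24

namespace Helper21C

open Polynomial

variable {p : ℕ} {M : Ideal Cfsg.AlgInt} (hM : Cfsg.IsPModular p M)

/-- an element of the local ring outside the local ideal is a unit -/
theorem isUnit_of_notMem (x : Rloc hM) (hx : x ∉ Mloc hM) : IsUnit x := by
  have hx' : ¬ Cfsg.MemLocalIdeal M (x : ℂ) := fun h => hx ((mem_Mloc hM x).mpr h)
  have hinv : Cfsg.MemLocalRing M (x : ℂ)⁻¹ := memLocalRing_inv hM x.2 hx'
  have hne : (x : ℂ) ≠ 0 := by
    intro h0
    apply hx'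
    rw [h0]
    exact memLocalIdeal_zero hM
  refine ⟨⟨x, ⟨(x : ℂ)⁻¹, hinv⟩, ?_, ?_⟩, rfl⟩
  · apply Subtype.ext
    show (x : ℂ) * (x : ℂ)⁻¹ = 1
    exact mul_inv_cancel₀ hne
  · apply Subtype.ext
    show (x : ℂ)⁻¹ * (x : ℂ) = 1
    exact inv_mul_cancel₀ hne

/-- an integer prime to `p` is not in the local ideal -/
theorem intCast_notMem (z : ℤ) (hz : ¬ (p : ℤ) ∣ z) : (z : Rloc hM) ∉ Mloc hM := by
  intro h
  rw [mem_Mloc] at h
  have h' : Cfsg.MemLocalIdeal M (z : ℂ) := by simpa using h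
  apply hz
  obtain ⟨n, rfl | rfl⟩ := Int.eq_nat_or_neg z
  · rw [Int.cast_natCast] at h'
    exact Int.natCast_dvd_natCast.mpr ((memLocalIdeal_natCast_iff hM n).mp h')
  · rw [Int.cast_neg, Int.cast_natCast] at h'
    have h'' := memLocalIdeal_neg h'
    rw [neg_neg] at h''
    exact (dvd_neg).mpr (Int.natCast_dvd_natCast.mpr ((memLocalIdeal_natCast_iff hM n).mp h''))

variable {G : Type*} [Group G] [Fintype G]

/-- the augmentation (coefficient sum) -/
noncomputable def aug (R : Type*) [CommRing R] : MonoidAlgebra R G →ₐ[R] R :=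
  MonoidAlgebra.lift R R G 1

theorem aug_apply (R : Type*) [CommRing R] (x : MonoidAlgebra R G) :
    aug R x = ∑ g : G, x.coeff g := by
  unfold aug
  rw [MonoidAlgebra.lift_apply, Finsupp.sum_fintype]
  · simp
  · intro i
    simp

end Helper21C

open Polynomial in
/-- [C] -/
theorem exists_idem_mul {p : ℕ} {M : Ideal Cfsg.AlgInt} (hM : Cfsg.IsPModular p M)
    {G : Type*} [Group G] [Fintype G] (t : MonoidAlgebra ℤ G)
    (hn : ¬ (p : ℤ) ∣ ∑ g : G, t.coeff g) :
    ∃ ε y : MonoidAlgebra ℂ G, IsIdempotentElem ε ∧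
      ε = MonoidAlgebra.mapRingHom G (Int.castRingHom ℂ) t * y ∧
      y * MonoidAlgebra.mapRingHom G (Int.castRingHom ℂ) t
        = MonoidAlgebra.mapRingHom G (Int.castRingHom ℂ) t * y ∧
      (∀ g, Cfsg.MemLocalRing M (ε.coeff g)) ∧ ∑ g : G, ε.coeff g = 1 := by
  classical
  have hcomp : (Rloc hM).subtype.comp (Int.castRingHom (Rloc hM)) = Int.castRingHom ℂ :=
    RingHom.ext_int _ _
  have hιφ : ∀ x : MonoidAlgebra ℤ G,
      MonoidAlgebra.mapRingHom G (Rloc hM).subtype
        (MonoidAlgebra.mapRingHom G (Int.castRingHom (Rloc hM)) x) =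
      MonoidAlgebra.mapRingHom G (Int.castRingHom ℂ) x := by
    intro x
    rw [← hcomp, MonoidAlgebra.mapRingHom_comp]
    rfl
  -- integrality of `t`
  obtain ⟨P, hPm, hP0⟩ := IsIntegral.of_finite ℤ t
  have hP0' : aeval t P = 0 := hP0
  -- the roots
  have hPcm : (P.map (Int.castRingHom ℂ)).Monic := hPm.map _
  have hsplit := (IsAlgClosed.splits (P.map (Int.castRingHom ℂ))).eq_prod_roots_of_monic hPcm
  have hroot_int : ∀ ρ ∈ (P.map (Int.castRingHom ℂ)).roots, (ρ : ℂ) ∈ Rloc hM := by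
    intro ρ hρ
    rw [mem_Rloc]
    apply memLocalRing_of_isIntegral hM
    refine ⟨P, hPm, ?_⟩
    have h1 := (Polynomial.mem_roots hPcm.ne_zero).mp hρ
    rw [IsRoot.def, eval_map] at h1
    exact h1
  set rootsO : Multiset (Rloc hM) :=
    (P.map (Int.castRingHom ℂ)).roots.pmap (fun ρ hρ => (⟨ρ, hρ⟩ : Rloc hM)) hroot_int with hrootsO
  have hrootsO' : rootsO.map (fun ρ : Rloc hM => (ρ : ℂ)) = (P.map (Int.castRingHom ℂ)).roots := by
    rw [hrootsO, Multiset.map_pmap]
    exact (Multiset.pmap_eq_map _ _ _ _).trans (Multiset.map_id' _)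
  -- the product of the linear factors over the local ring is the image of `P`
  have hQ : (rootsO.map fun ρ => X - C ρ).prod = P.map (Int.castRingHom (Rloc hM)) := by
    apply Polynomial.map_injective (Rloc hM).subtype Subtype.val_injective
    rw [Polynomial.map_multiset_prod, Multiset.map_map, Polynomial.map_map, hcomp]
    conv_rhs => rw [hsplit]
    rw [← hrootsO', Multiset.map_map]
    congr 2
    funext ρ
    simp
  -- `t` (over the local ring) is killed by it
  have hann : aeval (MonoidAlgebra.mapRingHom G (Int.castRingHom (Rloc hM)) t)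
      ((rootsO.map fun ρ => X - C ρ).prod) = 0 := by
    have h0 : P.map (Int.castRingHom (Rloc hM)) = P.map (algebraMap ℤ (Rloc hM)) := by
      rw [algebraMap_int_eq]
    rw [hQ, h0, Polynomial.aeval_map_algebraMap]
    have h1 := Polynomial.aeval_algHom_apply
      (MonoidAlgebra.mapRingHom G (Int.castRingHom (Rloc hM))).toIntAlgHom t P
    have h2 : ((MonoidAlgebra.mapRingHom G (Int.castRingHom (Rloc hM))).toIntAlgHom :
        MonoidAlgebra ℤ G → MonoidAlgebra (Rloc hM) G) =
        MonoidAlgebra.mapRingHom G (Int.castRingHom (Rloc hM)) := rfl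
    rw [h2, hP0', map_zero] at h1
    exact h1
  -- the coefficient sum
  have hnO : ((∑ g : G, t.coeff g : ℤ) : Rloc hM) ∉ Mloc hM := Helper21C.intCast_notMem hM _ hn
  obtain ⟨h, h₁, hh, hidem, heval⟩ := exists_poly_idem (Mloc hM) (Helper21C.isUnit_of_notMem hM)
    (Mloc_ne_top hM) (MonoidAlgebra.mapRingHom G (Int.castRingHom (Rloc hM)) t)
    ((∑ g : G, t.coeff g : ℤ) : Rloc hM) hnO rootsO hann
  set T' : MonoidAlgebra (Rloc hM) G := MonoidAlgebra.mapRingHom G (Int.castRingHom (Rloc hM)) t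
    with hT'
  -- in `𝒪[G]`
  have hε'idem : aeval T' h * aeval T' h = aeval T' h := by
    have h1 : aeval T' (h * h - h) = aeval T' h * aeval T' h - aeval T' h := by
      rw [map_sub, map_mul]
    rw [h1, sub_eq_zero] at hidem
    exact hidem
  have hε'mul : aeval T' h = T' * aeval T' h₁ := by
    rw [hh, map_mul, aeval_X]
  have hcomm : aeval T' h₁ * T' = T' * aeval T' h₁ := by
    have h1 : aeval T' (h₁ * X) = aeval T' (X * h₁) := by rw [mul_comm]
    rw [map_mul, map_mul, aeval_X] at h1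
    exact h1
  have haug : Helper21C.aug (Rloc hM) (aeval T' h) = 1 := by
    rw [← Polynomial.aeval_algHom_apply, Helper21C.aug_apply, Polynomial.coe_aeval_eq_eval]
    have h1 : ∑ g : G, T'.coeff g = ((∑ g : G, t.coeff g : ℤ) : Rloc hM) := by
      rw [Int.cast_sum]
      apply Finset.sum_congr rfl
      intro g _
      rw [hT', MonoidAlgebra.coeff_mapRingHom]
      rfl
    rw [h1]
    exact heval
  refine ⟨MonoidAlgebra.mapRingHom G (Rloc hM).subtype (aeval T' h),
    MonoidAlgebra.mapRingHom G (Rloc hM).subtype (aeval T' h₁), ?_, ?_, ?_, ?_, ?_⟩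
  · unfold IsIdempotentElem
    rw [← map_mul, hε'idem]
  · rw [← hιφ t, ← map_mul, ← hε'mul]
  · rw [← hιφ t, ← map_mul, ← map_mul, hcomm]
  · intro g
    rw [MonoidAlgebra.coeff_mapRingHom]
    exact ((aeval T' h).coeff g).2
  · rw [Helper21C.aug_apply] at haug
    have h1 := congrArg (fun x : Rloc hM => (x : ℂ)) haug
    simp only [Subring.coe_one] at h1
    rw [← h1]
    push_cast
    apply Finset.sum_congr rfl
    intro g _
    rw [MonoidAlgebra.coeff_mapRingHom]
    rfl

end Cfsg.Agent.Lib.Helper24.S4427
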