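import Mathlib
import Cfsg.Agent.Lib.Helper7.SpExtDefs
import Cfsg.Agent.Lib.Helper7.SpExtBas

/-!
# S5664 FO-ROOT (helper21, for architect helper7): root elements and transitivity of `SpL`
-/

set_option autoImplicit false
set_option linter.unusedSectionVars false
set_option linter.unusedVariables false

namespace Cfsg.Agent.Lib.Helper21.S5664ROOT

open Matrix Module Cfsg.Agent.Lib.Helper7.SpExt

variable {F : Type*} [Field F] [Fintype F] {L : Type*} [Field L] [Algebra F L] {ι : Type} [Fintype ι]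
  [DecidableEq ι] {ρ : L →ₐ[F] Matrix ι ι F} {f : (ι → F) →ₗ[F] (ι → F) →ₗ[F] F} {τ : L →ₗ[F] F}
  {B : (ι → F) →ₗ[F] (ι → F) →ₗ[F] L} {r : ℕ}

/-- the map `v ↦ v + (a B(v,u)) • u` -/
noncomputable def rootMap (ρ : L →ₐ[F] Matrix ι ι F) (B : (ι → F) →ₗ[F] (ι → F) →ₗ[F] L)
    (u : ι → F) (a : L) : (ι → F) →ₗ[F] (ι → F) :=
  LinearMap.id + (orb ρ u) ∘ₗ (LinearMap.mulLeft F a) ∘ₗ (B.flip u)

theorem rootMap_apply (u : ι → F) (a : L) (v : ι → F) :
    rootMap ρ B u a v = v + ρ (a * B v u) *ᵥ u := by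
  simp [rootMap]

theorem B_rootMap_right (S : SpStr ρ f τ B) (u : ι → F) (a : L) (v : ι → F) :
    B (rootMap ρ B u a v) u = B v u := by
  rw [rootMap_apply, map_add, LinearMap.add_apply, S.lin, S.alt, mul_zero, add_zero]

theorem rootMap_inv (S : SpStr ρ f τ B) (u : ι → F) (a : L) (v : ι → F) :
    rootMap ρ B u a (rootMap ρ B u (-a) v) = v := by
  rw [rootMap_apply, B_rootMap_right S, rootMap_apply, neg_mul, rho_neg_mulVec]
  abel

theorem exists_root (S : SpStr ρ f τ B) (u : ι → F) (a : L) :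
    ∃ g : GL ι F, IsRoot ρ B u a g ∧ IsRoot ρ B u (-a) g⁻¹ ∧ g ∈ SpL ρ B := by
  have h1 : ∀ v, rootMap ρ B u a (rootMap ρ B u (-a) v) = v := rootMap_inv S u a
  have h2 : ∀ v, rootMap ρ B u (-a) (rootMap ρ B u a v) = v := by
    intro v
    have := rootMap_inv S u (-a) v
    rwa [neg_neg] at this
  obtain ⟨g, hg, hg'⟩ := exists_gl (rootMap ρ B u a) (rootMap ρ B u (-a)) h1 h2
  have hr : IsRoot ρ B u a g := fun v => by rw [hg, rootMap_apply]
  refine ⟨g, hr, fun v => by rw [hg', rootMap_apply], ?_, ?_⟩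
  · intro c v
    rw [hr, hr, S.lin, Matrix.mulVec_add, ← rho_mul_mulVec]
    congr 2
    ring_nf
  · intro v w
    rw [hr, hr]
    simp only [map_add, LinearMap.add_apply, S.lin, B_lin_right S, S.alt, mul_zero, add_zero]
    rw [B_skew S u w]
    ring

theorem exists_SpL_map_of_ne (S : SpStr ρ f τ B) {v w : ι → F} (h : B v w ≠ 0) :
    ∃ h ∈ SpL ρ B, act h v = w := by
  obtain ⟨g, hr, -, hg⟩ := exists_root S (w - v) (B v w)⁻¹
  refine ⟨g, hg, ?_⟩
  rw [hr, map_sub, S.alt, sub_zero, inv_mul_cancel₀ h, rho_one_mulVec]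
  abel

theorem exists_SpL_map (S : SpStr ρ f τ B) {v w : ι → F} (hv : v ≠ 0) (hw : w ≠ 0) :
    ∃ h ∈ SpL ρ B, act h v = w := by
  by_cases hvw : B v w ≠ 0
  · exact exists_SpL_map_of_ne S hvw
  · have hvw0 : B v w = 0 := not_not.mp hvw
    obtain ⟨z₁, hz₁⟩ := B_nondeg S hv
    obtain ⟨z₂, hz₂⟩ := B_nondeg S hw
    have hz₂' : B z₂ w = -1 := by rw [B_skew S, hz₂]
    obtain ⟨z, hvz, hzw⟩ : ∃ z, B v z ≠ 0 ∧ B z w ≠ 0 := by
      by_cases h1 : B z₁ w ≠ 0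
      · exact ⟨z₁, by rw [hz₁]; exact one_ne_zero, h1⟩
      · by_cases h2 : B v z₂ ≠ 0
        · exact ⟨z₂, h2, by rw [hz₂']; exact neg_ne_zero.mpr one_ne_zero⟩
        · refine ⟨z₁ + z₂, ?_, ?_⟩
          · rw [map_add, hz₁, not_not.mp h2, add_zero]
            exact one_ne_zero
          · rw [map_add, LinearMap.add_apply, not_not.mp h1, hz₂', zero_add]
            exact neg_ne_zero.mpr one_ne_zero
    obtain ⟨h₁, hh₁, e₁⟩ := exists_SpL_map_of_ne S hvz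
    obtain ⟨h₂, hh₂, e₂⟩ := exists_SpL_map_of_ne S hzw
    exact ⟨h₂ * h₁, (SpL ρ B).mul_mem hh₂ hh₁, by rw [act_mul, e₁, e₂]⟩

end Cfsg.Agent.Lib.Helper21.S5664ROOT
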