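import Mathlib
import Cfsg.Agent.Lib.Helper8.S5670T2Defs
import Cfsg.Agent.Lib.Helper8.S5670T2S
import Cfsg.Agent.Lib.Helper8.S5670T2P
import Cfsg.Agent.Lib.Helper8.S5670T2C
import Cfsg.Agent.Lib.Helper23.S5637FOT3b
import Cfsg.Agent.H5.S5670T2Laux
import Cfsg.Agent.H5.S5670T2Laux2

/-!
# S5670 FO-T2T3, piece T2-L (helper21, for helper8): `decomp_levi`

An element `m` of `UG ∩ SL` stabilising `U ⊗ k₀` and conjugating the Siegel elements `1 ⊗ ρ_{y,c}` into the Kronecker group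
is the product of an element of `K ∩ UG ∩ SL` and an element of the radical.
-/

set_option autoImplicit false
set_option linter.unusedSectionVars false
set_option linter.unusedVariables false

namespace Cfsg.Agent.Lib.Helper21.S5670T2L

open Matrix Module
open Cfsg.Agent.Lib.Helper16.Tens Cfsg.Agent.Lib.Helper10.TensFund Cfsg.Agent.Lib.Helper28.TensU
open Cfsg.Agent.Lib.Helper8.S5670T2 Cfsg.Agent.Lib.Helper25.S5670HS Cfsg.Agent.Lib.Helper25.S5670PERP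
open Cfsg.Agent.Lib.Helper23.S5637T3b (kronGL)
open scoped Kronecker

variable {F : Type*} [Field F] [Fintype F] {a b : ℕ} {q : ℕ}

local notation "K" => Cfsg.Geo.kroneckerSubgroup a b F
local notation "V" => (Fin a × Fin b → F)

theorem hs_zero_left' {κ : Type*} [Fintype κ] (y : κ → F) : hs q (0 : κ → F) y = 0 := by
  simp [hs]

theorem hs_sub_left'' {κ : Type*} [Fintype κ] (x x' y : κ → F) :
    hs q (x - x') y = hs q x y - hs q x' y := by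
  simp only [hs, Pi.sub_apply, sub_mul, Finset.sum_sub_distrib]

/-- unitarity in terms of `act` -/
theorem hs_act (g : GL (Fin a × Fin b) F) (hg : g ∈ UG (Fin a × Fin b) F q) (x y : V) :
    hs q (act g x) (act g y) = hs q x y := by
  rw [act_apply, act_apply]
  exact (mem_UG_iff q g).1 hg x y

theorem ctr_cj_pur (k : Fin b → F) (u : Fin a → F) (w : Fin b → F) :
    ctr (cj q k) (pur u w) = hs q w k • u := by
  rw [ctr_pur, hs_eq_dotProduct]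

theorem act_kronGL' (A : GL (Fin a) F) (B : GL (Fin b) F) (u : Fin a → F) (x : Fin b → F) :
    act (kronGL A B) (pur u x) =
      pur ((A : Matrix (Fin a) (Fin a) F) *ᵥ u) ((B : Matrix (Fin b) (Fin b) F) *ᵥ x) := by
  rw [act_apply, Cfsg.Agent.Lib.Helper23.S5637T3b.kronGL_val, kron_mulVec_pur]

/-- every vector is a sum of pure tensors -/
theorem eq_sum_pur' (v : V) : v = ∑ j : Fin b, pur (fun i => v (i, j)) (Pi.single j 1) := by
  funext ⟨i, j⟩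
  rw [Finset.sum_apply]
  simp only [pur_apply]
  rw [Finset.sum_eq_single j]
  · simp
  · intro j' _ hj'
    simp [Ne.symm hj']
  · simp

theorem pur_induction' {p : V → Prop} (h0 : p 0) (hadd : ∀ x y, p x → p y → p (x + y))
    (hpur : ∀ (u : Fin a → F) (w : Fin b → F), p (pur u w)) (v : V) : p v := by
  rw [eq_sum_pur' v]
  apply Finset.sum_induction _ p hadd h0
  intro j _
  exact hpur _ _

/-- the matrix `A₀` of `m` on `U ⊗ k₀` -/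
theorem exists_A0 {k₀ : Fin b → F} (hk0 : k₀ ≠ 0) (m : GL (Fin a × Fin b) F)
    (hstab : img m (pt (a := a) k₀) = pt k₀) :
    ∃ A₀ : Matrix (Fin a) (Fin a) F, ∀ u, act m (pur u k₀) = pur (A₀ *ᵥ u) k₀ := by
  obtain ⟨ψ, hψ⟩ := exists_dual k₀ hk0
  let μL : (Fin a → F) →ₗ[F] (Fin a → F) :=
    (ctr (a := a) ψ) ∘ₗ ((act m).toLinearMap ∘ₗ purL (a := a) k₀)
  refine ⟨LinearMap.toMatrix' μL, ?_⟩
  intro u
  have h1 : act m (pur u k₀) ∈ img m (pt (a := a) k₀) := by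
    rw [mem_img_iff, act_inv_act]
    exact pur_mem_pt u k₀
  rw [hstab] at h1
  obtain ⟨u', hu'⟩ := (mem_pt_iff _ _).1 h1
  rw [LinearMap.toMatrix'_mulVec]
  have h2 : μL u = u' := by
    show ctr ψ (act m (pur u k₀)) = u'
    rw [← hu', ctr_pur, hψ, one_smul]
  rw [h2, hu']

theorem A0_isUnit {k₀ : Fin b → F} (hk0 : k₀ ≠ 0) (m : GL (Fin a × Fin b) F)
    (A₀ : Matrix (Fin a) (Fin a) F) (hA₀ : ∀ u, act m (pur u k₀) = pur (A₀ *ᵥ u) k₀) : IsUnit A₀ := by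
  rw [← Matrix.mulVec_injective_iff_isUnit]
  intro u u' h
  have h1 : act m (pur u k₀) = act m (pur u' k₀) := by
    rw [hA₀, hA₀]
    exact congrArg (fun z => pur z k₀) h
  have h2 := (act m).injective h1
  exact purL_injective hk0 h2

/-- `h(π(m v), A₀ u') = h(π v, u')`, `π = ctr (cj q k₀)` -/
theorem hs_ctr_act {k₀ : Fin b → F} (m : GL (Fin a × Fin b) F) (hm : m ∈ UG (Fin a × Fin b) F q)
    (A₀ : Matrix (Fin a) (Fin a) F) (hA₀ : ∀ u, act m (pur u k₀) = pur (A₀ *ᵥ u) k₀) (v : V) (u' : Fin a → F) :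
    hs q (ctr (cj q k₀) (act m v)) (A₀ *ᵥ u') = hs q (ctr (cj q k₀) v) u' := by
  rw [← hs_pur_right, ← hA₀, hs_act m hm, hs_pur_right]

/-- the matrix `A₃ = π ∘ m ∘ (· ⊗ k₁)` -/
theorem exists_A3 (k₀ k₁ : Fin b → F) (m : GL (Fin a × Fin b) F) :
    ∃ A₃ : Matrix (Fin a) (Fin a) F, ∀ u, A₃ *ᵥ u = ctr (cj q k₀) (act m (pur u k₁)) := by
  let L : (Fin a → F) →ₗ[F] (Fin a → F) :=
    (ctr (a := a) (cj q k₀)) ∘ₗ ((act m).toLinearMap ∘ₗ purL (a := a) k₁)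
  refine ⟨LinearMap.toMatrix' L, fun u => ?_⟩
  rw [LinearMap.toMatrix'_mulVec]
  rfl

/-- (L0) `h(A₃ u, A₀ u') = h(u, u')` -/
theorem hs_A3_A0 {k₀ k₁ : Fin b → F} (h10 : hs q k₁ k₀ = 1) (m : GL (Fin a × Fin b) F)
    (hm : m ∈ UG (Fin a × Fin b) F q)
    (A₀ : Matrix (Fin a) (Fin a) F) (hA₀ : ∀ u, act m (pur u k₀) = pur (A₀ *ᵥ u) k₀)
    (A₃ : Matrix (Fin a) (Fin a) F) (hA₃ : ∀ u, A₃ *ᵥ u = ctr (cj q k₀) (act m (pur u k₁)))
    (u u' : Fin a → F) : hs q (A₃ *ᵥ u) (A₀ *ᵥ u') = hs q u u' := by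
  rw [hA₃, hs_ctr_act m hm A₀ hA₀, ctr_cj_pur, h10, one_smul]

/-- an element of `K` fixing `U ⊗ k₀` pointwise is `1 ⊗ B` -/
theorem kron_fix_struct (ha : 1 ≤ a) {k₀ : Fin b → F} (hk0 : k₀ ≠ 0) (n : GL (Fin a × Fin b) F)
    (hn : n ∈ K) (hfix : ∀ u : Fin a → F, act n (pur u k₀) = pur u k₀) :
    ∃ B : Matrix (Fin b) (Fin b) F, ∀ (u : Fin a → F) (y : Fin b → F), act n (pur u y) = pur u (B *ᵥ y) := by
  obtain ⟨A, B0, hAB⟩ := (mem_kron_iff n).1 hn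
  obtain ⟨ψ, hψ1⟩ := exists_dual k₀ hk0
  set c : F := (B0.val *ᵥ k₀) ⬝ᵥ ψ with hc
  have h1 : ∀ u : Fin a → F, c • (A.val *ᵥ u) = u := by
    intro u
    have h := hfix u
    rw [act_apply, hAB, kron_mulVec_pur] at h
    have h' := congrArg (ctr ψ) h
    rw [ctr_pur, ctr_pur, hψ1, one_smul] at h'
    exact h'
  have hc0 : c ≠ 0 := by
    intro h0
    have h2 := h1 (Pi.single ⟨0, by omega⟩ 1)
    rw [h0, zero_smul] at h2
    have h3 := congrFun h2 ⟨0, by omega⟩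
    simp at h3
  refine ⟨c⁻¹ • B0.val, ?_⟩
  intro u y
  rw [act_apply, hAB, kron_mulVec_pur, Matrix.smul_mulVec, pur_smul_right, ← pur_smul_left]
  congr 1
  rw [← h1 u, smul_smul, inv_mul_cancel₀ hc0, one_smul, h1 u]

theorem rad_kron_aux (B : Matrix (Fin b) (Fin b) F) (u : Fin a → F) (y₁ k₁ : Fin b → F) (c : F) :
    pur u (B *ᵥ (y₁ + c • k₁)) - pur u (y₁ + c • k₁) - pur (c • u) (B *ᵥ k₁ - k₁) =
      pur u (B *ᵥ y₁) - pur u y₁ := by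
  rw [Matrix.mulVec_add, Matrix.mulVec_smul, pur_add_right, pur_add_right, pur_smul_right, pur_smul_right,
    pur_smul_left, sub_eq_add_neg (B *ᵥ k₁), pur_add_right, pur_neg_right]
  module

/-- shape of an element `1 ⊗ B` of the radical: `(n - 1) v ≡ π(v) ⊗ (B k₁ - k₁)` modulo `U ⊗ k₀` -/
theorem rad_kron_shape {k₀ k₁ : Fin b → F} (h10 : hs q k₁ k₀ = 1)
    (n : GL (Fin a × Fin b) F) (hr : InRad q k₀ n) (B : Matrix (Fin b) (Fin b) F)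
    (hB : ∀ (u : Fin a → F) (y : Fin b → F), act n (pur u y) = pur u (B *ᵥ y)) (v : V) :
    act n v - v - pur (ctr (cj q k₀) v) (B *ᵥ k₁ - k₁) ∈ pt (a := a) k₀ := by
  revert v
  apply pur_induction'
  · simp
  · intro x y hx hy
    have h : act n (x + y) - (x + y) - pur (ctr (cj q k₀) (x + y)) (B *ᵥ k₁ - k₁) =
        (act n x - x - pur (ctr (cj q k₀) x) (B *ᵥ k₁ - k₁)) +
          (act n y - y - pur (ctr (cj q k₀) y) (B *ᵥ k₁ - k₁)) := by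
      rw [map_add, map_add, pur_add_left]
      abel
    rw [h]
    exact Submodule.add_mem _ hx hy
  · intro u y
    have hy₁ : hs q (y - hs q y k₀ • k₁) k₀ = 0 := by
      rw [hs_sub_left'', hs_smul_left, h10, mul_one, sub_self]
    have hmem : pur u (y - hs q y k₀ • k₁) ∈ hyp (a := a) (cj q k₀) := by
      rw [mem_hyp_iff, ctr_cj_pur, hy₁, zero_smul]
    have hmod := hr.2 _ hmem
    have hy : y = (y - hs q y k₀ • k₁) + hs q y k₀ • k₁ := by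
      rw [sub_add_cancel]
    have key : act n (pur u y) - pur u y - pur (ctr (cj q k₀) (pur u y)) (B *ᵥ k₁ - k₁) =
        act n (pur u (y - hs q y k₀ • k₁)) - pur u (y - hs q y k₀ • k₁) := by
      rw [ctr_cj_pur, hB, hB]
      have h := rad_kron_aux B u (y - hs q y k₀ • k₁) k₁ (hs q y k₀)
      rw [← hy] at h
      exact h
    rw [key]
    exact hmod

theorem A3_ne_zero (hF : Fintype.card F = q ^ 2) {k₀ k₁ : Fin b → F} (h10 : hs q k₁ k₀ = 1)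
    (m : GL (Fin a × Fin b) F) (hm : m ∈ UG (Fin a × Fin b) F q)
    (A₀ : Matrix (Fin a) (Fin a) F) (hA₀ : ∀ u, act m (pur u k₀) = pur (A₀ *ᵥ u) k₀)
    (A₃ : Matrix (Fin a) (Fin a) F) (hA₃ : ∀ u, A₃ *ᵥ u = ctr (cj q k₀) (act m (pur u k₁)))
    {u : Fin a → F} (hu : u ≠ 0) : A₃ *ᵥ u ≠ 0 := by
  intro h
  apply hu
  apply hs_nondeg hF
  intro u'
  rw [← hs_A3_A0 h10 m hm A₀ hA₀ A₃ hA₃ u u', h, hs_zero_left']

theorem exists_ne_zero (ha : 1 ≤ a) : ∃ u : Fin a → F, u ≠ 0 := by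
  refine ⟨Pi.single ⟨0, by omega⟩ 1, ?_⟩
  intro h
  have h3 := congrFun h ⟨0, by omega⟩
  simp at h3

theorem cj_zero (hq : q ≠ 0) : cj q (0 : Fin b → F) = 0 := by
  funext i
  simp [cj, hq]

theorem ctr_zero (v : V) : ctr (a := a) (0 : Fin b → F) v = 0 := by
  funext i
  simp [ctr_apply]

/-- conjugating a Siegel element by `m` and evaluating at `m (u ⊗ k₁)` -/
theorem conj_sieg_eval {k₀ k₁ : Fin b → F} (hk : hs q k₀ k₀ = 0) (h10 : hs q k₁ k₀ = 1)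
    (m : GL (Fin a × Fin b) F)
    (A₀ : Matrix (Fin a) (Fin a) F) (hA₀ : ∀ u, act m (pur u k₀) = pur (A₀ *ᵥ u) k₀)
    (y : Fin b → F) (c : F) (hy : hs q y k₀ = 0) (hy' : hs q k₀ y = 0) (u : Fin a → F) :
    act (m * sieg q k₀ y c hk hy hy' * m⁻¹) (act m (pur u k₁)) =
      act m (pur u k₁) + (c - hs q k₁ y) • pur (A₀ *ᵥ u) k₀ + act m (pur u y) := by
  have h1 : act (m * sieg q k₀ y c hk hy hy' * m⁻¹) (act m (pur u k₁)) =
      act m (act (sieg q k₀ y c hk hy hy') (pur u k₁)) := by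
    rw [← act_mul, ← act_mul]
    congr 1
    group
  rw [h1, act_sieg, ctr_cj_pur, h10, one_smul, ctr_pur, dotProduct_sub, dotProduct_smul, ← hs_eq_dotProduct,
    ← hs_eq_dotProduct, h10, smul_eq_mul, mul_one, map_add, map_add, pur_smul_left, map_smul, hA₀]

/-- (L2) `A₀ = β A₃` -/
theorem exists_beta (hF : Fintype.card F = q ^ 2) (ha : 1 ≤ a) {k₀ k₁ : Fin b → F} (hk0 : k₀ ≠ 0)
    (hk : hs q k₀ k₀ = 0) (h10 : hs q k₁ k₀ = 1) (m : GL (Fin a × Fin b) F)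
    (hm : m ∈ UG (Fin a × Fin b) F q) (hstab : img m (pt (a := a) k₀) = pt k₀)
    (A₀ : Matrix (Fin a) (Fin a) F) (hA₀ : ∀ u, act m (pur u k₀) = pur (A₀ *ᵥ u) k₀)
    (A₃ : Matrix (Fin a) (Fin a) F) (hA₃ : ∀ u, A₃ *ᵥ u = ctr (cj q k₀) (act m (pur u k₁)))
    (hnorm : ∀ (y : Fin b → F) (c : F) (hy : hs q y k₀ = 0) (hy' : hs q k₀ y = 0),
      c + c ^ q + hs q y y = 0 → m * sieg q k₀ y c hk hy hy' * m⁻¹ ∈ K) :
    ∃ β : F, ∀ u, A₀ *ᵥ u = β • A₃ *ᵥ u := by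
  obtain ⟨c₀, hc0, hc⟩ := exists_trace_zero hF
  have hq : q ≠ 0 := (q_pos hF).ne'
  have h0 : hs q (0 : Fin b → F) k₀ = 0 := hs_zero_left' k₀
  have h0' : hs q k₀ (0 : Fin b → F) = 0 := by simp [hs, hq]
  have hk1 : hs q k₁ (0 : Fin b → F) = 0 := by simp [hs, hq]
  have hval : c₀ + c₀ ^ q + hs q (0 : Fin b → F) 0 = 0 := by rw [hs_zero_left', add_zero, hc]
  have hxK := hnorm 0 c₀ h0 h0' hval
  have hxr : InRad q k₀ (m * sieg q k₀ 0 c₀ hk h0 h0' * m⁻¹) :=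
    Cfsg.Agent.Lib.Helper8.S5670T2C.conj_inRad hF m hm k₀ hstab _
      (Cfsg.Agent.Lib.Helper8.S5670T2S.inRad_sieg k₀ 0 c₀ hk h0 h0')
  obtain ⟨B, hB⟩ := kron_fix_struct ha hk0 _ hxK (fun u => hxr.1 _ (pur_mem_pt u k₀))
  have hfix : ∀ v ∈ hyp (a := a) (cj q k₀), act (m * sieg q k₀ 0 c₀ hk h0 h0' * m⁻¹) v = v := by
    intro v hv
    have h1 : act m⁻¹ v ∈ hyp (a := a) (cj q k₀) := by
      rw [← mem_img_iff, Cfsg.Agent.Lib.Helper8.S5670T2C.img_hyp_of_img_pt hF m hm k₀ hstab]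
      exact hv
    rw [act_mul, act_mul, Cfsg.Agent.Lib.Helper8.S5670T2S.act_sieg_of_mem_hyp k₀ 0 c₀ hk h0 h0' _ h1,
      cj_zero hq, ctr_zero, pur_zero_left, sub_zero, act_act_inv]
  have hE : ∀ u : Fin a → F, pur (A₃ *ᵥ u) (B *ᵥ k₁ - k₁) = pur (c₀ • A₀ *ᵥ u) k₀ := by
    intro u
    have e1 := conj_sieg_eval hk h10 m A₀ hA₀ 0 c₀ h0 h0' u
    rw [hk1, sub_zero, pur_zero_right, map_zero, add_zero] at e1
    have hτ : act m (pur u k₁) - pur (A₃ *ᵥ u) k₁ ∈ hyp (a := a) (cj q k₀) := by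
      rw [mem_hyp_iff, map_sub, ctr_cj_pur, h10, one_smul, hA₃, sub_self]
    have e2 : act (m * sieg q k₀ 0 c₀ hk h0 h0' * m⁻¹) (act m (pur u k₁)) =
        pur (A₃ *ᵥ u) (B *ᵥ k₁) + (act m (pur u k₁) - pur (A₃ *ᵥ u) k₁) := by
      have h3 : act m (pur u k₁) = pur (A₃ *ᵥ u) k₁ + (act m (pur u k₁) - pur (A₃ *ᵥ u) k₁) := by abel
      calc act (m * sieg q k₀ 0 c₀ hk h0 h0' * m⁻¹) (act m (pur u k₁))
          = act (m * sieg q k₀ 0 c₀ hk h0 h0' * m⁻¹)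
              (pur (A₃ *ᵥ u) k₁ + (act m (pur u k₁) - pur (A₃ *ᵥ u) k₁)) := by rw [← h3]
        _ = pur (A₃ *ᵥ u) (B *ᵥ k₁) + (act m (pur u k₁) - pur (A₃ *ᵥ u) k₁) := by
            rw [map_add, hB, hfix _ hτ]
    rw [e1] at e2
    rw [sub_eq_add_neg (B *ᵥ k₁), pur_add_right, pur_neg_right, pur_smul_left]
    have e3 : act m (pur u k₁) + c₀ • pur (A₀ *ᵥ u) k₀ - act m (pur u k₁) + pur (A₃ *ᵥ u) k₁ - pur (A₃ *ᵥ u) k₁ =
        pur (A₃ *ᵥ u) (B *ᵥ k₁) + (act m (pur u k₁) - pur (A₃ *ᵥ u) k₁) - act m (pur u k₁) +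
          pur (A₃ *ᵥ u) k₁ - pur (A₃ *ᵥ u) k₁ := by
      rw [e2]
    have e4 : c₀ • pur (A₀ *ᵥ u) k₀ = pur (A₃ *ᵥ u) (B *ᵥ k₁) - pur (A₃ *ᵥ u) k₁ := by
      have l : act m (pur u k₁) + c₀ • pur (A₀ *ᵥ u) k₀ - act m (pur u k₁) + pur (A₃ *ᵥ u) k₁ -
          pur (A₃ *ᵥ u) k₁ = c₀ • pur (A₀ *ᵥ u) k₀ := by abel
      have r : pur (A₃ *ᵥ u) (B *ᵥ k₁) + (act m (pur u k₁) - pur (A₃ *ᵥ u) k₁) - act m (pur u k₁) +
          pur (A₃ *ᵥ u) k₁ - pur (A₃ *ᵥ u) k₁ = pur (A₃ *ᵥ u) (B *ᵥ k₁) - pur (A₃ *ᵥ u) k₁ := by abel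
      rw [← l, e3, r]
    rw [e4]
    abel
  obtain ⟨u₁, hu₁⟩ := exists_ne_zero (F := F) ha
  have hA₃u₁ := A3_ne_zero hF h10 m hm A₀ hA₀ A₃ hA₃ hu₁
  obtain ⟨φ, hφ⟩ := exists_dual _ hA₃u₁
  have hγ : B *ᵥ k₁ - k₁ = ((c₀ • A₀ *ᵥ u₁) ⬝ᵥ φ) • k₀ := by
    have h := congrArg (ctrL φ) (hE u₁)
    rw [ctrL_pur, ctrL_pur, hφ, one_smul] at h
    exact h
  refine ⟨c₀⁻¹ * ((c₀ • A₀ *ᵥ u₁) ⬝ᵥ φ), fun u => ?_⟩
  have h := hE u
  rw [hγ, pur_smul_right, ← pur_smul_left] at h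
  have h' := purL_injective hk0 h
  rw [← smul_smul, h', smul_smul, inv_mul_cancel₀ hc0, one_smul]

/-- for `y ⟂ k₀`: `m (u ⊗ y) ≡ A₃u ⊗ s` modulo `U ⊗ k₀`, for some `s` -/
theorem exists_rel (hF : Fintype.card F = q ^ 2) (ha : 1 ≤ a) {k₀ k₁ : Fin b → F} (hk0 : k₀ ≠ 0)
    (hk : hs q k₀ k₀ = 0) (h10 : hs q k₁ k₀ = 1) (m : GL (Fin a × Fin b) F)
    (hm : m ∈ UG (Fin a × Fin b) F q) (hstab : img m (pt (a := a) k₀) = pt k₀)
    (A₀ : Matrix (Fin a) (Fin a) F) (hA₀ : ∀ u, act m (pur u k₀) = pur (A₀ *ᵥ u) k₀)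
    (A₃ : Matrix (Fin a) (Fin a) F) (hA₃ : ∀ u, A₃ *ᵥ u = ctr (cj q k₀) (act m (pur u k₁)))
    (hnorm : ∀ (y : Fin b → F) (c : F) (hy : hs q y k₀ = 0) (hy' : hs q k₀ y = 0),
      c + c ^ q + hs q y y = 0 → m * sieg q k₀ y c hk hy hy' * m⁻¹ ∈ K)
    (y : Fin b → F) (hy : hs q y k₀ = 0) :
    ∃ s : Fin b → F, ∀ u : Fin a → F, act m (pur u y) - pur (A₃ *ᵥ u) s ∈ pt (a := a) k₀ := by
  have hq : q ≠ 0 := (q_pos hF).ne'
  have hy' : hs q k₀ y = 0 := by rw [hs_conj hF y k₀, hy, zero_pow hq]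
  obtain ⟨c, hc⟩ := Cfsg.Agent.Lib.Helper8.S5670T2P.exists_valid hF (hs q y y) (hs_conj hF y y).symm
  have hxK := hnorm y c hy hy' hc
  have hxr : InRad q k₀ (m * sieg q k₀ y c hk hy hy' * m⁻¹) :=
    Cfsg.Agent.Lib.Helper8.S5670T2C.conj_inRad hF m hm k₀ hstab _
      (Cfsg.Agent.Lib.Helper8.S5670T2S.inRad_sieg k₀ y c hk hy hy')
  obtain ⟨B, hB⟩ := kron_fix_struct ha hk0 _ hxK (fun u => hxr.1 _ (pur_mem_pt u k₀))
  refine ⟨B *ᵥ k₁ - k₁, fun u => ?_⟩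
  have e1 := conj_sieg_eval hk h10 m A₀ hA₀ y c hy hy' u
  have hshape := rad_kron_shape h10 _ hxr B hB (act m (pur u k₁))
  rw [e1, ← hA₃] at hshape
  have hL : (c - hs q k₁ y) • pur (A₀ *ᵥ u) k₀ ∈ pt (a := a) k₀ :=
    Submodule.smul_mem _ _ (pur_mem_pt _ _)
  have key : act m (pur u y) - pur (A₃ *ᵥ u) (B *ᵥ k₁ - k₁) =
      (act m (pur u k₁) + (c - hs q k₁ y) • pur (A₀ *ᵥ u) k₀ + act m (pur u y) - act m (pur u k₁) -
        pur (A₃ *ᵥ u) (B *ᵥ k₁ - k₁)) - (c - hs q k₁ y) • pur (A₀ *ᵥ u) k₀ := by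
    abel
  rw [key]
  exact Submodule.sub_mem _ hshape hL

/-- (R2) the second component is orthogonal to `k₀` -/
theorem rel_perp (hF : Fintype.card F = q ^ 2) {k₀ : Fin b → F} (hk : hs q k₀ k₀ = 0)
    (m : GL (Fin a × Fin b) F) (hm : m ∈ UG (Fin a × Fin b) F q)
    (hstab : img m (pt (a := a) k₀) = pt k₀) (A : Matrix (Fin a) (Fin a) F)
    (hAne : ∃ u : Fin a → F, A *ᵥ u ≠ 0) (y s : Fin b → F) (hy : hs q y k₀ = 0)
    (hrel : ∀ u : Fin a → F, act m (pur u y) - pur (A *ᵥ u) s ∈ pt (a := a) k₀) :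
    hs q s k₀ = 0 := by
  obtain ⟨u, hu⟩ := hAne
  have h1 : act m (pur u y) ∈ hyp (a := a) (cj q k₀) := by
    rw [← Cfsg.Agent.Lib.Helper8.S5670T2C.img_hyp_of_img_pt hF m hm k₀ hstab, mem_img_iff, act_inv_act,
      mem_hyp_iff, ctr_cj_pur, hy, zero_smul]
  have h2 : pur (A *ᵥ u) s ∈ hyp (a := a) (cj q k₀) := by
    have h3 := Submodule.sub_mem _ h1 (pt_le_hyp_cj k₀ k₀ hk (hrel u))
    rwa [sub_sub_cancel] at h3
  rw [mem_hyp_iff, ctr_cj_pur] at h2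
  rcases smul_eq_zero.1 h2 with h | h
  · exact h
  · exact absurd h hu

/-- (R5) the second components scale the form -/
theorem rel_form (hF : Fintype.card F = q ^ 2) (ha : 1 ≤ a) {k₀ : Fin b → F} (hk : hs q k₀ k₀ = 0)
    (m : GL (Fin a × Fin b) F) (hm : m ∈ UG (Fin a × Fin b) F q)
    (A : Matrix (Fin a) (Fin a) F) (ρ : F)
    (hsim : ∀ x y : Fin a → F, hs q (A *ᵥ x) (A *ᵥ y) = ρ * hs q x y)
    (y s y' s' : Fin b → F) (hs0 : hs q s k₀ = 0) (hs0' : hs q s' k₀ = 0)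
    (hrel : ∀ u : Fin a → F, act m (pur u y) - pur (A *ᵥ u) s ∈ pt (a := a) k₀)
    (hrel' : ∀ u : Fin a → F, act m (pur u y') - pur (A *ᵥ u) s' ∈ pt (a := a) k₀) :
    ρ * hs q s s' = hs q y y' := by
  have hq : q ≠ 0 := (q_pos hF).ne'
  obtain ⟨u, hu⟩ := exists_ne_zero (F := F) ha
  obtain ⟨u', huu'⟩ : ∃ u' : Fin a → F, hs q u u' ≠ 0 := by
    by_contra hall
    apply hu
    apply hs_nondeg hF
    intro u'
    by_contra h
    exact hall ⟨u', h⟩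
  obtain ⟨c, hc⟩ := (mem_pt_iff _ _).1 (hrel u)
  obtain ⟨c', hc'⟩ := (mem_pt_iff _ _).1 (hrel' u')
  have h1 : act m (pur u y) = pur (A *ᵥ u) s + pur c k₀ := by
    rw [hc]; abel
  have h2 : act m (pur u' y') = pur (A *ᵥ u') s' + pur c' k₀ := by
    rw [hc']; abel
  have h3 := hs_act m hm (pur u y) (pur u' y')
  have h0s' : hs q k₀ s' = 0 := by rw [hs_conj hF s' k₀, hs0', zero_pow hq]
  rw [h1, h2, hs_add_left, hs_add_right hF, hs_add_right hF, hs_pur, hs_pur, hs_pur, hs_pur, hs_pur, hsim, hs0,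
    hk, h0s'] at h3
  have h4 : hs q u u' * (ρ * hs q s s') = hs q u u' * hs q y y' := by
    linear_combination h3
  exact mul_left_cancel₀ huu' h4

theorem hs_single_self {n : ℕ} (i : Fin n) : hs q (Pi.single i (1 : F)) (Pi.single i (1 : F)) = 1 := by
  rw [Cfsg.Agent.Lib.Helper8.S5670T2P.hs_single_left, Pi.single_eq_same, one_pow]

/-- (L0)-(L4), first half: the unitary matrix `A` with `m (u ⊗ k₀) = β₂ A u ⊗ k₀` and `m (u ⊗ y) ≡ A u ⊗ s` for `y ⟂ k₀` -/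
theorem exists_A (hF : Fintype.card F = q ^ 2) (ha : 1 ≤ a) {k₀ k₁ : Fin b → F} (hk0 : k₀ ≠ 0)
    (hk : hs q k₀ k₀ = 0) (h10 : hs q k₁ k₀ = 1) (m : GL (Fin a × Fin b) F)
    (hm : m ∈ UG (Fin a × Fin b) F q) (hstab : img m (pt (a := a) k₀) = pt k₀)
    (hnorm : ∀ (y : Fin b → F) (c : F) (hy : hs q y k₀ = 0) (hy' : hs q k₀ y = 0),
      c + c ^ q + hs q y y = 0 → m * sieg q k₀ y c hk hy hy' * m⁻¹ ∈ K) :
    ∃ (A : Matrix (Fin a) (Fin a) F) (β₂ : F), β₂ ≠ 0 ∧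
      (∀ x y : Fin a → F, hs q (A *ᵥ x) (A *ᵥ y) = hs q x y) ∧
      (∀ u : Fin a → F, act m (pur u k₀) = pur (β₂ • A *ᵥ u) k₀) ∧
      ∀ y : Fin b → F, hs q y k₀ = 0 →
        ∃ s : Fin b → F, ∀ u : Fin a → F, act m (pur u y) - pur (A *ᵥ u) s ∈ pt (a := a) k₀ := by
  obtain ⟨A₀, hA₀⟩ := exists_A0 hk0 m hstab
  obtain ⟨A₃, hA₃⟩ := exists_A3 (q := q) k₀ k₁ m
  obtain ⟨β, hβ⟩ := exists_beta hF ha hk0 hk h10 m hm hstab A₀ hA₀ A₃ hA₃ hnorm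
  have hA₀u : IsUnit A₀ := A0_isUnit hk0 m A₀ hA₀
  obtain ⟨u₁, hu₁⟩ := exists_ne_zero (F := F) ha
  have hβ0 : β ≠ 0 := by
    intro h0
    apply hu₁
    apply (Matrix.mulVec_injective_iff_isUnit.2 hA₀u)
    rw [hβ, h0, zero_smul, Matrix.mulVec_zero]
  have hsim₃ : ∀ x y : Fin a → F, β ^ q * hs q (A₃ *ᵥ x) (A₃ *ᵥ y) = hs q x y := by
    intro x y
    rw [← hs_smul_right, ← hβ, hs_A3_A0 h10 m hm A₀ hA₀ A₃ hA₃]
  have ht0 : β ^ q ≠ 0 := pow_ne_zero _ hβ0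
  have ht : (β ^ q) ^ q = β ^ q := by
    have h1 := hsim₃ (Pi.single ⟨0, by omega⟩ 1) (Pi.single ⟨0, by omega⟩ 1)
    rw [hs_single_self] at h1
    set r := hs q (A₃ *ᵥ Pi.single ⟨0, by omega⟩ 1) (A₃ *ᵥ Pi.single ⟨0, by omega⟩ 1) with hr
    have hrq : r ^ q = r := (hs_conj hF _ _).symm
    have hr0 : r ≠ 0 := by
      intro h
      rw [h, mul_zero] at h1
      exact zero_ne_one h1
    have h2 : (β ^ q) ^ q * r = β ^ q * r := by
      calc (β ^ q) ^ q * r = (β ^ q) ^ q * r ^ q := by rw [hrq]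
        _ = (β ^ q * r) ^ q := by rw [mul_pow]
        _ = β ^ q * r := by rw [h1, one_pow]
    exact mul_right_cancel₀ hr0 h2
  obtain ⟨l, hl⟩ := Cfsg.Agent.Lib.Helper24.S5670ISO.exists_norm_eq hF (β ^ q) ht
  have hl0 : l ≠ 0 := by
    intro h
    have hq := q_pos hF
    rw [h, zero_pow (by omega)] at hl
    exact ht0 hl.symm
  refine ⟨l • A₃, β * l⁻¹, mul_ne_zero hβ0 (inv_ne_zero hl0), ?_, ?_, ?_⟩
  · intro x y
    rw [Matrix.smul_mulVec, Matrix.smul_mulVec, hs_smul_left, hs_smul_right, ← mul_assoc, ← pow_succ', hl, hsim₃]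
  · intro u
    rw [hA₀, hβ, Matrix.smul_mulVec, smul_smul, mul_assoc, inv_mul_cancel₀ hl0, mul_one]
  · intro y hy
    obtain ⟨s, hs⟩ := exists_rel hF ha hk0 hk h10 m hm hstab A₀ hA₀ A₃ hA₃ hnorm y hy
    refine ⟨l⁻¹ • s, fun u => ?_⟩
    rw [Matrix.smul_mulVec, pur_smul_left, pur_smul_right, smul_smul, mul_inv_cancel₀ hl0, one_smul]
    exact hs u

/-- a linear map `σ₀` of `W` with `m (u ⊗ y) ≡ A u ⊗ σ₀ y` modulo `U ⊗ k₀` for `y ⟂ k₀` -/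
theorem exists_sigma0 {k₀ : Fin b → F} (m : GL (Fin a × Fin b) F)
    (A : Matrix (Fin a) (Fin a) F) (β₂ : F) (hAne : ∃ u : Fin a → F, A *ᵥ u ≠ 0)
    (hA0 : ∀ u : Fin a → F, act m (pur u k₀) = pur (β₂ • A *ᵥ u) k₀)
    (hrel : ∀ y : Fin b → F, hs q y k₀ = 0 →
      ∃ s : Fin b → F, ∀ u : Fin a → F, act m (pur u y) - pur (A *ᵥ u) s ∈ pt (a := a) k₀) :
    ∃ σ₀ : (Fin b → F) →ₗ[F] (Fin b → F), σ₀ k₀ = β₂ • k₀ ∧
      ∀ y : Fin b → F, hs q y k₀ = 0 →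
        ∀ u : Fin a → F, act m (pur u y) - pur (A *ᵥ u) (σ₀ y) ∈ pt (a := a) k₀ := by
  obtain ⟨u₁, hu₁⟩ := hAne
  obtain ⟨φ, hφ1⟩ := exists_dual _ hu₁
  let σ₀ : (Fin b → F) →ₗ[F] (Fin b → F) :=
    (ctrL (b := b) φ) ∘ₗ ((act m).toLinearMap ∘ₗ purR (b := b) u₁)
  have hσ : ∀ x, σ₀ x = ctrL φ (act m (pur u₁ x)) := fun x => rfl
  refine ⟨σ₀, ?_, ?_⟩
  · rw [hσ, hA0, ctrL_pur, smul_dotProduct, hφ1, smul_eq_mul, mul_one]
  · intro y hy u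
    obtain ⟨s, hs⟩ := hrel y hy
    obtain ⟨c, hc⟩ := (mem_pt_iff _ _).1 (hs u₁)
    have h1 : act m (pur u₁ y) = pur (A *ᵥ u₁) s + pur c k₀ := by
      rw [hc]; abel
    have h3 : σ₀ y = s + (c ⬝ᵥ φ) • k₀ := by
      rw [hσ, h1, map_add, ctrL_pur, ctrL_pur, hφ1, one_smul]
    have h4 : act m (pur u y) - pur (A *ᵥ u) (σ₀ y) =
        (act m (pur u y) - pur (A *ᵥ u) s) - (c ⬝ᵥ φ) • pur (A *ᵥ u) k₀ := by
      rw [h3, pur_add_right, pur_smul_right]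
      abel
    rw [h4]
    exact Submodule.sub_mem _ (hs u) (Submodule.smul_mem _ _ (pur_mem_pt _ _))

/-- `y ↦ h(y, k)` as a linear functional -/
def hsF (q : ℕ) (k : Fin b → F) : (Fin b → F) →ₗ[F] F where
  toFun y := hs q y k
  map_add' y y' := hs_add_left y y' k
  map_smul' c y := by
    simp only [hs_smul_left, RingHom.id_apply, smul_eq_mul]

/-- a linear map preserving the form on `k₀^⊥ ∪ {k₁}` is unitary -/
theorem unitary_of_span (hF : Fintype.card F = q ^ 2) {k₀ k₁ : Fin b → F} (h10 : hs q k₁ k₀ = 1)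
    (S : (Fin b → F) →ₗ[F] (Fin b → F))
    (h1 : ∀ y y', hs q y k₀ = 0 → hs q y' k₀ = 0 → hs q (S y) (S y') = hs q y y')
    (h2 : ∀ y, hs q y k₀ = 0 → hs q (S y) (S k₁) = hs q y k₁)
    (h3 : hs q (S k₁) (S k₁) = hs q k₁ k₁) (w w' : Fin b → F) : hs q (S w) (S w') = hs q w w' := by
  have h2' : ∀ y', hs q y' k₀ = 0 → hs q (S k₁) (S y') = hs q k₁ y' := by
    intro y' hy'
    rw [hs_conj hF (S y') (S k₁), h2 y' hy', ← hs_conj hF]
  have hp : ∀ w, hs q (w - hs q w k₀ • k₁) k₀ = 0 := by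
    intro w
    rw [hs_sub_left'', hs_smul_left, h10, mul_one, sub_self]
  have hw : ∀ w : Fin b → F, w = (w - hs q w k₀ • k₁) + hs q w k₀ • k₁ := by
    intro w
    rw [sub_add_cancel]
  have key : ∀ (y y' : Fin b → F) (α α' : F), hs q y k₀ = 0 → hs q y' k₀ = 0 →
      hs q (S (y + α • k₁)) (S (y' + α' • k₁)) = hs q (y + α • k₁) (y' + α' • k₁) := by
    intro y y' α α' hy hy'
    rw [map_add, map_add, map_smul, map_smul]
    simp only [hs_add_left, hs_add_right hF, hs_smul_left, hs_smul_right]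
    rw [h1 y y' hy hy', h2 y hy, h2' y' hy', h3]
  have h := key _ _ (hs q w k₀) (hs q w' k₀) (hp w) (hp w')
  rwa [← hw w, ← hw w'] at h

/-- extension of `σ₀` (given modulo `k₀` on `k₀^⊥`) to a unitary matrix -/
theorem exists_Bm (hF : Fintype.card F = q ^ 2) {k₀ k₁ : Fin b → F} (hk : hs q k₀ k₀ = 0)
    (h11 : hs q k₁ k₁ = 0) (h10 : hs q k₁ k₀ = 1) (β₂ : F) (hβ₂ : β₂ ≠ 0)
    (σ₀ : (Fin b → F) →ₗ[F] (Fin b → F)) (h0 : σ₀ k₀ = β₂ • k₀)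
    (hperp : ∀ y, hs q y k₀ = 0 → hs q (σ₀ y) k₀ = 0)
    (hform : ∀ y y', hs q y k₀ = 0 → hs q y' k₀ = 0 → hs q (σ₀ y) (σ₀ y') = hs q y y') :
    ∃ S : Matrix (Fin b) (Fin b) F, (∀ x y, hs q (S *ᵥ x) (S *ᵥ y) = hs q x y) ∧ S *ᵥ k₀ = β₂ • k₀ ∧
      ∀ y, hs q y k₀ = 0 → ∃ d : F, S *ᵥ y = σ₀ y + d • k₀ := by
  have hq : q ≠ 0 := (q_pos hF).ne'
  have h01 : hs q k₀ k₁ = 1 := by rw [hs_conj hF k₁ k₀, h10, one_pow]
  let p : (Fin b → F) →ₗ[F] (Fin b → F) := LinearMap.id - (hsF q k₀).smulRight k₁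
  let gL : (Fin b → F) →ₗ[F] F := β₂ • ((hsF q k₁) ∘ₗ p) - (hsF q k₁) ∘ₗ (σ₀ ∘ₗ p)
  let SL : (Fin b → F) →ₗ[F] (Fin b → F) :=
    σ₀ ∘ₗ p + gL.smulRight k₀ + (((β₂⁻¹) ^ q) • hsF q k₀).smulRight k₁
  have hp : ∀ x, p x = x - hs q x k₀ • k₁ := fun x => rfl
  have hgL : ∀ x, gL x = β₂ * hs q (p x) k₁ - hs q (σ₀ (p x)) k₁ := fun x => rfl
  have hSL : ∀ x, SL x = σ₀ (p x) + gL x • k₀ + ((β₂⁻¹) ^ q * hs q x k₀) • k₁ := fun x => rfl
  have hpfix : ∀ x, hs q x k₀ = 0 → p x = x := by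
    intro x hx
    rw [hp, hx, zero_smul, sub_zero]
  have hpk₁ : p k₁ = 0 := by
    rw [hp, h10, one_smul, sub_self]
  have hSLperp : ∀ y, hs q y k₀ = 0 → SL y = σ₀ y + gL y • k₀ := by
    intro y hy
    rw [hSL, hpfix y hy, hy, mul_zero, zero_smul, add_zero]
  have hSLk₁ : SL k₁ = ((β₂⁻¹) ^ q) • k₁ := by
    rw [hSL, hgL, hpk₁, map_zero, hs_zero_left', mul_zero, sub_zero, zero_smul, add_zero, zero_add, h10, mul_one]
  have hκ : ((β₂⁻¹) ^ q) ^ q * β₂ = 1 := by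
    rw [pow_q_pow_q hF, inv_mul_cancel₀ hβ₂]
  have hunit := unitary_of_span hF h10 SL
    (by
      intro y y' hy hy'
      have h0y' : hs q k₀ (σ₀ y') = 0 := by rw [hs_conj hF (σ₀ y') k₀, hperp y' hy', zero_pow hq]
      rw [hSLperp y hy, hSLperp y' hy']
      simp only [hs_add_left, hs_add_right hF, hs_smul_left, hs_smul_right]
      rw [hform y y' hy hy', hperp y hy, h0y', hk]
      ring)
    (by
      intro y hy
      rw [hSLperp y hy, hSLk₁, hgL, hpfix y hy]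
      simp only [hs_add_left, hs_smul_left, hs_smul_right]
      rw [h01]
      linear_combination (hs q y k₁) * hκ)
    (by
      rw [hSLk₁]
      simp only [hs_smul_left, hs_smul_right]
      rw [h11, mul_zero, mul_zero])
  refine ⟨LinearMap.toMatrix' SL, ?_, ?_, ?_⟩
  · intro x y
    rw [LinearMap.toMatrix'_mulVec, LinearMap.toMatrix'_mulVec]
    exact hunit x y
  · rw [LinearMap.toMatrix'_mulVec, hSLperp k₀ hk, hgL, hpfix k₀ hk, h0, hs_smul_left, h01, mul_one, sub_self,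
      zero_smul, add_zero]
  · intro y hy
    refine ⟨gL y, ?_⟩
    rw [LinearMap.toMatrix'_mulVec, hSLperp y hy]

/-- **T2-L** -/
theorem decomp_levi (hF : Fintype.card F = q ^ 2) (ha : 1 ≤ a) (hb : 4 ≤ b) (k₀ : Fin b → F) (hk0 : k₀ ≠ 0)
    (hk : hs q k₀ k₀ = 0) (m : GL (Fin a × Fin b) F) (hm : m ∈ UG (Fin a × Fin b) F q)
    (hmS : m ∈ Cfsg.Geo.specialLinear (Fin a × Fin b) F) (hstab : img m (pt (a := a) k₀) = pt k₀)
    (hnorm : ∀ (y : Fin b → F) (c : F) (hy : hs q y k₀ = 0) (hy' : hs q k₀ y = 0),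
      c + c ^ q + hs q y y = 0 → m * sieg q k₀ y c hk hy hy' * m⁻¹ ∈ K) :
    ∃ n : GL (Fin a × Fin b) F, n ∈ K ∧ n ∈ UG (Fin a × Fin b) F q ∧
      n ∈ Cfsg.Geo.specialLinear (Fin a × Fin b) F ∧ InRad q k₀ (n⁻¹ * m) := by
  obtain ⟨k₁, h11, h10⟩ := Cfsg.Agent.Lib.Helper8.S5670T2P.exists_partner hF k₀ hk0 hk
  obtain ⟨A, β₂, hβ₂, hAu, hA0, hrel⟩ := exists_A hF ha hk0 hk h10 m hm hstab hnorm
  have hAne : ∃ u : Fin a → F, A *ᵥ u ≠ 0 := by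
    obtain ⟨u, hu⟩ := exists_ne_zero (F := F) ha
    refine ⟨u, fun h => hu ?_⟩
    apply hs_nondeg hF
    intro u'
    rw [← hAu u u', h, hs_zero_left']
  obtain ⟨σ₀, hσ0, hσrel⟩ := exists_sigma0 m A β₂ hAne hA0 hrel
  have hperp : ∀ y, hs q y k₀ = 0 → hs q (σ₀ y) k₀ = 0 := fun y hy =>
    rel_perp hF hk m hm hstab A hAne y (σ₀ y) hy (hσrel y hy)
  have hform : ∀ y y', hs q y k₀ = 0 → hs q y' k₀ = 0 → hs q (σ₀ y) (σ₀ y') = hs q y y' := by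
    intro y y' hy hy'
    have h := rel_form hF ha hk m hm A 1 (by intro x y; rw [hAu, one_mul]) y (σ₀ y) y' (σ₀ y')
      (hperp y hy) (hperp y' hy') (hσrel y hy) (hσrel y' hy')
    rwa [one_mul] at h
  obtain ⟨S, hSu, hS0, hSrel⟩ := exists_Bm hF hk h11 h10 β₂ hβ₂ σ₀ hσ0 hperp hform
  have hact : ∀ (u : Fin a → F) (y : Fin b → F),
      act (Cfsg.H5.S5670T2Laux.kronGLU hF A S hAu hSu) (pur u y) = pur (A *ᵥ u) (S *ᵥ y) :=
    Cfsg.H5.S5670T2Laux.act_kronGLU hF A S hAu hSu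
  have hnU : Cfsg.H5.S5670T2Laux.kronGLU hF A S hAu hSu ∈ UG (Fin a × Fin b) F q :=
    Cfsg.H5.S5670T2Laux.kronGLU_mem_UG hF A S hAu hSu
  have hnm0 : ∀ u : Fin a → F, act (Cfsg.H5.S5670T2Laux.kronGLU hF A S hAu hSu) (pur u k₀) = act m (pur u k₀) := by
    intro u
    rw [hact, hS0, hA0, pur_smul_right, pur_smul_left]
  have hinvL : ∀ l ∈ pt (a := a) k₀, act (Cfsg.H5.S5670T2Laux.kronGLU hF A S hAu hSu)⁻¹ l ∈ pt (a := a) k₀ := by
    intro l hl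
    have h1 : act m⁻¹ l ∈ pt (a := a) k₀ := by
      rw [← mem_img_iff, hstab]
      exact hl
    obtain ⟨u', hu'⟩ := (mem_pt_iff _ _).1 h1
    have h2 : l = act (Cfsg.H5.S5670T2Laux.kronGLU hF A S hAu hSu) (pur u' k₀) := by
      rw [hnm0, hu', act_act_inv]
    rw [h2, act_inv_act]
    exact pur_mem_pt _ _
  have hrad : InRad q k₀ ((Cfsg.H5.S5670T2Laux.kronGLU hF A S hAu hSu)⁻¹ * m) := by
    constructor
    · intro x hx
      obtain ⟨u, rfl⟩ := (mem_pt_iff _ _).1 hx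
      rw [act_mul, ← hnm0, act_inv_act]
    · intro x hx
      have hkey : ∀ v : V,
          act m (v - pur (ctr (cj q k₀) v) k₁) -
            act (Cfsg.H5.S5670T2Laux.kronGLU hF A S hAu hSu) (v - pur (ctr (cj q k₀) v) k₁) ∈ pt (a := a) k₀ := by
        apply pur_induction'
        · simp
        · intro v v' hv hv'
          have h : act m (v + v' - pur (ctr (cj q k₀) (v + v')) k₁) -
              act (Cfsg.H5.S5670T2Laux.kronGLU hF A S hAu hSu) (v + v' - pur (ctr (cj q k₀) (v + v')) k₁) =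
              (act m (v - pur (ctr (cj q k₀) v) k₁) -
                act (Cfsg.H5.S5670T2Laux.kronGLU hF A S hAu hSu) (v - pur (ctr (cj q k₀) v) k₁)) +
              (act m (v' - pur (ctr (cj q k₀) v') k₁) -
                act (Cfsg.H5.S5670T2Laux.kronGLU hF A S hAu hSu) (v' - pur (ctr (cj q k₀) v') k₁)) := by
            rw [map_add (ctr (cj q k₀)), pur_add_left]
            simp only [map_add, map_sub]
            abel
          rw [h]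
          exact Submodule.add_mem _ hv hv'
        · intro u y
          have hy' : hs q (y - hs q y k₀ • k₁) k₀ = 0 := by
            rw [hs_sub_left'', hs_smul_left, h10, mul_one, sub_self]
          have h5 : pur u y - pur (ctr (cj q k₀) (pur u y)) k₁ = pur u (y - hs q y k₀ • k₁) := by
            rw [ctr_cj_pur, pur_smul_left, sub_eq_add_neg y, pur_add_right, pur_neg_right, pur_smul_right]
            abel
          obtain ⟨d, hd⟩ := hSrel _ hy'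
          rw [h5, hact, hd]
          have h6 : act m (pur u (y - hs q y k₀ • k₁)) -
              pur (A *ᵥ u) (σ₀ (y - hs q y k₀ • k₁) + d • k₀) =
              (act m (pur u (y - hs q y k₀ • k₁)) - pur (A *ᵥ u) (σ₀ (y - hs q y k₀ • k₁))) -
                d • pur (A *ᵥ u) k₀ := by
            rw [pur_add_right (A *ᵥ u) (σ₀ (y - hs q y k₀ • k₁)) (d • k₀), pur_smul_right d (A *ᵥ u) k₀]
            abel
          rw [h6]
          exact Submodule.sub_mem _ (hσrel _ hy' u) (Submodule.smul_mem _ _ (pur_mem_pt _ _))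
      have h7 := hkey x
      rw [(mem_hyp_iff _ x).1 hx, pur_zero_left, sub_zero] at h7
      have h8 : act ((Cfsg.H5.S5670T2Laux.kronGLU hF A S hAu hSu)⁻¹ * m) x - x =
          act (Cfsg.H5.S5670T2Laux.kronGLU hF A S hAu hSu)⁻¹
            (act m x - act (Cfsg.H5.S5670T2Laux.kronGLU hF A S hAu hSu) x) := by
        rw [map_sub, act_inv_act, act_mul]
      rw [h8]
      exact hinvL _ h7
  exact ⟨Cfsg.H5.S5670T2Laux.kronGLU hF A S hAu hSu, Cfsg.H5.S5670T2Laux.kronGLU_mem_kron hF A S hAu hSu, hnU,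
    Cfsg.H5.S5670T2Laux.mem_SL_of_inRad_inv_mul hF k₀ _ m hnU hm hmS hrad, hrad⟩

end Cfsg.Agent.Lib.Helper21.S5670T2L
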