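import Mathlib
import Cfsg.Agent.Lib.Helper15.FQuad

/-!
# S5778 E1 : the finite checks over `K25` (helper21)

`inS a b c` is the membership of `(a, b, c)` in the 105-point set `S105` of helper15's skeleton; `Wm = 4J - I`
preserves it (checked on the 651 normalised vectors), `Sm` does not.
-/

set_option autoImplicit false

namespace Cfsg.Agent.Lib.Helper21.S5778E1

open Matrix Cfsg.Agent.Lib.Helper15.FQuad

/-- membership in `S105`, in coordinates, over any commutative ring -/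
def inS {R : Type*} [CommRing R] (a b c : R) : Prop :=
  (a ^ 6 + b ^ 6 + c ^ 6 ≠ 0) ∧ (a ^ 6 = b ^ 6 ∨ b ^ 6 = c ^ 6 ∨ a ^ 6 = c ^ 6) ∧
    ((a * b * c) ^ 8 = 0 ∨ (a * b * c) ^ 8 = 1)

instance {R : Type*} [CommRing R] [DecidableEq R] (a b c : R) : Decidable (inS a b c) := by
  unfold inS; infer_instance

/-- `3`, `4`, `2i` in `K25` -/
def k3 : K25 := ⟨3, 0⟩
def k4 : K25 := ⟨4, 0⟩
def k2i : K25 := ⟨0, 2⟩

/-- `w = 4J - I` -/
def Wm : Matrix (Fin 3) (Fin 3) K25 := !![k3, k4, k4; k4, k3, k4; k4, k4, k3]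

/-- `s` -/
def Sm : Matrix (Fin 3) (Fin 3) K25 := !![k3, k2i, 0; k2i, k3, 0; 0, 0, 1]

theorem Wm_mulVec (a b c : K25) :
    Wm *ᵥ ![a, b, c] = ![k3 * a + k4 * b + k4 * c, k4 * a + k3 * b + k4 * c, k4 * a + k4 * b + k3 * c] := by
  funext i
  fin_cases i <;> simp [Wm, Matrix.mulVec, dotProduct, Fin.sum_univ_three]

theorem Sm_mulVec (a b c : K25) :
    Sm *ᵥ ![a, b, c] = ![k3 * a + k2i * b, k2i * a + k3 * b, c] := by
  funext i
  fin_cases i <;> simp [Sm, Matrix.mulVec, dotProduct, Fin.sum_univ_three]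

set_option maxRecDepth 100000 in
theorem w_pres1 : ∀ b c : K25, inS 1 b c →
    inS (k3 * 1 + k4 * b + k4 * c) (k4 * 1 + k3 * b + k4 * c) (k4 * 1 + k4 * b + k3 * c) := by
  decide +kernel

set_option maxRecDepth 100000 in
theorem w_pres2 : ∀ c : K25, inS 0 1 c →
    inS (k3 * 0 + k4 * 1 + k4 * c) (k4 * 0 + k3 * 1 + k4 * c) (k4 * 0 + k4 * 1 + k3 * c) := by
  decide +kernel

theorem w_pres3 : inS (0 : K25) 0 1 →
    inS (k3 * 0 + k4 * 0 + k4 * 1) (k4 * 0 + k3 * 0 + k4 * 1) (k4 * 0 + k4 * 0 + k3 * 1 : K25) := by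
  decide +kernel

theorem Wm_det : Wm.det = 1 := by
  rw [Matrix.det_fin_three]
  decide +kernel

theorem Sm_det : Sm.det = 1 := by
  rw [Matrix.det_fin_three]
  decide +kernel

theorem Wm_unitary : (Wm.map (· ^ 5))ᵀ * Wm = 1 := by
  decide +kernel

theorem Sm_unitary : (Sm.map (· ^ 5))ᵀ * Sm = 1 := by
  decide +kernel

theorem e0_mem : inS (1 : K25) 0 0 := by decide +kernel

theorem s_e0_not_mem : ¬ inS (k3 * 1 + k2i * 0) (k2i * 1 + k3 * 0) (0 : K25) := by decide +kernel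

theorem Wm_col0 : ∀ i : Fin 3, Wm i 0 ≠ 0 := by decide +kernel

theorem pow24 : ∀ k : K25, k ≠ 0 → k ^ 24 = 1 := by decide +kernel

theorem not_inS_zero : ¬ inS (0 : K25) 0 0 := by decide +kernel

end Cfsg.Agent.Lib.Helper21.S5778E1
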