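import Mathlib
import Cfsg.Prelude.Def_GeometricClasses
import Cfsg.Prelude.Def_LieClassical
import Cfsg.Agent.Lib.Helper15.S5778Final
import Cfsg.Agent.Lib.Helper15.S5778Core
import Cfsg.Agent.Lib.Helper15.FQuad
import Cfsg.Agent.Lib.Helper11.U4Defs
import Cfsg.Agent.Lib.Helper21.S5778E1Dec

/-!
# S5778 E1 : the frame stabiliser of `SU_3(5)` is not maximal (helper21)

NF: a non-degenerate 1-decomposition is the image of the standard frame under some `P ∈ GU_3(5)`;
ST: the stabiliser of the standard frame in `SU_3(5)` is monomial and preserves the 105-point set `S105`;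
PR: `w = 4J - I` preserves `S105` and is not monomial, `s` does not preserve `S105`.
-/

set_option autoImplicit false

namespace Cfsg.Agent.Lib.Helper21.S5778E1

open Matrix Cfsg Cfsg.Geo Cfsg.Agent.Lib.Helper15.S5778Core Cfsg.Agent.Lib.Helper15.FQuad
  Cfsg.Agent.Lib.Helper15.S5778Final

variable {F : Type*} [Field F]

/-! ### the stabiliser of the image of a decomposition -/

theorem map_map_units {n : ℕ} (A B : GL (Fin n) F) (W : Submodule F (Fin n → F)) :
    (W.map (Matrix.toLin' (B : Matrix (Fin n) (Fin n) F))).map (Matrix.toLin' (A : Matrix (Fin n) (Fin n) F)) =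
      W.map (Matrix.toLin' ((A * B : GL (Fin n) F) : Matrix (Fin n) (Fin n) F)) := by
  rw [Units.val_mul, Matrix.toLin'_mul, Submodule.map_comp]

theorem decStab_map {n t : ℕ} (D : Fin t → Submodule F (Fin n → F)) (P : GL (Fin n) F) :
    decompositionStabilizer (fun i => (D i).map (Matrix.toLin' (P : Matrix (Fin n) (Fin n) F))) =
      (decompositionStabilizer D).map (MulAut.conj P).toMonoidHom := by
  ext g
  simp only [Subgroup.mem_map, MulEquiv.coe_toMonoidHom, MulAut.conj_apply]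
  constructor
  · rintro ⟨σ, hσ⟩
    refine ⟨P⁻¹ * g * P, ⟨σ, fun i => ?_⟩, by group⟩
    have h : ((D i).map (Matrix.toLin' (P : Matrix (Fin n) (Fin n) F))).map
        (Matrix.toLin' (g : Matrix (Fin n) (Fin n) F)) =
        (D (σ i)).map (Matrix.toLin' (P : Matrix (Fin n) (Fin n) F)) := hσ i
    rw [mul_assoc, ← map_map_units, ← map_map_units, h, map_map_units, inv_mul_cancel, Units.val_one,
      Matrix.toLin'_one, Submodule.map_id]
  · rintro ⟨y, ⟨σ, hσ⟩, rfl⟩
    refine ⟨σ, fun i => ?_⟩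
    show ((D i).map (Matrix.toLin' (P : Matrix (Fin n) (Fin n) F))).map
        (Matrix.toLin' ((P * y * P⁻¹ : GL (Fin n) F) : Matrix (Fin n) (Fin n) F)) =
        (D (σ i)).map (Matrix.toLin' (P : Matrix (Fin n) (Fin n) F))
    rw [map_map_units, inv_mul_cancel_right, ← map_map_units, hσ i]

/-! ### the hermitian form -/

theorem herm_smul_left (a : F) (u v : Fin 3 → F) :
    hermForm 3 F 5 (a • u) v = a * hermForm 3 F 5 u v := by
  unfold hermForm
  rw [Finset.mul_sum]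
  exact Finset.sum_congr rfl (fun i _ => by simp [mul_assoc])

theorem herm_smul_right (a : F) (u v : Fin 3 → F) :
    hermForm 3 F 5 u (a • v) = a ^ 5 * hermForm 3 F 5 u v := by
  unfold hermForm
  rw [Finset.mul_sum]
  exact Finset.sum_congr rfl (fun i _ => by simp only [Pi.smul_apply, smul_eq_mul, mul_pow]; ring)

theorem herm_single (j : Fin 3) : hermForm 3 F 5 (Pi.single j 1) (Pi.single j 1) = 1 := by
  unfold hermForm
  rw [Finset.sum_eq_single j]
  · simp
  · intro b _ hb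
    simp [hb]
  · intro h
    exact absurd (Finset.mem_univ _) h

theorem herm_self_fixed [Fintype F] (hF : Fintype.card F = 5 ^ 2) (u : Fin 3 → F) :
    hermForm 3 F 5 u u ^ 5 = hermForm 3 F 5 u u := by
  obtain ⟨_, -, -⟩ := exists_equiv25 hF
  unfold hermForm
  rw [sum_pow_char]
  refine Finset.sum_congr rfl (fun i _ => ?_)
  have h25 : u i ^ 25 = u i := by
    have := FiniteField.pow_card (u i)
    rwa [hF] at this
  calc (u i * u i ^ 5) ^ 5 = u i ^ 5 * u i ^ 25 := by ring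
    _ = u i * u i ^ 5 := by rw [h25]; ring

/-! ### NF : the standard frame -/

/-- the standard frame -/
def Dstd (F : Type*) [Field F] : Fin 3 → Submodule F (Fin 3 → F) := fun i => Submodule.span F {Pi.single i 1}

theorem exists_frame [Fintype F] (hF : Fintype.card F = 5 ^ 2) (D : Fin 3 → Submodule F (Fin 3 → F))
    (hD : IsNondegenerateMDecomposition (hermForm 3 F 5) 1 D) :
    ∃ P : GL (Fin 3) F, P ∈ GU 3 F 5 ∧
      D = fun i => (Dstd F i).map (Matrix.toLin' (P : Matrix (Fin 3) (Fin 3) F)) := by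
  classical
  have h1 : ∀ i, ∃ u : Fin 3 → F, u ≠ 0 ∧ D i = Submodule.span F {u} := by
    intro i
    obtain ⟨u, hu0, hu⟩ := finrank_eq_one_iff'.1 (hD.decomp.finrank_eq i)
    refine ⟨u.1, fun h => hu0 (Subtype.ext h), le_antisymm ?_ ?_⟩
    · intro w hw
      obtain ⟨c, hc⟩ := hu ⟨w, hw⟩
      rw [Submodule.mem_span_singleton]
      exact ⟨c, congrArg Subtype.val hc⟩
    · rw [Submodule.span_singleton_le_iff_mem]
      exact u.2
  choose u hu0 hu using h1
  have hmem : ∀ i, u i ∈ D i := fun i => by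
    rw [hu i]
    exact Submodule.mem_span_singleton_self _
  have hN : ∀ i, hermForm 3 F 5 (u i) (u i) ≠ 0 := by
    intro i
    obtain ⟨⟨x, hx, hx0⟩, _⟩ := hD.nondegenerate i (u i) (hmem i) (hu0 i)
    rw [hu i, Submodule.mem_span_singleton] at hx
    obtain ⟨a, rfl⟩ := hx
    intro h0
    apply hx0
    rw [herm_smul_left, h0, mul_zero]
  have hc : ∀ i, ∃ c : F, c * c ^ 5 = (hermForm 3 F 5 (u i) (u i))⁻¹ := fun i =>
    Cfsg.Agent.Lib.Helper11.U4.exists_norm_eq hF _ (by rw [inv_pow, herm_self_fixed hF])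
  choose c hc using hc
  have hc0 : ∀ i, c i ≠ 0 := by
    intro i h0
    have h2 := hc i
    rw [h0, zero_mul] at h2
    exact inv_ne_zero (hN i) h2.symm
  let Pm : Matrix (Fin 3) (Fin 3) F := Matrix.of (fun r j => c j * u j r)
  have hsharp : Cfsg.Agent.Lib.Helper14.GUConj.sharp hF Pm * Pm = 1 := by
    ext j k
    rw [Matrix.mul_apply, Matrix.one_apply]
    have h2 : ∑ r, Cfsg.Agent.Lib.Helper14.GUConj.sharp hF Pm j r * Pm r k =
        hermForm 3 F 5 (c k • u k) (c j • u j) := by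
      unfold hermForm
      refine Finset.sum_congr rfl (fun r _ => ?_)
      rw [Cfsg.Agent.Lib.Helper14.GUConj.sharp_apply, Cfsg.Agent.Lib.Helper14.HSemi.sigQ_apply]
      simp only [Pm, Matrix.of_apply, Pi.smul_apply, smul_eq_mul]
      ring
    rw [h2, herm_smul_left, herm_smul_right]
    by_cases hjk : j = k
    · subst hjk
      rw [if_pos rfl, ← mul_assoc, hc, inv_mul_cancel₀ (hN j)]
    · rw [if_neg hjk, hD.orthogonal k j (fun h => hjk h.symm) (u k) (hmem k) (u j) (hmem j), mul_zero, mul_zero]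
  have hsharp' : Pm * Cfsg.Agent.Lib.Helper14.GUConj.sharp hF Pm = 1 := mul_eq_one_comm.1 hsharp
  refine ⟨⟨Pm, _, hsharp', hsharp⟩, ?_, ?_⟩
  · exact (Cfsg.Agent.Lib.Helper14.GUConj.pres_iff hF Pm).2 hsharp
  · funext i
    show D i = (Submodule.span F {Pi.single i 1}).map (Matrix.toLin' Pm)
    rw [Submodule.map_span, Set.image_singleton, Matrix.toLin'_apply, Matrix.mulVec_single_one, hu i]
    have h3 : Pm.col i = c i • u i := by
      funext r
      rfl
    rw [h3, Submodule.span_singleton_smul_eq (IsUnit.mk0 _ (hc0 i))]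

/-! ### ST : the stabiliser of the standard frame is monomial -/

theorem monomial_of_mem [Fintype F] (g : GL (Fin 3) F)
    (hg : g ∈ decompositionStabilizer (Dstd F) ⊓ SUn 3 F 5) :
    ∃ (σ : Equiv.Perm (Fin 3)) (t : Fin 3 → F), (∀ j, t j ^ 6 = 1) ∧ (∏ j, t j) ^ 2 = 1 ∧
      ∀ (v : Fin 3 → F) (j : Fin 3), ((g : Matrix (Fin 3) (Fin 3) F) *ᵥ v) (σ j) = t j * v j := by
  classical
  obtain ⟨⟨σ, hσ⟩, hgU, hgS⟩ := hg
  have hact : ∀ j, ∃ a : F, (g : Matrix (Fin 3) (Fin 3) F) *ᵥ Pi.single j 1 = a • Pi.single (σ j) 1 := by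
    intro j
    have h2 : (g : Matrix (Fin 3) (Fin 3) F) *ᵥ Pi.single j 1 ∈ Dstd F (σ j) := by
      rw [← hσ j]
      exact ⟨Pi.single j 1, Submodule.mem_span_singleton_self _, by rw [Matrix.toLin'_apply]⟩
    obtain ⟨a, ha⟩ := Submodule.mem_span_singleton.1 h2
    exact ⟨a, ha.symm⟩
  choose t ht using hact
  have hent : ∀ i j, (g : Matrix (Fin 3) (Fin 3) F) i j = if i = σ j then t j else 0 := by
    intro i j
    have h2 := congrFun (ht j) i
    rw [Matrix.mulVec_single_one] at h2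
    have h3 : (g : Matrix (Fin 3) (Fin 3) F) i j = (t j • (Pi.single (σ j) 1 : Fin 3 → F)) i := h2
    rw [h3, Pi.smul_apply, Pi.single_apply, smul_eq_mul]
    split_ifs <;> simp
  have ht6 : ∀ j, t j ^ 6 = 1 := by
    intro j
    have h2 : hermForm 3 F 5 ((g : Matrix (Fin 3) (Fin 3) F) *ᵥ Pi.single j 1)
        ((g : Matrix (Fin 3) (Fin 3) F) *ᵥ Pi.single j 1) =
        hermForm 3 F 5 (Pi.single j 1) (Pi.single j 1) := hgU _ _
    rw [ht j, herm_smul_left, herm_smul_right, herm_single, herm_single] at h2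
    linear_combination h2
  have hdetg : (g : Matrix (Fin 3) (Fin 3) F).det = 1 := by
    have h2 : Matrix.GeneralLinearGroup.det g = 1 := hgS
    have h3 := congrArg Units.val h2
    rwa [Matrix.GeneralLinearGroup.val_det_apply, Units.val_one] at h3
  have hdet' : (g : Matrix (Fin 3) (Fin 3) F).det = ((Equiv.Perm.sign σ : ℤˣ) : ℤ) * ∏ j, t j := by
    rw [Matrix.det_apply', Finset.sum_eq_single σ]
    · congr 1
      apply Finset.prod_congr rfl
      intro y _
      rw [hent, if_pos rfl]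
    · intro τ _ hτ
      obtain ⟨y, hy⟩ : ∃ y, τ y ≠ σ y := by
        by_contra h
        apply hτ
        ext y
        by_contra hy
        exact h ⟨y, fun h' => hy (by rw [h'])⟩
      rw [Finset.prod_eq_zero (Finset.mem_univ y) (by rw [hent, if_neg hy]), mul_zero]
    · intro h
      exact absurd (Finset.mem_univ _) h
  refine ⟨σ, t, ht6, ?_, ?_⟩
  · have hsign : (((Equiv.Perm.sign σ : ℤˣ) : ℤ) : F) ^ 2 = 1 := by
      rcases Int.units_eq_one_or (Equiv.Perm.sign σ) with h | h <;> simp [h]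
    have h5 := hdetg
    rw [hdet'] at h5
    have h6 := congrArg (fun x => x ^ 2) h5
    simp only [mul_pow, hsign, one_mul, one_pow] at h6
    exact h6
  · intro v j
    simp only [Matrix.mulVec, dotProduct, hent]
    rw [Finset.sum_eq_single j]
    · rw [if_pos rfl]
    · intro k _ hk
      rw [if_neg (fun h => hk (σ.injective h).symm), zero_mul]
    · intro h
      exact absurd (Finset.mem_univ _) h

/-! ### the set `S105` -/

/-- the 105 points -/
def S105 (F : Type*) [Field F] : Set (Fin 3 → F) :=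
  {v | hermForm 3 F 5 v v ≠ 0 ∧ (∃ i j, i ≠ j ∧ v i ^ 6 = v j ^ 6) ∧
    ((∏ i, v i) ^ 8 = 0 ∨ (∏ i, v i) ^ 8 = 1)}

theorem mem_S105_iff (v : Fin 3 → F) : v ∈ S105 F ↔ inS (v 0) (v 1) (v 2) := by
  have e1 : hermForm 3 F 5 v v = v 0 ^ 6 + v 1 ^ 6 + v 2 ^ 6 := by
    unfold hermForm
    rw [Fin.sum_univ_three]
    ring
  have e2 : (∃ i j, i ≠ j ∧ v i ^ 6 = v j ^ 6) ↔
      (v 0 ^ 6 = v 1 ^ 6 ∨ v 1 ^ 6 = v 2 ^ 6 ∨ v 0 ^ 6 = v 2 ^ 6) := by
    constructor
    · rintro ⟨i, j, hij, h⟩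
      have key : ∀ i j : Fin 3, i ≠ j → (i = 0 ∧ j = 1) ∨ (i = 1 ∧ j = 0) ∨ (i = 1 ∧ j = 2) ∨ (i = 2 ∧ j = 1) ∨
          (i = 0 ∧ j = 2) ∨ (i = 2 ∧ j = 0) := by decide
      rcases key i j hij with ⟨rfl, rfl⟩ | ⟨rfl, rfl⟩ | ⟨rfl, rfl⟩ | ⟨rfl, rfl⟩ | ⟨rfl, rfl⟩ | ⟨rfl, rfl⟩
      · exact Or.inl h
      · exact Or.inl h.symm
      · exact Or.inr (Or.inl h)
      · exact Or.inr (Or.inl h.symm)
      · exact Or.inr (Or.inr h)
      · exact Or.inr (Or.inr h.symm)
    · rintro (h | h | h)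
      · exact ⟨0, 1, by decide, h⟩
      · exact ⟨1, 2, by decide, h⟩
      · exact ⟨0, 2, by decide, h⟩
  have e3 : ∏ i, v i = v 0 * v 1 * v 2 := Fin.prod_univ_three _
  show (hermForm 3 F 5 v v ≠ 0 ∧ (∃ i j, i ≠ j ∧ v i ^ 6 = v j ^ 6) ∧
    ((∏ i, v i) ^ 8 = 0 ∨ (∏ i, v i) ^ 8 = 1)) ↔ _
  rw [e1, e2, e3]
  rfl

theorem monomial_mem_stabSet [Fintype F] (g : GL (Fin 3) F)
    (hg : g ∈ decompositionStabilizer (Dstd F) ⊓ SUn 3 F 5) : g ∈ stabSet (S105 F) := by
  obtain ⟨σ, t, ht6, ht2, hact⟩ := monomial_of_mem g hg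
  apply mem_stabSet_of_forall
  rintro v ⟨hv1, ⟨i, j, hij, hv2⟩, hv3⟩
  refine ⟨?_, ⟨σ i, σ j, fun h => hij (σ.injective h), ?_⟩, ?_⟩
  · have h := hg.2.1 v v
    change hermForm 3 F 5 ((g : Matrix (Fin 3) (Fin 3) F) *ᵥ v) ((g : Matrix (Fin 3) (Fin 3) F) *ᵥ v) = _ at h
    rw [h]
    exact hv1
  · rw [hact, hact, mul_pow, mul_pow, ht6, ht6, one_mul, one_mul, hv2]
  · have hp : ∏ k, ((g : Matrix (Fin 3) (Fin 3) F) *ᵥ v) k = (∏ k, t k) * ∏ k, v k := by
      rw [← Equiv.prod_comp σ, ← Finset.prod_mul_distrib]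
      exact Finset.prod_congr rfl (fun k _ => hact v k)
    have h8 : (∏ k, t k) ^ 8 = 1 := by
      calc (∏ k, t k) ^ 8 = ((∏ k, t k) ^ 2) ^ 4 := by ring
        _ = 1 := by rw [ht2, one_pow]
    rw [hp, mul_pow, h8, one_mul]
    exact hv3

/-! ### transfer to `K25` -/

theorem inS_map {K : Type*} [Field K] (φ : K →+* F) (a b c : K) : inS (φ a) (φ b) (φ c) ↔ inS a b c := by
  have hi := φ.injective
  unfold inS
  simp only [← map_pow, ← map_mul, ← map_add, map_ne_zero, hi.eq_iff, map_eq_zero, map_eq_one_iff φ hi]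

theorem mem_S105_map (φ : K25 →+* F) (x : Fin 3 → K25) : (φ ∘ x) ∈ S105 F ↔ inS (x 0) (x 1) (x 2) := by
  rw [mem_S105_iff]
  exact inS_map φ _ _ _

theorem inS_smul {K : Type*} [Field K] {k : K} (hk : k ≠ 0) (h24 : k ^ 24 = 1) (a b c : K) :
    inS (k * a) (k * b) (k * c) ↔ inS a b c := by
  have h6 : k ^ 6 ≠ 0 := pow_ne_zero 6 hk
  have e1 : (k * a) ^ 6 + (k * b) ^ 6 + (k * c) ^ 6 = k ^ 6 * (a ^ 6 + b ^ 6 + c ^ 6) := by ring
  have e2 : (k * a * (k * b) * (k * c)) ^ 8 = (a * b * c) ^ 8 := by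
    calc (k * a * (k * b) * (k * c)) ^ 8 = k ^ 24 * (a * b * c) ^ 8 := by ring
      _ = (a * b * c) ^ 8 := by rw [h24, one_mul]
  unfold inS
  rw [e1, e2, mul_pow, mul_pow, mul_pow, mul_right_inj' h6, mul_right_inj' h6, mul_right_inj' h6,
    mul_ne_zero_iff]
  constructor
  · rintro ⟨⟨_, h1⟩, h2⟩
    exact ⟨h1, h2⟩
  · rintro ⟨h1, h2⟩
    exact ⟨⟨h6, h1⟩, h2⟩

/-- `w` preserves `S105`, in coordinates over `K25` -/
theorem w_pres (a b c : K25) (h : inS a b c) :
    inS (k3 * a + k4 * b + k4 * c) (k4 * a + k3 * b + k4 * c) (k4 * a + k4 * b + k3 * c) := by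
  -- reduction to a normalised vector
  have red : ∀ (k a' b' c' : K25), k ≠ 0 → a = k * a' → b = k * b' → c = k * c' →
      (inS a' b' c' → inS (k3 * a' + k4 * b' + k4 * c') (k4 * a' + k3 * b' + k4 * c')
        (k4 * a' + k4 * b' + k3 * c')) →
      inS (k3 * a + k4 * b + k4 * c) (k4 * a + k3 * b + k4 * c) (k4 * a + k4 * b + k3 * c) := by
    intro k a' b' c' hk ha hb hc himp
    have h24 := pow24 k hk
    rw [ha, hb, hc] at h ⊢
    have h' := himp ((inS_smul hk h24 a' b' c').1 h)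
    have h'' := (inS_smul hk h24 _ _ _).2 h'
    have hA : k3 * (k * a') + k4 * (k * b') + k4 * (k * c') = k * (k3 * a' + k4 * b' + k4 * c') := by ring
    have hB : k4 * (k * a') + k3 * (k * b') + k4 * (k * c') = k * (k4 * a' + k3 * b' + k4 * c') := by ring
    have hC : k4 * (k * a') + k4 * (k * b') + k3 * (k * c') = k * (k4 * a' + k4 * b' + k3 * c') := by ring
    rw [hA, hB, hC]
    exact h''
  by_cases ha : a = 0
  · by_cases hb : b = 0
    · have hc : c ≠ 0 := by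
        intro hc
        rw [ha, hb, hc] at h
        exact not_inS_zero h
      exact red c 0 0 1 hc (by rw [ha, mul_zero]) (by rw [hb, mul_zero]) (by rw [mul_one]) w_pres3
    · exact red b 0 1 (b⁻¹ * c) hb (by rw [ha, mul_zero]) (by rw [mul_one])
        (by rw [← mul_assoc, mul_inv_cancel₀ hb, one_mul]) (w_pres2 _)
  · exact red a 1 (a⁻¹ * b) (a⁻¹ * c) ha (by rw [mul_one]) (by rw [← mul_assoc, mul_inv_cancel₀ ha, one_mul])
      (by rw [← mul_assoc, mul_inv_cancel₀ ha, one_mul]) (w_pres1 _ _)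

theorem vec_eta {K : Type*} (x : Fin 3 → K) : x = ![x 0, x 1, x 2] := by
  funext i
  fin_cases i <;> rfl

/-! ### PR -/

section PR
variable [Fintype F]

theorem w_mem_stabSet (φ : K25 →+* F) (hφ : Function.Bijective φ) :
    mapGL φ Wm Wm_det ∈ stabSet (S105 F) := by
  apply mem_stabSet_of_forall
  intro v hv
  obtain ⟨x, rfl⟩ := (hφ.surjective.comp_left (α := Fin 3)) v
  rw [mapGL_coe, map_mulVec, mem_S105_map]
  rw [mem_S105_map] at hv
  have h2 := w_pres _ _ _ hv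
  rw [vec_eta x, Wm_mulVec]
  exact h2

theorem w_not_mem (φ : K25 →+* F) :
    mapGL φ Wm Wm_det ∉ decompositionStabilizer (Dstd F) ⊓ SUn 3 F 5 := by
  classical
  intro hw
  obtain ⟨σ, t, -, -, hact⟩ := monomial_of_mem _ hw
  have h1 := hact (Pi.single 0 1) 1
  rw [mapGL_coe, Matrix.mulVec_single_one] at h1
  have h2 : (Pi.single (0 : Fin 3) (1 : F) : Fin 3 → F) 1 = 0 := by simp
  rw [h2, mul_zero] at h1
  have h3 : φ (Wm (σ 1) 0) = 0 := h1
  rw [map_eq_zero] at h3
  exact Wm_col0 _ h3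

theorem s_not_mem (φ : K25 →+* F) : mapGL φ Sm Sm_det ∉ stabSet (S105 F) := by
  classical
  intro hs
  have h0 : (φ ∘ ![(1 : K25), 0, 0]) ∈ S105 F := (mem_S105_map φ _).2 e0_mem
  have h1 := (mem_stabSet.1 hs _).1 h0
  rw [mapGL_coe, map_mulVec, Sm_mulVec, mem_S105_map] at h1
  exact s_e0_not_mem h1

theorem std_not_maximal (hF : Fintype.card F = 5 ^ 2) :
    ¬ IsMaximalIn (SUn 3 F 5) (decompositionStabilizer (Dstd F) ⊓ SUn 3 F 5) := by
  obtain ⟨_, φ, hφ⟩ := exists_equiv25 hF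
  exact not_maximal_of_stabSet (S105 F) (fun g hg => monomial_mem_stabSet g hg)
    (mapGL_mem_SUn hF φ Wm Wm_det Wm_unitary) (w_mem_stabSet φ hφ) (w_not_mem φ)
    (mapGL_mem_SUn hF φ Sm Sm_det Sm_unitary) (s_not_mem φ)

/-- **E1** -/
theorem e1 (hF : Fintype.card F = 5 ^ 2) : E1 F := by
  intro D hD
  obtain ⟨P, hP, hDP⟩ := exists_frame hF D hD
  have h1 := not_maximal_conj P hP _ (std_not_maximal hF)
  rw [← decStab_map] at h1
  rw [hDP]
  exact h1

end PR

end Cfsg.Agent.Lib.Helper21.S5778E1
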