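import Mathlib
import Cfsg.Prelude.Def_GeometricClasses
import Cfsg.Agent.Lib.Helper24.S5876Defs

/-!
# S5876 FO-P1U (helper21, for architect helper24): a unipotent element of an abelian subgroup
normalised by an irreducible group is trivial
-/

set_option autoImplicit false
set_option linter.unusedSectionVars false
set_option linter.unusedVariables false

namespace Cfsg.Agent.Lib.Helper21.S5876P1U

open Matrix Module Cfsg.Agent.Lib.Helper24.S5876

variable {F : Type*} [Field F] {n : ℕ}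

/-- the operator `b - 1` -/
noncomputable def nilOp (b : GL (Fin n) F) : Module.End F (Fin n → F) :=
  Matrix.toLin' (b : Matrix (Fin n) (Fin n) F) - 1

theorem nilOp_apply (b : GL (Fin n) F) (v : Fin n → F) :
    nilOp b v = (b : Matrix (Fin n) (Fin n) F) *ᵥ v - v := by
  rw [nilOp, LinearMap.sub_apply, Matrix.toLin'_apply, Module.End.one_apply]

theorem conj_iter (g a : GL (Fin n) F) (k : ℕ) (v : Fin n → F) :
    (nilOp (g * a * g⁻¹))^[k] v =
      (g : Matrix (Fin n) (Fin n) F) *ᵥ ((nilOp a)^[k]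
        (((g⁻¹ : GL (Fin n) F) : Matrix (Fin n) (Fin n) F) *ᵥ v)) := by
  induction k with
  | zero =>
    simp only [Function.iterate_zero, id_eq]
    rw [Matrix.mulVec_mulVec, ← Units.val_mul, mul_inv_cancel, Units.val_one, Matrix.one_mulVec]
  | succ k ih =>
    rw [Function.iterate_succ_apply', Function.iterate_succ_apply', ih, nilOp_apply, nilOp_apply,
      Matrix.mulVec_sub, Matrix.mulVec_mulVec, Matrix.mulVec_mulVec, ← Units.val_mul,
      ← Units.val_mul]
    congr 2
    group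

theorem unip_conj (g a : GL (Fin n) F) (hu : ∃ k : ℕ, (nilOp a) ^ k = 0) :
    ∃ k : ℕ, (nilOp (g * a * g⁻¹)) ^ k = 0 := by
  obtain ⟨k, hk⟩ := hu
  refine ⟨k, ?_⟩
  apply LinearMap.ext
  intro v
  rw [Module.End.pow_apply, conj_iter, ← Module.End.pow_apply, hk, LinearMap.zero_apply,
    Matrix.mulVec_zero, LinearMap.zero_apply]

/-- a nilpotent operator leaving a nonzero subspace invariant kills a nonzero vector of it -/
theorem exists_fixed_of_unip (b : GL (Fin n) F) (hu : ∃ k : ℕ, (nilOp b) ^ k = 0)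
    (W : Submodule F (Fin n → F)) (hW : W ≠ ⊥)
    (hinv : ∀ v ∈ W, (b : Matrix (Fin n) (Fin n) F) *ᵥ v ∈ W) :
    ∃ u ∈ W, u ≠ 0 ∧ (b : Matrix (Fin n) (Fin n) F) *ᵥ u = u := by
  classical
  obtain ⟨k, hk⟩ := hu
  obtain ⟨w, hwW, hw0⟩ := Submodule.exists_mem_ne_zero_of_ne_bot hW
  have hNW : ∀ v ∈ W, nilOp b v ∈ W := by
    intro v hv
    rw [nilOp_apply]
    exact W.sub_mem (hinv v hv) hv
  have hiter : ∀ j : ℕ, (nilOp b)^[j] w ∈ W := by
    intro j
    induction j with
    | zero => simpa using hwW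
    | succ j ih =>
      rw [Function.iterate_succ_apply']
      exact hNW _ ih
  have hex : ∃ j : ℕ, (nilOp b)^[j] w = 0 := by
    refine ⟨k, ?_⟩
    rw [← Module.End.pow_apply, hk, LinearMap.zero_apply]
  have hj0 : Nat.find hex ≠ 0 := by
    intro h0
    have := Nat.find_spec hex
    rw [h0] at this
    exact hw0 (by simpa using this)
  obtain ⟨j, hj⟩ := Nat.exists_eq_succ_of_ne_zero hj0
  have hne : (nilOp b)^[j] w ≠ 0 := Nat.find_min hex (by omega)
  have hz : nilOp b ((nilOp b)^[j] w) = 0 := by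
    have h1 := Nat.find_spec hex
    rw [hj, Nat.succ_eq_add_one, Function.iterate_succ_apply'] at h1
    exact h1
  refine ⟨(nilOp b)^[j] w, hiter j, hne, ?_⟩
  rw [nilOp_apply, sub_eq_zero] at hz
  exact hz

/-- FO-P1U: a unipotent element of an abelian subgroup normalised by an irreducible group is trivial -/
theorem eq_one_of_unipotent (G A : Subgroup (GL (Fin n) F))
    (hirr : Cfsg.Geo.ActsIrreducibly (Cfsg.Geo.matrixSet G)) (hAG : A ≤ G) (hN : NormBy G A)
    (hcomm : ∀ a ∈ A, ∀ b ∈ A, a * b = b * a) (a : GL (Fin n) F) (ha : a ∈ A)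
    (hu : ∃ k : ℕ, (Matrix.toLin' (a : Matrix (Fin n) (Fin n) F) - 1) ^ k = 0) : a = 1 := by
  classical
  have hu' : ∃ k : ℕ, (nilOp a) ^ k = 0 := hu
  by_cases hn : n = 0
  · subst hn
    apply Units.ext
    exact Subsingleton.elim _ _
  have : NeZero n := ⟨hn⟩
  -- the conjugates of `a`
  let C : Set (GL (Fin n) F) := {b | ∃ g ∈ G, b = g * a * g⁻¹}
  have haC : a ∈ C := ⟨1, G.one_mem, by group⟩
  have hCA : ∀ b ∈ C, b ∈ A := by
    rintro b ⟨g, hg, rfl⟩
    exact hN g hg a ha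
  have hCu : ∀ b ∈ C, ∃ k : ℕ, (nilOp b) ^ k = 0 := by
    rintro b ⟨g, hg, rfl⟩
    exact unip_conj g a hu'
  have hCc : ∀ b ∈ C, ∀ c ∈ C, b * c = c * b :=
    fun b hb c hc => hcomm b (hCA b hb) c (hCA c hc)
  have hCG : ∀ b ∈ C, ∀ g ∈ G, g⁻¹ * b * g ∈ C := by
    rintro b ⟨h, hh, rfl⟩ g hg
    exact ⟨g⁻¹ * h, G.mul_mem (G.inv_mem hg) hh, by group⟩
  -- invariant nonzero subspaces
  let P : Submodule F (Fin n → F) → Prop := fun W =>
    W ≠ ⊥ ∧ ∀ b ∈ C, ∀ v ∈ W, (b : Matrix (Fin n) (Fin n) F) *ᵥ v ∈ W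
  have hPtop : P ⊤ := ⟨top_ne_bot, fun _ _ _ _ => Submodule.mem_top⟩
  let S : Set ℕ := {d | ∃ W, P W ∧ finrank F W = d}
  have hSne : S.Nonempty := ⟨_, ⊤, hPtop, rfl⟩
  obtain ⟨W, hPW, hWd⟩ := Nat.sInf_mem hSne
  have hmin : ∀ W', P W' → finrank F W ≤ finrank F W' := by
    intro W' hW'
    rw [hWd]
    exact Nat.sInf_le ⟨W', hW', rfl⟩
  have hWfix : ∀ b ∈ C, ∀ v ∈ W, (b : Matrix (Fin n) (Fin n) F) *ᵥ v = v := by
    intro b hb
    have hP' : P (W ⊓ fixS b) := by
      constructor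
      · obtain ⟨u, huW, hu0, hbu⟩ := exists_fixed_of_unip b (hCu b hb) W hPW.1 (hPW.2 b hb)
        intro hbot
        apply hu0
        have : u ∈ W ⊓ fixS b := ⟨huW, mem_fixS.mpr hbu⟩
        rw [hbot] at this
        exact (Submodule.mem_bot F).mp this
      · intro c hc v hv
        refine ⟨hPW.2 c hc v hv.1, ?_⟩
        change (c : Matrix (Fin n) (Fin n) F) *ᵥ v ∈ fixS b
        rw [mem_fixS, Matrix.mulVec_mulVec, ← Units.val_mul, hCc b hb c hc, Units.val_mul,
          ← Matrix.mulVec_mulVec, mem_fixS.mp hv.2]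
    have heq : W ⊓ fixS b = W :=
      Submodule.eq_of_le_of_finrank_le inf_le_left (hmin _ hP')
    intro v hv
    have : v ∈ W ⊓ fixS b := by rw [heq]; exact hv
    exact mem_fixS.mp this.2
  -- the common fixed space
  let X : Submodule F (Fin n → F) :=
    { carrier := {v | ∀ b ∈ C, (b : Matrix (Fin n) (Fin n) F) *ᵥ v = v}
      add_mem' := by
        intro v w hv hw b hb
        rw [Matrix.mulVec_add, hv b hb, hw b hb]
      zero_mem' := by
        intro b hb
        rw [Matrix.mulVec_zero]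
      smul_mem' := by
        intro c v hv b hb
        rw [Matrix.mulVec_smul, hv b hb] }
  have hWX : W ≤ X := fun v hv b hb => hWfix b hb v hv
  have hXinv : ∀ s ∈ Cfsg.Geo.matrixSet G, X.map (Matrix.toLin' s) ≤ X := by
    rintro s ⟨g, hg, rfl⟩
    rintro _ ⟨v, hv, rfl⟩
    intro b hb
    rw [Matrix.toLin'_apply]
    have h1 := hv (g⁻¹ * b * g) (hCG b hb g hg)
    have h2 : (b : Matrix (Fin n) (Fin n) F) * (g : Matrix (Fin n) (Fin n) F) =
        (g : Matrix (Fin n) (Fin n) F) * ((g⁻¹ * b * g : GL (Fin n) F) : Matrix (Fin n) (Fin n) F) := by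
      rw [← Units.val_mul, ← Units.val_mul]
      congr 1
      group
    rw [Matrix.mulVec_mulVec, h2, ← Matrix.mulVec_mulVec, h1]
  rcases hirr X hXinv with hbot | htop
  · exfalso
    apply hPW.1
    rw [eq_bot_iff, ← hbot]
    exact hWX
  · apply Units.ext
    apply Matrix.toLin'.injective
    apply LinearMap.ext
    intro v
    have hv : v ∈ X := by rw [htop]; exact Submodule.mem_top
    rw [Matrix.toLin'_apply, hv a haC, Units.val_one, Matrix.toLin'_one, LinearMap.id_apply]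

end Cfsg.Agent.Lib.Helper21.S5876P1U
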