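import Cfsg.Agent.Lib.Helper21.SLCCAux

set_option autoImplicit false

/-! S2086 piece [A10] (helper21): the torus lemma for `Bal`. -/

namespace Cfsg.Agent.Lib.Helper25.SLCC

open Matrix
open scoped commutatorElement

variable {n : ℕ} {K : Type*} [Field K] {E : Type*} [Group E]

/-- [A10] the torus lemma for `Bal`: a diagonal element fixing `x_ij` and scaling `x_jl` by `e ≠ 1`
forces `⁅lift x_ij(t), lift x_jl(u)⁆ = ⁅lift x_ij(1), lift x_jl(tu)⁆` -/
theorem bal_of_torus (ψ : E →* SpecialLinearGroup (Fin n) K) (hψ : Function.Surjective ψ)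
    (hc : ψ.ker ≤ Subgroup.center E) (hCL : CommLift ψ) {i j l : Fin n} (hij : i ≠ j) (hjl : j ≠ l)
    (hil : i ≠ l) (D : SpecialLinearGroup (Fin n) K) (e : K) (he : e ≠ 1)
    (hD1 : ∀ t : K, D * T i j t * D⁻¹ = T i j t) (hD2 : ∀ u : K, D * T j l u * D⁻¹ = T j l (e * u))
    (t u : K) (A B A' B' : E) (hA : ψ A = T i j t) (hB : ψ B = T j l u) (hA' : ψ A' = T i j 1)
    (hB' : ψ B' = T j l (t * u)) : ⁅A, B⁆ = ⁅A', B'⁆ := by
  classical
  choose a ha using fun t : K => hψ (T i j t)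
  choose b hb using fun u : K => hψ (T j l u)
  obtain ⟨d, hd⟩ := hψ D
  have hP : ∀ (t u : K) (X Y : E), ψ X = T i j t → ψ Y = T j l u → ⁅X, Y⁆ = ⁅a t, b u⁆ :=
    fun t u X Y hX hY => Helper21.comm_indep ψ hc (hX.trans (ha t).symm) (hY.trans (hb u).symm)
  have hPψ : ∀ t u : K, ψ ⁅a t, b u⁆ = T i l (t * u) := by
    intro t u
    rw [map_commutatorElement, ha, hb, T_comm3 hij hjl hil]
  -- additivity in the second variable
  have hadd : ∀ t u u' : K, ⁅a t, b (u + u')⁆ = ⁅a t, b u⁆ * ⁅a t, b u'⁆ := by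
    intro t u u'
    rw [← hP t (u + u') (a t) (b u * b u') (ha t) (by rw [map_mul, hb, hb, T_add hjl]),
      Helper21.comm_mul_right,
      hCL j l i l hjl hil hjl (Ne.symm hil) u (t * u') (b u) ⁅a t, b u'⁆ (hb u) (hPψ t u')]
    group
  -- conjugation by a lift of `D`
  have hconj : ∀ t u : K, d * ⁅a t, b u⁆ * d⁻¹ = ⁅a t, b (e * u)⁆ := by
    intro t u
    rw [← hP t (e * u) (d * a t * d⁻¹) (d * b u * d⁻¹)
      (by rw [map_mul, map_mul, map_inv, hd, ha, hD1])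
      (by rw [map_mul, map_mul, map_inv, hd, hb, hD2]),
      Helper21.conj_comm]
  -- the defect
  obtain ⟨z, hz⟩ : ∃ z : K → E, ∀ u : K, z u = ⁅a t, b u⁆ * (⁅a 1, b (t * u)⁆)⁻¹ :=
    ⟨_, fun _ => rfl⟩
  have hzcen : ∀ (u : K) (g : E), g * z u = z u * g := by
    intro u
    apply Helper21.central_of_map_one ψ hc
    rw [hz, map_mul, map_inv, hPψ, hPψ, one_mul, mul_inv_cancel]
  have hzadd : ∀ u u' : K, z (u + u') = z u * z u' := by
    intro u u'
    have h1 : z (u + u') = ⁅a t, b u⁆ * z u' * (⁅a 1, b (t * u)⁆)⁻¹ := by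
      rw [hz, hz, mul_add, hadd, hadd, _root_.mul_inv_rev]
      group
    rw [h1, mul_assoc, ← hzcen u' (⁅a 1, b (t * u)⁆)⁻¹, ← mul_assoc, ← hz u]
  have hzinv : ∀ u : K, z (e * u) = z u := by
    intro u
    have h1 : d * z u * d⁻¹ = z (e * u) := by
      have h2 : d * z u * d⁻¹ = (d * ⁅a t, b u⁆ * d⁻¹) * (d * ⁅a 1, b (t * u)⁆ * d⁻¹)⁻¹ := by
        rw [hz]; group
      rw [h2, hconj, hconj, hz, show t * (e * u) = e * (t * u) by ring]
    rw [← h1, hzcen u d]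
    group
  have h1 := Helper21.trivial_of_add_of_scale z hzadd e he hzinv u
  rw [hP t u A B hA hB, hP 1 (t * u) A' B' hA' hB']
  rw [hz] at h1
  exact mul_inv_eq_one.mp h1

end Cfsg.Agent.Lib.Helper25.SLCC
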