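import Cfsg.Agent.Lib.Helper21.SLCCAux

set_option autoImplicit false

/-! S2086 piece [A5] (helper21): the torus lemma for lifts of commuting root elements. -/

namespace Cfsg.Agent.Lib.Helper25.SLCC

open Matrix
open scoped commutatorElement

variable {n : ℕ} {K : Type*} [Field K] {E : Type*} [Group E]

/-- [A5] the torus lemma: a diagonal element fixing `x_ij` and scaling `x_kl` by `e ≠ 1` forces lifts
of the commuting root elements `x_ij(t)`, `x_kl(u)` to commute -/
theorem lifts_commute_of_torus (ψ : E →* SpecialLinearGroup (Fin n) K) (hψ : Function.Surjective ψ)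
    (hc : ψ.ker ≤ Subgroup.center E) {i j k l : Fin n} (hij : i ≠ j) (hkl : k ≠ l) (hil : i ≠ l)
    (hjk : j ≠ k) (D : SpecialLinearGroup (Fin n) K) (e : K) (he : e ≠ 1)
    (hD1 : ∀ t : K, D * T i j t * D⁻¹ = T i j t) (hD2 : ∀ u : K, D * T k l u * D⁻¹ = T k l (e * u))
    (t u : K) (A B : E) (hA : ψ A = T i j t) (hB : ψ B = T k l u) : A * B = B * A := by
  classical
  choose a ha using fun t : K => hψ (T i j t)
  choose b hb using fun u : K => hψ (T k l u)
  obtain ⟨d, hd⟩ := hψ D
  have hP : ∀ (t u : K) (X Y : E), ψ X = T i j t → ψ Y = T k l u → ⁅X, Y⁆ = ⁅a t, b u⁆ :=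
    fun t u X Y hX hY => Helper21.comm_indep ψ hc (hX.trans (ha t).symm) (hY.trans (hb u).symm)
  have hcen : ∀ (t u : K) (g : E), g * ⁅a t, b u⁆ = ⁅a t, b u⁆ * g := by
    intro t u
    apply Helper21.central_of_map_one ψ hc
    rw [map_commutatorElement, ha, hb, commutatorElement_eq_one_iff_mul_comm]
    exact T_comm hij hkl hil hjk t u
  have hadd : ∀ t u u' : K, ⁅a t, b (u + u')⁆ = ⁅a t, b u⁆ * ⁅a t, b u'⁆ := by
    intro t u u'
    rw [← hP t (u + u') (a t) (b u * b u') (ha t) (by rw [map_mul, hb, hb, T_add hkl]),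
      Helper21.comm_mul_right, hcen t u' (b u)]
    group
  have hinv : ∀ t u : K, ⁅a t, b (e * u)⁆ = ⁅a t, b u⁆ := by
    intro t u
    rw [← hP t (e * u) (d * a t * d⁻¹) (d * b u * d⁻¹)
      (by rw [map_mul, map_mul, map_inv, hd, ha, hD1])
      (by rw [map_mul, map_mul, map_inv, hd, hb, hD2]),
      Helper21.conj_comm, hcen t u d]
    group
  have h1 := Helper21.trivial_of_add_of_scale (fun u => ⁅a t, b u⁆) (hadd t) e he (hinv t) u
  have h2 := hP t u A B hA hB
  rw [← commutatorElement_eq_one_iff_mul_comm, h2]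
  exact h1

end Cfsg.Agent.Lib.Helper25.SLCC
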