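import Cfsg.Agent.Lib.Helper25.SLCC.Defs

set_option autoImplicit false

/-! Auxiliary lemmas for the torus pieces [A5], [A10] of S2086 (helper21). -/

namespace Cfsg.Agent.Lib.Helper25.SLCC.Helper21

open scoped commutatorElement

variable {G : Type*} [Group G] {E : Type*} [Group E]

theorem central_of_map_one (ψ : E →* G) (hc : ψ.ker ≤ Subgroup.center E) {x : E} (hx : ψ x = 1)
    (g : E) : g * x = x * g :=
  Subgroup.mem_center_iff.mp (hc (MonoidHom.mem_ker.mpr hx)) g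

/-- in a central extension the commutator of two elements depends only on their images -/
theorem comm_indep (ψ : E →* G) (hc : ψ.ker ≤ Subgroup.center E) {x x' y y' : E}
    (hx : ψ x = ψ x') (hy : ψ y = ψ y') : ⁅x, y⁆ = ⁅x', y'⁆ := by
  have hz0 : ψ (x⁻¹ * x') = 1 := by rw [map_mul, map_inv, hx, inv_mul_cancel]
  have hw0 : ψ (y⁻¹ * y') = 1 := by rw [map_mul, map_inv, hy, inv_mul_cancel]
  obtain ⟨z, hz, hxz⟩ : ∃ z, (∀ g : E, g * z = z * g) ∧ x' = x * z :=
    ⟨x⁻¹ * x', central_of_map_one ψ hc hz0, by group⟩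
  obtain ⟨w, hw, hyw⟩ : ∃ w, (∀ g : E, g * w = w * g) ∧ y' = y * w :=
    ⟨y⁻¹ * y', central_of_map_one ψ hc hw0, by group⟩
  rw [hxz, hyw, commutatorElement_def, commutatorElement_def]
  symm
  calc (x * z) * (y * w) * (x * z)⁻¹ * (y * w)⁻¹
      = x * (z * (y * w)) * z⁻¹ * x⁻¹ * w⁻¹ * y⁻¹ := by group
    _ = x * ((y * w) * z) * z⁻¹ * x⁻¹ * w⁻¹ * y⁻¹ := by rw [← hz (y * w)]
    _ = x * y * (w * x⁻¹) * w⁻¹ * y⁻¹ := by group
    _ = x * y * (x⁻¹ * w) * w⁻¹ * y⁻¹ := by rw [← hw x⁻¹]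
    _ = x * y * x⁻¹ * y⁻¹ := by group

theorem conj_comm (d x y : E) : ⁅d * x * d⁻¹, d * y * d⁻¹⁆ = d * ⁅x, y⁆ * d⁻¹ := by
  simp only [commutatorElement_def]; group

theorem comm_mul_right (x y y' : E) : ⁅x, y * y'⁆ = ⁅x, y⁆ * (y * ⁅x, y'⁆) * y⁻¹ := by
  simp only [commutatorElement_def]; group

/-- a map from a field to a group which is additive and invariant under scaling by some `e ≠ 1`
is trivial -/
theorem trivial_of_add_of_scale {K : Type*} [Field K] (f : K → E)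
    (hadd : ∀ u u' : K, f (u + u') = f u * f u') (e : K) (he : e ≠ 1)
    (hinv : ∀ u : K, f (e * u) = f u) (u : K) : f u = 1 := by
  have h0 : f 0 = 1 := by
    have := hadd 0 0
    rw [add_zero] at this
    exact (mul_eq_left.mp this.symm)
  have he1 : e - 1 ≠ 0 := sub_ne_zero.mpr he
  have hu : u = e * ((e - 1)⁻¹ * u) + -((e - 1)⁻¹ * u) := by
    field_simp
    ring
  rw [hu, hadd, hinv, ← hadd, add_neg_cancel, h0]

end Cfsg.Agent.Lib.Helper25.SLCC.Helper21
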