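import Mathlib

/-!
# `SL₂(F)`: elementary matrices, Weyl elements, torus, explicit generation and Bruhat cells
(helper21; used for the recognition of the natural `SL₂(F)`-module, S3009)
-/

set_option autoImplicit false

namespace Cfsg.Agent.Lib.Helper21.SLQ

open Matrix

variable {F : Type*} [Field F]

/-- upper unitriangular -/
def su (x : F) : SpecialLinearGroup (Fin 2) F := ⟨!![1, x; 0, 1], by simp [det_fin_two]⟩

/-- lower unitriangular -/
def sl (y : F) : SpecialLinearGroup (Fin 2) F := ⟨!![1, 0; y, 1], by simp [det_fin_two]⟩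

/-- the monomial element `[[0, x], [-x⁻¹, 0]]` -/
def nn (x : F) (hx : x ≠ 0) : SpecialLinearGroup (Fin 2) F :=
  ⟨!![0, x; -x⁻¹, 0], by simp [det_fin_two, hx]⟩

/-- the diagonal element `diag(t, t⁻¹)` -/
def hh (t : F) (ht : t ≠ 0) : SpecialLinearGroup (Fin 2) F :=
  ⟨!![t, 0; 0, t⁻¹], by simp [det_fin_two, ht]⟩

@[simp] lemma su_val (x : F) : (su x : Matrix (Fin 2) (Fin 2) F) = !![1, x; 0, 1] := rfl
@[simp] lemma sl_val (y : F) : (sl y : Matrix (Fin 2) (Fin 2) F) = !![1, 0; y, 1] := rfl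
@[simp] lemma nn_val (x : F) (hx : x ≠ 0) :
    (nn x hx : Matrix (Fin 2) (Fin 2) F) = !![0, x; -x⁻¹, 0] := rfl
@[simp] lemma hh_val (t : F) (ht : t ≠ 0) :
    (hh t ht : Matrix (Fin 2) (Fin 2) F) = !![t, 0; 0, t⁻¹] := rfl

lemma sl2_ext {g h : SpecialLinearGroup (Fin 2) F}
    (h00 : g.1 0 0 = h.1 0 0) (h01 : g.1 0 1 = h.1 0 1)
    (h10 : g.1 1 0 = h.1 1 0) (h11 : g.1 1 1 = h.1 1 1) : g = h := by
  apply Subtype.ext
  ext i j
  fin_cases i <;> fin_cases j <;> assumption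

lemma su_mul (x y : F) : su x * su y = su (x + y) := by
  apply sl2_ext <;> simp [Matrix.mul_apply, Fin.sum_univ_two, add_comm]

lemma sl_mul (x y : F) : sl x * sl y = sl (x + y) := by
  apply sl2_ext <;> simp [Matrix.mul_apply, Fin.sum_univ_two, add_comm]

lemma su_zero : su (0 : F) = 1 := by
  apply sl2_ext <;> simp

lemma sl_zero : sl (0 : F) = 1 := by
  apply sl2_ext <;> simp

lemma su_inv (x : F) : (su x)⁻¹ = su (-x) := by
  rw [inv_eq_iff_mul_eq_one, su_mul, add_neg_cancel, su_zero]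

lemma sl_inv (x : F) : (sl x)⁻¹ = sl (-x) := by
  rw [inv_eq_iff_mul_eq_one, sl_mul, add_neg_cancel, sl_zero]

lemma su_comm (x y : F) : su x * su y = su y * su x := by
  rw [su_mul, su_mul, add_comm]

lemma nn_eq (x : F) (hx : x ≠ 0) : nn x hx = su x * sl (-x⁻¹) * su x := by
  apply sl2_ext <;> simp [Matrix.mul_apply, Fin.sum_univ_two, hx]

lemma nn_inv (x : F) (hx : x ≠ 0) : (nn x hx)⁻¹ = nn (-x) (neg_ne_zero.mpr hx) := by
  rw [inv_eq_iff_mul_eq_one]
  apply sl2_ext <;> simp [Matrix.mul_apply, Fin.sum_univ_two, hx, inv_neg]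

/-- `n(x) u(y) = l(-y/x²) n(x)` -/
lemma nn_su (x : F) (hx : x ≠ 0) (y : F) : nn x hx * su y = sl (-(y / x ^ 2)) * nn x hx := by
  apply sl2_ext <;> simp [Matrix.mul_apply, Fin.sum_univ_two, hx] <;> field_simp

/-- `n(x) l(y) = u(-x² y) n(x)` -/
lemma nn_sl (x : F) (hx : x ≠ 0) (y : F) : nn x hx * sl y = su (-(x ^ 2 * y)) * nn x hx := by
  apply sl2_ext <;> simp [Matrix.mul_apply, Fin.sum_univ_two, hx] <;> field_simp

lemma hh_eq (t : F) (ht : t ≠ 0) :
    hh t ht = nn t ht * nn (-1) (neg_ne_zero.mpr one_ne_zero) := by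
  apply sl2_ext <;> simp [Matrix.mul_apply, Fin.sum_univ_two, ht, inv_neg]

lemma hh_mul (t u : F) (ht : t ≠ 0) (hu : u ≠ 0) :
    hh t ht * hh u hu = hh (t * u) (mul_ne_zero ht hu) := by
  apply sl2_ext <;> simp [Matrix.mul_apply, Fin.sum_univ_two, mul_comm]

lemma hh_su (t : F) (ht : t ≠ 0) (x : F) : hh t ht * su x = su (t ^ 2 * x) * hh t ht := by
  apply sl2_ext <;> simp [Matrix.mul_apply, Fin.sum_univ_two, ht] <;> field_simp

lemma hh_sl (t : F) (ht : t ≠ 0) (y : F) : hh t ht * sl y = sl (y / t ^ 2) * hh t ht := by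
  apply sl2_ext <;> simp [Matrix.mul_apply, Fin.sum_univ_two, ht] <;> field_simp

/-- `l(y) = n₀ u(-y) n₀³` with `n₀ = n(-1)` -/
lemma sl_eq_conj (y : F) :
    sl y = nn (-1) (neg_ne_zero.mpr one_ne_zero) * su (-y) *
      (nn (-1) (neg_ne_zero.mpr one_ne_zero))⁻¹ := by
  rw [nn_su, mul_assoc, mul_inv_cancel, mul_one]
  congr 1
  simp

lemma det_entries (g : SpecialLinearGroup (Fin 2) F) :
    g.1 0 0 * g.1 1 1 - g.1 0 1 * g.1 1 0 = 1 := by
  have := g.2
  rwa [det_fin_two] at this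

/-- explicit generation by elementary matrices, lower-left entry nonzero -/
lemma decomp_of_ne (g : SpecialLinearGroup (Fin 2) F) (hc : g.1 1 0 ≠ 0) :
    g = su ((g.1 0 0 - 1) / g.1 1 0) * sl (g.1 1 0) * su ((g.1 1 1 - 1) / g.1 1 0) := by
  have hd := det_entries g
  apply sl2_ext
  · simp [Matrix.mul_apply, Fin.sum_univ_two]
    field_simp
    ring
  · simp [Matrix.mul_apply, Fin.sum_univ_two]
    field_simp
    linear_combination (-1 : F) * hd
  · simp [Matrix.mul_apply, Fin.sum_univ_two]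
  · simp [Matrix.mul_apply, Fin.sum_univ_two]
    field_simp
    ring

/-- induction principle: a multiplicatively closed predicate holding on elementary matrices holds
everywhere -/
theorem gen_induction (P : SpecialLinearGroup (Fin 2) F → Prop)
    (hu : ∀ x, P (su x)) (hl : ∀ y, P (sl y)) (hmul : ∀ g h, P g → P h → P (g * h))
    (g : SpecialLinearGroup (Fin 2) F) : P g := by
  by_cases hc : g.1 1 0 = 0
  · -- multiply by `sl 1`
    have hd := det_entries g
    have ha : g.1 0 0 ≠ 0 := by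
      intro h0
      rw [h0, hc] at hd
      simp at hd
    have hc' : (sl (1 : F) * g).1 1 0 ≠ 0 := by
      simp [Matrix.mul_apply, Fin.sum_univ_two, hc, ha]
    have h1 := decomp_of_ne (sl (1 : F) * g) hc'
    have h2 : g = sl (-1 : F) * (sl (1 : F) * g) := by
      rw [← mul_assoc, sl_mul, neg_add_cancel, sl_zero, one_mul]
    rw [h2, h1]
    exact hmul _ _ (hl _) (hmul _ _ (hmul _ _ (hu _) (hl _)) (hu _))
  · rw [decomp_of_ne g hc]
    exact hmul _ _ (hmul _ _ (hu _) (hl _)) (hu _)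

/-- Bruhat: big cell `U B⁻` -/
lemma bruhat_big (g : SpecialLinearGroup (Fin 2) F) (hd : g.1 1 1 ≠ 0) :
    g = su (g.1 0 1 / g.1 1 1) * sl (g.1 1 0 * g.1 1 1) *
      hh (g.1 1 1)⁻¹ (inv_ne_zero hd) := by
  have hdet := det_entries g
  apply sl2_ext
  · simp [Matrix.mul_apply, Fin.sum_univ_two]
    field_simp
    linear_combination hdet
  · simp [Matrix.mul_apply, Fin.sum_univ_two]
    field_simp
  · simp [Matrix.mul_apply, Fin.sum_univ_two]
    field_simp
  · simp [Matrix.mul_apply, Fin.sum_univ_two]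

/-- Bruhat: small cell `B n₀` -/
lemma bruhat_small (g : SpecialLinearGroup (Fin 2) F) (hd : g.1 1 1 = 0) :
    ∃ (hb : g.1 0 1 ≠ 0), g = su (-(g.1 0 0 * g.1 0 1)) * hh (g.1 0 1) hb *
      nn 1 one_ne_zero := by
  have hdet := det_entries g
  rw [hd, mul_zero, zero_sub] at hdet
  have hb : g.1 0 1 ≠ 0 := by
    intro h0
    rw [h0, zero_mul, neg_zero] at hdet
    exact zero_ne_one hdet
  refine ⟨hb, ?_⟩
  apply sl2_ext
  · simp [Matrix.mul_apply, Fin.sum_univ_two]
    field_simp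
  · simp [Matrix.mul_apply, Fin.sum_univ_two]
  · have h10 : g.1 1 0 = -(g.1 0 1)⁻¹ := by
      rw [eq_neg_iff_add_eq_zero]
      field_simp
      linear_combination (-1 : F) * hdet
    simp [Matrix.mul_apply, Fin.sum_univ_two, h10]
  · simp [Matrix.mul_apply, Fin.sum_univ_two, hd]

end Cfsg.Agent.Lib.Helper21.SLQ
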