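import Cfsg.Agent.Lib.Helper21.SLQ1

/-!
# `SL₂(F)` acting on an additive group: fixed points of the root groups, quadratic action
(helper21; for S3009)
-/

set_option autoImplicit false

namespace Cfsg.Agent.Lib.Helper21.SLQ

open Matrix

variable {F : Type*} [Field F] {M : Type*} [AddCommGroup M]
  (φ : SpecialLinearGroup (Fin 2) F →* AddMonoid.End M)

lemma phi_mul (g h : SpecialLinearGroup (Fin 2) F) (m : M) : φ (g * h) m = φ g (φ h m) := by
  rw [map_mul]; rfl

lemma phi_one (m : M) : φ 1 m = m := by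
  rw [map_one]; rfl

lemma phi_inv_apply (g : SpecialLinearGroup (Fin 2) F) (m : M) : φ g⁻¹ (φ g m) = m := by
  rw [← phi_mul, inv_mul_cancel, phi_one]

lemma phi_apply_inv (g : SpecialLinearGroup (Fin 2) F) (m : M) : φ g (φ g⁻¹ m) = m := by
  rw [← phi_mul, mul_inv_cancel, phi_one]

/-- fixed points of the upper root group -/
def Wu : AddSubgroup M where
  carrier := {m | ∀ x, φ (su x) m = m}
  zero_mem' := fun x => map_zero _
  add_mem' := fun ha hb x => by rw [map_add, ha x, hb x]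
  neg_mem' := fun ha x => by rw [map_neg, ha x]

/-- fixed points of the lower root group -/
def Wl : AddSubgroup M where
  carrier := {m | ∀ y, φ (sl y) m = m}
  zero_mem' := fun x => map_zero _
  add_mem' := fun ha hb x => by rw [map_add, ha x, hb x]
  neg_mem' := fun ha x => by rw [map_neg, ha x]

lemma mem_Wu {m : M} : m ∈ Wu φ ↔ ∀ x, φ (su x) m = m := Iff.rfl
lemma mem_Wl {m : M} : m ∈ Wl φ ↔ ∀ y, φ (sl y) m = m := Iff.rfl

/-- the upper root group acts quadratically -/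
def Quad : Prop := ∀ x m, φ (su x) m - m ∈ Wu φ

/-- irreducibility -/
def Irr : Prop := ∀ H : AddSubgroup M, (∀ g m, m ∈ H → φ g m ∈ H) → H = ⊥ ∨ H = ⊤

/-- nontrivial action -/
def NonTriv : Prop := ∃ g m, φ g m ≠ m

/-- `α_x = u(x) - 1` -/
def al (x : F) (m : M) : M := φ (su x) m - m

/-- `β_y = l(y) - 1` -/
def be (y : F) (m : M) : M := φ (sl y) m - m

lemma su_apply (x : F) (m : M) : φ (su x) m = m + al φ x m := by
  unfold al; abel

lemma sl_apply (y : F) (m : M) : φ (sl y) m = m + be φ y m := by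
  unfold be; abel

lemma al_add_right (x : F) (m m' : M) : al φ x (m + m') = al φ x m + al φ x m' := by
  unfold al; rw [map_add]; abel

lemma be_add_right (y : F) (m m' : M) : be φ y (m + m') = be φ y m + be φ y m' := by
  unfold be; rw [map_add]; abel

lemma al_neg_right (x : F) (m : M) : al φ x (-m) = -al φ x m := by
  unfold al; rw [map_neg]; abel

lemma be_neg_right (y : F) (m : M) : be φ y (-m) = -be φ y m := by
  unfold be; rw [map_neg]; abel

lemma al_zero_right (x : F) : al φ x (0 : M) = 0 := by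
  unfold al; rw [map_zero]; abel

lemma be_zero_right (y : F) : be φ y (0 : M) = 0 := by
  unfold be; rw [map_zero]; abel

lemma al_of_mem {x : F} {m : M} (hm : m ∈ Wu φ) : al φ x m = 0 := by
  unfold al; rw [hm x]; abel

lemma be_of_mem {y : F} {m : M} (hm : m ∈ Wl φ) : be φ y m = 0 := by
  unfold be; rw [hm y]; abel

lemma al_zero_left (m : M) : al φ 0 m = 0 := by
  unfold al; rw [su_zero, phi_one]; abel

/-- `n(x)` maps `C(U)` into `C(U⁻)` -/
lemma nn_Wu {x : F} (hx : x ≠ 0) {a : M} (ha : a ∈ Wu φ) : φ (nn x hx) a ∈ Wl φ := by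
  intro y
  have h1 : sl y * nn x hx = nn x hx * su (-(y * x ^ 2)) := by
    rw [nn_su]
    congr 2
    field_simp
  rw [← phi_mul, h1, phi_mul, ha]

/-- `n(x)` maps `C(U⁻)` into `C(U)` -/
lemma nn_Wl {x : F} (hx : x ≠ 0) {a : M} (ha : a ∈ Wl φ) : φ (nn x hx) a ∈ Wu φ := by
  intro y
  have h1 : su y * nn x hx = nn x hx * sl (-(y / x ^ 2)) := by
    rw [nn_sl]
    congr 2
    field_simp
  rw [← phi_mul, h1, phi_mul, ha]

variable {φ}

/-- the lower root group is quadratic too -/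
lemma Quad.lower (hq : Quad φ) (y : F) (m : M) : φ (sl y) m - m ∈ Wl φ := by
  have h2 : φ (sl y) m = φ (nn (-1 : F) (neg_ne_zero.mpr one_ne_zero)) (φ (su (-y))
      (φ (nn (-1 : F) (neg_ne_zero.mpr one_ne_zero))⁻¹ m)) := by
    conv_lhs => rw [sl_eq_conj y]
    rw [phi_mul, phi_mul]
  have h1 : φ (sl y) m - m = φ (nn (-1 : F) (neg_ne_zero.mpr one_ne_zero))
      (φ (su (-y)) (φ (nn (-1 : F) (neg_ne_zero.mpr one_ne_zero))⁻¹ m) -
        φ (nn (-1 : F) (neg_ne_zero.mpr one_ne_zero))⁻¹ m) := by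
    rw [map_sub, phi_apply_inv, h2]
  rw [h1]
  exact nn_Wu φ _ (hq _ _)

lemma Quad.al_mem (hq : Quad φ) (x : F) (m : M) : al φ x m ∈ Wu φ := hq x m

lemma Quad.be_mem (hq : Quad φ) (y : F) (m : M) : be φ y m ∈ Wl φ := hq.lower y m

lemma Quad.al_add_left (hq : Quad φ) (x y : F) (m : M) :
    al φ (x + y) m = al φ x m + al φ y m := by
  have h1 : φ (su (x + y)) m = φ (su x) (φ (su y) m) := by rw [← su_mul, phi_mul]
  have h2 : φ (su y) m = m + al φ y m := su_apply φ y m
  have h3 : φ (su x) (al φ y m) = al φ y m := hq.al_mem y m x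
  unfold al at *
  rw [h1, h2, map_add, h3]
  abel

lemma Quad.al_neg_left (hq : Quad φ) (x : F) (m : M) : al φ (-x) m = -al φ x m := by
  have := hq.al_add_left x (-x) m
  rw [add_neg_cancel, al_zero_left] at this
  exact (neg_eq_of_add_eq_zero_right this.symm).symm

/-- vectors fixed by both root groups are fixed by everything -/
lemma fixed_of_mem_inf {m : M} (h1 : m ∈ Wu φ) (h2 : m ∈ Wl φ) (g : SpecialLinearGroup (Fin 2) F) :
    φ g m = m := by
  refine gen_induction (fun g => φ g m = m) h1 h2 ?_ g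
  intro g h hg hh
  rw [phi_mul, hh, hg]

/-- the fixed points of the whole group -/
def fixAll (φ : SpecialLinearGroup (Fin 2) F →* AddMonoid.End M) : AddSubgroup M where
  carrier := {m | ∀ g, φ g m = m}
  zero_mem' := fun x => map_zero _
  add_mem' := fun ha hb x => by rw [map_add, ha x, hb x]
  neg_mem' := fun ha x => by rw [map_neg, ha x]

lemma inf_eq_bot (hi : Irr φ) (hn : NonTriv φ) : Wu φ ⊓ Wl φ = ⊥ := by
  have hle : Wu φ ⊓ Wl φ ≤ fixAll φ := fun m hm g => fixed_of_mem_inf hm.1 hm.2 g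
  have hinv : ∀ g m, m ∈ fixAll φ → φ g m ∈ fixAll φ := by
    intro g m hm h
    rw [hm g, hm h]
  rcases hi (fixAll φ) hinv with h | h
  · rw [h] at hle
    exact le_bot_iff.mp hle
  · exfalso
    obtain ⟨g, m, hgm⟩ := hn
    have : m ∈ fixAll φ := by rw [h]; trivial
    exact hgm (this g)

lemma eq_zero_of_mem_of_mem (hi : Irr φ) (hn : NonTriv φ) {m : M} (h1 : m ∈ Wu φ)
    (h2 : m ∈ Wl φ) : m = 0 := by
  have : m ∈ Wu φ ⊓ Wl φ := ⟨h1, h2⟩
  rw [inf_eq_bot hi hn] at this
  exact (AddSubgroup.mem_bot).mp this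

/-- `n(x)` on `C(U)` is `β_{-1/x}` -/
lemma nn_apply_Wu (hq : Quad φ) (hi : Irr φ) (hn : NonTriv φ) {x : F} (hx : x ≠ 0) {a : M}
    (ha : a ∈ Wu φ) : φ (nn x hx) a = be φ (-x⁻¹) a := by
  set y := -x⁻¹ with hy
  have h1 : φ (nn x hx) a = a + be φ y a + al φ x (be φ y a) := by
    rw [nn_eq, phi_mul, phi_mul, ha x, sl_apply, map_add, ha x, su_apply φ x (be φ y a)]
    abel
  have hr1 : a + al φ x (be φ y a) ∈ Wu φ := (Wu φ).add_mem ha (hq.al_mem _ _)
  have hr2 : a + al φ x (be φ y a) ∈ Wl φ := by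
    have h3 : a + al φ x (be φ y a) = φ (nn x hx) a - be φ y a := by rw [h1]; abel
    rw [h3]
    exact (Wl φ).sub_mem (nn_Wu φ hx ha) (hq.be_mem _ _)
  have h0 := eq_zero_of_mem_of_mem hi hn hr1 hr2
  rw [h1]
  have : a + be φ y a + al φ x (be φ y a) = (a + al φ x (be φ y a)) + be φ y a := by abel
  rw [this, h0, zero_add]

/-- `n(x)` on `C(U⁻)` is `α_x` -/
lemma nn_apply_Wl (hq : Quad φ) (hi : Irr φ) (hn : NonTriv φ) {x : F} (hx : x ≠ 0) {a : M}
    (ha : a ∈ Wl φ) : φ (nn x hx) a = al φ x a := by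
  set y := -x⁻¹ with hy
  set c := al φ x a with hc
  set d := be φ y c with hd
  have hcW : c ∈ Wu φ := hq.al_mem _ _
  have hdW : d ∈ Wl φ := hq.be_mem _ _
  have h1 : φ (nn x hx) a = (a + d) + (c + c + al φ x d) := by
    rw [nn_eq, phi_mul, phi_mul, su_apply φ x a, ← hc, map_add, ha y, sl_apply φ y c, ← hd,
      map_add, map_add, su_apply φ x a, ← hc, hcW x, su_apply φ x d]
    abel
  have hr1 : a + d ∈ Wl φ := (Wl φ).add_mem ha hdW
  have hr2 : a + d ∈ Wu φ := by
    have h3 : a + d = φ (nn x hx) a - (c + c + al φ x d) := by rw [h1]; abel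
    rw [h3]
    exact (Wu φ).sub_mem (nn_Wl φ hx ha)
      ((Wu φ).add_mem ((Wu φ).add_mem hcW hcW) (hq.al_mem _ _))
  have h0 := eq_zero_of_mem_of_mem hi hn hr2 hr1
  have hd' : d = -a := by
    rw [add_comm] at h0
    exact eq_neg_of_add_eq_zero_left h0
  rw [h1, h0, hd', al_neg_right, ← hc]
  abel

end Cfsg.Agent.Lib.Helper21.SLQ
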