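import Cfsg.Agent.Lib.Helper21.SLQ2

/-!
# An irreducible quadratic `SL₂(F)`-module is the natural module
(helper21; for S3009)
-/

set_option autoImplicit false

namespace Cfsg.Agent.Lib.Helper21.SLQ

open Matrix

variable {F : Type*} [Field F] {M : Type*} [AddCommGroup M]
  {φ : SpecialLinearGroup (Fin 2) F →* AddMonoid.End M}

/-- the Weyl element `[[0,-1],[1,0]]` -/
abbrev n0 : SpecialLinearGroup (Fin 2) F := nn (-1) (neg_ne_zero.mpr one_ne_zero)

lemma hh_one : hh (1 : F) one_ne_zero = 1 := by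
  apply sl2_ext <;> simp

/-- `μ_t = α_t ∘ β_1`, the torus action on `C(U)` extended by zero -/
def mu (φ : SpecialLinearGroup (Fin 2) F →* AddMonoid.End M) (t : F) (a : M) : M :=
  al φ t (be φ 1 a)

lemma mu_mem (hq : Quad φ) (t : F) (a : M) : mu φ t a ∈ Wu φ := hq.al_mem _ _

lemma mu_add_left (hq : Quad φ) (t u : F) (a : M) : mu φ (t + u) a = mu φ t a + mu φ u a :=
  hq.al_add_left _ _ _

lemma mu_zero_left (a : M) : mu φ 0 a = 0 := al_zero_left φ _

lemma mu_neg_left (hq : Quad φ) (t : F) (a : M) : mu φ (-t) a = -mu φ t a :=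
  hq.al_neg_left _ _

lemma mu_zero_right (t : F) : mu φ t (0 : M) = 0 := by
  unfold mu; rw [be_zero_right, al_zero_right]

lemma n0_apply_Wu (hq : Quad φ) (hi : Irr φ) (hn : NonTriv φ) {a : M} (ha : a ∈ Wu φ) :
    φ n0 a = be φ 1 a := by
  have h : -(-1 : F)⁻¹ = 1 := by rw [inv_neg, inv_one, neg_neg]
  rw [nn_apply_Wu hq hi hn _ ha, h]

lemma hh_apply_Wu (hq : Quad φ) (hi : Irr φ) (hn : NonTriv φ) {t : F} (ht : t ≠ 0) {a : M}
    (ha : a ∈ Wu φ) : φ (hh t ht) a = mu φ t a := by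
  rw [hh_eq, phi_mul]
  have h1 : φ (nn (-1 : F) (neg_ne_zero.mpr one_ne_zero)) a = be φ 1 a :=
    n0_apply_Wu hq hi hn ha
  rw [h1, nn_apply_Wl hq hi hn ht (hq.be_mem 1 a)]
  rfl

lemma mu_one (hq : Quad φ) (hi : Irr φ) (hn : NonTriv φ) {a : M} (ha : a ∈ Wu φ) :
    mu φ 1 a = a := by
  rw [← hh_apply_Wu hq hi hn one_ne_zero ha, hh_one, phi_one]

lemma mu_mul (hq : Quad φ) (hi : Irr φ) (hn : NonTriv φ) (t u : F) {a : M} (ha : a ∈ Wu φ) :
    mu φ (t * u) a = mu φ t (mu φ u a) := by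
  by_cases ht : t = 0
  · rw [ht, zero_mul, mu_zero_left, mu_zero_left]
  by_cases hu : u = 0
  · rw [hu, mul_zero, mu_zero_left, mu_zero_right]
  rw [← hh_apply_Wu hq hi hn (mul_ne_zero ht hu) ha, ← hh_mul t u ht hu, phi_mul,
    hh_apply_Wu hq hi hn hu ha, hh_apply_Wu hq hi hn ht (mu_mem hq _ _)]

lemma n0_n0_apply_Wu (hq : Quad φ) (hi : Irr φ) (hn : NonTriv φ) {a : M} (ha : a ∈ Wu φ) :
    φ n0 (φ n0 a) = -a := by
  rw [← phi_mul]
  have h := hh_eq (-1 : F) (neg_ne_zero.mpr one_ne_zero)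
  rw [← h, hh_apply_Wu hq hi hn _ ha, mu_neg_left hq, mu_one hq hi hn ha]

lemma eq_zero_of_mu_eq_zero (hq : Quad φ) (hi : Irr φ) (hn : NonTriv φ) {t : F} {e : M}
    (he : e ∈ Wu φ) (he0 : e ≠ 0) (h : mu φ t e = 0) : t = 0 := by
  by_contra ht
  apply he0
  rw [← mu_one hq hi hn he, ← inv_mul_cancel₀ ht, mu_mul hq hi hn _ _ he, h, mu_zero_right]

/-- the comparison map from the natural module -/
def iota (φ : SpecialLinearGroup (Fin 2) F →* AddMonoid.End M) (e : M) (v : Fin 2 → F) : M :=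
  mu φ (v 0) e + φ n0 (mu φ (v 1) e)

lemma iota_add (hq : Quad φ) (e : M) (v w : Fin 2 → F) :
    iota φ e (v + w) = iota φ e v + iota φ e w := by
  unfold iota
  rw [Pi.add_apply, Pi.add_apply, mu_add_left hq, mu_add_left hq, map_add]
  abel

lemma su_mulVec (x : F) (v : Fin 2 → F) :
    (su x).1.mulVec v = ![v 0 + x * v 1, v 1] := by
  ext i; fin_cases i <;> simp [Matrix.mulVec, dotProduct, Fin.sum_univ_two]

lemma n0_mulVec (v : Fin 2 → F) :
    (n0 : SpecialLinearGroup (Fin 2) F).1.mulVec v = ![-v 1, v 0] := by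
  ext i; fin_cases i <;> simp [n0, Matrix.mulVec, dotProduct, Fin.sum_univ_two, inv_neg]

lemma iota_su (hq : Quad φ) (hi : Irr φ) (hn : NonTriv φ) {e : M} (he : e ∈ Wu φ) (x : F)
    (v : Fin 2 → F) : iota φ e ((su x).1.mulVec v) = φ (su x) (iota φ e v) := by
  rw [su_mulVec]
  unfold iota
  have h0 : (![v 0 + x * v 1, v 1] : Fin 2 → F) 0 = v 0 + x * v 1 := rfl
  have h1 : (![v 0 + x * v 1, v 1] : Fin 2 → F) 1 = v 1 := rfl
  rw [h0, h1, mu_add_left hq, map_add, mu_mem hq (v 0) e x, su_apply φ x (φ n0 _),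
    n0_apply_Wu hq hi hn (mu_mem hq (v 1) e), mu_mul hq hi hn x (v 1) he]
  unfold mu
  abel

lemma iota_n0 (hq : Quad φ) (hi : Irr φ) (hn : NonTriv φ) {e : M} (v : Fin 2 → F) :
    iota φ e ((n0 : SpecialLinearGroup (Fin 2) F).1.mulVec v) = φ n0 (iota φ e v) := by
  rw [n0_mulVec]
  unfold iota
  have h0 : (![-v 1, v 0] : Fin 2 → F) 0 = -v 1 := rfl
  have h1 : (![-v 1, v 0] : Fin 2 → F) 1 = v 0 := rfl
  rw [h0, h1, mu_neg_left hq, map_add, n0_n0_apply_Wu hq hi hn (mu_mem hq (v 1) e)]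
  abel

/-- equivariance of `iota` -/
lemma iota_equivariant (hq : Quad φ) (hi : Irr φ) (hn : NonTriv φ) {e : M} (he : e ∈ Wu φ)
    (g : SpecialLinearGroup (Fin 2) F) (v : Fin 2 → F) :
    iota φ e (g.1.mulVec v) = φ g (iota φ e v) := by
  have hmul : ∀ g h : SpecialLinearGroup (Fin 2) F,
      (∀ v, iota φ e (g.1.mulVec v) = φ g (iota φ e v)) →
      (∀ v, iota φ e (h.1.mulVec v) = φ h (iota φ e v)) →
      ∀ v, iota φ e ((g * h).1.mulVec v) = φ (g * h) (iota φ e v) := by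
    intro g h hg hh v
    have h1 : (g * h).1 = g.1 * h.1 := rfl
    rw [h1, ← Matrix.mulVec_mulVec, hg, hh, phi_mul]
  have hinv : ∀ g : SpecialLinearGroup (Fin 2) F,
      (∀ v, iota φ e (g.1.mulVec v) = φ g (iota φ e v)) →
      ∀ v, iota φ e (g⁻¹.1.mulVec v) = φ g⁻¹ (iota φ e v) := by
    intro g hg v
    have h1 : φ g (iota φ e (g⁻¹.1.mulVec v)) = iota φ e v := by
      rw [← hg, Matrix.mulVec_mulVec]
      have h2 : g.1 * g⁻¹.1 = 1 := by
        have h3 : (g * g⁻¹).1 = g.1 * g⁻¹.1 := rfl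
        rw [← h3, mul_inv_cancel]
        rfl
      rw [h2, Matrix.one_mulVec]
    rw [← h1, phi_inv_apply]
  refine gen_induction (fun g => ∀ v, iota φ e (g.1.mulVec v) = φ g (iota φ e v))
    (fun x v => iota_su hq hi hn he x v) ?_ hmul g v
  intro y
  rw [sl_eq_conj y]
  exact hmul _ _ (hmul _ _ (fun v => iota_n0 hq hi hn v) (fun v => iota_su hq hi hn he _ v))
    (hinv _ (fun v => iota_n0 hq hi hn v))

lemma iota_injective (hq : Quad φ) (hi : Irr φ) (hn : NonTriv φ) {e : M} (he : e ∈ Wu φ)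
    (he0 : e ≠ 0) (v : Fin 2 → F) (h : iota φ e v = 0) : v = 0 := by
  unfold iota at h
  have h1 : mu φ (v 0) e ∈ Wu φ := mu_mem hq _ _
  have h2 : φ n0 (mu φ (v 1) e) ∈ Wl φ := nn_Wu φ _ (mu_mem hq _ _)
  have h3 : mu φ (v 0) e = -φ n0 (mu φ (v 1) e) := eq_neg_of_add_eq_zero_left h
  have h4 : mu φ (v 0) e = 0 :=
    eq_zero_of_mem_of_mem hi hn h1 (by rw [h3]; exact (Wl φ).neg_mem h2)
  rw [h4, zero_add] at h
  have h5 : mu φ (v 1) e = 0 := by
    rw [← phi_inv_apply φ n0 (mu φ (v 1) e), h, map_zero]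
  have hv0 := eq_zero_of_mu_eq_zero hq hi hn he he0 h4
  have hv1 := eq_zero_of_mu_eq_zero hq hi hn he he0 h5
  ext i
  fin_cases i
  · exact hv0
  · exact hv1

lemma exists_ne_zero_mem_Wu (hq : Quad φ) (hn : NonTriv φ) : ∃ e, e ∈ Wu φ ∧ e ≠ 0 := by
  by_contra hcon
  push Not at hcon
  have hall : ∀ m : M, m = 0 := by
    intro m
    apply hcon m
    intro x
    have h1 : φ (su x) m - m = 0 := hcon _ (hq x m)
    exact sub_eq_zero.mp h1
  obtain ⟨g, m, hgm⟩ := hn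
  exact hgm (by rw [hall m, map_zero])

/-- **An irreducible, nontrivial, quadratic `SL₂(F)`-module is the natural module.** -/
theorem exists_equiv_of_quad (hq : Quad φ) (hi : Irr φ) (hn : NonTriv φ) :
    ∃ ψ : M ≃+ (Fin 2 → F), ∀ g m, ψ (φ g m) = g.1.mulVec (ψ m) := by
  obtain ⟨e, he, he0⟩ := exists_ne_zero_mem_Wu hq hn
  let f : (Fin 2 → F) →+ M := AddMonoidHom.mk' (iota φ e) (iota_add hq e)
  have hf : ∀ v, f v = iota φ e v := fun v => rfl
  have hinj : Function.Injective f := by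
    rw [injective_iff_map_eq_zero]
    intro v hv
    exact iota_injective hq hi hn he he0 v hv
  have hsurj : Function.Surjective f := by
    rw [← AddMonoidHom.range_eq_top]
    rcases hi f.range (by
      rintro g m ⟨v, rfl⟩
      exact ⟨g.1.mulVec v, by rw [hf, hf, iota_equivariant hq hi hn he]⟩) with h | h
    · exfalso
      apply he0
      have h1 : f ![1, 0] = e := by
        rw [hf]
        unfold iota
        have h0 : (![1, 0] : Fin 2 → F) 0 = 1 := rfl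
        have h1 : (![1, 0] : Fin 2 → F) 1 = 0 := rfl
        rw [h0, h1, mu_one hq hi hn he, mu_zero_left, map_zero, add_zero]
      have h2 : e ∈ f.range := ⟨_, h1⟩
      rw [h] at h2
      exact (AddSubgroup.mem_bot).mp h2
    · exact h
  let E : (Fin 2 → F) ≃+ M := AddEquiv.ofBijective f ⟨hinj, hsurj⟩
  refine ⟨E.symm, ?_⟩
  intro g m
  obtain ⟨v, rfl⟩ := E.surjective m
  have h1 : E v = iota φ e v := rfl
  have h2 : φ g (E v) = E (g.1.mulVec v) := by
    rw [h1, ← iota_equivariant hq hi hn he]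
    rfl
  rw [h2, AddEquiv.symm_apply_apply, AddEquiv.symm_apply_apply]

end Cfsg.Agent.Lib.Helper21.SLQ
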