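import Cfsg.Agent.Lib.Helper21.SLQ3

/-!
# A small irreducible `SL₂(F)`-module (`|M| ≤ |C_M(U)|²`) is quadratic, hence natural
(helper21; for S3009)
-/

set_option autoImplicit false

namespace Cfsg.Agent.Lib.Helper21.SLQ

open Matrix

variable {F : Type*} [Field F] {M : Type*} [AddCommGroup M]
  {φ : SpecialLinearGroup (Fin 2) F →* AddMonoid.End M}

/-- `n₀` gives a bijection between `C(U)` and `C(U⁻)` -/
lemma card_Wl_eq : Nat.card (Wl φ) = Nat.card (Wu φ) := by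
  apply Nat.card_congr
  exact
    { toFun := fun b => ⟨φ (n0 : SpecialLinearGroup (Fin 2) F)⁻¹ b.1, by
        rw [nn_inv]; exact nn_Wl φ _ b.2⟩
      invFun := fun a => ⟨φ n0 a.1, nn_Wu φ _ a.2⟩
      left_inv := fun b => Subtype.ext (phi_apply_inv φ n0 b.1)
      right_inv := fun a => Subtype.ext (phi_inv_apply φ n0 a.1) }

lemma exists_decomp [Finite M] (hi : Irr φ) (hn : NonTriv φ)
    (hc : Nat.card M ≤ Nat.card (Wu φ) ^ 2) (m : M) :
    ∃ a ∈ Wu φ, ∃ b ∈ Wl φ, a + b = m := by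
  let f : (Wu φ) × (Wl φ) → M := fun ab => ab.1.1 + ab.2.1
  have hinj : Function.Injective f := by
    rintro ⟨a, b⟩ ⟨a', b'⟩ h
    have h0 : a.1 + b.1 = a'.1 + b'.1 := h
    have h1 : a.1 - a'.1 = b'.1 - b.1 := by
      rw [sub_eq_sub_iff_add_eq_add, h0, add_comm]
    have h2 : a.1 - a'.1 = 0 :=
      eq_zero_of_mem_of_mem hi hn ((Wu φ).sub_mem a.2 a'.2)
        (by rw [h1]; exact (Wl φ).sub_mem b'.2 b.2)
    have h3 : b'.1 - b.1 = 0 := by rw [← h1]; exact h2
    exact Prod.ext (Subtype.ext (sub_eq_zero.mp h2)) (Subtype.ext (sub_eq_zero.mp h3).symm)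
  have hcard : Nat.card M ≤ Nat.card ((Wu φ) × (Wl φ)) := by
    rw [Nat.card_prod, card_Wl_eq, ← sq]; exact hc
  obtain ⟨⟨a, b⟩, rfl⟩ := (hinj.bijective_of_nat_card_le hcard).2 m
  exact ⟨a.1, a.2, b.1, b.2, rfl⟩

/-- the action of `u(x)` on `M ⧸ C(U)` -/
def quotMap (φ : SpecialLinearGroup (Fin 2) F →* AddMonoid.End M) (x : F) :
    M ⧸ Wu φ →+ M ⧸ Wu φ :=
  QuotientAddGroup.map (Wu φ) (Wu φ) (φ (su x)) (fun a ha => by
    show φ (su x) a ∈ Wu φ
    rw [ha x]; exact ha)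

lemma quotMap_mk (x : F) (m : M) :
    quotMap φ x (m : M ⧸ Wu φ) = ((φ (su x) m : M) : M ⧸ Wu φ) := rfl

/-- the root group acting on `M ⧸ C(U)` -/
@[reducible] def quotAction (φ : SpecialLinearGroup (Fin 2) F →* AddMonoid.End M) :
    MulAction (Multiplicative F) (M ⧸ Wu φ) where
  smul x q := quotMap φ (Multiplicative.toAdd x) q
  one_smul q := by
    obtain ⟨m, rfl⟩ := QuotientAddGroup.mk_surjective q
    show quotMap φ (Multiplicative.toAdd (1 : Multiplicative F)) (m : M ⧸ Wu φ) = m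
    rw [toAdd_one, quotMap_mk, su_zero, phi_one]
  mul_smul x y q := by
    obtain ⟨m, rfl⟩ := QuotientAddGroup.mk_surjective q
    show quotMap φ (Multiplicative.toAdd (x * y)) (m : M ⧸ Wu φ) =
      quotMap φ (Multiplicative.toAdd x) (quotMap φ (Multiplicative.toAdd y) (m : M ⧸ Wu φ))
    rw [toAdd_mul, quotMap_mk, quotMap_mk, quotMap_mk, ← su_mul, phi_mul]

lemma exists_quad_vector {p n k : ℕ} [Fact p.Prime] [Finite M] [Finite F]
    (hF : Nat.card F = p ^ n) (hM : Nat.card M = p ^ k) (hne : ∃ m, m ∉ Wu φ) :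
    ∃ m, m ∉ Wu φ ∧ ∀ x, φ (su x) m - m ∈ Wu φ := by
  let _ := quotAction φ
  have hP : IsPGroup p (Multiplicative F) :=
    IsPGroup.of_card (n := n) (by rw [Nat.card_congr Multiplicative.toAdd]; exact hF)
  have hdvd : p ∣ Nat.card (M ⧸ Wu φ) := by
    have h1 := AddSubgroup.card_eq_card_quotient_mul_card_addSubgroup (Wu φ)
    have h2 : Nat.card (M ⧸ Wu φ) ∣ p ^ k := by rw [← hM, h1]; exact dvd_mul_right _ _
    obtain ⟨j, -, hj⟩ := (Nat.dvd_prime_pow (Fact.out)).mp h2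
    have hj0 : j ≠ 0 := by
      rintro rfl
      rw [pow_zero] at hj
      obtain ⟨m, hm⟩ := hne
      apply hm
      have : Subsingleton (M ⧸ Wu φ) := (Nat.card_eq_one_iff_unique.mp hj).1
      rw [← QuotientAddGroup.eq_zero_iff]
      exact Subsingleton.elim _ _
    rw [hj]; exact dvd_pow_self p hj0
  have h0 : (0 : M ⧸ Wu φ) ∈ MulAction.fixedPoints (Multiplicative F) (M ⧸ Wu φ) := by
    intro x
    show quotMap φ (Multiplicative.toAdd x) 0 = 0
    exact map_zero _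
  obtain ⟨q, hq, hq0⟩ :=
    hP.exists_fixed_point_of_prime_dvd_card_of_fixed_point (M ⧸ Wu φ) hdvd h0
  obtain ⟨m, rfl⟩ := QuotientAddGroup.mk_surjective q
  refine ⟨m, ?_, ?_⟩
  · intro hm
    apply hq0
    exact ((QuotientAddGroup.eq_zero_iff m).mpr hm).symm
  · intro x
    have h1 : quotMap φ x (m : M ⧸ Wu φ) = m := hq (Multiplicative.ofAdd x)
    rw [quotMap_mk, QuotientAddGroup.eq] at h1
    have h2 : φ (su x) m - m = -(-(φ (su x) m) + m) := by abel
    rw [h2]; exact (Wu φ).neg_mem h1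

/-- the vectors of `C(U⁻)` on which `U` acts quadratically -/
def W2 (φ : SpecialLinearGroup (Fin 2) F →* AddMonoid.End M) : AddSubgroup M where
  carrier := {c | c ∈ Wl φ ∧ ∀ x, al φ x c ∈ Wu φ}
  zero_mem' := ⟨(Wl φ).zero_mem, fun x => by rw [al_zero_right]; exact (Wu φ).zero_mem⟩
  add_mem' := fun h1 h2 => ⟨(Wl φ).add_mem h1.1 h2.1, fun x => by
    rw [al_add_right]; exact (Wu φ).add_mem (h1.2 x) (h2.2 x)⟩
  neg_mem' := fun h1 => ⟨(Wl φ).neg_mem h1.1, fun x => by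
    rw [al_neg_right]; exact (Wu φ).neg_mem (h1.2 x)⟩

lemma su_hh (t : F) (ht : t ≠ 0) (x : F) : su x * hh t ht = hh t ht * su (x / t ^ 2) := by
  rw [hh_su]; congr 2; field_simp

lemma sl_hh (t : F) (ht : t ≠ 0) (y : F) : sl y * hh t ht = hh t ht * sl (y * t ^ 2) := by
  rw [hh_sl]; congr 2; field_simp

lemma hh_Wu {t : F} (ht : t ≠ 0) {a : M} (ha : a ∈ Wu φ) : φ (hh t ht) a ∈ Wu φ := by
  intro x
  rw [← phi_mul, su_hh, phi_mul, ha]

lemma hh_Wl {t : F} (ht : t ≠ 0) {a : M} (ha : a ∈ Wl φ) : φ (hh t ht) a ∈ Wl φ := by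
  intro y
  rw [← phi_mul, sl_hh, phi_mul, ha]

lemma hh_W2 {t : F} (ht : t ≠ 0) {c : M} (hc : c ∈ W2 φ) : φ (hh t ht) c ∈ W2 φ := by
  refine ⟨hh_Wl ht hc.1, fun x => ?_⟩
  have h2 : al φ x (φ (hh t ht) c) = φ (hh t ht) (al φ (x / t ^ 2) c) := by
    unfold al; rw [map_sub, ← phi_mul, ← phi_mul, su_hh]
  rw [h2]; exact hh_Wu ht (hc.2 _)

lemma orbit_mem {v : M} (hv : v ∈ W2 φ) (g : SpecialLinearGroup (Fin 2) F) :
    φ g v ∈ Wu φ ⊔ W2 φ := by
  by_cases hd : g.1 1 1 = 0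
  · obtain ⟨hb, hg⟩ := bruhat_small g hd
    have h3 : φ g v = φ (su (-(g.1 0 0 * g.1 0 1)) * hh (g.1 0 1) hb * nn 1 one_ne_zero) v :=
      congrArg (fun z => φ z v) hg
    rw [h3, phi_mul, phi_mul]
    apply AddSubgroup.mem_sup_left
    have h1 : φ (nn 1 one_ne_zero) v ∈ Wu φ := nn_Wl φ _ hv.1
    have h2 := hh_Wu hb h1
    rw [h2 _]; exact h2
  · have hg := bruhat_big g hd
    have h3 : φ g v = φ (su (g.1 0 1 / g.1 1 1) * sl (g.1 1 0 * g.1 1 1) *
        hh (g.1 1 1)⁻¹ (inv_ne_zero hd)) v := congrArg (fun z => φ z v) hg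
    rw [h3, phi_mul, phi_mul]
    have h1 := hh_W2 (inv_ne_zero hd) hv
    rw [h1.1 _, su_apply]
    exact (Wu φ ⊔ W2 φ).add_mem (AddSubgroup.mem_sup_right h1)
      (AddSubgroup.mem_sup_left (h1.2 _))

/-- **A small irreducible module is quadratic.** -/
theorem quad_of_card {p n k : ℕ} [Fact p.Prime] [Finite M] [Finite F]
    (hF : Nat.card F = p ^ n) (hM : Nat.card M = p ^ k) (hi : Irr φ) (hn : NonTriv φ)
    (hc : Nat.card M ≤ Nat.card (Wu φ) ^ 2) : Quad φ := by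
  have hne : ∃ m, m ∉ Wu φ := by
    by_contra hcon
    push Not at hcon
    obtain ⟨g, m0, hgm⟩ := hn
    apply hgm
    have hm : ∀ m : M, m = 0 := fun m =>
      eq_zero_of_mem_of_mem hi ⟨g, m0, hgm⟩ (hcon m) (by
        rw [← phi_apply_inv φ n0 m]; exact nn_Wu φ _ (hcon _))
    rw [hm m0, map_zero]
  obtain ⟨m, hmW, hmq⟩ := exists_quad_vector hF hM hne
  obtain ⟨a, ha, b, hb, hab⟩ := exists_decomp hi hn hc m
  have hb0 : b ≠ 0 := by
    rintro rfl
    apply hmW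
    rw [← hab, add_zero]; exact ha
  have hbq : ∀ x, al φ x b ∈ Wu φ := by
    intro x
    have h1 : al φ x b = φ (su x) m - m := by
      rw [← hab]; unfold al; rw [map_add, ha x]; abel
    rw [h1]; exact hmq x
  have hbW2 : b ∈ W2 φ := ⟨hb, hbq⟩
  have hKinv : ∀ g m, m ∈ AddSubgroup.closure (Set.range fun g => φ g b) →
      φ g m ∈ AddSubgroup.closure (Set.range fun g => φ g b) := by
    intro g m hm
    have hle : AddSubgroup.closure (Set.range fun g => φ g b) ≤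
        (AddSubgroup.closure (Set.range fun g => φ g b)).comap (φ g : M →+ M) := by
      rw [AddSubgroup.closure_le]
      rintro _ ⟨h, rfl⟩
      show φ g (φ h b) ∈ AddSubgroup.closure (Set.range fun g => φ g b)
      rw [← phi_mul]
      exact AddSubgroup.subset_closure ⟨g * h, rfl⟩
    exact hle hm
  have hbK : b ∈ AddSubgroup.closure (Set.range fun g => φ g b) :=
    AddSubgroup.subset_closure ⟨1, phi_one φ b⟩
  have hKtop : AddSubgroup.closure (Set.range fun g => φ g b) = ⊤ := by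
    rcases hi _ hKinv with h | h
    · exfalso
      apply hb0
      rw [h] at hbK
      exact AddSubgroup.mem_bot.mp hbK
    · exact h
  have hKle : AddSubgroup.closure (Set.range fun g => φ g b) ≤ Wu φ ⊔ W2 φ := by
    rw [AddSubgroup.closure_le]
    rintro _ ⟨g, rfl⟩
    exact orbit_mem hbW2 g
  intro x m'
  have hm' : m' ∈ Wu φ ⊔ W2 φ := hKle (by rw [hKtop]; trivial)
  obtain ⟨a', ha', c, hc', rfl⟩ := AddSubgroup.mem_sup.mp hm'
  have h1 : φ (su x) (a' + c) - (a' + c) = al φ x c := by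
    unfold al; rw [map_add, ha' x]; abel
  rw [h1]; exact hc'.2 x

/-- **Recognition of the natural `SL₂(F)`-module**: an irreducible nontrivial module which is
quadratic or small is the natural module. -/
theorem exists_equiv_of_quad_or_card {p n k : ℕ} [Fact p.Prime] [Finite M] [Finite F]
    (hF : Nat.card F = p ^ n) (hM : Nat.card M = p ^ k) (hi : Irr φ) (hn : NonTriv φ)
    (h : Quad φ ∨ Nat.card M ≤ Nat.card (Wu φ) ^ 2) :
    ∃ ψ : M ≃+ (Fin 2 → F), ∀ g m, ψ (φ g m) = g.1.mulVec (ψ m) := by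
  rcases h with h | h
  · exact exists_equiv_of_quad h hi hn
  · exact exists_equiv_of_quad (quad_of_card hF hM hi hn h) hi hn

end Cfsg.Agent.Lib.Helper21.SLQ
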