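import Cfsg.Agent.Lib.Helper21.SLQ4

/-!
# Recognition of the natural `SL₂(F)`-module inside a group (conjugation action)
(helper21; for S3009)
-/

set_option autoImplicit false

namespace Cfsg.Agent.Lib.Helper21.SLQ

open Matrix
open scoped IsMulCommutative Pointwise commutatorElement

section Iso

variable {F : Type*} [Field F]

lemma su_injective : Function.Injective (su : F → SpecialLinearGroup (Fin 2) F) := by
  intro x y h
  have := congrArg (fun g : SpecialLinearGroup (Fin 2) F => g.1 0 1) h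
  simpa using this

/-- the isomorphism with `SL₂(F)` can be chosen so that the upper unitriangular group lands in a
given Sylow `p`-subgroup -/
lemma exists_iso_su_mem {G : Type*} [Group G] [Finite G] {p n : ℕ} [Fact p.Prime] [Finite F]
    (hF : Nat.card F = p ^ n) (e₀ : G ≃* SpecialLinearGroup (Fin 2) F) (S : Sylow p G) :
    ∃ e : G ≃* SpecialLinearGroup (Fin 2) F, ∀ x, e.symm (su x) ∈ S := by
  let U' : Subgroup G :=
    { carrier := {h | ∃ x, e₀ h = su x}
      one_mem' := ⟨0, by rw [map_one, su_zero]⟩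
      mul_mem' := by
        rintro a b ⟨x, hx⟩ ⟨y, hy⟩
        exact ⟨x + y, by rw [map_mul, hx, hy, su_mul]⟩
      inv_mem' := by
        rintro a ⟨x, hx⟩
        exact ⟨-x, by rw [map_inv, hx, su_inv]⟩ }
  have hmemU : ∀ x : F, e₀.symm (su x) ∈ U' := fun x => ⟨x, by simp⟩
  have hcard : Nat.card U' = Nat.card F := by
    symm
    apply Nat.card_congr
    refine Equiv.ofBijective (fun x => (⟨e₀.symm (su x), hmemU x⟩ : U')) ⟨?_, ?_⟩
    · intro x y h
      have h1 : e₀.symm (su x) = e₀.symm (su y) := congrArg Subtype.val h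
      exact su_injective (e₀.symm.injective h1)
    · rintro ⟨h, x, hx⟩
      refine ⟨x, Subtype.ext ?_⟩
      show e₀.symm (su x) = h
      rw [← hx, MulEquiv.symm_apply_apply]
  have hU' : IsPGroup p U' := IsPGroup.of_card (n := n) (by rw [hcard, hF])
  obtain ⟨Q, hQ⟩ := hU'.exists_le_sylow
  obtain ⟨g, hg⟩ := MulAction.exists_smul_eq G Q S
  refine ⟨(MulAut.conj g).symm.trans e₀, fun x => ?_⟩
  have h1 : e₀.symm (su x) ∈ (Q : Subgroup G) := hQ (hmemU x)
  have h2 : MulAut.conj g • e₀.symm (su x) ∈ MulAut.conj g • (Q : Subgroup G) :=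
    Subgroup.smul_mem_pointwise_smul _ _ _ h1
  rw [← Sylow.coe_subgroup_smul, hg] at h2
  exact h2

end Iso

section Concrete

variable {X : Type*} [Group X] (G V : Subgroup X)
  (hGV : G ≤ Subgroup.normalizer (V : Set X))

/-- conjugation of `v ∈ V` by `g ∈ G` -/
def cj (g : G) (v : V) : V :=
  ⟨(g : X) * (v : X) * (g : X)⁻¹, (Subgroup.mem_normalizer_iff.mp (hGV g.2) _).mp v.2⟩

lemma coe_cj (g : G) (v : V) : ((cj G V hGV g v : V) : X) = g * v * (g : X)⁻¹ := rfl

lemma cj_mul (g : G) (v w : V) : cj G V hGV g (v * w) = cj G V hGV g v * cj G V hGV g w := by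
  apply Subtype.ext
  show (g : X) * ((v : X) * (w : X)) * (g : X)⁻¹ =
    (g : X) * (v : X) * (g : X)⁻¹ * ((g : X) * (w : X) * (g : X)⁻¹)
  group

lemma cj_one (v : V) : cj G V hGV 1 v = v := by
  apply Subtype.ext
  show ((1 : G) : X) * (v : X) * ((1 : G) : X)⁻¹ = v
  rw [Subgroup.coe_one, one_mul, inv_one, mul_one]

lemma cj_cj (g h : G) (v : V) : cj G V hGV (g * h) v = cj G V hGV g (cj G V hGV h v) := by
  apply Subtype.ext
  show ((g * h : G) : X) * (v : X) * ((g * h : G) : X)⁻¹ =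
    (g : X) * ((h : X) * (v : X) * (h : X)⁻¹) * (g : X)⁻¹
  rw [Subgroup.coe_mul]
  group

variable [IsMulCommutative V]

/-- conjugation action of `G ≤ N(V)` on `Additive V` -/
def conjHom : ↥G →* AddMonoid.End (Additive ↥V) where
  toFun g := AddMonoidHom.mk' (fun v => Additive.ofMul (cj G V hGV g (Additive.toMul v)))
    (fun v w => by
      show Additive.ofMul (cj G V hGV g (Additive.toMul (v + w))) = _
      rw [toMul_add, cj_mul, ofMul_mul])
  map_one' := AddMonoidHom.ext fun v => by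
    show Additive.ofMul (cj G V hGV 1 (Additive.toMul v)) = v
    rw [cj_one]; rfl
  map_mul' g h := AddMonoidHom.ext fun v => by
    show Additive.ofMul (cj G V hGV (g * h) (Additive.toMul v)) =
      Additive.ofMul (cj G V hGV g (cj G V hGV h (Additive.toMul v)))
    rw [cj_cj]

variable {F : Type*} [Field F] (e : ↥G ≃* SpecialLinearGroup (Fin 2) F)

/-- the `SL₂(F)`-module structure on `Additive V` -/
def phiOf : SpecialLinearGroup (Fin 2) F →* AddMonoid.End (Additive ↥V) :=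
  (conjHom G V hGV).comp e.symm.toMonoidHom

lemma phiOf_apply (g : SpecialLinearGroup (Fin 2) F) (v : Additive ↥V) :
    phiOf G V hGV e g v = Additive.ofMul (cj G V hGV (e.symm g) (Additive.toMul v)) := rfl

lemma irr_phiOf
    (hirr : ∀ U : Subgroup X, U ≤ V → G ≤ Subgroup.normalizer (U : Set X) → U = ⊥ ∨ U = V) :
    Irr (phiOf G V hGV e) := by
  intro H hH
  let W : Subgroup X :=
    { carrier := {x | ∃ h : x ∈ V, Additive.ofMul (⟨x, h⟩ : ↥V) ∈ H}
      one_mem' := ⟨V.one_mem, H.zero_mem⟩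
      mul_mem' := by
        rintro a b ⟨ha, ha'⟩ ⟨hb, hb'⟩
        exact ⟨V.mul_mem ha hb, H.add_mem ha' hb'⟩
      inv_mem' := by
        rintro a ⟨ha, ha'⟩
        exact ⟨V.inv_mem ha, H.neg_mem ha'⟩ }
  have hWV : W ≤ V := fun x hx => hx.1
  have hconj : ∀ g : G, ∀ x ∈ W, (g : X) * x * (g : X)⁻¹ ∈ W := by
    rintro g x ⟨hx, hx'⟩
    refine ⟨(Subgroup.mem_normalizer_iff.mp (hGV g.2) _).mp hx, ?_⟩
    have := hH (e g) _ hx'
    rw [phiOf_apply, MulEquiv.symm_apply_apply] at this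
    exact this
  have hWN : G ≤ Subgroup.normalizer (W : Set X) := by
    intro g hg
    rw [Subgroup.mem_normalizer_iff]
    intro x
    constructor
    · exact hconj ⟨g, hg⟩ x
    · intro hx
      have h1 := hconj (⟨g, hg⟩ : G)⁻¹ _ hx
      have h2 : (((⟨g, hg⟩ : G)⁻¹ : G) : X) * (g * x * g⁻¹) * (((⟨g, hg⟩ : G)⁻¹ : G) : X)⁻¹ = x := by
        show g⁻¹ * (g * x * g⁻¹) * g⁻¹⁻¹ = x
        group
      rwa [h2] at h1
  rcases hirr W hWV hWN with h | h
  · left
    rw [eq_bot_iff]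
    intro m hm
    have h1 : ((Additive.toMul m : V) : X) ∈ W := ⟨(Additive.toMul m).2, hm⟩
    rw [h] at h1
    have h2 : ((Additive.toMul m : V) : X) = 1 := Subgroup.mem_bot.mp h1
    have h3 : (Additive.toMul m : V) = 1 := Subtype.ext h2
    rw [AddSubgroup.mem_bot]
    exact h3
  · right
    rw [eq_top_iff]
    intro m _
    have h1 : ((Additive.toMul m : V) : X) ∈ W := by rw [h]; exact (Additive.toMul m).2
    obtain ⟨_, h2⟩ := h1
    exact h2

lemma nonTriv_phiOf (hnt : ⁅V, G⁆ ≠ ⊥) : NonTriv (phiOf G V hGV e) := by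
  by_contra hcon
  apply hnt
  rw [Subgroup.commutator_eq_bot_iff_le_centralizer]
  intro v hv
  rw [Subgroup.mem_centralizer_iff]
  intro g hg
  have h1 : phiOf G V hGV e (e ⟨g, hg⟩) (Additive.ofMul ⟨v, hv⟩) = Additive.ofMul ⟨v, hv⟩ := by
    by_contra h
    exact hcon ⟨_, _, h⟩
  rw [phiOf_apply, MulEquiv.symm_apply_apply] at h1
  have h2 : g * v * g⁻¹ = v := congrArg (fun w : Additive ↥V => ((Additive.toMul w : V) : X)) h1
  calc g * v = g * v * g⁻¹ * g := by group
    _ = v * g := by rw [h2]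

lemma quad_phiOf (S' : Subgroup X) (hS : ∀ x : F, ((e.symm (su x) : G) : X) ∈ S')
    (h : ⁅⁅V, S'⁆, S'⁆ = ⊥) : Quad (phiOf G V hGV e) := by
  intro x m y
  have hw : ((e.symm (su x) : G) : X) * (Additive.toMul m : V) * ((e.symm (su x) : G) : X)⁻¹ *
      ((Additive.toMul m : V) : X)⁻¹ ∈ ⁅V, S'⁆ := by
    rw [Subgroup.commutator_comm, ← commutatorElement_def]
    exact Subgroup.commutator_mem_commutator (hS x) (Additive.toMul m : V).2
  have key : ∀ w : X, w ∈ ⁅V, S'⁆ →
      ((e.symm (su y) : G) : X) * w * ((e.symm (su y) : G) : X)⁻¹ = w := by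
    intro w hw
    have h1 : ⁅w, ((e.symm (su y) : G) : X)⁆ = 1 := by
      have h2 := Subgroup.commutator_mem_commutator hw (hS y)
      rw [h] at h2
      exact Subgroup.mem_bot.mp h2
    rw [commutatorElement_def] at h1
    have h3 : w * ((e.symm (su y) : G) : X) = ((e.symm (su y) : G) : X) * w := by
      calc w * ((e.symm (su y) : G) : X)
          = w * ((e.symm (su y) : G) : X) * w⁻¹ * ((e.symm (su y) : G) : X)⁻¹ *
              (((e.symm (su y) : G) : X) * w) := by group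
        _ = ((e.symm (su y) : G) : X) * w := by rw [h1, one_mul]
    rw [← h3]
    group
  have hdef : phiOf G V hGV e (su x) m - m =
      Additive.ofMul (cj G V hGV (e.symm (su x)) (Additive.toMul m) / Additive.toMul m) := rfl
  rw [hdef, phiOf_apply]
  apply congrArg Additive.ofMul
  apply Subtype.ext
  have hcoe : ((cj G V hGV (e.symm (su x)) (Additive.toMul m) / Additive.toMul m : V) : X) =
      ((e.symm (su x) : G) : X) * (Additive.toMul m : V) * ((e.symm (su x) : G) : X)⁻¹ *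
      ((Additive.toMul m : V) : X)⁻¹ := by
    rw [Subgroup.coe_div, div_eq_mul_inv]
    rfl
  rw [coe_cj, toMul_ofMul, hcoe]
  exact key _ hw

lemma card_phiOf_le [Finite V] (S' : Subgroup X)
    (hS : ∀ x : F, ((e.symm (su x) : G) : X) ∈ S') :
    Nat.card ↥(V ⊓ Subgroup.centralizer (S' : Set X)) ≤ Nat.card (Wu (phiOf G V hGV e)) := by
  have hmem : ∀ x : ↥(V ⊓ Subgroup.centralizer (S' : Set X)),
      Additive.ofMul (⟨x.1, x.2.1⟩ : ↥V) ∈ Wu (phiOf G V hGV e) := by
    intro x y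
    rw [phiOf_apply]
    apply congrArg Additive.ofMul
    apply Subtype.ext
    show ((e.symm (su y) : G) : X) * x.1 * ((e.symm (su y) : G) : X)⁻¹ = x.1
    have h1 := (Subgroup.mem_centralizer_iff.mp x.2.2) _ (hS y)
    rw [h1]
    group
  apply Nat.card_le_card_of_injective
    (fun x => (⟨Additive.ofMul (⟨x.1, x.2.1⟩ : ↥V), hmem x⟩ : Wu (phiOf G V hGV e)))
  intro a b hab
  apply Subtype.ext
  exact congrArg (fun w : Wu (phiOf G V hGV e) => ((Additive.toMul w.1 : V) : X)) hab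

end Concrete

/-- **Recognition of the natural module** inside a finite group. -/
theorem acts_natural {X : Type*} [Group X] [Finite X] {p : ℕ} [Fact p.Prime] (G V : Subgroup X)
    [IsMulCommutative V] (hVp : ∀ a ∈ V, a ^ p = 1)
    (hGV : G ≤ Subgroup.normalizer (V : Set X)) {F : Type*} [Field F] [Finite F] (n : ℕ)
    (hF : Nat.card F = p ^ n) (e₀ : ↥G ≃* SpecialLinearGroup (Fin 2) F)
    (hirr : ∀ U : Subgroup X, U ≤ V → G ≤ Subgroup.normalizer (U : Set X) → U = ⊥ ∨ U = V)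
    (hnt : ⁅V, G⁆ ≠ ⊥) (S : Sylow p ↥G)
    (hyp : ⁅⁅V, (S : Subgroup ↥G).map G.subtype⁆, (S : Subgroup ↥G).map G.subtype⁆ = ⊥ ∨
      Nat.card ↥V ≤ Nat.card ↥(V ⊓ Subgroup.centralizer
        (((S : Subgroup ↥G).map G.subtype : Subgroup X) : Set X)) ^ 2) :
    ∃ (ρ : ↥G →* SpecialLinearGroup (Fin 2) F) (ψ : ↥V →* Multiplicative (Fin 2 → F)),
      ρ.range = ⊤ ∧ Function.Surjective ψ ∧ (∀ u : ↥V, ψ u = 1 ↔ (u : X) ∈ (⊥ : Subgroup X)) ∧
        ∀ (g : ↥G) (u : ↥V), ∃ w : ↥V, (w : X) = (g : X) * (u : X) * (g : X)⁻¹ ∧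
          Multiplicative.toAdd (ψ w) =
            ((ρ g : SpecialLinearGroup (Fin 2) F) : Matrix (Fin 2) (Fin 2) F).mulVec
              (Multiplicative.toAdd (ψ u)) := by
  obtain ⟨e, he⟩ := exists_iso_su_mem hF e₀ S
  have hS : ∀ x : F, ((e.symm (su x) : G) : X) ∈ (S : Subgroup ↥G).map G.subtype :=
    fun x => Subgroup.mem_map.mpr ⟨_, he x, rfl⟩
  have hVP : IsPGroup p V := fun v =>
    ⟨1, by rw [pow_one]; exact Subtype.ext (by simpa using hVp v v.2)⟩
  obtain ⟨k, hk⟩ := hVP.exists_card_eq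
  have hM : Nat.card (Additive V) = p ^ k := hk
  have hi := irr_phiOf G V hGV e hirr
  have hn := nonTriv_phiOf G V hGV e hnt
  have hqc : Quad (phiOf G V hGV e) ∨
      Nat.card (Additive V) ≤ Nat.card (Wu (phiOf G V hGV e)) ^ 2 := by
    rcases hyp with h | h
    · left; exact quad_phiOf G V hGV e _ hS h
    · right
      calc Nat.card (Additive V) = Nat.card V := rfl
        _ ≤ _ := h
        _ ≤ _ := Nat.pow_le_pow_left (card_phiOf_le G V hGV e _ hS) 2
  obtain ⟨ψ₀, hψ₀⟩ := exists_equiv_of_quad_or_card hF hM hi hn hqc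
  refine ⟨e.toMonoidHom,
    MonoidHom.mk' (fun v => Multiplicative.ofAdd (ψ₀ (Additive.ofMul v))) ?_, ?_, ?_, ?_, ?_⟩
  · intro a b
    rw [ofMul_mul, map_add, ofAdd_add]
  · exact MonoidHom.range_eq_top.mpr e.surjective
  · intro w
    obtain ⟨m, hm⟩ := ψ₀.surjective (Multiplicative.toAdd w)
    exact ⟨Additive.toMul m, by
      show Multiplicative.ofAdd (ψ₀ m) = w
      rw [hm]; rfl⟩
  · intro u
    show Multiplicative.ofAdd (ψ₀ (Additive.ofMul u)) = 1 ↔ _
    rw [Subgroup.mem_bot]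
    constructor
    · intro h
      have h1 : ψ₀ (Additive.ofMul u) = 0 := h
      have h2 : Additive.ofMul u = 0 := by
        rw [← ψ₀.symm_apply_apply (Additive.ofMul u), h1, map_zero]
      have h3 : u = 1 := h2
      rw [h3]; rfl
    · intro h
      have h3 : u = 1 := Subtype.ext h
      rw [h3]
      show Multiplicative.ofAdd (ψ₀ 0) = 1
      rw [map_zero]; rfl
  · intro g u
    refine ⟨cj G V hGV g u, rfl, ?_⟩
    show ψ₀ (Additive.ofMul (cj G V hGV g u)) = (e g).1.mulVec (ψ₀ (Additive.ofMul u))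
    rw [← hψ₀, phiOf_apply, MulEquiv.symm_apply_apply]
    rfl

end Cfsg.Agent.Lib.Helper21.SLQ
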