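import Mathlib
import Cfsg.Prelude.Def_GeometricClasses
import Cfsg.Agent.Lib.Helper9.SUCorPU1
import Cfsg.Agent.Lib.Helper9.HubCorA1
import Cfsg.Agent.S0781

/-!
# SU corollary family (hub S5663), pieces PU2a and PU2b (helper21, for helper9)

`SU_n(q)` (`n ≥ 3`, `(n, q) ≠ (3, 2)`) preserves no orthogonal decomposition into non-degenerate subspaces
(`not_su_le_decompositionStabilizer_nondeg`) and no pair of complementary totally singular subspaces
(`not_su_le_decompositionStabilizer_tsPair`).  Tool: `core` / `tv_core` (what a unitary transvection in a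
decomposition stabiliser does to a block).
-/

set_option autoImplicit false
set_option linter.unusedSectionVars false
set_option linter.unusedVariables false

namespace Cfsg.Agent.Lib.Helper21.SUCorPU2

open Matrix Module Cfsg Cfsg.Geo Cfsg.Agent.S0779 Cfsg.Agent.S0781 Cfsg.Agent.Lib.Helper6
open Cfsg.Agent.Lib.Helper6.SUG Cfsg.Agent.Lib.Helper13 Cfsg.Agent.Lib.Helper9.SUCorPU1

variable {F : Type*} [Field F] [Fintype F] {n q : ℕ}

local notation "hh" => Cfsg.hermForm n F q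

/-- an element of a decomposition stabiliser, on a vector of the block `D i` whose image is written as
(part in `D i`) + (part in the other blocks): the image lies in one block -/
theorem core {t : ℕ} (D : Fin t → Submodule F (Fin n → F)) (hind : iSupIndep D) (g : GL (Fin n) F)
    (hg : g ∈ decompositionStabilizer D) (i : Fin t) (x y z : Fin n → F) (hx : x ∈ D i)
    (hgx : (g : Matrix (Fin n) (Fin n) F) *ᵥ x = y + z) (hy : y ∈ D i)
    (hz : z ∈ ⨆ (l) (_ : l ≠ i), D l) :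
    z = 0 ∨ (y = 0 ∧ ∃ k, k ≠ i ∧ z ∈ D k) := by
  obtain ⟨σ, hσ⟩ := hg
  have himg : y + z ∈ D (σ i) := by
    rw [← hσ i, ← hgx]
    exact ⟨x, hx, by rw [Matrix.toLin'_apply]⟩
  have hdisj := hind i
  by_cases hj : σ i = i
  · left
    rw [hj] at himg
    have hz' : z ∈ D i := by
      have : z = (y + z) - y := by abel
      rw [this]
      exact (D i).sub_mem himg hy
    have : z ∈ D i ⊓ ⨆ (l) (_ : l ≠ i), D l := ⟨hz', hz⟩
    rw [hdisj.eq_bot] at this
    exact (Submodule.mem_bot F).mp this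
  · right
    have hyz_sup : y + z ∈ ⨆ (l) (_ : l ≠ i), D l :=
      (le_iSup₂ (f := fun l (_ : l ≠ i) => D l) (σ i) hj) himg
    have hy_sup : y ∈ ⨆ (l) (_ : l ≠ i), D l := by
      have : y = (y + z) - z := by abel
      rw [this]
      exact Submodule.sub_mem _ hyz_sup hz
    have : y ∈ D i ⊓ ⨆ (l) (_ : l ≠ i), D l := ⟨hy, hy_sup⟩
    rw [hdisj.eq_bot] at this
    have hy0 : y = 0 := (Submodule.mem_bot F).mp this
    refine ⟨hy0, σ i, hj, ?_⟩
    rwa [hy0, zero_add] at himg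

/-- the same for a unitary transvection with centre `v = v₀ + r`, `v₀ ∈ D i`, `r` in the other blocks -/
theorem tv_core (hF : Fintype.card F = q ^ 2) {t : ℕ} (D : Fin t → Submodule F (Fin n → F))
    (hind : iSupIndep D)
    (hle : GU n F q ⊓ specialLinear (Fin n) F ≤ decompositionStabilizer D)
    (v : Fin n → F) (hvv : hh v v = 0) (c : F) (hc : c ^ q = -c) (i : Fin t) (x v₀ r : Fin n → F)
    (hx : x ∈ D i) (hv : v = v₀ + r) (hv₀ : v₀ ∈ D i) (hr : r ∈ ⨆ (l) (_ : l ≠ i), D l)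
    (hne : c * hh x v ≠ 0) :
    r = 0 ∨ (x + (c * hh x v) • v₀ = 0 ∧ ∃ k, k ≠ i ∧ r ∈ D k) := by
  have hg := hle (suGL_mem (SUG.tv hF v c hvv hc))
  have hgx : ((suGL n F q (SUG.tv hF v c hvv hc) : GL (Fin n) F) : Matrix (Fin n) (Fin n) F) *ᵥ x =
      (x + (c * hh x v) • v₀) + (c * hh x v) • r := by
    rw [suGL_tv_mulVec]
    have h1 : (c * hh x v) • v = (c * hh x v) • v₀ + (c * hh x v) • r := by
      rw [← smul_add, ← hv]
    rw [h1, add_assoc]
  rcases core D hind _ hg i x _ _ hx hgx ((D i).add_mem hx ((D i).smul_mem _ hv₀))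
      (Submodule.smul_mem _ _ hr) with h | ⟨h1, k, hk, h2⟩
  · left
    rcases smul_eq_zero.mp h with h' | h'
    · exact absurd h' hne
    · exact h'
  · right
    exact ⟨h1, k, hk, ((D k).smul_mem_iff hne).mp h2⟩

/-- some element is moved by `x ↦ x ^ q` -/
theorem exists_pow_ne (hF : Fintype.card F = q ^ 2) : ∃ θ : F, θ ^ q ≠ θ := by
  by_contra hcon
  have hcon' : ∀ x : F, x ^ q = x := by
    intro x
    by_contra hx
    exact hcon ⟨x, hx⟩
  exact conjQ_ne_id hF (RingHom.ext fun x => by rw [conjQ_apply, hcon']; rfl)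

/-- a non-zero subspace on which the hermitian form is non-degenerate has an anisotropic vector -/
theorem exists_aniso (hF : Fintype.card F = q ^ 2) (W : Submodule F (Fin n → F))
    (hW : IsNondegenerateOn (hermForm n F q) W) (hW0 : W ≠ ⊥) : ∃ w ∈ W, hh w w ≠ 0 := by
  by_contra hcon
  have hall : ∀ w ∈ W, hh w w = 0 := by
    intro w hw
    by_contra h
    exact hcon ⟨w, hw, h⟩
  obtain ⟨w, hwW, hw0⟩ := Submodule.exists_mem_ne_zero_of_ne_bot hW0
  obtain ⟨⟨x, hxW, hx⟩, -⟩ := hW w hwW hw0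
  have key : ∀ a ∈ W, hh a w + hh w a = 0 := by
    intro a ha
    have h1 := hall (a + w) (W.add_mem ha hwW)
    rw [herm_add_left, herm_add_right hF, herm_add_right hF, hall a ha, hall w hwW] at h1
    linear_combination h1
  obtain ⟨θ, hθ⟩ := exists_pow_ne hF
  have h1 := key x hxW
  have h2 := key (θ • x) (W.smul_mem θ hxW)
  rw [herm_smul_left, herm_smul_right] at h2
  have h3 : (θ - θ ^ q) * hh x w = 0 := by linear_combination h2 - θ ^ q * h1
  rcases mul_eq_zero.mp h3 with h4 | h4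
  · exact hθ (sub_eq_zero.mp h4).symm
  · exact hx h4

/-- rescaling an anisotropic vector to a prescribed (opposite) norm -/
theorem exists_opposite_norm (hF : Fintype.card F = q ^ 2) (α : F) (hα0 : α ≠ 0) (hα : α ^ q = α)
    (w : Fin n → F) (hw : hh w w ≠ 0) : ∃ l : F, hh (l • w) (l • w) = -α := by
  have hβ : (hh w w) ^ q = hh w w := herm_conj hF w w
  have ha0 : -α / hh w w ≠ 0 := div_ne_zero (neg_ne_zero.mpr hα0) hw
  have ha : conjQ hF (-α / hh w w) = -α / hh w w := by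
    rw [map_div₀, map_neg, conjQ_apply, conjQ_apply, hα, hβ]
  obtain ⟨l, hl⟩ := Cfsg.Agent.Lib.Helper6.exists_norm (conjQ hF) (conjQ_ne_id hF) (conjQ_conjQ hF)
    (-α / hh w w) ha0 ha
  refine ⟨l, ?_⟩
  rw [herm_smul_left, herm_smul_right]
  rw [conjQ_apply] at hl
  have : l * (l ^ q * hh w w) = (l * l ^ q) * hh w w := by ring
  rw [this, hl]
  field_simp

/-- three non-zero vectors from three different blocks: their sum lies in no block -/
theorem sum_three_not_mem {t : ℕ} (D : Fin t → Submodule F (Fin n → F)) (hind : iSupIndep D)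
    (a b c : Fin t) (hab : a ≠ b) (hac : a ≠ c) (hbc : b ≠ c) (ua ub uc : Fin n → F)
    (hua : ua ∈ D a) (hub : ub ∈ D b) (huc : uc ∈ D c) (hua0 : ua ≠ 0) (hub0 : ub ≠ 0) (k : Fin t) :
    ua + ub + uc ∉ D k := by
  intro hr
  by_cases hka : k = a
  · -- then `k ≠ b`
    have hkb : k ≠ b := by rw [hka]; exact hab
    have hsup : ub ∈ ⨆ (l) (_ : l ≠ b), D l := by
      have : ub = (ua + ub + uc) - ua - uc := by abel
      rw [this]
      refine Submodule.sub_mem _ (Submodule.sub_mem _ ?_ ?_) ?_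
      · exact (le_iSup₂ (f := fun l (_ : l ≠ b) => D l) k hkb) hr
      · exact (le_iSup₂ (f := fun l (_ : l ≠ b) => D l) a hab) hua
      · exact (le_iSup₂ (f := fun l (_ : l ≠ b) => D l) c hbc.symm) huc
    have : ub ∈ D b ⊓ ⨆ (l) (_ : l ≠ b), D l := ⟨hub, hsup⟩
    rw [(hind b).eq_bot] at this
    exact hub0 ((Submodule.mem_bot F).mp this)
  · have hsup : ua ∈ ⨆ (l) (_ : l ≠ a), D l := by
      have : ua = (ua + ub + uc) - ub - uc := by abel
      rw [this]
      refine Submodule.sub_mem _ (Submodule.sub_mem _ ?_ ?_) ?_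
      · exact (le_iSup₂ (f := fun l (_ : l ≠ a) => D l) k hka) hr
      · exact (le_iSup₂ (f := fun l (_ : l ≠ a) => D l) b hab.symm) hub
      · exact (le_iSup₂ (f := fun l (_ : l ≠ a) => D l) c hac.symm) huc
    have : ua ∈ D a ⊓ ⨆ (l) (_ : l ≠ a), D l := ⟨hua, hsup⟩
    rw [(hind a).eq_bot] at this
    exact hua0 ((Submodule.mem_bot F).mp this)

/-- every block of an `m`-decomposition is non-zero -/
theorem block_ne_bot {t m : ℕ} (D : Fin t → Submodule F (Fin n → F)) (hD : IsMDecomposition m D) (i : Fin t) :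
    D i ≠ ⊥ := by
  intro h
  have h1 := hD.finrank_eq i
  rw [h, finrank_bot] at h1
  have := hD.pos
  omega

/-- **PU2b** `SU_n(q)` preserves no pair of complementary totally singular subspaces -/
theorem not_su_le_decompositionStabilizer_tsPair (hF : Fintype.card F = q ^ 2) (hn : 3 ≤ n)
    (hex : ¬ (n = 3 ∧ q = 2)) (k : ℕ) (D : Fin 2 → Submodule F (Fin n → F)) (hk : 2 * k = n)
    (hD : IsMDecomposition k D) (hts : ∀ i, IsTotallySingularFor (hermForm n F q) (D i)) :
    ¬ GU n F q ⊓ specialLinear (Fin n) F ≤ decompositionStabilizer D := by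
  intro hle
  have hk2 : 2 ≤ k := by omega
  obtain ⟨k₀, hk0, hkq⟩ := exists_trace_zero hF
  obtain ⟨v₁, hv₁D, hv₁0⟩ := Submodule.exists_mem_ne_zero_of_ne_bot (block_ne_bot D hD 1)
  -- the functional `y ↦ h(y, v₁)` on `D 0`
  let φ : (Fin n → F) →ₗ[F] F :=
    { toFun := fun y => hh y v₁
      map_add' := fun a b => herm_add_left a b v₁
      map_smul' := fun a b => by
        show hh (a • b) v₁ = a • hh b v₁
        rw [herm_smul_left, smul_eq_mul] }
  have hφ : ∀ y, φ y = hh y v₁ := fun y => rfl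
  let ψ : D 0 →ₗ[F] F := φ.domRestrict (D 0)
  have hker : LinearMap.ker ψ ≠ ⊥ := by
    apply LinearMap.ker_ne_bot_of_finrank_lt
    rw [finrank_self, hD.finrank_eq 0]
    omega
  obtain ⟨⟨v₀, hv₀D⟩, hv₀ker, hv₀ne⟩ := Submodule.exists_mem_ne_zero_of_ne_bot hker
  have hv₀0 : v₀ ≠ 0 := by
    intro h
    apply hv₀ne
    exact Subtype.ext h
  have h01 : hh v₀ v₁ = 0 := by
    have := LinearMap.mem_ker.mp hv₀ker
    rwa [LinearMap.domRestrict_apply, hφ] at this
  have h10 : hh v₁ v₀ = 0 := herm_swap_zero hF h01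
  -- `x ∈ D 0` with `h(x, v₁) ≠ 0`
  obtain ⟨x, hxD, hx⟩ : ∃ x ∈ D 0, hh x v₁ ≠ 0 := by
    obtain ⟨y, hy⟩ := exists_herm_ne_zero hF v₁ hv₁0
    have hy' : hh y v₁ ≠ 0 := fun h => hy (herm_swap_zero hF h)
    have htop : (⊤ : Submodule F (Fin n → F)) ≤ D 0 ⊔ D 1 := by
      rw [← hD.iSup_eq_top]
      apply iSup_le
      intro i
      fin_cases i
      · exact le_sup_left
      · exact le_sup_right
    obtain ⟨w₀, hw₀, w₁, hw₁, hw⟩ := Submodule.mem_sup.mp (htop (Submodule.mem_top : y ∈ ⊤))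
    refine ⟨w₀, hw₀, ?_⟩
    rw [← hw, herm_add_left, hts 1 w₁ hw₁ v₁ hv₁D, add_zero] at hy'
    exact hy'
  -- the isotropic vector `v = v₀ + v₁`
  have hvv : hh (v₀ + v₁) (v₀ + v₁) = 0 := by
    rw [herm_add_left, herm_add_right hF, herm_add_right hF, hts 0 v₀ hv₀D v₀ hv₀D, h01, h10,
      hts 1 v₁ hv₁D v₁ hv₁D]
    ring
  have hxv : hh x (v₀ + v₁) = hh x v₁ := by
    rw [herm_add_right hF, hts 0 x hxD v₀ hv₀D, zero_add]
  have hne : k₀ * hh x (v₀ + v₁) ≠ 0 := by
    rw [hxv]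
    exact mul_ne_zero hk0 hx
  have hr : v₁ ∈ ⨆ (l) (_ : l ≠ (0 : Fin 2)), D l :=
    (le_iSup₂ (f := fun l (_ : l ≠ (0 : Fin 2)) => D l) 1 (by decide)) hv₁D
  rcases tv_core hF D hD.indep hle (v₀ + v₁) hvv k₀ hkq 0 x v₀ v₁ hxD rfl hv₀D hr hne with h | ⟨h, -⟩
  · exact hv₁0 h
  · apply hx
    have hx' : x = (-(k₀ * hh x (v₀ + v₁))) • v₀ := by
      rw [neg_smul]
      exact eq_neg_of_add_eq_zero_left h
    rw [hx', herm_smul_left, h01, mul_zero]

/-- for `q ≥ 3` the fixed field of `x ↦ x ^ q` has an element other than `0`, `1` -/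
theorem exists_fixed_ne_one (hF : Fintype.card F = q ^ 2) (hq : 3 ≤ q) :
    ∃ s : F, s ^ q = s ∧ s ≠ 0 ∧ s ≠ 1 := by
  obtain ⟨L, hL0, hL⟩ := exists_norm_ne_one hF hq
  refine ⟨L * L ^ q, ?_, mul_ne_zero hL0 (pow_ne_zero _ hL0), hL⟩
  rw [mul_pow, pow_q_q hF, mul_comm]

/-- **PU2a** `SU_n(q)` preserves no orthogonal decomposition into non-degenerate subspaces -/
theorem not_su_le_decompositionStabilizer_nondeg (hF : Fintype.card F = q ^ 2) (hn : 3 ≤ n)
    (hex : ¬ (n = 3 ∧ q = 2)) {t m : ℕ} (D : Fin t → Submodule F (Fin n → F))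
    (hD : IsNondegenerateMDecomposition (hermForm n F q) m D) :
    ¬ GU n F q ⊓ specialLinear (Fin n) F ≤ decompositionStabilizer D := by
  intro hle
  have hdec := hD.decomp
  have ht2 := hdec.two_le
  have hind := hdec.indep
  have htm : t * m = n := Cfsg.Agent.Lib.Helper9.HubCor.mul_eq_of_isMDecomposition D hdec
  obtain ⟨k₀, hk0, hkq⟩ := exists_trace_zero hF
  have han : ∀ i, ∃ u ∈ D i, hh u u ≠ 0 := fun i =>
    exists_aniso hF (D i) (hD.nondegenerate i) (block_ne_bot D hdec i)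
  have hnz : ∀ u : Fin n → F, hh u u ≠ 0 → u ≠ 0 := by
    intro u hu h
    apply hu
    rw [h, herm_zero_left]
  let i₀ : Fin t := ⟨0, by omega⟩
  let i₁ : Fin t := ⟨1, by omega⟩
  have h01 : i₀ ≠ i₁ := by
    intro h
    have := congrArg Fin.val h
    simp [i₀, i₁] at this
  by_cases hcase : m = 1 ∧ q = 2
  · -- four blocks
    obtain ⟨hm1, hq2⟩ := hcase
    have ht4 : 4 ≤ t := by
      rw [hm1, mul_one] at htm
      by_contra h
      apply hex
      constructor <;> omega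
    let i₂ : Fin t := ⟨2, by omega⟩
    let i₃ : Fin t := ⟨3, by omega⟩
    have h02 : i₀ ≠ i₂ := by
      intro h
      have := congrArg Fin.val h
      simp [i₀, i₂] at this
    have h03 : i₀ ≠ i₃ := by
      intro h
      have := congrArg Fin.val h
      simp [i₀, i₃] at this
    have h12 : i₁ ≠ i₂ := by
      intro h
      have := congrArg Fin.val h
      simp [i₁, i₂] at this
    have h13 : i₁ ≠ i₃ := by
      intro h
      have := congrArg Fin.val h
      simp [i₁, i₃] at this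
    have h23 : i₂ ≠ i₃ := by
      intro h
      have := congrArg Fin.val h
      simp [i₂, i₃] at this
    obtain ⟨u₀, hu₀D, hu₀⟩ := han i₀
    obtain ⟨u₁, hu₁D, hu₁⟩ := han i₁
    obtain ⟨u₂, hu₂D, hu₂⟩ := han i₂
    obtain ⟨u₃, hu₃D, hu₃⟩ := han i₃
    have hone : ∀ u : Fin n → F, hh u u ≠ 0 → hh u u = 1 := by
      intro u hu
      have h1 : (hh u u) ^ 2 = hh u u := by
        rw [← hq2]
        exact herm_conj hF u u
      have h2 : hh u u * (hh u u - 1) = 0 := by linear_combination h1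
      rcases mul_eq_zero.mp h2 with h3 | h3
      · exact absurd h3 hu
      · exact sub_eq_zero.mp h3
    have h4 : (4 : F) = 0 := by
      have h1 : Fintype.card F = 4 := by rw [hF, hq2]; norm_num
      have h2 := card_nsmul_eq_zero (G := F) (x := 1)
      rw [h1] at h2
      simpa using h2
    have ho := hD.orthogonal
    have hvv : hh (u₀ + (u₁ + u₂ + u₃)) (u₀ + (u₁ + u₂ + u₃)) = 0 := by
      simp only [herm_add_left, herm_add_right hF]
      rw [hone u₀ hu₀, hone u₁ hu₁, hone u₂ hu₂, hone u₃ hu₃,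
        ho i₀ i₁ h01 u₀ hu₀D u₁ hu₁D, ho i₀ i₂ h02 u₀ hu₀D u₂ hu₂D, ho i₀ i₃ h03 u₀ hu₀D u₃ hu₃D,
        ho i₁ i₀ h01.symm u₁ hu₁D u₀ hu₀D, ho i₁ i₂ h12 u₁ hu₁D u₂ hu₂D, ho i₁ i₃ h13 u₁ hu₁D u₃ hu₃D,
        ho i₂ i₀ h02.symm u₂ hu₂D u₀ hu₀D, ho i₂ i₁ h12.symm u₂ hu₂D u₁ hu₁D, ho i₂ i₃ h23 u₂ hu₂D u₃ hu₃D,
        ho i₃ i₀ h03.symm u₃ hu₃D u₀ hu₀D, ho i₃ i₁ h13.symm u₃ hu₃D u₁ hu₁D, ho i₃ i₂ h23.symm u₃ hu₃D u₂ hu₂D]
      linear_combination h4
    have hxv : hh u₀ (u₀ + (u₁ + u₂ + u₃)) = 1 := by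
      simp only [herm_add_right hF]
      rw [hone u₀ hu₀, ho i₀ i₁ h01 u₀ hu₀D u₁ hu₁D, ho i₀ i₂ h02 u₀ hu₀D u₂ hu₂D,
        ho i₀ i₃ h03 u₀ hu₀D u₃ hu₃D]
      ring
    have hne : k₀ * hh u₀ (u₀ + (u₁ + u₂ + u₃)) ≠ 0 := by
      rw [hxv, mul_one]
      exact hk0
    have hr : u₁ + u₂ + u₃ ∈ ⨆ (l) (_ : l ≠ i₀), D l := by
      refine Submodule.add_mem _ (Submodule.add_mem _ ?_ ?_) ?_
      · exact (le_iSup₂ (f := fun l (_ : l ≠ i₀) => D l) i₁ h01.symm) hu₁D
      · exact (le_iSup₂ (f := fun l (_ : l ≠ i₀) => D l) i₂ h02.symm) hu₂D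
      · exact (le_iSup₂ (f := fun l (_ : l ≠ i₀) => D l) i₃ h03.symm) hu₃D
    have hno := sum_three_not_mem D hind i₁ i₂ i₃ h12 h13 h23 u₁ u₂ u₃ hu₁D hu₂D hu₃D
      (hnz u₁ hu₁) (hnz u₂ hu₂)
    rcases tv_core hF D hind hle _ hvv k₀ hkq i₀ u₀ u₀ (u₁ + u₂ + u₃) hu₀D rfl hu₀D hr hne with
      h | ⟨-, k, -, h⟩
    · apply hno i₀
      rw [h]
      exact (D i₀).zero_mem
    · exact hno k h
  · -- two blocks
    obtain ⟨u₀, hu₀D, hu₀⟩ := han i₀
    obtain ⟨w, hwD, hw⟩ := han i₁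
    have hα : (hh u₀ u₀) ^ q = hh u₀ u₀ := herm_conj hF u₀ u₀
    obtain ⟨l, hl⟩ := exists_opposite_norm hF (hh u₀ u₀) hu₀ hα w hw
    have hu₁D : l • w ∈ D i₁ := (D i₁).smul_mem l hwD
    have hu₁0 : l • w ≠ 0 := by
      apply hnz
      rw [hl]
      exact neg_ne_zero.mpr hu₀
    have ho := hD.orthogonal
    have hvv : hh (u₀ + l • w) (u₀ + l • w) = 0 := by
      rw [herm_add_left, herm_add_right hF, herm_add_right hF, hl, ho i₀ i₁ h01 u₀ hu₀D _ hu₁D,
        ho i₁ i₀ h01.symm _ hu₁D u₀ hu₀D]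
      ring
    have hr : l • w ∈ ⨆ (j) (_ : j ≠ i₀), D j :=
      (le_iSup₂ (f := fun j (_ : j ≠ i₀) => D j) i₁ h01.symm) hu₁D
    -- the key consequence
    have hspan : ∀ c : F, c ≠ 0 → c ^ q = -c → ∀ x ∈ D i₀, hh x u₀ ≠ 0 →
        x + (c * hh x u₀) • u₀ = 0 := by
      intro c hc0 hcq x hx hxu
      have hxv : hh x (u₀ + l • w) = hh x u₀ := by
        rw [herm_add_right hF, ho i₀ i₁ h01 x hx _ hu₁D, add_zero]
      have hne : c * hh x (u₀ + l • w) ≠ 0 := by
        rw [hxv]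
        exact mul_ne_zero hc0 hxu
      rcases tv_core hF D hind hle _ hvv c hcq i₀ x u₀ (l • w) hx rfl hu₀D hr hne with h | ⟨h, -⟩
      · exact absurd h hu₁0
      · rwa [hxv] at h
    by_cases hm2 : 2 ≤ m
    · -- a vector of `D i₀` outside the line of `u₀`
      have hu₀0 : u₀ ≠ 0 := hnz u₀ hu₀
      obtain ⟨y₀, hy₀D, hy₀⟩ : ∃ y₀ ∈ D i₀, y₀ ∉ Submodule.span F {u₀} := by
        by_contra hcon
        have hle' : D i₀ ≤ Submodule.span F {u₀} := by
          intro y hy
          by_contra h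
          exact hcon ⟨y, hy, h⟩
        have h1 := Submodule.finrank_mono hle'
        rw [hdec.finrank_eq i₀, finrank_span_singleton hu₀0] at h1
        omega
      have hmem : ∀ x ∈ D i₀, hh x u₀ ≠ 0 → x ∈ Submodule.span F {u₀} := by
        intro x hx hxu
        have h := hspan k₀ hk0 hkq x hx hxu
        have hx' : x = (-(k₀ * hh x u₀)) • u₀ := by
          rw [neg_smul]
          exact eq_neg_of_add_eq_zero_left h
        rw [hx']
        exact Submodule.smul_mem _ _ (Submodule.mem_span_singleton_self u₀)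
      by_cases hy : hh y₀ u₀ = 0
      · have h1 : hh (y₀ + u₀) u₀ ≠ 0 := by
          rw [herm_add_left, hy, zero_add]
          exact hu₀
        have h2 := hmem (y₀ + u₀) ((D i₀).add_mem hy₀D hu₀D) h1
        apply hy₀
        have : y₀ = (y₀ + u₀) - u₀ := by abel
        rw [this]
        exact Submodule.sub_mem _ h2 (Submodule.mem_span_singleton_self u₀)
      · exact hy₀ (hmem y₀ hy₀D hy)
    · -- `m = 1`, hence `q ≥ 3`: two different transvections with the same centre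
      have hm1 : m = 1 := by
        have := hdec.pos
        omega
      have hq3 : 3 ≤ q := by
        have := two_le_q hF
        by_contra h
        apply hcase
        constructor
        · exact hm1
        · omega
      obtain ⟨s, hsq, hs0, hs1⟩ := exists_fixed_ne_one hF hq3
      have hu₀0 : u₀ ≠ 0 := hnz u₀ hu₀
      have e1 := hspan k₀ hk0 hkq u₀ hu₀D hu₀
      have e2 := hspan (s * k₀) (mul_ne_zero hs0 hk0) (by rw [mul_pow, hsq, hkq]; ring) u₀ hu₀D hu₀
      have f1 : 1 + k₀ * hh u₀ u₀ = 0 := by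
        have : (1 + k₀ * hh u₀ u₀) • u₀ = 0 := by rw [add_smul, one_smul]; exact e1
        rcases smul_eq_zero.mp this with h | h
        · exact h
        · exact absurd h hu₀0
      have f2 : 1 + s * k₀ * hh u₀ u₀ = 0 := by
        have : (1 + s * k₀ * hh u₀ u₀) • u₀ = 0 := by rw [add_smul, one_smul]; exact e2
        rcases smul_eq_zero.mp this with h | h
        · exact h
        · exact absurd h hu₀0
      apply hs1
      have : (s - 1) * (k₀ * hh u₀ u₀) = 0 := by linear_combination f2 - f1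
      rcases mul_eq_zero.mp this with h | h
      · exact sub_eq_zero.mp h
      · exfalso
        rw [h, add_zero] at f1
        exact one_ne_zero f1

end Cfsg.Agent.Lib.Helper21.SUCorPU2
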