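import Mathlib
import Cfsg.Agent.Lib.Helper10.ThompsonDihedral
import Cfsg.Agent.Lib.Helper13.PGroup

/-!
# Soft subgroups of `p`-groups (Héthelyi)

An abelian subgroup `A` of a finite `p`-group `P` is *soft* if `C_P(A) = A` and `|N_P(A) : A| = p`.
We prove: the subgroups containing `A` form the normalizer tower of `A`, with all steps of index `p`,
and the `i`-th member has class `i + 1` as long as it is proper.  All arguments are carried out
"modulo a normal subgroup `W`" inside the fixed group `P`, which replaces quotient groups.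
-/

set_option autoImplicit false

namespace Cfsg.Agent.Lib.Helper21.Soft

open Subgroup
open scoped commutatorElement

variable {P : Type*} [Group P]

/-! ### the centralizer modulo a normal subgroup -/

/-- the centralizer of `S` modulo the normal subgroup `W` -/
def cent (W : Subgroup P) [hW : W.Normal] (S : Set P) : Subgroup P where
  carrier := {g | ∀ s ∈ S, ⁅g, s⁆ ∈ W}
  one_mem' := by
    intro s _
    rw [commutatorElement_one_left]
    exact W.one_mem
  mul_mem' := by
    intro g h hg hh s hs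
    have e : ⁅g * h, s⁆ = g * ⁅h, s⁆ * g⁻¹ * ⁅g, s⁆ := by
      simp only [commutatorElement_def]; group
    rw [e]
    exact W.mul_mem (hW.conj_mem _ (hh s hs) g) (hg s hs)
  inv_mem' := by
    intro g hg s hs
    have e : ⁅g⁻¹, s⁆ = g⁻¹ * ⁅g, s⁆⁻¹ * g⁻¹⁻¹ := by
      simp only [commutatorElement_def]; group
    rw [e]
    exact hW.conj_mem _ (W.inv_mem (hg s hs)) g⁻¹

theorem mem_cent {W : Subgroup P} [W.Normal] {S : Set P} {g : P} :
    g ∈ cent W S ↔ ∀ s ∈ S, ⁅g, s⁆ ∈ W := Iff.rfl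

theorem comm_mem_symm {W : Subgroup P} {g s : P} : ⁅g, s⁆ ∈ W ↔ ⁅s, g⁆ ∈ W := by
  rw [← commutatorElement_inv g s, W.inv_mem_iff]

theorem cent_anti (W : Subgroup P) [W.Normal] {S T : Set P} (h : S ⊆ T) : cent W T ≤ cent W S :=
  fun _ hg s hs => hg s (h hs)

theorem cent_mono {W W' : Subgroup P} [W.Normal] [W'.Normal] (h : W ≤ W') (S : Set P) :
    cent W S ≤ cent W' S :=
  fun _ hg s hs => h (hg s hs)

theorem le_cent_symm {W : Subgroup P} [W.Normal] {H K : Subgroup P} (h : H ≤ cent W K) :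
    K ≤ cent W H :=
  fun k hk x hx => comm_mem_symm.mp (h hx k hk)

theorem self_le_cent (W : Subgroup P) [hW : W.Normal] (S : Set P) : W ≤ cent W S := by
  intro w hw s _
  have e : ⁅w, s⁆ = w * (s * w⁻¹ * s⁻¹) := by simp only [commutatorElement_def]; group
  rw [e]
  exact W.mul_mem hw (hW.conj_mem _ (W.inv_mem hw) s)

theorem cent_self_eq_top (W : Subgroup P) [hW : W.Normal] : cent W (W : Set P) = ⊤ := by
  rw [eq_top_iff]
  intro g _ w hw
  have e : ⁅g, w⁆ = (g * w * g⁻¹) * w⁻¹ := by simp only [commutatorElement_def]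
  rw [e]
  exact W.mul_mem (hW.conj_mem _ hw g) (W.inv_mem hw)

instance cent_normal (W K : Subgroup P) [hW : W.Normal] [hK : K.Normal] :
    (cent W (K : Set P)).Normal := by
  constructor
  intro z hz g k hk
  have e : ⁅g * z * g⁻¹, k⁆ = g * ⁅z, g⁻¹ * k * g⁻¹⁻¹⁆ * g⁻¹ := by
    simp only [commutatorElement_def]; group
  rw [e]
  exact hW.conj_mem _ (hz _ (hK.conj_mem _ hk g⁻¹)) g

/-- conjugating `g a g⁻¹ = ⁅g, a⁆ a` -/
theorem conj_eq_comm_mul (g a : P) : g * a * g⁻¹ = ⁅g, a⁆ * a := by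
  simp only [commutatorElement_def]; group

/-! ### general tools -/

theorem mem_normalizer_of_conj_mem' [Finite P] {E : Subgroup P} {g : P}
    (h1 : ∀ e ∈ E, g * e * g⁻¹ ∈ E) : g ∈ normalizer (E : Set P) := by
  rw [mem_normalizer_iff]
  intro x
  refine ⟨h1 x, fun hx => ?_⟩
  let f : E → E := fun e => ⟨g * e * g⁻¹, h1 e e.2⟩
  have hinj : Function.Injective f := by
    intro a b hab
    have := congrArg Subtype.val hab
    simp only [f] at this
    apply Subtype.ext
    exact mul_left_cancel (mul_right_cancel this)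
  obtain ⟨e, he⟩ := (Finite.injective_iff_surjective.mp hinj) ⟨g * x * g⁻¹, hx⟩
  have := congrArg Subtype.val he
  simp only [f] at this
  have hxe : (e : P) = x := mul_left_cancel (mul_right_cancel this)
  rw [← hxe]; exact e.2

theorem cent_le_normalizer [Finite P] {W A : Subgroup P} [W.Normal] (hWA : W ≤ A) :
    cent W (A : Set P) ≤ normalizer (A : Set P) := by
  intro g hg
  apply mem_normalizer_of_conj_mem'
  intro a ha
  rw [conj_eq_comm_mul]
  exact A.mul_mem (hWA (hg a ha)) ha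

/-- a subgroup strictly above `H` inside `N`, where `|N : H|` is prime, is `N` -/
theorem eq_of_lt_of_le_of_relIndex_prime {p : ℕ} (hp : p.Prime) {H X N : Subgroup P}
    (h : H.relIndex N = p) (hHX : H < X) (hXN : X ≤ N) : X = N := by
  have h1 := relIndex_mul_relIndex H X N hHX.le hXN
  have h2 : H.relIndex X ≠ 1 := by
    intro h2
    exact (not_le_of_gt hHX) (relIndex_eq_one.mp h2)
  rw [h] at h1
  have h3 : H.relIndex X ∣ p := Dvd.intro _ h1
  rcases (Nat.dvd_prime hp).mp h3 with h4 | h4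
  · exact absurd h4 h2
  · rw [h4] at h1
    have h5 : X.relIndex N = 1 := by
      have := hp.pos
      nlinarith [Nat.eq_of_mul_eq_mul_left hp.pos (show p * X.relIndex N = p * 1 by rw [h1, mul_one])]
    exact le_antisymm hXN (relIndex_eq_one.mp h5)

/-- the basic identity behind class counting modulo `D` -/
theorem comm_inv_mul_comm_mem_iff {M D : Subgroup P} (hDM : M ≤ normalizer (D : Set P)) (y : P)
    (hy : ∀ h ∈ M, ⁅h, y⁆ ∈ M) {h h' : P} (hh : h ∈ M) (hh' : h' ∈ M) :
    ⁅h, y⁆⁻¹ * ⁅h', y⁆ ∈ D ↔ ⁅h⁻¹ * h', y⁆ ∈ D := by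
  have e : ⁅h, y⁆⁻¹ * ⁅h', y⁆ = ⁅h, y⁆⁻¹ * (h * ⁅h⁻¹ * h', y⁆ * h⁻¹) * ⁅h, y⁆⁻¹⁻¹ := by
    simp only [commutatorElement_def]; group
  rw [e]
  have h1 : ⁅h, y⁆⁻¹ ∈ normalizer (D : Set P) := hDM (M.inv_mem (hy h hh))
  have h2 : h ∈ normalizer (D : Set P) := hDM hh
  rw [← (mem_normalizer_iff.mp h1) _, ← (mem_normalizer_iff.mp h2) _]

/-- the class of `y` modulo `D` under `M` is bounded by `|L : D|` when `⁅M, y⁆ ⊆ L` -/
theorem relIndex_le_relIndex_of_comm_mem [Finite P] (M C D L : Subgroup P) (y : P)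
    (hDM : M ≤ normalizer (D : Set P)) (hLM : L ≤ M)
    (hC : ∀ h ∈ M, ⁅h, y⁆ ∈ D → h ∈ C) (hC' : ∀ h ∈ C, ⁅h, y⁆ ∈ D)
    (hy : ∀ h ∈ M, ⁅h, y⁆ ∈ L) : C.relIndex M ≤ D.relIndex L := by
  have hyM : ∀ h ∈ M, ⁅h, y⁆ ∈ M := fun h hh => hLM (hy h hh)
  unfold relIndex
  rw [index_eq_card, index_eq_card]
  let f : ↥M ⧸ C.subgroupOf M → ↥L ⧸ D.subgroupOf L :=
    Quotient.lift (fun h : ↥M => (QuotientGroup.mk (⟨⁅(h : P), y⁆, hy h h.2⟩ : ↥L) :
      ↥L ⧸ D.subgroupOf L)) (by
      intro a b hab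
      have hab' : a⁻¹ * b ∈ C.subgroupOf M := QuotientGroup.leftRel_apply.mp hab
      rw [mem_subgroupOf] at hab'
      apply QuotientGroup.eq.mpr
      rw [mem_subgroupOf]
      show ⁅(a : P), y⁆⁻¹ * ⁅(b : P), y⁆ ∈ D
      rw [comm_inv_mul_comm_mem_iff hDM y hyM a.2 b.2]
      exact hC' _ hab')
  apply Nat.card_le_card_of_injective f
  intro X Y
  refine Quotient.inductionOn₂ X Y ?_
  intro a b hab
  have h1 : (⟨⁅(a : P), y⁆, hy a a.2⟩ : ↥L)⁻¹ * ⟨⁅(b : P), y⁆, hy b b.2⟩ ∈ D.subgroupOf L :=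
    QuotientGroup.eq.mp hab
  rw [mem_subgroupOf] at h1
  have h2 : ⁅(a : P), y⁆⁻¹ * ⁅(b : P), y⁆ ∈ D := h1
  rw [comm_inv_mul_comm_mem_iff hDM y hyM a.2 b.2] at h2
  apply Quotient.sound
  apply QuotientGroup.leftRel_apply.mpr
  rw [mem_subgroupOf]
  exact hC _ (M.mul_mem (M.inv_mem a.2) b.2) h2

theorem relIndex_ne_zero' [Finite P] (H K : Subgroup P) : H.relIndex K ≠ 0 := by
  unfold relIndex
  exact index_ne_zero_of_finite

section pgroup

variable [Finite P] {p : ℕ} [hpf : Fact p.Prime]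

theorem exists_relIndex_eq_pow (hP : IsPGroup p P) (H K : Subgroup P) :
    ∃ n : ℕ, H.relIndex K = p ^ n :=
  (hP.to_subgroup K).index (H.subgroupOf K)

theorem dvd_relIndex_of_lt (hP : IsPGroup p P) {H K : Subgroup P} (h : H < K) :
    p ∣ H.relIndex K := by
  obtain ⟨n, hn⟩ := exists_relIndex_eq_pow hP H K
  rcases Nat.eq_zero_or_pos n with rfl | hn0
  · rw [pow_zero] at hn
    exact absurd (relIndex_eq_one.mp hn) (not_le_of_gt h)
  · rw [hn]; exact dvd_pow_self p hn0.ne'

theorem dvd_index_of_ne_top (hP : IsPGroup p P) {H : Subgroup P} (h : H ≠ ⊤) : p ∣ H.index := by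
  rw [← relIndex_top_right]
  exact dvd_relIndex_of_lt hP (lt_top_iff_ne_top.mpr h)

/-- normalizers grow -/
theorem lt_normalizer_inf (hP : IsPGroup p P) {H K : Subgroup P} (h : H < K) :
    H < K ⊓ normalizer (H : Set P) :=
  Cfsg.Agent.Lib.Helper13.lt_inf_normalizer_of_lt K H (hP.to_subgroup K) h

/-- if `|N(H) : H| = p` then every subgroup strictly above `H` contains `N(H)` -/
theorem normalizer_le_of_lt (hP : IsPGroup p P) {H K : Subgroup P}
    (hH : H.relIndex (normalizer (H : Set P)) = p) (h : H < K) : normalizer (H : Set P) ≤ K := by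
  have h1 := lt_normalizer_inf hP h
  have h2 := eq_of_lt_of_le_of_relIndex_prime hpf.out hH h1 inf_le_right
  rw [← h2]; exact inf_le_left

/-! ### Lemma 1: the second step of the normalizer tower has index `p` -/

/-- the centralizer of `S` modulo `D` inside a subgroup `M` normalizing `D` -/
def centIn (M D : Subgroup P) (hDM : M ≤ normalizer (D : Set P)) (S : Set P) : Subgroup P where
  carrier := {g | g ∈ M ∧ ∀ s ∈ S, ⁅g, s⁆ ∈ D}
  one_mem' := by
    refine ⟨M.one_mem, fun s _ => ?_⟩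
    rw [commutatorElement_one_left]
    exact D.one_mem
  mul_mem' := by
    rintro g h ⟨hgM, hg⟩ ⟨hhM, hh⟩
    refine ⟨M.mul_mem hgM hhM, fun s hs => ?_⟩
    have e : ⁅g * h, s⁆ = g * ⁅h, s⁆ * g⁻¹ * ⁅g, s⁆ := by
      simp only [commutatorElement_def]; group
    rw [e]
    exact D.mul_mem ((mem_normalizer_iff.mp (hDM hgM) _).mp (hh s hs)) (hg s hs)
  inv_mem' := by
    rintro g ⟨hgM, hg⟩
    refine ⟨M.inv_mem hgM, fun s hs => ?_⟩
    have e : ⁅g⁻¹, s⁆ = g⁻¹ * ⁅g, s⁆⁻¹ * g⁻¹⁻¹ := by
      simp only [commutatorElement_def]; group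
    rw [e]
    exact (mem_normalizer_iff.mp (hDM (M.inv_mem hgM)) _).mp (D.inv_mem (hg s hs))

theorem mem_centIn {M D : Subgroup P} {hDM : M ≤ normalizer (D : Set P)} {S : Set P} {g : P} :
    g ∈ centIn M D hDM S ↔ g ∈ M ∧ ∀ s ∈ S, ⁅g, s⁆ ∈ D := Iff.rfl

/-- `A` is soft modulo the normal subgroup `W` -/
structure SoftMod (p : ℕ) (W A : Subgroup P) [W.Normal] : Prop where
  le : W ≤ A
  comm : ∀ a ∈ A, ∀ b ∈ A, ⁅a, b⁆ ∈ W
  cent_le : cent W (A : Set P) ≤ A
  relIndex : A.relIndex (normalizer (A : Set P)) = p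

theorem card_mul_relIndex'' {K L : Subgroup P} (h : K ≤ L) :
    Nat.card K * K.relIndex L = Nat.card L := by
  have := Subgroup.relIndex_mul_relIndex (⊥ : Subgroup P) K L bot_le h
  rwa [Subgroup.relIndex_bot_left, Subgroup.relIndex_bot_left] at this

theorem SoftMod.relIndex_normalizer_normalizer (hP : IsPGroup p P) {W A : Subgroup P} [hW : W.Normal]
    (h : SoftMod p W A) (hN : normalizer (A : Set P) ≠ ⊤) :
    (normalizer (A : Set P)).relIndex
      (normalizer ((normalizer (A : Set P) : Subgroup P) : Set P)) = p := by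
  have hp : p.Prime := hpf.out
  obtain ⟨N, hNdef⟩ : ∃ N : Subgroup P, N = normalizer (A : Set P) := ⟨_, rfl⟩
  obtain ⟨M, hMdef⟩ : ∃ M : Subgroup P, M = normalizer (N : Set P) := ⟨_, rfl⟩
  rw [← hNdef] at hN ⊢
  rw [← hMdef]
  have hAN : A ≤ N := hNdef ▸ le_normalizer
  have hNM : N ≤ M := hMdef ▸ le_normalizer
  have hrel : A.relIndex N = p := hNdef ▸ h.relIndex
  have hNltM : N < M := by
    have := lt_normalizer_inf hP (lt_top_iff_ne_top.mpr hN)
    rwa [top_inf_eq, ← hMdef] at this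
  obtain ⟨g, hgM, hgN⟩ := SetLike.exists_of_lt hNltM
  have hgN' : g ∈ normalizer (N : Set P) := hMdef ▸ hgM
  -- the conjugate `A'`
  obtain ⟨A', hA'⟩ : ∃ A' : Subgroup P, A' = A.map (MulAut.conj g).toMonoidHom := ⟨_, rfl⟩
  have hmemA' : ∀ x, x ∈ A' ↔ ∃ a ∈ A, g * a * g⁻¹ = x := by
    intro x
    rw [hA', mem_map]
    rfl
  have hA'N : A' ≤ N := by
    intro x hx
    obtain ⟨a, ha, rfl⟩ := (hmemA' x).mp hx
    exact (mem_normalizer_iff.mp hgN' a).mp (hAN ha)
  have hcard : Nat.card A' = Nat.card A := by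
    rw [hA']
    exact Subgroup.card_map_of_injective (MulAut.conj g).injective
  have hA'A : ¬ A' ≤ A := by
    intro hle
    have heq : A' = A := Subgroup.eq_of_le_of_card_ge hle hcard.ge
    apply hgN
    rw [hNdef]
    apply mem_normalizer_of_conj_mem'
    intro a ha
    rw [← heq]
    exact (hmemA' _).mpr ⟨a, ha, rfl⟩
  have hrel' : A'.relIndex N = p := by
    have h1 := card_mul_relIndex'' hA'N
    have h2 := card_mul_relIndex'' hAN
    rw [hcard, ← h2, hrel] at h1
    exact Nat.eq_of_mul_eq_mul_left Nat.card_pos h1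
  have hsup : A ⊔ A' = N := by
    apply eq_of_lt_of_le_of_relIndex_prime hp hrel _ (sup_le hAN hA'N)
    refine lt_of_le_of_ne le_sup_left ?_
    intro heq
    apply hA'A
    rw [heq]
    exact le_sup_right
  have hcomm' : ∀ x ∈ A', ∀ y ∈ A', ⁅x, y⁆ ∈ W := by
    intro x hx y hy
    obtain ⟨a, ha, rfl⟩ := (hmemA' x).mp hx
    obtain ⟨b, hb, rfl⟩ := (hmemA' y).mp hy
    have e : ⁅g * a * g⁻¹, g * b * g⁻¹⁆ = g * ⁅a, b⁆ * g⁻¹ := by
      simp only [commutatorElement_def]; group
    rw [e]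
    exact hW.conj_mem _ (h.comm a ha b hb) g
  -- `D`
  obtain ⟨D, hDdef⟩ : ∃ D : Subgroup P, D = A ⊓ A' := ⟨_, rfl⟩
  have hDA : D ≤ A := hDdef ▸ inf_le_left
  have hDA' : D ≤ A' := hDdef ▸ inf_le_right
  have hDN : D ≤ N := hDA.trans hAN
  have hDrel : D.relIndex N ≤ p * p := by
    have := relIndex_inf_le (H := A) (K := A') (L := N)
    rwa [hrel, hrel', ← hDdef] at this
  have hNcent : N ≤ cent W (D : Set P) := by
    rw [← hsup]
    apply sup_le
    · intro a ha d hd
      exact h.comm a ha d (hDA hd)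
    · intro a ha d hd
      exact hcomm' a ha d (hDA' hd)
  have hDcent : D ≤ cent W (N : Set P) := le_cent_symm hNcent
  -- `M`-invariance of the centre modulo `W`
  have hZM : ∀ f ∈ M, ∀ z ∈ cent W (N : Set P) ⊓ N, f * z * f⁻¹ ∈ cent W (N : Set P) ⊓ N := by
    intro f hf z hz
    have hf' : f ∈ normalizer (N : Set P) := hMdef ▸ hf
    have hf'' : f⁻¹ ∈ normalizer (N : Set P) := (normalizer (N : Set P)).inv_mem hf'
    obtain ⟨hz1, hz2⟩ := mem_inf.mp hz
    refine mem_inf.mpr ⟨?_, (mem_normalizer_iff.mp hf' z).mp hz2⟩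
    intro n hn
    have e : ⁅f * z * f⁻¹, n⁆ = f * ⁅z, f⁻¹ * n * f⁻¹⁻¹⁆ * f⁻¹ := by
      simp only [commutatorElement_def]; group
    rw [e]
    exact hW.conj_mem _ (hz1 _ ((mem_normalizer_iff.mp hf'' n).mp hn)) f
  have hZD : cent W (N : Set P) ⊓ N = D := by
    apply le_antisymm
    · intro z hz
      have hzA : ∀ z ∈ cent W (N : Set P) ⊓ N, z ∈ A := by
        intro z hz
        exact h.cent_le (cent_anti W (show (A : Set P) ⊆ N from hAN) (mem_inf.mp hz).1)
      rw [hDdef]
      refine mem_inf.mpr ⟨hzA z hz, ?_⟩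
      have h1 := hZM g⁻¹ (M.inv_mem hgM) z hz
      rw [hmemA']
      refine ⟨g⁻¹ * z * g⁻¹⁻¹, hzA _ h1, by group⟩
    · intro d hd
      exact mem_inf.mpr ⟨hDcent hd, hDN hd⟩
  have hDM : M ≤ normalizer (D : Set P) := by
    intro f hf
    apply mem_normalizer_of_conj_mem'
    intro d hd
    rw [← hZD] at hd ⊢
    exact hZM f hf d hd
  -- the kernel of the action on `N / D` is `N`
  have hT : ∀ f ∈ M, (∀ a ∈ A, ⁅f, a⁆ ∈ D) → f ∈ N := by
    intro f _ hfa
    rw [hNdef]
    apply mem_normalizer_of_conj_mem'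
    intro a ha
    rw [conj_eq_comm_mul]
    exact A.mul_mem (hDA (hfa a ha)) ha
  have hDcentIn : ∀ f ∈ M, D ≤ centIn M D hDM {f} := by
    intro f hf d hd
    refine ⟨hNM (hDN hd), ?_⟩
    intro s hs
    rw [Set.mem_singleton_iff] at hs
    subst hs
    have e : ⁅d, s⁆ = d * (s * d⁻¹ * s⁻¹) := by simp only [commutatorElement_def]; group
    rw [e]
    exact D.mul_mem hd ((mem_normalizer_iff.mp (hDM hf) _).mp (D.inv_mem hd))
  have hMnil : Group.IsNilpotent ↥M := (hP.to_subgroup M).isNilpotent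
  have hDneN : D ≠ N := by
    intro heq
    apply hA'A
    have : N ≤ A := heq ▸ hDA
    exact hA'N.trans this
  -- first central element
  obtain ⟨y, hyN, hyD, hyc⟩ := Cfsg.Agent.Lib.Helper10.exists_central_mod M D N hMnil hDN hNM hDM
    (hMdef ▸ le_rfl) hDneN
  have hyc' : ∀ f ∈ M, ⁅f, y⁆ ∈ D := fun f hf => by
    rw [commutatorElement_def]; exact hyc f hf
  obtain ⟨L, hLdef⟩ : ∃ L : Subgroup P, L = D ⊔ zpowers y := ⟨_, rfl⟩
  have hDL : D ≤ L := hLdef ▸ le_sup_left
  have hyL : y ∈ L := hLdef ▸ mem_sup_right (mem_zpowers y)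
  have hDltL : D < L := lt_of_le_of_ne hDL (fun heq => hyD (heq ▸ hyL))
  have hLN : L ≤ N := hLdef ▸ sup_le hDN (zpowers_le.mpr hyN)
  have hLM : M ≤ normalizer (L : Set P) := by
    intro f hf
    apply mem_normalizer_of_conj_mem'
    have hmap : L.map (MulAut.conj f).toMonoidHom ≤ L := by
      rw [hLdef, Subgroup.map_sup, MonoidHom.map_zpowers]
      apply sup_le
      · rintro _ ⟨d, hd, rfl⟩
        apply mem_sup_left
        exact (mem_normalizer_iff.mp (hDM hf) d).mp hd
      · rw [zpowers_le]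
        show f * y * f⁻¹ ∈ D ⊔ zpowers y
        rw [conj_eq_comm_mul]
        exact (D ⊔ zpowers y).mul_mem (mem_sup_left (hyc' f hf)) (mem_sup_right (mem_zpowers y))
    intro l hl
    exact hmap ⟨l, hl, rfl⟩
  have hLneN : L ≠ N := by
    intro heq
    apply not_le_of_gt hNltM
    intro f hf
    apply hT f hf
    have hle : L ≤ centIn M D hDM {f} := by
      rw [hLdef]
      apply sup_le (hDcentIn f hf)
      rw [zpowers_le]
      refine ⟨hNM hyN, ?_⟩
      intro s hs
      rw [Set.mem_singleton_iff] at hs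
      subst hs
      exact comm_mem_symm.mp (hyc' s hf)
    intro a ha
    have := (hle (heq ▸ hAN ha)).2 f rfl
    exact comm_mem_symm.mp this
  have hLltN : L < N := lt_of_le_of_ne hLN hLneN
  -- indices
  have hidx : D.relIndex L = p ∧ L.relIndex N = p := by
    have h1 := relIndex_mul_relIndex D L N hDL hLN
    obtain ⟨a, ha⟩ := dvd_relIndex_of_lt hP hDltL
    obtain ⟨b, hb⟩ := dvd_relIndex_of_lt hP hLltN
    rw [← h1, ha, hb] at hDrel
    have hpos : 0 < p := hp.pos
    have hab : a * b ≤ 1 := by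
      have : p * p * (a * b) ≤ p * p * 1 := by nlinarith
      exact Nat.le_of_mul_le_mul_left this (Nat.mul_pos hpos hpos)
    have ha0 : a ≠ 0 := by
      rintro rfl
      have : D.relIndex L = 0 := by rw [ha, mul_zero]
      exact relIndex_ne_zero' D L this
    have hb0 : b ≠ 0 := by
      rintro rfl
      have : L.relIndex N = 0 := by rw [hb, mul_zero]
      exact relIndex_ne_zero' L N this
    have ha1 : a = 1 := by
      rcases Nat.lt_or_ge a 2 with h2 | h2
      · omega
      · have : 2 * 1 ≤ a * b := Nat.mul_le_mul h2 (Nat.one_le_iff_ne_zero.mpr hb0)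
        omega
    have hb1 : b = 1 := by
      rw [ha1, one_mul] at hab
      omega
    rw [ha, hb, ha1, hb1, mul_one]
    exact ⟨rfl, rfl⟩
  -- second central element
  obtain ⟨y', hy'N, hy'L, hy'c⟩ := Cfsg.Agent.Lib.Helper10.exists_central_mod M L N hMnil hLN hNM hLM
    (hMdef ▸ le_rfl) hLneN
  have hy'c' : ∀ f ∈ M, ⁅f, y'⁆ ∈ L := fun f hf => by
    rw [commutatorElement_def]; exact hy'c f hf
  have hsup2 : L ⊔ zpowers y' = N := by
    apply eq_of_lt_of_le_of_relIndex_prime hp hidx.2 _ (sup_le hLN (zpowers_le.mpr hy'N))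
    refine lt_of_le_of_ne le_sup_left ?_
    intro heq
    apply hy'L
    rw [heq]
    exact mem_sup_right (mem_zpowers y')
  -- the centralizer of `y'` modulo `D`
  have hCN : centIn M D hDM {y'} ≤ N := by
    intro f hf
    obtain ⟨hfM, hfy'⟩ := hf
    apply hT f hfM
    have hle : N ≤ centIn M D hDM {f} := by
      rw [← hsup2, hLdef]
      refine sup_le (sup_le (hDcentIn f hfM) ?_) ?_
      · rw [zpowers_le]
        refine ⟨hNM hyN, ?_⟩
        intro s hs
        rw [Set.mem_singleton_iff] at hs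
        subst hs
        exact comm_mem_symm.mp (hyc' s hfM)
      · rw [zpowers_le]
        refine ⟨hNM hy'N, ?_⟩
        intro s hs
        rw [Set.mem_singleton_iff] at hs
        subst hs
        exact comm_mem_symm.mp (hfy' y' rfl)
    intro a ha
    exact comm_mem_symm.mp ((hle (hAN ha)).2 f rfl)
  have hbound : (centIn M D hDM {y'}).relIndex M ≤ D.relIndex L :=
    relIndex_le_relIndex_of_comm_mem M (centIn M D hDM {y'}) D L y' hDM (hLN.trans hNM)
      (fun f hf hfy => ⟨hf, fun s hs => by rw [Set.mem_singleton_iff] at hs; subst hs; exact hfy⟩)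
      (fun f hf => hf.2 y' rfl) hy'c'
  rw [hidx.1] at hbound
  have hdvd : N.relIndex M ∣ (centIn M D hDM {y'}).relIndex M := relIndex_dvd_of_le_left M hCN
  have hle : N.relIndex M ≤ p :=
    (Nat.le_of_dvd (Nat.pos_of_ne_zero (relIndex_ne_zero' _ _)) hdvd).trans hbound
  have hge : p ≤ N.relIndex M :=
    Nat.le_of_dvd (Nat.pos_of_ne_zero (relIndex_ne_zero' _ _)) (dvd_relIndex_of_lt hP hNltM)
  exact le_antisymm hle hge

/-! ### Theorem A: the normalizer tower -/

theorem sup_zpowers_normal (W : Subgroup P) [hW : W.Normal] (y : P) (hy : ∀ f : P, ⁅f, y⁆ ∈ W) :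
    (W ⊔ zpowers y).Normal := by
  constructor
  intro n hn g
  have hmap : (W ⊔ zpowers y).map (MulAut.conj g).toMonoidHom ≤ W ⊔ zpowers y := by
    rw [Subgroup.map_sup, MonoidHom.map_zpowers]
    apply sup_le
    · rintro _ ⟨d, hd, rfl⟩
      exact mem_sup_left (hW.conj_mem d hd g)
    · rw [zpowers_le]
      show g * y * g⁻¹ ∈ W ⊔ zpowers y
      rw [conj_eq_comm_mul]
      exact (W ⊔ zpowers y).mul_mem (mem_sup_left (hy g)) (mem_sup_right (mem_zpowers y))
  exact hmap ⟨n, hn, rfl⟩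

theorem index_lt_index_of_lt (hP : IsPGroup p P) {H K : Subgroup P} (h : H < K) :
    K.index < H.index := by
  have h1 := relIndex_mul_index h.le
  obtain ⟨a, ha⟩ := dvd_relIndex_of_lt hP h
  have hp : p.Prime := hpf.out
  have hK0 : 0 < K.index := Nat.pos_of_ne_zero index_ne_zero_of_finite
  have ha0 : a ≠ 0 := by
    rintro rfl
    rw [mul_zero] at ha
    exact relIndex_ne_zero' H K ha
  rw [← h1, ha]
  have : 2 ≤ p * a := by
    have := hp.two_le
    have : 1 ≤ a := Nat.one_le_iff_ne_zero.mpr ha0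
    nlinarith
  nlinarith

theorem SoftMod.relIndex_normalizer_aux (hP : IsPGroup p P) :
    ∀ n : ℕ, ∀ (W A : Subgroup P) [W.Normal], W.index = n → SoftMod p W A → p ^ 2 ≤ A.index →
      ∀ K : Subgroup P, A ≤ K → K ≠ ⊤ → K.relIndex (normalizer (K : Set P)) = p := by
  have hp : p.Prime := hpf.out
  intro n
  induction n using Nat.strong_induction_on with
  | _ n ih =>
  intro W A hW hn h hidx K hAK hK
  have hAtop : A ≠ ⊤ := fun heq => hK (top_le_iff.mp (heq ▸ hAK))
  have hWtop : W ≠ ⊤ := fun heq => hAtop (top_le_iff.mp (heq ▸ h.le))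
  have hnil : Group.IsNilpotent ↥(⊤ : Subgroup P) := (hP.to_subgroup ⊤).isNilpotent
  obtain ⟨y, -, hyW, hyc⟩ := Cfsg.Agent.Lib.Helper10.exists_central_mod (⊤ : Subgroup P) W ⊤ hnil
    le_top le_rfl (fun x _ => by
      rw [normalizer_eq_top_iff.mpr hW]; exact mem_top x) (fun x _ => by
      rw [normalizer_eq_top_iff.mpr (inferInstance : (⊤ : Subgroup P).Normal)]; exact mem_top x) hWtop
  have hyc' : ∀ f : P, ⁅f, y⁆ ∈ W := fun f => by
    rw [commutatorElement_def]; exact hyc f (mem_top f)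
  haveI hW'n : (W ⊔ zpowers y).Normal := sup_zpowers_normal W y hyc'
  obtain ⟨W', hW'def⟩ : ∃ W' : Subgroup P, W' = W ⊔ zpowers y := ⟨_, rfl⟩
  haveI hW'n' : W'.Normal := hW'def ▸ hW'n
  have hWW' : W ≤ W' := hW'def ▸ le_sup_left
  have hyW' : y ∈ W' := hW'def ▸ mem_sup_right (mem_zpowers y)
  have hWltW' : W < W' := lt_of_le_of_ne hWW' (fun heq => hyW (heq ▸ hyW'))
  have hW'cent : W' ≤ cent W (Set.univ : Set P) := by
    rw [hW'def]
    apply sup_le (self_le_cent W _)
    rw [zpowers_le]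
    intro s _
    exact comm_mem_symm.mp (hyc' s)
  have hW'A : W' ≤ A := (hW'cent.trans (cent_anti W (Set.subset_univ _))).trans h.cent_le
  have hlt : W'.index < n := hn ▸ index_lt_index_of_lt hP hWltW'
  have hAcent : A ≤ cent W' (A : Set P) := fun a ha b hb => hWW' (h.comm a ha b hb)
  have hcentN : cent W' (A : Set P) ≤ normalizer (A : Set P) := cent_le_normalizer hW'A
  by_cases hcase : cent W' (A : Set P) ≤ A
  · -- Case I
    have h' : SoftMod p W' A :=
      ⟨hW'A, fun a ha b hb => hWW' (h.comm a ha b hb), hcase, h.relIndex⟩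
    exact ih _ hlt W' A rfl h' hidx K hAK hK
  · -- Case II
    have hAlt : A < cent W' (A : Set P) := lt_of_le_of_ne hAcent (fun heq => hcase (heq ▸ le_rfl))
    have hcentEq : cent W' (A : Set P) = normalizer (A : Set P) :=
      eq_of_lt_of_le_of_relIndex_prime hp h.relIndex hAlt hcentN
    have hN1top : normalizer (A : Set P) ≠ ⊤ := by
      intro heq
      have h1 := h.relIndex
      rw [heq, relIndex_top_right] at h1
      rw [h1] at hidx
      have := hp.one_lt
      nlinarith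
    have hL1 := h.relIndex_normalizer_normalizer hP hN1top
    obtain ⟨x₀, hx₀N, hx₀A⟩ := SetLike.exists_of_lt hAlt
    have hsup : A ⊔ zpowers x₀ = normalizer (A : Set P) := by
      apply eq_of_lt_of_le_of_relIndex_prime hp h.relIndex _
        (sup_le le_normalizer (zpowers_le.mpr (hcentN hx₀N)))
      refine lt_of_le_of_ne le_sup_left ?_
      intro heq
      apply hx₀A
      rw [heq]
      exact mem_sup_right (mem_zpowers x₀)
    have hAcN : A ≤ cent W' ((normalizer (A : Set P) : Subgroup P) : Set P) :=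
      le_cent_symm (hcentEq ▸ le_rfl)
    have hNcN : normalizer (A : Set P) ≤ cent W' ((normalizer (A : Set P) : Subgroup P) : Set P) := by
      rw [← hsup]
      apply sup_le (hsup ▸ hAcN)
      rw [zpowers_le]
      -- `x₀` centralizes `N₁` modulo `W'`
      have hle : A ⊔ zpowers x₀ ≤ cent W' ({x₀} : Set P) := by
        apply sup_le
        · intro a ha s hs
          rw [Set.mem_singleton_iff] at hs
          subst hs
          exact comm_mem_symm.mp (hx₀N a ha)
        · rw [zpowers_le]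
          intro s hs
          rw [Set.mem_singleton_iff] at hs
          subst hs
          rw [commutatorElement_self]
          exact W'.one_mem
      intro n hn
      exact comm_mem_symm.mp (hle hn x₀ rfl)
    have h' : SoftMod p W' (normalizer (A : Set P)) :=
      ⟨hW'A.trans le_normalizer, fun a ha b hb => hNcN ha b hb,
        (cent_anti W' (show (A : Set P) ⊆ (normalizer (A : Set P) : Subgroup P) from
          le_normalizer)).trans hcentEq.le, hL1⟩
    rcases eq_or_lt_of_le hAK with heq | hltK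
    · rw [← heq]; exact h.relIndex
    have hN1K : normalizer (A : Set P) ≤ K := normalizer_le_of_lt hP h.relIndex hltK
    rcases eq_or_lt_of_le hN1K with heq | hltK'
    · rw [← heq]; exact hL1
    have hidx' : p ^ 2 ≤ (normalizer (A : Set P)).index := by
      have h1 := relIndex_mul_index hltK'.le
      obtain ⟨a, ha⟩ := dvd_relIndex_of_lt hP hltK'
      obtain ⟨b, hb⟩ := dvd_index_of_ne_top hP hK
      have h0 : (normalizer (A : Set P)).index ≠ 0 := index_ne_zero_of_finite
      rw [← h1, ha, hb] at h0 ⊢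
      have ha0 : a ≠ 0 := by rintro rfl; simp at h0
      have hb0 : b ≠ 0 := by rintro rfl; simp at h0
      have : 1 ≤ a * b := Nat.one_le_iff_ne_zero.mpr (mul_ne_zero ha0 hb0)
      nlinarith
    exact ih _ hlt W' _ rfl h' hidx' K hN1K hK

theorem SoftMod.relIndex_normalizer (hP : IsPGroup p P) {W A : Subgroup P} [W.Normal]
    (h : SoftMod p W A) (hidx : p ^ 2 ≤ A.index) (K : Subgroup P) (hAK : A ≤ K) (hK : K ≠ ⊤) :
    K.relIndex (normalizer (K : Set P)) = p :=
  SoftMod.relIndex_normalizer_aux hP _ W A rfl h hidx K hAK hK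

/-- the subgroups above `A` form a chain -/
theorem total_of_relIndex_normalizer (hP : IsPGroup p P) (A : Subgroup P)
    (H2 : ∀ K : Subgroup P, A ≤ K → K ≠ ⊤ → K.relIndex (normalizer (K : Set P)) = p)
    (K L : Subgroup P) (hK : A ≤ K) (hL : A ≤ L) : K ≤ L ∨ L ≤ K := by
  by_contra hcon
  push Not at hcon
  obtain ⟨h1, h2⟩ := hcon
  have hltK : K ⊓ L < K := lt_of_le_of_ne inf_le_left (fun heq => h1 (heq ▸ inf_le_right))
  have hltL : K ⊓ L < L := lt_of_le_of_ne inf_le_right (fun heq => h2 (heq ▸ inf_le_left))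
  have htop : K ⊓ L ≠ ⊤ := fun heq => (lt_irrefl _ (lt_of_lt_of_le hltK (heq ▸ le_top)))
  have hrel := H2 (K ⊓ L) (le_inf hK hL) htop
  have hNK := normalizer_le_of_lt hP hrel hltK
  have hNL := normalizer_le_of_lt hP hrel hltL
  have hle : normalizer ((K ⊓ L : Subgroup P) : Set P) ≤ K ⊓ L := le_inf hNK hNL
  have h3 : (K ⊓ L).relIndex (normalizer ((K ⊓ L : Subgroup P) : Set P)) = 1 :=
    relIndex_eq_one.mpr hle
  rw [hrel] at h3
  exact hpf.out.one_lt.ne' h3

/-! ### Theorem B: the class of the members of the tower -/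

theorem class_aux (hP : IsPGroup p P) :
    ∀ (i : ℕ) (W A : Subgroup P) [W.Normal], W ≤ A → (∀ a ∈ A, ∀ b ∈ A, ⁅a, b⁆ ∈ W) →
      cent W (A : Set P) ≤ A →
      (∀ C : Subgroup P, A ≤ C → C ≠ ⊤ → C.relIndex (normalizer (C : Set P)) = p) →
      ∀ (K : Subgroup P) [K.Normal], K ≠ ⊤ → A ≤ K → A.relIndex K = p ^ i →
        K.lowerCentralSeries (i + 1) ≤ W ∧ ¬ K.lowerCentralSeries i ≤ W := by
  have hp : p.Prime := hpf.out
  intro i
  induction i with
  | zero =>
    intro W A hW hWA hab hcent H2 K hKn hK hAK hi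
    rw [pow_zero, relIndex_eq_one] at hi
    constructor
    · rw [Subgroup.lowerCentralSeries_succ, Subgroup.lowerCentralSeries_zero, commutator_le]
      exact fun a ha b hb => hab a (hi ha) b (hi hb)
    · rw [Subgroup.lowerCentralSeries_zero]
      intro hle
      have hAW : A = W := le_antisymm (hAK.trans hle) hWA
      have h1 : cent W (A : Set P) = ⊤ := by rw [hAW]; exact cent_self_eq_top W
      rw [h1] at hcent
      exact hK (top_le_iff.mp (hcent.trans hAK))
  | succ i ih =>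
    intro W A hW hWA hab hcent H2 K hKn hK hAK hi
    have hAltK : A < K := by
      refine lt_of_le_of_ne hAK ?_
      intro heq
      rw [heq, relIndex_self] at hi
      exact (Nat.one_lt_pow (Nat.succ_ne_zero i) hp.one_lt).ne hi
    have hAtop : A ≠ ⊤ := fun heq => hK (top_le_iff.mp (heq ▸ hAK))
    have hrelA := H2 A le_rfl hAtop
    have hN1K : normalizer (A : Set P) ≤ K := normalizer_le_of_lt hP hrelA hAltK
    -- the centre modulo `W`
    obtain ⟨Z, hZdef⟩ : ∃ Z : Subgroup P, Z = cent W (K : Set P) ⊓ K := ⟨_, rfl⟩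
    haveI hZn : Z.Normal := by rw [hZdef]; infer_instance
    have hWZ : W ≤ Z := by rw [hZdef]; exact le_inf (self_le_cent W _) (hWA.trans hAK)
    have hZK : Z ≤ K := by rw [hZdef]; exact inf_le_right
    have hZcent : Z ≤ cent W (K : Set P) := by rw [hZdef]; exact inf_le_left
    have hZA : Z ≤ A := (hZcent.trans (cent_anti W (show (A : Set P) ⊆ K from hAK))).trans hcent
    have hZneK : Z ≠ K := fun heq => (not_le_of_gt hAltK) (heq ▸ hZA)
    have hnil : Group.IsNilpotent ↥(⊤ : Subgroup P) := (hP.to_subgroup ⊤).isNilpotent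
    obtain ⟨u₀, hu₀K, hu₀Z, hu₀c⟩ := Cfsg.Agent.Lib.Helper10.exists_central_mod (⊤ : Subgroup P) Z K
      hnil hZK le_top (fun x _ => by
        rw [normalizer_eq_top_iff.mpr hZn]; exact mem_top x) (fun x _ => by
        rw [normalizer_eq_top_iff.mpr hKn]; exact mem_top x) hZneK
    -- the second centre modulo `W`
    obtain ⟨Z₂, hZ₂def⟩ : ∃ Z₂ : Subgroup P, Z₂ = cent Z (K : Set P) ⊓ K := ⟨_, rfl⟩
    haveI hZ₂n : Z₂.Normal := by rw [hZ₂def]; infer_instance
    have hu₀Z₂ : u₀ ∈ Z₂ := by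
      rw [hZ₂def]
      refine mem_inf.mpr ⟨fun k _ => comm_mem_symm.mp ?_, hu₀K⟩
      rw [commutatorElement_def]
      exact hu₀c k (mem_top k)
    have hZ₂A : ¬ Z₂ ≤ A := by
      intro hle
      have hAC : A ≤ cent W (Z₂ : Set P) ⊓ K :=
        le_inf (fun a ha z hz => hab a ha z (hle hz)) hAK
      haveI hCn : (cent W (Z₂ : Set P) ⊓ K).Normal := inferInstance
      have hCK : cent W (Z₂ : Set P) ⊓ K = K := by
        by_contra hne
        have hClt : cent W (Z₂ : Set P) ⊓ K < K := lt_of_le_of_ne inf_le_right hne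
        have hCtop : cent W (Z₂ : Set P) ⊓ K ≠ ⊤ := fun heq =>
          lt_irrefl _ (lt_of_lt_of_le hClt (heq ▸ le_top))
        have hrelC := H2 _ hAC hCtop
        rw [normalizer_eq_top_iff.mpr hCn, relIndex_top_right] at hrelC
        have h1 := relIndex_mul_index hClt.le
        obtain ⟨a, ha⟩ := dvd_relIndex_of_lt hP hClt
        obtain ⟨b, hb⟩ := dvd_index_of_ne_top hP hK
        rw [hrelC, ha, hb] at h1
        have hpos : 0 < p := hp.pos
        have h2 : p * (p * (a * b)) = p * 1 := by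
          rw [mul_one]
          calc p * (p * (a * b)) = p * a * (p * b) := by ring
            _ = p := h1
        have h3 : p * (a * b) = 1 := Nat.eq_of_mul_eq_mul_left hpos h2
        have h4 : p ∣ 1 := Dvd.intro _ h3
        exact hp.one_lt.ne' (Nat.dvd_one.mp h4)
      have hKc : K ≤ cent W (Z₂ : Set P) := hCK ▸ inf_le_left
      have hZ₂c : Z₂ ≤ cent W (K : Set P) := le_cent_symm hKc
      apply hu₀Z
      rw [hZdef]
      exact mem_inf.mpr ⟨hZ₂c hu₀Z₂, hu₀K⟩
    obtain ⟨u, huZ₂, huA⟩ := SetLike.not_le_iff_exists.mp hZ₂A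
    have huK : u ∈ K := by rw [hZ₂def] at huZ₂; exact (mem_inf.mp huZ₂).2
    have hucK : ∀ k ∈ K, ⁅u, k⁆ ∈ Z := by
      rw [hZ₂def] at huZ₂; exact (mem_inf.mp huZ₂).1
    have hucA : u ∈ cent Z (A : Set P) := fun a ha => hucK a (hAK ha)
    have huN₁ : u ∈ normalizer (A : Set P) := cent_le_normalizer hZA hucA
    have hsup : A ⊔ zpowers u = normalizer (A : Set P) := by
      apply eq_of_lt_of_le_of_relIndex_prime hp hrelA _ (sup_le le_normalizer (zpowers_le.mpr huN₁))
      refine lt_of_le_of_ne le_sup_left ?_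
      intro heq
      apply huA
      rw [heq]
      exact mem_sup_right (mem_zpowers u)
    have hN₁cA : normalizer (A : Set P) ≤ cent Z (A : Set P) := by
      rw [← hsup]
      apply sup_le
      · exact fun a ha b hb => hWZ (hab a ha b hb)
      · rw [zpowers_le]; exact hucA
    have hab₁ : ∀ x ∈ normalizer (A : Set P), ∀ y ∈ normalizer (A : Set P), ⁅x, y⁆ ∈ Z := by
      intro x hx y hy
      have hle : normalizer (A : Set P) ≤ cent Z ({x} : Set P) := by
        rw [← hsup]
        apply sup_le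
        · intro a ha s hs
          rw [Set.mem_singleton_iff] at hs
          subst hs
          exact comm_mem_symm.mp (hN₁cA hx a ha)
        · rw [zpowers_le]
          intro s hs
          rw [Set.mem_singleton_iff] at hs
          subst hs
          exact hucK s (hN1K hx)
      exact comm_mem_symm.mp (hle hy x rfl)
    have hcent₁ : cent Z ((normalizer (A : Set P) : Subgroup P) : Set P) ≤ normalizer (A : Set P) :=
      (cent_anti Z (show (A : Set P) ⊆ (normalizer (A : Set P) : Subgroup P) from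
        le_normalizer)).trans (cent_le_normalizer hZA)
    have H2₁ : ∀ C : Subgroup P, normalizer (A : Set P) ≤ C → C ≠ ⊤ →
        C.relIndex (normalizer (C : Set P)) = p := fun C hC => H2 C (le_normalizer.trans hC)
    have hi₁ : (normalizer (A : Set P)).relIndex K = p ^ i := by
      have h1 := relIndex_mul_relIndex A (normalizer (A : Set P)) K le_normalizer hN1K
      rw [hrelA, hi, pow_succ'] at h1
      exact Nat.eq_of_mul_eq_mul_left hp.pos h1
    obtain ⟨h1, h2⟩ := ih Z (normalizer (A : Set P)) (hZA.trans le_normalizer) hab₁ hcent₁ H2₁ K hK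
      hN1K hi₁
    constructor
    · rw [Subgroup.lowerCentralSeries_succ]
      calc ⁅K.lowerCentralSeries (i + 1), K⁆ ≤ ⁅Z, K⁆ := commutator_mono h1 le_rfl
        _ ≤ W := by
          rw [commutator_le]
          intro z hz k hk
          exact hZcent hz k hk
    · intro hle
      apply h2
      rw [Subgroup.lowerCentralSeries_succ, commutator_le] at hle
      intro x hx
      rw [hZdef]
      refine mem_inf.mpr ⟨fun k hk => hle x hx k hk, ?_⟩
      have := K.lowerCentralSeries_antitone (Nat.zero_le i)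
      exact this hx

/-! ### the main theorem -/

theorem softMod_bot (E : Subgroup P) (hEab : IsMulCommutative ↥E)
    (hC : centralizer (E : Set P) ≤ E) (hN : E.relIndex (normalizer (E : Set P)) = p) :
    SoftMod p (⊥ : Subgroup P) E := by
  refine ⟨bot_le, ?_, ?_, hN⟩
  · intro a ha b hb
    rw [mem_bot, commutatorElement_eq_one_iff_mul_comm]
    exact congrArg Subtype.val (hEab.is_comm.comm ⟨a, ha⟩ ⟨b, hb⟩)
  · intro g hg
    apply hC
    rw [mem_centralizer_iff]
    intro e he
    have := hg e he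
    rw [mem_bot, commutatorElement_eq_one_iff_mul_comm] at this
    exact this.symm

theorem nilpotencyClass_eq_of_lowerCentralSeries {K : Subgroup P} [Group.IsNilpotent ↥K] {n : ℕ}
    (h1 : K.lowerCentralSeries (n + 1) = ⊥) (h2 : K.lowerCentralSeries n ≠ ⊥) :
    Group.nilpotencyClass ↥K = n + 1 := by
  have key : ∀ m : ℕ, K.lowerCentralSeries m = ⊥ ↔ Group.nilpotencyClass ↥K ≤ m := by
    intro m
    rw [← Subgroup.lowerCentralSeries_eq_bot_iff_nilpotencyClass_le, ← Subgroup.top_subtype_lowerCentralSeries,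
      (map_eq_bot_iff_of_injective _ K.subtype_injective)]
  have h3 := (key (n + 1)).mp h1
  have h4 : ¬ Group.nilpotencyClass ↥K ≤ n := fun h => h2 ((key n).mpr h)
  omega

theorem soft_main (hP : IsPGroup p P) (E : Subgroup P) (hEab : IsMulCommutative ↥E)
    (hC : centralizer (E : Set P) ≤ E) (hN : E.relIndex (normalizer (E : Set P)) = p)
    (hidx : p ^ 2 ≤ E.index) :
    (∀ K L : Subgroup P, E ≤ K → E ≤ L → K ≤ L ∨ L ≤ K) ∧
      (∀ K : Subgroup P, E ≤ K → K ≠ ⊤ → K.relIndex (normalizer (K : Set P)) = p) ∧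
      ∀ (i : ℕ) (K : Subgroup P) [Group.IsNilpotent ↥K], E ≤ K → K ≠ ⊤ →
        K.index * p ^ i = E.index → Group.nilpotencyClass ↥K = i + 1 := by
  have hp : p.Prime := hpf.out
  have hsoft := softMod_bot E hEab hC hN
  have H2 : ∀ K : Subgroup P, E ≤ K → K ≠ ⊤ → K.relIndex (normalizer (K : Set P)) = p :=
    fun K hK hKt => hsoft.relIndex_normalizer hP hidx K hK hKt
  refine ⟨fun K L hK hL => total_of_relIndex_normalizer hP E H2 K L hK hL, H2, ?_⟩
  intro i K hKnil hEK hKtop hidxK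
  obtain ⟨Q, hQdef⟩ : ∃ Q : Subgroup P, Q = normalizer (K : Set P) := ⟨_, rfl⟩
  have hrelK : K.relIndex Q = p := hQdef ▸ H2 K hEK hKtop
  have hKQ : K ≤ Q := hQdef ▸ le_normalizer
  have hEQ : E ≤ Q := hEK.trans hKQ
  have hPQ : IsPGroup p ↥Q := hP.to_subgroup Q
  haveI hK'n : (K.subgroupOf Q).Normal := by rw [hQdef]; exact normal_in_normalizer
  -- hypotheses in `Q`
  have hWA : (⊥ : Subgroup ↥Q) ≤ E.subgroupOf Q := bot_le
  have hab : ∀ a ∈ E.subgroupOf Q, ∀ b ∈ E.subgroupOf Q, ⁅a, b⁆ ∈ (⊥ : Subgroup ↥Q) := by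
    intro a ha b hb
    rw [mem_bot, commutatorElement_eq_one_iff_mul_comm]
    apply Subtype.ext
    have := congrArg Subtype.val (hEab.is_comm.comm ⟨(a : P), ha⟩ ⟨(b : P), hb⟩)
    exact this
  have hcent : cent (⊥ : Subgroup ↥Q) ((E.subgroupOf Q : Subgroup ↥Q) : Set ↥Q) ≤ E.subgroupOf Q := by
    intro g hg
    rw [mem_subgroupOf]
    apply hC
    rw [mem_centralizer_iff]
    intro e he
    have := hg ⟨e, hEQ he⟩ (by rw [SetLike.mem_coe, mem_subgroupOf]; exact he)
    rw [mem_bot, commutatorElement_eq_one_iff_mul_comm] at this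
    exact (congrArg Subtype.val this).symm
  have H2' : ∀ C' : Subgroup ↥Q, E.subgroupOf Q ≤ C' → C' ≠ ⊤ →
      C'.relIndex (normalizer (C' : Set ↥Q)) = p := by
    intro C' hC' hC'top
    obtain ⟨C, hCdef⟩ : ∃ C : Subgroup P, C = C'.map Q.subtype := ⟨_, rfl⟩
    have hCQ : C ≤ Q := hCdef ▸ map_subtype_le C'
    have hC'eq : C' = C.subgroupOf Q := by
      rw [hCdef, subgroupOf, comap_map_eq_self_of_injective Q.subtype_injective]
    have hEC : E ≤ C := by
      intro e he
      rw [hCdef]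
      exact ⟨⟨e, hEQ he⟩, hC' (by rw [mem_subgroupOf]; exact he), rfl⟩
    have hCltQ : C < Q := by
      refine lt_of_le_of_ne hCQ ?_
      intro heq
      apply hC'top
      rw [hC'eq, heq]
      exact subgroupOf_self Q
    have hCtop : C ≠ ⊤ := fun heq => lt_irrefl _ (lt_of_lt_of_le hCltQ (heq ▸ le_top))
    have hrelC := H2 C hEC hCtop
    have hNCQ : normalizer (C : Set P) ≤ Q := normalizer_le_of_lt hP hrelC hCltQ
    rw [hC'eq, ← subgroupOf_normalizer_eq hCQ, relIndex_subgroupOf hNCQ]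
    exact hrelC
  have hK'top : K.subgroupOf Q ≠ ⊤ := by
    intro heq
    rw [subgroupOf_eq_top] at heq
    have := relIndex_eq_one.mpr heq
    rw [hrelK] at this
    exact hp.one_lt.ne' this
  have hEK' : E.subgroupOf Q ≤ K.subgroupOf Q := fun x hx => hEK hx
  have hi' : (E.subgroupOf Q).relIndex (K.subgroupOf Q) = p ^ i := by
    rw [relIndex_subgroupOf hKQ]
    have h1 := relIndex_mul_index hEK
    rw [← hidxK, mul_comm] at h1
    exact Nat.eq_of_mul_eq_mul_left (Nat.pos_of_ne_zero index_ne_zero_of_finite) h1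
  obtain ⟨h1, h2⟩ := class_aux hPQ i ⊥ (E.subgroupOf Q) hWA hab hcent H2' (K.subgroupOf Q) hK'top
    hEK' hi'
  have key : ∀ m : ℕ, (K.subgroupOf Q).lowerCentralSeries m = ⊥ ↔ K.lowerCentralSeries m = ⊥ := by
    intro m
    rw [← map_eq_bot_iff_of_injective _ Q.subtype_injective, map_lowerCentralSeries,
      map_subgroupOf_eq_of_le hKQ]
  apply nilpotencyClass_eq_of_lowerCentralSeries
  · rw [← key]; exact le_bot_iff.mp h1
  · rw [Ne, ← key]; exact fun h => h2 (h ▸ le_rfl)

end pgroup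

end Cfsg.Agent.Lib.Helper21.Soft
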