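import Mathlib

/-!
# Tools for arguments with element orders ("spectrum") and chief factors

* `exists_orderOf_eq_of_quotient`: element orders of a quotient occur in the group.
* `commute_of_normalizer_prime`: an element of prime order `q` normalizing a subgroup of prime
  order `p`, `q ∤ p - 1`, centralizes it.
* `dvd_card_of_dvd_card`: Frattini-type argument.
* `isSimpleGroup_of_minimal_normal`: a minimal normal subgroup whose order is divisible by a prime
  exactly once is simple.
* `sectionEquiv`: sections pulled back from a quotient.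
-/

namespace Cfsg.Agent.Lib.Helper21.SpecTools

open Subgroup

universe u

section basic

variable {G : Type u} [Group G]

theorem exists_orderOf_eq_of_quotient [Finite G] (M : Subgroup G) [M.Normal] (x : G ⧸ M) :
    ∃ g : G, orderOf g = orderOf x := by
  obtain ⟨g, rfl⟩ := QuotientGroup.mk_surjective x
  have hdvd : orderOf ((QuotientGroup.mk' M) g) ∣ orderOf g :=
    orderOf_map_dvd (QuotientGroup.mk' M) g
  exact ⟨g ^ (orderOf g / orderOf ((QuotientGroup.mk' M) g)),
    orderOf_pow_orderOf_div (orderOf_pos g).ne' hdvd⟩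

theorem orderOf_mul_of_commute_primes {x y : G} {p q : ℕ} (hp : p.Prime) (hq : q.Prime)
    (hpq : p ≠ q) (hx : orderOf x = p) (hy : orderOf y = q) (hc : x * y = y * x) :
    orderOf (x * y) = p * q := by
  have hco : (orderOf x).Coprime (orderOf y) := by
    rw [hx, hy]; exact (Nat.coprime_primes hp hq).2 hpq
  rw [Commute.orderOf_mul_eq_mul_orderOf_of_coprime (show Commute x y from hc) hco, hx, hy]

theorem commute_of_normalizer_prime [Finite G] {P : Subgroup G} {p q : ℕ} (hp : p.Prime)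
    (hq : q.Prime) (hP : Nat.card P = p) (hqp : ¬ q ∣ p - 1) {y : G}
    (hy : y ∈ normalizer (P : Set G)) (hyo : orderOf y = q) {x : G} (hx : x ∈ P) :
    y * x = x * y := by
  have : Fact p.Prime := ⟨hp⟩
  have : IsCyclic P := isCyclic_of_prime_card hP
  obtain ⟨y', hy'⟩ : ∃ y' : normalizer (P : Set G), (y' : G) = y := ⟨⟨y, hy⟩, rfl⟩
  have hy'o : orderOf y' = q := by rw [← Subgroup.orderOf_coe, hy', hyo]
  have h1 : orderOf (P.normalizerMonoidHom y') ∣ q := by
    have := orderOf_map_dvd P.normalizerMonoidHom y'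
    rwa [hy'o] at this
  have h2 : orderOf (P.normalizerMonoidHom y') ∣ p - 1 := by
    have := orderOf_dvd_natCard (P.normalizerMonoidHom y')
    rwa [IsCyclic.card_mulAut, hP, Nat.totient_prime hp] at this
  have h3 : orderOf (P.normalizerMonoidHom y') = 1 := by
    rcases (Nat.dvd_prime hq).1 h1 with h | h
    · exact h
    · exact absurd (h ▸ h2) hqp
  have h4 : y' ∈ P.normalizerMonoidHom.ker := by
    rw [MonoidHom.mem_ker]; exact orderOf_eq_one_iff.1 h3
  rw [normalizerMonoidHom_ker, mem_subgroupOf, mem_centralizer_iff] at h4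
  rw [← hy']
  exact (h4 x hx).symm

theorem card_quotient_dvd_of_sup_eq_top [Finite G] (A M : Subgroup G) [M.Normal]
    (h : A ⊔ M = ⊤) : Nat.card (G ⧸ M) ∣ Nat.card A := by
  let f : A →* G ⧸ M := (QuotientGroup.mk' M).comp A.subtype
  have hf : Function.Surjective f := by
    intro x
    obtain ⟨g, rfl⟩ := QuotientGroup.mk_surjective x
    have hg : g ∈ A ⊔ M := h ▸ Subgroup.mem_top g
    have hg' : g ∈ (↑(A ⊔ M) : Set G) := hg
    rw [Subgroup.mul_normal] at hg'
    obtain ⟨a, ha, m, hm, rfl⟩ := Set.mem_mul.1 hg'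
    refine ⟨⟨a, ha⟩, ?_⟩
    show ((a : G) : G ⧸ M) = ((a * m : G) : G ⧸ M)
    exact (QuotientGroup.mk_mul_of_mem a hm).symm
  exact Subgroup.card_dvd_of_surjective f hf

theorem exists_min_normal [Finite G] [Nontrivial G] :
    ∃ M : Subgroup G, M.Normal ∧ M ≠ ⊥ ∧
      ∀ B : Subgroup G, B.Normal → B ≤ M → B = ⊥ ∨ B = M := by
  obtain ⟨A, ⟨hAn, hAne⟩, hmin⟩ :=
    (Set.toFinite {A : Subgroup G | A.Normal ∧ A ≠ ⊥}).exists_minimal
      ⟨⊤, inferInstance, top_ne_bot⟩
  refine ⟨A, hAn, hAne, fun B hB hBA => ?_⟩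
  by_cases hb : B = ⊥
  · exact Or.inl hb
  · exact Or.inr (le_antisymm hBA (hmin ⟨hB, hb⟩ hBA))

end basic

section single

variable {M : Type u} [Group M] [Finite M]

/-- a normal subgroup containing the full `p`-part (of order `p`) contains all elements of
order dividing `p` -/
theorem mem_of_pow_prime_eq_one (K : Subgroup M) [K.Normal] {p : ℕ} (hp : p.Prime)
    (hpK : p ∣ Nat.card K) (hp2 : ¬ p ^ 2 ∣ Nat.card M) {x : M} (hx : x ^ p = 1) : x ∈ K := by
  have hcard := Subgroup.card_eq_card_quotient_mul_card_subgroup K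
  have hnd : ¬ p ∣ Nat.card (M ⧸ K) := fun h =>
    hp2 (by rw [hcard, pow_two]; exact Nat.mul_dvd_mul h hpK)
  have ho : orderOf (x : M ⧸ K) ∣ p :=
    orderOf_dvd_of_pow_eq_one (by rw [← QuotientGroup.mk_pow, hx, QuotientGroup.mk_one])
  rcases (Nat.dvd_prime hp).1 ho with h1 | h1
  · exact (QuotientGroup.eq_one_iff x).1 (orderOf_eq_one_iff.1 h1)
  · exact absurd (h1 ▸ orderOf_dvd_natCard (x : M ⧸ K)) hnd

theorem not_dvd_card_sup (A B : Subgroup M) [A.Normal] {p : ℕ} (hp : p.Prime)
    (hA : ¬ p ∣ Nat.card A) (hB : ¬ p ∣ Nat.card B) :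
    ¬ p ∣ Nat.card (A ⊔ B : Subgroup M) := by
  intro hdvd
  have : Fact p.Prime := ⟨hp⟩
  obtain ⟨z, hz⟩ := exists_prime_orderOf_dvd_card' p hdvd
  have hzo : orderOf (z : M) = p := by rw [Subgroup.orderOf_coe]; exact hz
  have hzmem : (z : M) ∈ (↑(A ⊔ B) : Set M) := z.2
  rw [Subgroup.normal_mul] at hzmem
  obtain ⟨a, ha, b, hb, hab⟩ := Set.mem_mul.1 hzmem
  have h1 : ((z : M) : M ⧸ A) = (b : M ⧸ A) := by
    rw [← hab, QuotientGroup.mk_mul, (QuotientGroup.eq_one_iff a).2 ha, one_mul]
  have ho1 : orderOf ((z : M) : M ⧸ A) ∣ p := by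
    have := orderOf_map_dvd (QuotientGroup.mk' A) (z : M)
    rwa [hzo] at this
  have ho2 : orderOf ((z : M) : M ⧸ A) ∣ Nat.card B := by
    rw [h1]
    exact (orderOf_map_dvd (QuotientGroup.mk' A) b).trans (Subgroup.orderOf_dvd_natCard B hb)
  rcases (Nat.dvd_prime hp).1 ho1 with h | h
  · have hzA : (z : M) ∈ A := (QuotientGroup.eq_one_iff _).1 (orderOf_eq_one_iff.1 h)
    exact hA (hzo ▸ Subgroup.orderOf_dvd_natCard A hzA)
  · exact hB (h ▸ ho2)

theorem transfer_section {Q S : Type u} [Group Q] [Group S] (e : Q ≃* S) (hs : IsSimpleGroup S)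
    (hc : ¬ IsMulCommutative S) : IsSimpleGroup Q ∧ ¬ IsMulCommutative Q := by
  have := hs
  have : Nontrivial Q := e.toEquiv.nontrivial
  refine ⟨IsSimpleGroup.isSimpleGroup_of_surjective e.symm.toMonoidHom e.symm.surjective, ?_⟩
  intro hQ
  apply hc
  rw [isMulCommutative_iff] at hQ ⊢
  intro a b
  have := hQ (e.symm a) (e.symm b)
  have h2 := congrArg e this
  simpa using h2

end single

section conj

variable {G : Type u} [Group G] (M : Subgroup G) [M.Normal]

/-- conjugate of a subgroup of the normal subgroup `M` by an element of `G` -/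
def cj (g : G) (K : Subgroup M) : Subgroup M :=
  K.map (MulAut.conjNormal g : MulAut M).toMonoidHom

theorem card_cj [Finite G] (g : G) (K : Subgroup M) : Nat.card (cj M g K) = Nat.card K :=
  Subgroup.card_map_of_injective (MulEquiv.injective _)

theorem cj_normal (g : G) (K : Subgroup M) [hK : K.Normal] : (cj M g K).Normal :=
  Subgroup.Normal.map hK _ (MulEquiv.surjective _)

theorem map_subtype_normal_of_cj_le (K : Subgroup M) (h : ∀ g : G, cj M g K ≤ K) :
    (K.map M.subtype).Normal := by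
  constructor
  intro n hn g
  obtain ⟨k, hk, rfl⟩ := Subgroup.mem_map.1 hn
  have hmem : (MulAut.conjNormal g : MulAut M) k ∈ K := h g (Subgroup.mem_map_of_mem _ hk)
  refine Subgroup.mem_map.2 ⟨_, hmem, ?_⟩
  simp [MulAut.conjNormal_apply]

theorem isSimpleGroup_of_minimal_normal [Finite G] (hMne : M ≠ ⊥)
    (hMmin : ∀ B : Subgroup G, B.Normal → B ≤ M → B = ⊥ ∨ B = M) {p : ℕ} (hp : p.Prime)
    (hpM : p ∣ Nat.card M) (hp2 : ¬ p ^ 2 ∣ Nat.card M) : IsSimpleGroup M := by
  have : Fact p.Prime := ⟨hp⟩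
  have : Nontrivial M := (Subgroup.nontrivial_iff_ne_bot M).2 hMne
  have hinv : ∀ K : Subgroup M, (∀ g : G, cj M g K ≤ K) → K = ⊥ ∨ K = ⊤ := by
    intro K hK
    have hn := map_subtype_normal_of_cj_le M K hK
    rcases hMmin _ hn (Subgroup.map_subtype_le K) with h | h
    · left
      exact (Subgroup.map_eq_bot_iff_of_injective K M.subtype_injective).1 h
    · right
      rw [eq_top_iff]
      intro x _
      have hx : (x : G) ∈ K.map M.subtype := by rw [h]; exact x.2
      obtain ⟨k, hk, hkx⟩ := Subgroup.mem_map.1 hx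
      have : k = x := Subtype.ext hkx
      exact this ▸ hk
  obtain ⟨x, hxo⟩ := exists_prime_orderOf_dvd_card' p hpM
  have hxp : x ^ p = 1 := by rw [← hxo]; exact pow_orderOf_eq_one x
  have step1 : ∀ K : Subgroup M, K.Normal → p ∣ Nat.card K → K = ⊤ := by
    obtain ⟨K0, ⟨hK0n, hK0p⟩, hK0min⟩ :=
      Set.exists_min_image {K : Subgroup M | K.Normal ∧ p ∣ Nat.card K}
        (fun K => Nat.card K) (Set.toFinite _)
        ⟨⊤, inferInstance, by rwa [Subgroup.card_top]⟩
    have := hK0n
    have hK0inv : ∀ g : G, cj M g K0 ≤ K0 := by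
      intro g
      have : (cj M g K0).Normal := cj_normal M g K0
      have hcard : Nat.card (cj M g K0) = Nat.card K0 := card_cj M g K0
      have hx1 : x ∈ K0 := mem_of_pow_prime_eq_one K0 hp hK0p hp2 hxp
      have hx2 : x ∈ cj M g K0 :=
        mem_of_pow_prime_eq_one (cj M g K0) hp (by rw [hcard]; exact hK0p) hp2 hxp
      have hD : p ∣ Nat.card (K0 ⊓ cj M g K0 : Subgroup M) := by
        rw [← hxo]; exact Subgroup.orderOf_dvd_natCard _ (Subgroup.mem_inf.2 ⟨hx1, hx2⟩)
      have hDn : (K0 ⊓ cj M g K0).Normal := inferInstance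
      have h1 : Nat.card K0 ≤ Nat.card (K0 ⊓ cj M g K0 : Subgroup M) := hK0min _ ⟨hDn, hD⟩
      have h2 : K0 ⊓ cj M g K0 = K0 := Subgroup.eq_of_le_of_card_ge inf_le_left h1
      have h3 : K0 ≤ cj M g K0 :=
        calc K0 = K0 ⊓ cj M g K0 := h2.symm
          _ ≤ cj M g K0 := inf_le_right
      have h4 : K0 = cj M g K0 := Subgroup.eq_of_le_of_card_ge h3 hcard.le
      exact h4.symm.le
    rcases hinv K0 hK0inv with h | h
    · exfalso
      rw [h, Subgroup.card_bot] at hK0p
      exact hp.one_lt.ne' (Nat.dvd_one.1 hK0p)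
    · intro K hKn hKp
      have h1 : Nat.card K0 ≤ Nat.card K := hK0min K ⟨hKn, hKp⟩
      rw [h] at h1
      exact Subgroup.eq_of_le_of_card_ge le_top h1
  have step2 : ∀ K : Subgroup M, K.Normal → ¬ p ∣ Nat.card K → K = ⊥ := by
    obtain ⟨K1, ⟨hK1n, hK1p⟩, hK1max⟩ :=
      Set.exists_max_image {K : Subgroup M | K.Normal ∧ ¬ p ∣ Nat.card K}
        (fun K => Nat.card K) (Set.toFinite _)
        ⟨⊥, inferInstance, by rw [Subgroup.card_bot]; exact hp.not_dvd_one⟩
    have := hK1n
    have hK1inv : ∀ g : G, cj M g K1 ≤ K1 := by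
      intro g
      have : (cj M g K1).Normal := cj_normal M g K1
      have hcard : Nat.card (cj M g K1) = Nat.card K1 := card_cj M g K1
      have hE : ¬ p ∣ Nat.card (K1 ⊔ cj M g K1 : Subgroup M) :=
        not_dvd_card_sup K1 (cj M g K1) hp hK1p (by rw [hcard]; exact hK1p)
      have hEn : (K1 ⊔ cj M g K1).Normal := inferInstance
      have h1 : Nat.card (K1 ⊔ cj M g K1 : Subgroup M) ≤ Nat.card K1 := hK1max _ ⟨hEn, hE⟩
      have h2 : K1 = K1 ⊔ cj M g K1 := Subgroup.eq_of_le_of_card_ge le_sup_left h1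
      calc cj M g K1 ≤ K1 ⊔ cj M g K1 := le_sup_right
        _ = K1 := h2.symm
    rcases hinv K1 hK1inv with h | h
    · intro K hKn hKp
      have h1 : Nat.card K ≤ Nat.card K1 := hK1max K ⟨hKn, hKp⟩
      rw [h, Subgroup.card_bot] at h1
      exact Subgroup.eq_bot_of_card_le K h1
    · exfalso
      rw [h, Subgroup.card_top] at hK1p
      exact hK1p hpM
  exact ⟨fun K hK => by
    by_cases hpK : p ∣ Nat.card K
    · exact Or.inr (step1 K hK hpK)
    · exact Or.inl (step2 K hK hpK)⟩

/-- Frattini-type argument: if `p ∥ |G|` divides `|M|`, `M ⊴ G`, there are no elements of order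
`p * q` and `q ∤ p - 1`, then every prime divisor `q` of `|G|` divides `|M|`. -/
theorem dvd_card_of_dvd_card [Finite G] {p q : ℕ} (hp : p.Prime) (hq : q.Prime) (hpq : p ≠ q)
    (hpM : p ∣ Nat.card M) (hp2 : ¬ p ^ 2 ∣ Nat.card G) (hqG : q ∣ Nat.card G)
    (hqp : ¬ q ∣ p - 1) (hno : ∀ g : G, orderOf g ≠ p * q) : q ∣ Nat.card M := by
  by_contra hqM
  have : Fact p.Prime := ⟨hp⟩
  have : Fact q.Prime := ⟨hq⟩
  obtain ⟨P0⟩ : Nonempty (Sylow p M) := inferInstance
  have hfrat : normalizer ((((P0 : Subgroup M).map M.subtype : Subgroup G)) : Set G) ⊔ M = ⊤ :=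
    Sylow.normalizer_sup_eq_top P0
  have hPcard : Nat.card ((P0 : Subgroup M).map M.subtype : Subgroup G) = p := by
    rw [Subgroup.card_map_of_injective M.subtype_injective]
    obtain ⟨k, hk⟩ := IsPGroup.iff_card.1 P0.isPGroup'
    have h1 : p ∣ Nat.card P0 := P0.dvd_card_of_dvd_card hpM
    have h2 : Nat.card P0 ∣ Nat.card G :=
      (Subgroup.card_subgroup_dvd_card (P0 : Subgroup M)).trans (Subgroup.card_subgroup_dvd_card M)
    rw [hk] at h1 h2 ⊢
    have hk1 : k ≠ 0 := by
      rintro rfl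
      rw [pow_zero] at h1
      exact hp.one_lt.ne' (Nat.dvd_one.1 h1)
    have hk2 : k < 2 := by
      by_contra hcon
      exact hp2 ((pow_dvd_pow p (by omega : 2 ≤ k)).trans h2)
    have : k = 1 := by omega
    rw [this, pow_one]
  have hq1 : q ∣ Nat.card (G ⧸ M) := by
    have hc := Subgroup.card_eq_card_quotient_mul_card_subgroup M
    rw [hc] at hqG
    rcases (Nat.Prime.dvd_mul hq).1 hqG with h | h
    · exact h
    · exact absurd h hqM
  have hq2 : q ∣ Nat.card (normalizer ((((P0 : Subgroup M).map M.subtype : Subgroup G)) : Set G)) :=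
    hq1.trans (card_quotient_dvd_of_sup_eq_top _ M hfrat)
  obtain ⟨y, hy⟩ := exists_prime_orderOf_dvd_card' q hq2
  have hpP : p ∣ Nat.card ((P0 : Subgroup M).map M.subtype : Subgroup G) := by rw [hPcard]
  obtain ⟨x, hx⟩ := exists_prime_orderOf_dvd_card' p hpP
  have hyo : orderOf (y : G) = q := by rw [Subgroup.orderOf_coe]; exact hy
  have hxo : orderOf (x : G) = p := by rw [Subgroup.orderOf_coe]; exact hx
  have hc : (y : G) * x = x * y := commute_of_normalizer_prime hp hq hPcard hqp y.2 hyo x.2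
  exact hno ((x : G) * y) (orderOf_mul_of_commute_primes hp hq hpq hxo hyo hc.symm)

end conj

section pullback

variable {G : Type u} [Group G]

/-- A section `H'/N'` of `G ⧸ M` is isomorphic to the section of `G` given by the preimages. -/
theorem sectionEquiv (M : Subgroup G) [M.Normal] (N' H' : Subgroup (G ⧸ M)) [N'.Normal] :
    Nonempty ((↥(H'.comap (QuotientGroup.mk' M)) ⧸
      (N'.comap (QuotientGroup.mk' M)).subgroupOf (H'.comap (QuotientGroup.mk' M))) ≃*
        (↥H' ⧸ N'.subgroupOf H')) := by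
  let f := QuotientGroup.mk' M
  let φ : ↥(H'.comap f) →* ↥H' ⧸ N'.subgroupOf H' :=
    (QuotientGroup.mk' (N'.subgroupOf H')).comp (f.subgroupComap H')
  have hφ : Function.Surjective φ :=
    (QuotientGroup.mk'_surjective _).comp
      (f.subgroupComap_surjective_of_surjective H' (QuotientGroup.mk'_surjective M))
  have hker : φ.ker = (N'.comap f).subgroupOf (H'.comap f) := by
    ext x
    simp only [φ, MonoidHom.mem_ker, MonoidHom.coe_comp, Function.comp_apply,
      QuotientGroup.mk'_apply, QuotientGroup.eq_one_iff, Subgroup.mem_subgroupOf,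
      Subgroup.mem_comap]
    rfl
  exact ⟨(QuotientGroup.quotientMulEquivOfEq hker.symm).trans
    (QuotientGroup.quotientKerEquivOfSurjective φ hφ)⟩

end pullback

end Cfsg.Agent.Lib.Helper21.SpecTools
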