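import Cfsg.Agent.Lib.Helper28.Srg77.Psd

set_option autoImplicit false
set_option linter.unusedSectionVars false
set_option linter.unusedVariables false

/-! S0429 piece [D] (helper21): lines are well defined 5-sets (`P4` from `P2`, `P3`). -/

namespace Cfsg.Agent.Lib.Helper28.Srg77

open Finset Classical

variable {V : Type*} [Fintype V] {G : SimpleGraph V}

namespace Helper21

theorem not_col_left (a b : V) : ¬ Col G a b a := fun h => h.2.1.1 rfl

theorem not_col_right (a b : V) : ¬ Col G a b b := fun h => h.2.2.1.1 rfl

theorem card_line_of (h2 : P2 G) {x y : V} (hxy : Perp G x y) : (line G x y).card = 5 := by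
  have hy : y ∉ univ.filter (fun c => Col G x y c) := by
    simp [not_col_right]
  have hx : x ∉ insert y (univ.filter (fun c => Col G x y c)) := by
    simp [hxy.1, not_col_left]
  unfold line
  rw [card_insert_of_notMem hx, card_insert_of_notMem hy, h2 x y hxy]

theorem line_comm (x y : V) : line G x y = line G y x := by
  ext c
  rw [mem_line, mem_line]
  constructor
  · rintro (h | h | h)
    · exact Or.inr (Or.inl h)
    · exact Or.inl h
    · exact Or.inr (Or.inr h.swap12)
  · rintro (h | h | h)
    · exact Or.inr (Or.inl h)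
    · exact Or.inl h
    · exact Or.inr (Or.inr h.swap12)

/-- moving the second point of a line -/
theorem line_eq_of_col (h2 : P2 G) (h3 : P3 G) {x y z : V} (hxy : Perp G x y) (hz : Col G x y z) :
    line G x z = line G x y := by
  have hxz : Perp G x z := hz.2.1
  symm
  apply eq_of_subset_of_card_le
  · intro c hc
    rcases mem_line.1 hc with h | h | h
    · exact mem_line.2 (Or.inl h)
    · rw [h]
      exact mem_line.2 (Or.inr (Or.inr hz.swap23))
    · by_cases hcz : c = z
      · exact mem_line.2 (Or.inr (Or.inl hcz))
      · exact mem_line.2 (Or.inr (Or.inr (h3 x y z c hz h (fun e => hcz e.symm))))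
  · rw [card_line_of h2 hxy, card_line_of h2 hxz]

/-- moving the second point of a line, general form -/
theorem line_eq_left (h2 : P2 G) (h3 : P3 G) {x y b : V} (hxy : Perp G x y) (hb : b ∈ line G x y)
    (hbx : b ≠ x) : Perp G x b ∧ line G x b = line G x y := by
  rcases mem_line.1 hb with h | h | h
  · exact absurd h hbx
  · rw [h]
    exact ⟨hxy, rfl⟩
  · exact ⟨h.2.1, line_eq_of_col h2 h3 hxy h⟩

theorem line_eq_gen (h2 : P2 G) (h3 : P3 G) {x y a b : V} (hxy : Perp G x y) (ha : a ∈ line G x y)
    (hb : b ∈ line G x y) (hab : a ≠ b) : Perp G a b ∧ line G a b = line G x y := by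
  by_cases hax : a = x
  · rw [hax]
    exact line_eq_left h2 h3 hxy hb (fun e => hab (hax.trans e.symm))
  · obtain ⟨hpa, hla⟩ := line_eq_left h2 h3 hxy ha hax
    have hla' : line G a x = line G x y := (line_comm a x).trans hla
    have hb' : b ∈ line G a x := by rw [hla']; exact hb
    obtain ⟨hpb, hlb⟩ := line_eq_left h2 h3 hpa.symm hb' (fun e => hab e.symm)
    exact ⟨hpb, hlb.trans hla'⟩

end Helper21

/-- [D] -/
theorem p4 (hG : M22Like G) (h2 : P2 G) (h3 : P3 G) : P4 G where
  card_line := fun x y hxy => Helper21.card_line_of h2 hxy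
  perp_of_mem := fun x y hxy a ha b hb hab => (Helper21.line_eq_gen h2 h3 hxy ha hb hab).1
  col_of_mem := by
    intro x y hxy a ha b hb c hc hab hac hbc
    have hl := (Helper21.line_eq_gen h2 h3 hxy ha hb hab).2
    have hc' : c ∈ line G a b := by rw [hl]; exact hc
    rcases mem_line.1 hc' with h | h | h
    · exact absurd h.symm hac
    · exact absurd h.symm hbc
    · exact h
  line_eq := fun x y hxy a ha b hb hab => (Helper21.line_eq_gen h2 h3 hxy ha hb hab).2

end Cfsg.Agent.Lib.Helper28.Srg77
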