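import Cfsg.Agent.Lib.Helper28.Srg77.Psd

set_option autoImplicit false
set_option linter.unusedSectionVars false
set_option linter.unusedVariables false

/-! S0429 piece [G] (helper21): the graph induced on `Tset L` is connected (`P7` from `P6`). -/

namespace Cfsg.Agent.Lib.Helper28.Srg77

open Finset Classical

variable {V : Type*} [Fintype V] {G : SimpleGraph V}

/-- [G] -/
theorem p7 (hG : M22Like G) (h6 : P6 G) : P7 G := by
  intro L hL U hU hsep
  by_contra hcon
  rw [not_or] at hcon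
  obtain ⟨hne, hneT⟩ := hcon
  obtain ⟨T, hT⟩ : ∃ T, T = Tset G L := ⟨_, rfl⟩
  rw [← hT] at hU hsep hneT
  have h6' : ∀ v ∈ T, (T.filter (fun u => G.Adj v u)).card = 6 := by
    intro v hv
    rw [hT] at hv ⊢
    exact h6 L hL v hv
  have hW : (T \ U).Nonempty := by
    rw [Finset.nonempty_iff_ne_empty]
    intro h
    exact hneT (Finset.Subset.antisymm hU (Finset.sdiff_eq_empty_iff_subset.mp h))
  have hUne : U.Nonempty := Finset.nonempty_iff_ne_empty.mpr hne
  obtain ⟨a, ha'⟩ : ∃ a : ℤ, a = ((T \ U).card : ℤ) := ⟨_, rfl⟩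
  obtain ⟨b, hb'⟩ : ∃ b : ℤ, b = (U.card : ℤ) := ⟨_, rfl⟩
  have ha : 0 < a := by rw [ha']; exact_mod_cast hW.card_pos
  have hb : 0 < b := by rw [hb']; exact_mod_cast hUne.card_pos
  obtain ⟨c, hc⟩ : ∃ c : V → ℤ, ∀ v, c v = if v ∈ U then a else -b := ⟨_, fun _ => rfl⟩
  -- adjacent vertices of `T` lie on the same side
  have hside : ∀ u ∈ T, ∀ v ∈ T, G.Adj u v → c v = c u := by
    intro u hu v hv huv
    by_cases h1 : u ∈ U <;> by_cases h2 : v ∈ U
    · rw [hc, hc, if_pos h1, if_pos h2]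
    · exact absurd huv (hsep u h1 v (Finset.mem_sdiff.mpr ⟨hv, h2⟩))
    · exact absurd huv.symm (hsep v h2 u (Finset.mem_sdiff.mpr ⟨hu, h1⟩))
    · rw [hc, hc, if_neg h1, if_neg h2]
  have hsum0 : ∑ v ∈ T, c v = 0 := by
    have h1 : T.filter (fun v => v ∈ U) = U := by
      ext v
      simp only [Finset.mem_filter]
      exact ⟨fun h => h.2, fun h => ⟨hU h, h⟩⟩
    have h2 : T.filter (fun v => ¬ v ∈ U) = T \ U := by
      ext v
      simp only [Finset.mem_filter, Finset.mem_sdiff]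
    simp_rw [hc]
    rw [Finset.sum_ite, h1, h2, Finset.sum_const, Finset.sum_const, nsmul_eq_mul, nsmul_eq_mul,
      ← ha', ← hb']
    ring
  have hnb : ∀ u ∈ T, ∑ v ∈ T, c v * ad G u v = 6 * c u := by
    intro u hu
    have h1 : ∀ v ∈ T, c v * ad G u v = if G.Adj u v then c u else 0 := by
      intro v hv
      unfold ad
      by_cases h : G.Adj u v
      · rw [if_pos h, if_pos h, mul_one, hside u hu v hv h]
      · rw [if_neg h, if_neg h, mul_zero]
    rw [Finset.sum_congr rfl h1, ← Finset.sum_filter, Finset.sum_const, h6' u hu]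
    simp
  have hdl : ∀ u ∈ T, ∑ v ∈ T, c v * dl u v = c u := by
    intro u hu
    unfold dl
    simp only [mul_ite, mul_one, mul_zero]
    rw [Finset.sum_ite_eq T u c, if_pos hu]
  have hin : ∀ u ∈ T, ∑ v ∈ T, c u * c v * Ks G u v = -44 * (c u) ^ 2 := by
    intro u hu
    have h1 : ∀ v, c u * c v * Ks G u v =
        c u * (22 * (c v * dl u v) + (-11) * (c v * ad G u v) + 2 * c v) := by
      intro v
      rw [Ks_eq]
      ring
    simp_rw [h1]
    rw [← Finset.mul_sum, Finset.sum_add_distrib, Finset.sum_add_distrib, ← Finset.mul_sum,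
      ← Finset.mul_sum, ← Finset.mul_sum, hdl u hu, hnb u hu, hsum0]
    ring
  have hQ : ∑ u ∈ T, ∑ v ∈ T, c u * c v * Ks G u v = -44 * ∑ u ∈ T, (c u) ^ 2 := by
    rw [Finset.mul_sum]
    exact Finset.sum_congr rfl hin
  have hpos : 0 < ∑ u ∈ T, (c u) ^ 2 := by
    obtain ⟨u0, hu0⟩ := hUne
    apply Finset.sum_pos' (fun u _ => sq_nonneg (c u))
    refine ⟨u0, hU hu0, ?_⟩
    rw [hc, if_pos hu0]
    positivity
  have hpsd := psd_s_finset hG T c
  rw [hQ] at hpsd
  linarith

end Cfsg.Agent.Lib.Helper28.Srg77
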