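import Cfsg.Agent.Lib.Helper28.Srg77.Psd

set_option autoImplicit false
set_option linter.unusedSectionVars false
set_option linter.unusedVariables false

/-! S0429 piece [I] (helper21): the plane through a line `L` and a vertex of `Tset L` is a coclique
of size 21 (`P9` from `P4`, `P8`). -/

namespace Cfsg.Agent.Lib.Helper28.Srg77

open Finset Classical

variable {V : Type*} [Fintype V] {G : SimpleGraph V}

/-- [I] -/
theorem p9 (hG : M22Like G) (h4 : P4 G) (h8 : P8 G) : P9 G := by
  intro L hL z hz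
  have hLline : IsLine G L := hL
  obtain ⟨p, q, hpq, hLeq⟩ := hL
  rw [mem_Tset] at hz
  obtain ⟨hzL, hzadj⟩ := hz
  have hzx : ∀ x ∈ L, Perp G z x := fun x hx => ⟨fun e => hzL (e ▸ hx), hzadj x hx⟩
  have hbline : ∀ x ∈ L, IsLine G (line G z x) := fun x hx => ⟨z, x, hzx x hx, rfl⟩
  have hLcard : L.card = 5 := by rw [hLeq]; exact h4.card_line p q hpq
  have hLne : L.Nonempty := by
    rw [← Finset.card_pos, hLcard]; norm_num
  -- (F1)
  have F1 : ∀ x ∈ L, ∀ y ∈ line G z x, y ∈ L → y = x := by
    intro x hx y hy hyL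
    by_contra hne
    have e1 : line G x y = L := by
      have := h4.line_eq p q hpq x (hLeq ▸ hx) y (hLeq ▸ hyL) (Ne.symm hne)
      rw [this, hLeq]
    have e2 : line G x y = line G z x :=
      h4.line_eq z x (hzx x hx) x (right_mem_line z x) y hy (Ne.symm hne)
    apply hzL
    rw [← e1, e2]
    exact left_mem_line z x
  -- (F2')
  have F2' : ∀ x ∈ L, ∀ x' ∈ L, x ≠ x' → line G z x ≠ line G z x' := by
    intro x hx x' hx' hne e
    have : x' ∈ line G z x := by rw [e]; exact right_mem_line z x'
    exact hne (F1 x hx x' this hx').symm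
  -- (F2)
  have F2 : ∀ x ∈ L, ∀ x' ∈ L, x ≠ x' → ∀ y, y ∈ line G z x → y ∈ line G z x' → y = z := by
    intro x hx x' hx' hne y hy hy'
    by_contra hyz
    have e1 : line G z y = line G z x :=
      h4.line_eq z x (hzx x hx) z (left_mem_line z x) y hy (Ne.symm hyz)
    have e2 : line G z y = line G z x' :=
      h4.line_eq z x' (hzx x' hx') z (left_mem_line z x') y hy' (Ne.symm hyz)
    exact F2' x hx x' hx' hne (e1.symm.trans e2)
  -- (F3)
  have F3 : ∀ x ∈ L, ∀ y ∈ line G z x, ∀ u ∈ L, ¬ G.Adj y u := by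
    intro x hx y hy u hu
    have hne : L ≠ line G z x := fun e => hzL (e ▸ left_mem_line z x)
    exact h8 L (line G z x) hLline (hbline x hx) hne x hx (right_mem_line z x) z
      (left_mem_line z x) (hzx x hx).1 hzadj y hy u hu
  -- (F4)
  have F4 : ∀ x ∈ L, ∀ x' ∈ L, x ≠ x' → ∀ y ∈ line G z x, ∀ y' ∈ line G z x', ¬ G.Adj y y' := by
    intro x hx x' hx' hne y hy y' hy'
    have hxadj : ∀ u ∈ line G z x', ¬ G.Adj x u := fun u hu h => F3 x' hx' u hu x hx h.symm
    exact h8 (line G z x') (line G z x) (hbline x' hx') (hbline x hx)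
      (F2' x' hx' x hx (Ne.symm hne)) z (left_mem_line z x') (left_mem_line z x) x
      (right_mem_line z x) (hzx x hx).1.symm hxadj y hy y' hy'
  -- (F5)
  have F5 : ∀ x ∈ L, ∀ y ∈ line G z x, ∀ y' ∈ line G z x, ¬ G.Adj y y' := by
    intro x hx y hy y' hy'
    by_cases hne : y = y'
    · rw [hne]; exact G.loopless.irrefl y'
    · exact (h4.perp_of_mem z x (hzx x hx) y hy y' hy' hne).2
  -- the plane
  refine ⟨insert z (L.biUnion fun x => (line G z x).erase z), ?_, Finset.mem_insert_self _ _, ?_, ?_⟩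
  · intro x hx
    apply Finset.mem_insert_of_mem
    rw [Finset.mem_biUnion]
    exact ⟨x, hx, Finset.mem_erase.mpr ⟨(hzx x hx).1.symm, right_mem_line z x⟩⟩
  · have hnot : z ∉ L.biUnion fun x => (line G z x).erase z := by
      rw [Finset.mem_biUnion]
      rintro ⟨x, _, hx⟩
      exact (Finset.mem_erase.mp hx).1 rfl
    rw [Finset.card_insert_of_notMem hnot, Finset.card_biUnion]
    · have : ∀ x ∈ L, ((line G z x).erase z).card = 4 := by
        intro x hx
        rw [Finset.card_erase_of_mem (left_mem_line z x), h4.card_line z x (hzx x hx)]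
      rw [Finset.sum_congr rfl this, Finset.sum_const, hLcard]
      rfl
    · intro x hx x' hx' hne
      show Disjoint ((line G z x).erase z) ((line G z x').erase z)
      rw [Finset.disjoint_left]
      intro y hy hy'
      rw [Finset.mem_erase] at hy hy'
      exact hy.1 (F2 x hx x' hx' hne y hy.2 hy'.2)
  · have hmem : ∀ y ∈ insert z (L.biUnion fun x => (line G z x).erase z),
        ∃ x ∈ L, y ∈ line G z x := by
      intro y hy
      rw [Finset.mem_insert] at hy
      rcases hy with rfl | hy
      · obtain ⟨x, hx⟩ := hLne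
        exact ⟨x, hx, left_mem_line y x⟩
      · rw [Finset.mem_biUnion] at hy
        obtain ⟨x, hx, hy⟩ := hy
        exact ⟨x, hx, (Finset.mem_erase.mp hy).2⟩
    intro y hy y' hy'
    obtain ⟨x, hx, hyx⟩ := hmem y hy
    obtain ⟨x', hx', hyx'⟩ := hmem y' hy'
    by_cases hne : x = x'
    · subst hne
      exact F5 x hx y hyx y' hyx'
    · exact F4 x hx x' hx' hne y hyx y' hyx'

end Cfsg.Agent.Lib.Helper28.Srg77
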