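import Mathlib

/-!
S2398/S2100 (Steinberg Thm 10, architect helper14, Part B sub-architect helper16), piece [BF]: a field with more than
four elements has a nonzero `v` with `v ^ e ≠ 1` for `e ≠ 0`, `|e| ≤ 3`.
-/

set_option autoImplicit false

namespace Cfsg.Agent.Lib.Helper14.StCC.B

variable {K : Type*} [Field K]

namespace Helper21

/-- more than four elements: some nonzero `v` with `v ^ n ≠ 1` for `1 ≤ n ≤ 3` -/
theorem exists_pow_ne_one (hK5 : ∃ s : Finset K, 4 < s.card) {n : ℕ} (hn1 : 1 ≤ n) (hn3 : n ≤ 3) :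
    ∃ v : K, v ≠ 0 ∧ v ^ n ≠ 1 := by
  classical
  obtain ⟨s, hs⟩ := hK5
  by_contra hcon
  have hall : ∀ v : K, v ≠ 0 → v ^ n = 1 := by
    intro v hv
    by_contra h
    exact hcon ⟨v, hv, h⟩
  -- all nonzero elements of `s` are roots of `X ^ n - 1`
  have hpoly : (Polynomial.X ^ n - 1 : Polynomial K) ≠ 0 :=
    Polynomial.X_pow_sub_C_ne_zero (by omega) (1 : K)
  have hsub : s.erase 0 ⊆ (Polynomial.X ^ n - 1 : Polynomial K).roots.toFinset := by
    intro v hv
    rw [Finset.mem_erase] at hv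
    rw [Multiset.mem_toFinset, Polynomial.mem_roots hpoly, Polynomial.IsRoot.def]
    simp [hall v hv.1]
  have h1 : (s.erase 0).card ≤ (Polynomial.X ^ n - 1 : Polynomial K).roots.toFinset.card :=
    Finset.card_le_card hsub
  have h2 : (Polynomial.X ^ n - 1 : Polynomial K).roots.toFinset.card ≤
      Multiset.card (Polynomial.X ^ n - 1 : Polynomial K).roots := Multiset.toFinset_card_le _
  have h3 : Multiset.card (Polynomial.X ^ n - 1 : Polynomial K).roots ≤
      (Polynomial.X ^ n - 1 : Polynomial K).natDegree := Polynomial.card_roots' _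
  have h4 : (Polynomial.X ^ n - 1 : Polynomial K).natDegree = n := by
    have := Polynomial.natDegree_X_pow_sub_C (R := K) (n := n) (r := 1)
    simpa using this
  have h5 : s.card - 1 ≤ (s.erase 0).card := Finset.pred_card_le_card_erase
  omega

end Helper21

/-- [BF] -/
theorem exists_zpow_ne_one (hK5 : ∃ s : Finset K, 4 < s.card) {e : ℤ} (he : e ≠ 0) (h1 : -3 ≤ e)
    (h2 : e ≤ 3) : ∃ v : K, v ≠ 0 ∧ v ^ e ≠ 1 := by
  have hn1 : 1 ≤ e.natAbs := by omega
  have hn3 : e.natAbs ≤ 3 := by omega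
  obtain ⟨v, hv0, hv⟩ := Helper21.exists_pow_ne_one hK5 hn1 hn3
  refine ⟨v, hv0, ?_⟩
  rcases Int.natAbs_eq e with h | h
  · rw [h, zpow_natCast]
    exact hv
  · rw [h, zpow_neg, zpow_natCast]
    intro h'
    apply hv
    rw [inv_eq_one] at h'
    exact h'

end Cfsg.Agent.Lib.Helper14.StCC.B
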