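import Cfsg.Agent.Lib.Helper16.StCCB.Defs

/-!
S2398/S2100 (Steinberg Thm 10, architect helper14, Part B sub-architect helper16), piece [BS3]: the word identity `(*)`
for the three-term shape `[(q1, C11, 1, 1), (q2, C21, 2, 1), (q3, C12, 1, 2)]` (abstract: any group, any maps `φ`).
-/

set_option autoImplicit false
set_option linter.unusedVariables false

namespace Cfsg.Agent.Lib.Helper14.StCC.B

open Cfsg.Lie Cfsg.Agent.Lib.Helper8.Chev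

variable {K : Type*} [Field K] {E : Type*} [Group E]

namespace Helper21

theorem AddP.zero {φ : ℕ → K → E} {a : ℕ} (h : AddP φ a) : φ a 0 = 1 := by
  have h1 := h 0 0
  rw [add_zero] at h1
  exact mul_eq_left.mp h1

theorem AddP.inv {φ : ℕ → K → E} {a : ℕ} (h : AddP φ a) (x : K) : (φ a x)⁻¹ = φ a (-x) := by
  rw [inv_eq_iff_mul_eq_one, h, add_neg_cancel, AddP.zero h]

/-- products of three commuting factors multiply componentwise -/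
theorem mul3 {G : Type*} [Group G] (a b c a' b' c' : G) (h1 : c * a' = a' * c) (h2 : b * a' = a' * b)
    (h3 : c * b' = b' * c) : a * b * c * (a' * b' * c') = (a * a') * (b * b') * (c * c') := by
  calc a * b * c * (a' * b' * c') = a * b * (c * a') * b' * c' := by group
    _ = a * b * (a' * c) * b' * c' := by rw [h1]
    _ = a * (b * a') * (c * b') * c' := by group
    _ = a * (a' * b) * (b' * c) * c' := by rw [h2, h3]
    _ = (a * a') * (b * b') * (c * c') := by group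

/-- the product of three commuting root elements -/
def F3 (φ : ℕ → K → E) (q1 q2 q3 : ℕ) (x1 x2 x3 : K) : E := φ q1 x1 * φ q2 x2 * φ q3 x3

theorem F3_mul (φ : ℕ → K → E) {q1 q2 q3 : ℕ} (a1 : AddP φ q1) (a2 : AddP φ q2) (a3 : AddP φ q3)
    (c12 : CommP φ q1 q2) (c13 : CommP φ q1 q3) (c23 : CommP φ q2 q3) (x1 x2 x3 y1 y2 y3 : K) :
    F3 φ q1 q2 q3 x1 x2 x3 * F3 φ q1 q2 q3 y1 y2 y3 = F3 φ q1 q2 q3 (x1 + y1) (x2 + y2) (x3 + y3) := by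
  unfold F3
  rw [mul3 _ _ _ _ _ _ (c13 y1 x3).symm (c12 y1 x2).symm (c23 y2 x3).symm, a1, a2, a3]

theorem F3_inv (φ : ℕ → K → E) {q1 q2 q3 : ℕ} (a1 : AddP φ q1) (a2 : AddP φ q2) (a3 : AddP φ q3)
    (c12 : CommP φ q1 q2) (c13 : CommP φ q1 q3) (c23 : CommP φ q2 q3) (x1 x2 x3 : K) :
    (F3 φ q1 q2 q3 x1 x2 x3)⁻¹ = F3 φ q1 q2 q3 (-x1) (-x2) (-x3) := by
  rw [inv_eq_iff_mul_eq_one, F3_mul φ a1 a2 a3 c12 c13 c23, add_neg_cancel, add_neg_cancel,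
    add_neg_cancel]
  unfold F3
  rw [AddP.zero a1, AddP.zero a2, AddP.zero a3, mul_one, mul_one]

/-- conjugation of `F3` by `φ s u` -/
theorem F3_conj (φ : ℕ → K → E) {s q1 q2 q3 : ℕ} {κ : ℤ} (a3 : AddP φ q3)
    (c23 : CommP φ q2 q3) (cs2 : CommP φ s q2) (cs3 : CommP φ s q3)
    (hs1 : ∀ x y : K, φ q1 y * φ s x = φ s x * φ q1 y * φ q3 ((κ : K) * (-x) ^ 1 * y ^ 1))
    (u x1 x2 x3 : K) :
    φ s u * F3 φ q1 q2 q3 x1 x2 x3 * (φ s u)⁻¹ = F3 φ q1 q2 q3 x1 x2 (x3 + (κ : K) * u * x1) := by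
  unfold F3
  -- `φ s u * φ q1 x1 = φ q1 x1 * φ q3 (κ u x1) * φ s u`
  have h1 : φ s u * φ q1 x1 = φ q1 x1 * φ q3 ((κ : K) * u * x1) * φ s u := by
    have h := hs1 u x1
    -- φ q1 x1 * φ s u = φ s u * φ q1 x1 * φ q3 (κ (-u) x1)
    have h' : φ s u * φ q1 x1 = φ q1 x1 * φ s u * (φ q3 ((κ : K) * (-u) ^ 1 * x1 ^ 1))⁻¹ := by
      rw [h]; group
    rw [h', AddP.inv a3, mul_assoc, cs3, ← mul_assoc]
    congr 3
    ring
  calc φ s u * (φ q1 x1 * φ q2 x2 * φ q3 x3) * (φ s u)⁻¹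
      = (φ s u * φ q1 x1) * φ q2 x2 * φ q3 x3 * (φ s u)⁻¹ := by group
    _ = φ q1 x1 * φ q3 ((κ : K) * u * x1) * (φ s u * φ q2 x2) * φ q3 x3 * (φ s u)⁻¹ := by
        rw [h1]; group
    _ = φ q1 x1 * φ q3 ((κ : K) * u * x1) * φ q2 x2 * (φ s u * φ q3 x3) * (φ s u)⁻¹ := by
        rw [cs2]; group
    _ = φ q1 x1 * (φ q3 ((κ : K) * u * x1) * φ q2 x2) * φ q3 x3 := by
        rw [cs3]; group
    _ = φ q1 x1 * (φ q2 x2 * φ q3 ((κ : K) * u * x1)) * φ q3 x3 := by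
        rw [← c23]
    _ = φ q1 x1 * φ q2 x2 * (φ q3 ((κ : K) * u * x1) * φ q3 x3) := by group
    _ = φ q1 x1 * φ q2 x2 * φ q3 (x3 + (κ : K) * u * x1) := by
        rw [a3, add_comm]

theorem tW3 (φ : ℕ → K → E) (q1 q2 q3 : ℕ) (C1 C2 C3 : ℤ) (i1 j1 i2 j2 i3 j3 : ℕ) (t u : K) :
    tW φ [(q1, C1, i1, j1), (q2, C2, i2, j2), (q3, C3, i3, j3)] t u =
      F3 φ q1 q2 q3 ((C1 : K) * (-t) ^ i1 * u ^ j1) ((C2 : K) * (-t) ^ i2 * u ^ j2)
        ((C3 : K) * (-t) ^ i3 * u ^ j3) := by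
  unfold tW F3
  simp only [List.map, wS_cons, wS_nil, mul_one, mul_assoc]

end Helper21

/-- [BS3] -/
theorem star_shape3 (φ : ℕ → K → E) {s q1 q2 q3 : ℕ} {C11 C21 C12 κ : ℤ}
    (as : AddP φ s) (a1 : AddP φ q1) (a2 : AddP φ q2) (a3 : AddP φ q3)
    (c12 : CommP φ q1 q2) (c13 : CommP φ q1 q3) (c23 : CommP φ q2 q3)
    (cs2 : CommP φ s q2) (cs3 : CommP φ s q3)
    (hs1 : ∀ x y : K, φ q1 y * φ s x = φ s x * φ q1 y * φ q3 ((κ : K) * (-x) ^ 1 * y ^ 1))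
    (hid : 2 * C12 + κ * C11 = 0) (b t u : K) :
    φ s u * tW φ [(q1, C11, 1, 1), (q2, C21, 2, 1), (q3, C12, 1, 2)] t (b * u) *
        (tW φ [(q1, C11, 1, 1), (q2, C21, 2, 1), (q3, C12, 1, 2)] t u)⁻¹ * (φ s u)⁻¹ =
      tW φ [(q1, C11, 1, 1), (q2, C21, 2, 1), (q3, C12, 1, 2)] t ((b - 1) * u) := by
  have hidK : (2 : K) * (C12 : K) + (κ : K) * (C11 : K) = 0 := by
    have := congrArg (fun z : ℤ => (z : K)) hid
    simpa using this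
  rw [Helper21.tW3, Helper21.tW3, Helper21.tW3, Helper21.F3_inv φ a1 a2 a3 c12 c13 c23, mul_assoc (φ s u),
    Helper21.F3_mul φ a1 a2 a3 c12 c13 c23, Helper21.F3_conj φ a3 c23 cs2 cs3 hs1]
  have e3 : (C12 : K) * (-t) ^ 1 * (b * u) ^ 2 + -((C12 : K) * (-t) ^ 1 * u ^ 2) +
      (κ : K) * u * ((C11 : K) * (-t) ^ 1 * (b * u) ^ 1 + -((C11 : K) * (-t) ^ 1 * u ^ 1)) =
      (C12 : K) * (-t) ^ 1 * ((b - 1) * u) ^ 2 := by
    have h2 : (κ : K) * (C11 : K) = -(2 * (C12 : K)) := by linear_combination hidK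
    linear_combination (-t * u ^ 2 * (b - 1)) * h2
  rw [e3]
  congr 2 <;> ring

end Cfsg.Agent.Lib.Helper14.StCC.B
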