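import Cfsg.Agent.Lib.Helper21.StemExt

/-!
More on finite stem extensions of a group `Q = R⟨s⟩` with `R` cyclic normal: the kernel is cyclic.
-/

set_option autoImplicit false

namespace Cfsg.Agent.Lib.Helper21

universe u v

/-- For a finite stem extension `σ : Γ → Q` where `Q = R⟨s⟩` with `R` a cyclic normal subgroup,
the kernel of `σ` is cyclic. -/
theorem stem_ker_isCyclic {Γ : Type u} {Q : Type v} [Group Γ] [Finite Γ] [Group Q]
    (σ : Γ →* Q) (hσ : IsStemExtension σ) (R : Subgroup Q) [R.Normal] (hR : IsCyclic R)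
    (s : Q) (hgen : R ⊔ Subgroup.zpowers s = ⊤) : IsCyclic σ.ker := by
  obtain ⟨hsurj, hcen, hcomm⟩ := hσ
  obtain ⟨t, ht⟩ := hsurj s
  set N := R.comap σ with hN
  have hNn : N.Normal := inferInstance
  have hNab : IsMulCommutative N := by
    apply (σ.subgroupComap R).isMulCommutative_of_isCyclic_of_ker_le_center
    intro a ha
    rw [Subgroup.mem_center_iff]
    intro b
    apply Subtype.ext
    have hamem : (a : Γ) ∈ σ.ker := by
      rw [MonoidHom.mem_ker] at ha ⊢
      have := congrArg Subtype.val ha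
      exact this
    have := (Subgroup.mem_center_iff.mp (hcen hamem)) (b : Γ)
    simpa using this
  have hgenΓ : N ⊔ Subgroup.zpowers t = ⊤ := by
    rw [eq_top_iff]
    intro g _
    have hg : σ g ∈ R ⊔ Subgroup.zpowers s := hgen ▸ Subgroup.mem_top _
    rw [Subgroup.mem_sup_of_normal_left] at hg
    obtain ⟨y, hy, z, hz, hyz⟩ := hg
    obtain ⟨k, rfl⟩ := Subgroup.mem_zpowers_iff.mp hz
    have h1 : g * (t ^ k)⁻¹ ∈ N := by
      rw [hN, Subgroup.mem_comap, map_mul, map_inv, map_zpow, ht, ← hyz]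
      simpa using hy
    have : g = (g * (t ^ k)⁻¹) * t ^ k := by group
    rw [this]
    exact Subgroup.mul_mem_sup h1 (Subgroup.zpow_mem_zpowers t k)
  have hrange := commHom_range_eq N hNab t hgenΓ
  -- a lift of a generator of R
  obtain ⟨⟨e, heR⟩, he⟩ := hR
  obtain ⟨x, hx⟩ := hsurj e
  have hxN : x ∈ N := by rw [hN, Subgroup.mem_comap, hx]; exact heR
  set c := commHom N hNab t ⟨x, hxN⟩ with hc
  have hle : (commHom N hNab t).range ≤ Subgroup.zpowers c := by
    rintro _ ⟨a, rfl⟩
    have haR : σ a ∈ R := a.2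
    obtain ⟨k, hk⟩ := Subgroup.mem_zpowers_iff.mp (he ⟨σ a, haR⟩)
    have hk' : e ^ k = σ a := by
      have := congrArg Subtype.val hk
      simpa using this
    -- a = x^k * z with z in the kernel
    have hz : (⟨x, hxN⟩ : N)⁻¹ ^ k * a ∈ (commHom N hNab t).ker := by
      rw [MonoidHom.mem_ker, commHom_apply]
      have hzk : (((⟨x, hxN⟩ : N)⁻¹ ^ k * a : N) : Γ) ∈ σ.ker := by
        rw [MonoidHom.mem_ker]
        simp only [Subgroup.coe_mul, Subgroup.coe_zpow, Subgroup.coe_inv, map_mul, map_zpow,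
          map_inv, hx, ← hk']
        group
      have hcz := Subgroup.mem_center_iff.mp (hcen hzk) t
      rw [hcz]
      group
    have ha : a = (⟨x, hxN⟩ : N) ^ k * ((⟨x, hxN⟩ : N)⁻¹ ^ k * a) := by group
    rw [ha, map_mul, MonoidHom.mem_ker.mp hz, mul_one, map_zpow]
    exact Subgroup.zpow_mem_zpowers _ _
  have hAle : σ.ker ≤ Subgroup.zpowers c := by
    refine le_trans hcomm ?_
    rw [← hrange]
    exact hle
  have : IsCyclic ((σ.ker).subgroupOf (Subgroup.zpowers c)) := inferInstance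
  exact isCyclic_of_surjective (Subgroup.subgroupOfEquivOfLe hAle) (Subgroup.subgroupOfEquivOfLe hAle).surjective

/-- a cyclic group whose order divides `n` is an image of `ZMod n` -/
theorem exists_surjective_of_isCyclic_of_card_dvd {A : Type*} [Group A] [Finite A] (hA : IsCyclic A)
    (n : ℕ) (hn : Nat.card A ∣ n) :
    ∃ π : Multiplicative (ZMod n) →* A, Function.Surjective π := by
  obtain ⟨g, hg⟩ := hA
  have hgn : g ^ n = 1 := by
    obtain ⟨k, rfl⟩ := hn
    rw [pow_mul, pow_card_eq_one', one_pow]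
  have hgn' : (n : ℤ) • (Additive.ofMul g) = 0 := by
    rw [natCast_zsmul]
    exact congrArg Additive.ofMul hgn
  let f : ZMod n →+ Additive A := ZMod.lift n ⟨(zmultiplesHom (Additive A)) (Additive.ofMul g), hgn'⟩
  refine ⟨AddMonoidHom.toMultiplicativeLeft f, ?_⟩
  intro a
  obtain ⟨k, hk⟩ := Subgroup.mem_zpowers_iff.mp (hg a)
  refine ⟨Multiplicative.ofAdd (k : ZMod n), ?_⟩
  show Additive.toMul (f (k : ZMod n)) = a
  have : f (k : ZMod n) = k • Additive.ofMul g := by
    show ZMod.lift n _ (k : ZMod n) = _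
    rw [ZMod.lift_coe]
    simp [zmultiplesHom_apply]
  rw [this, ← hk]
  rfl

end Cfsg.Agent.Lib.Helper21
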