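import Cfsg.Agent.Lib.Helper22.SuzOExclDefs

/-!
# S2074-F3, F4 (helper22's Out(Suz) front): the centraliser of `A` and the non-conjugacy of `A` and
`A ^ t` from the Boolean exclusion checks on base images
-/

set_option autoImplicit false

namespace Cfsg.Agent.Lib.Helper22.SuzOut

open Cfsg.Agent.Lib.Helper28.BSGS

namespace Helper21

/-- value of the image of a point under a power of a table permutation -/
theorem pow_val (n w : ℕ) [NeZero n] {tu tv : ℕ} (h : pairOK n w tu tv = true) (k : ℕ)
    (a : Fin n) : ((permOf n w tu tv ^ k) a).val = evalW w (List.replicate k tu) a.val :=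
  actsByW_pow (n := n) (w := w) (fun a => permOf_apply h a) k a

/-- the point numbered by an image under a power of the table -/
theorem pt_evalW (n w : ℕ) [NeZero n] {tu tv : ℕ} (h : pairOK n w tu tv = true) (k : ℕ) {b : ℕ}
    (hb : b < n) : pt n (evalW w (List.replicate k tu) b) = (permOf n w tu tv ^ k) (pt n b) := by
  have h1 := pow_val n w h k (pt n b)
  rw [pt_val n hb] at h1
  rw [← h1, pt_of_val]

theorem forall₂_of_map_eq {α β γ : Type*} (f : α → γ) (g : β → γ) :
    ∀ (l : List α) (l' : List β), l.map f = l'.map g → List.Forall₂ (fun a b => f a = g b) l l'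
  | [], [], _ => List.Forall₂.nil
  | [], _ :: _, h => by simp at h
  | _ :: _, [], h => by simp at h
  | a :: l, b :: l', h => by
    rw [List.map_cons, List.map_cons] at h
    have h1 := List.cons.inj h
    exact List.Forall₂.cons h1.1 (forall₂_of_map_eq f g l l' h1.2)

/-- soundness of the exclusion check: the image of the first base point under a sifting element
whose further base images are the prescribed ones is an exception -/
theorem excl_sound (n w : ℕ) [NeZero n] (gens : List (ℕ × ℕ)) (b0 : ℕ) (tr : List Entry)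
    (rest : List CLevel) (hwf : LevelsWF n w ((b0, tr) :: rest))
    (t : ℕ) (ks exc : List ℕ) (hex : ∀ e ∈ tr, exclPt w rest t ks exc e = true)
    (z : Equiv.Perm (Fin n)) (hs : Sifts (semLevels n w gens ((b0, tr) :: rest)) z)
    (himg : List.Forall₂ (fun (lv : CLevel) (y : ℕ) => (z (pt n lv.1)).val = y) rest
      (powImgs w t ks (z (pt n b0)).val)) :
    (z (pt n b0)).val ∈ exc := by
  have hfull : List.Forall₂ (fun (lv : CLevel) (y : ℕ) => (z (pt n lv.1)).val = y)
      ((b0, tr) :: rest) ((z (pt n b0)).val :: powImgs w t ks (z (pt n b0)).val) :=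
    List.Forall₂.cons rfl himg
  obtain ⟨ws, hws, _⟩ := imgSift_sound' n w gens ((b0, tr) :: rest) hwf z hs _ hfull
  have hstep : imgSift w ((b0, tr) :: rest)
      ((z (pt n b0)).val :: powImgs w t ks (z (pt n b0)).val) [] =
      match findE tr (z (pt n b0)).val with
      | none => none
      | some e => imgSift w rest (powImgs w t ks (z (pt n b0)).val) [e.2.2] := rfl
  rw [hstep] at hws
  cases hf : findE tr (z (pt n b0)).val with
  | none =>
    rw [hf] at hws
    exact absurd hws (by simp)
  | some e =>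
    rw [hf] at hws
    obtain ⟨hemem, he1⟩ := findE_some hf
    have h := hex e hemem
    unfold exclPt at h
    rw [Bool.or_eq_true] at h
    rcases h with h1 | h2
    · rw [he1] at h1
      simpa using h1
    · rw [he1] at h2
      have hws' : imgSift w rest (powImgs w t ks (z (pt n b0)).val) [e.2.2] = some ws := hws
      rw [hws'] at h2
      exact absurd h2 (by simp)

end Helper21

/-- [F3] centraliser of `A` from the exclusion check.  Base points of `rest` are `A^k b0` (k ∈ ks);
`cyc` = the `A`-orbit of `b0`. -/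
theorem centralizer_le_zpowers (n w : ℕ) [NeZero n] (gens : List (ℕ × ℕ)) (b0 : ℕ) (tr : List Entry)
    (rest : List CLevel) (hwf : LevelsWF n w ((b0, tr) :: rest))
    (hcomp : ∀ z ∈ genGroup n w gens, Sifts (semLevels n w gens ((b0, tr) :: rest)) z)
    (tA : ℕ × ℕ) (hA : pairOK n w tA.1 tA.2 = true)
    (hAm : permOf n w tA.1 tA.2 ∈ genGroup n w gens)
    (ks : List ℕ) (hbase : rest.map (fun lv => lv.1) = powImgs w tA.1 ks b0)
    (p : ℕ) (cyc : List ℕ) (hcyc : cyc = powImgs w tA.1 (List.range p) b0)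
    (hex : ∀ e ∈ tr, exclPt w rest tA.1 ks cyc e = true) :
    ∀ c ∈ genGroup n w gens, c * permOf n w tA.1 tA.2 = permOf n w tA.1 tA.2 * c →
      c ∈ Subgroup.zpowers (permOf n w tA.1 tA.2) := by
  intro c hc hcomm
  have hb0 : b0 < n := (hwf (b0, tr) List.mem_cons_self).1
  have hcpow : ∀ k : ℕ, c * permOf n w tA.1 tA.2 ^ k = permOf n w tA.1 tA.2 ^ k * c :=
    fun k => Commute.pow_right hcomm k
  -- the image under `c` of a base point `A^k b0`
  have hcpt : ∀ k : ℕ, c (pt n (evalW w (List.replicate k tA.1) b0)) =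
      (permOf n w tA.1 tA.2 ^ k) (c (pt n b0)) := by
    intro k
    rw [Helper21.pt_evalW n w hA k hb0, ← Equiv.Perm.mul_apply, hcpow k, Equiv.Perm.mul_apply]
  have hF : List.Forall₂ (fun (lv : CLevel) (k : ℕ) =>
      lv.1 = evalW w (List.replicate k tA.1) b0) rest ks :=
    Helper21.forall₂_of_map_eq (fun lv : CLevel => lv.1)
      (fun k => evalW w (List.replicate k tA.1) b0) rest ks hbase
  have himg : List.Forall₂ (fun (lv : CLevel) (y : ℕ) => (c (pt n lv.1)).val = y) rest
      (powImgs w tA.1 ks (c (pt n b0)).val) := by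
    unfold powImgs
    rw [List.forall₂_map_right_iff]
    refine hF.imp ?_
    intro lv k hlk
    rw [hlk, hcpt k, Helper21.pow_val n w hA k]
  have hmem := Helper21.excl_sound n w gens b0 tr rest hwf tA.1 ks cyc hex c (hcomp c hc) himg
  rw [hcyc] at hmem
  unfold powImgs at hmem
  obtain ⟨k0, _, hk0⟩ := List.mem_map.mp hmem
  -- `c` and `A ^ k0` agree on all base points
  have h0 : c (pt n b0) = (permOf n w tA.1 tA.2 ^ k0) (pt n b0) := by
    apply Fin.ext
    rw [← hk0, Helper21.pow_val n w hA k0, pt_val n hb0]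
  have hAk : permOf n w tA.1 tA.2 ^ k0 ∈ genGroup n w gens := Subgroup.pow_mem _ hAm k0
  have heq : c = permOf n w tA.1 tA.2 ^ k0 := by
    apply eq_of_base_eq' n w gens ((b0, tr) :: rest) hwf c _ (hcomp c hc) (hcomp _ hAk)
    intro lv hlv
    rcases List.mem_cons.mp hlv with rfl | hlv'
    · exact h0
    · have h1 : lv.1 ∈ rest.map (fun lv => lv.1) := List.mem_map.mpr ⟨lv, hlv', rfl⟩
      rw [hbase] at h1
      unfold powImgs at h1
      obtain ⟨k, _, hk⟩ := List.mem_map.mp h1
      rw [← hk, hcpt k, h0, Helper21.pt_evalW n w hA k hb0, ← Equiv.Perm.mul_apply,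
        ← Equiv.Perm.mul_apply, pow_mul_comm]
  rw [heq]
  exact Subgroup.npow_mem_zpowers _ k0

/-- [F4] no element conjugates `A` to `A ^ t`. -/
theorem no_conj_pow (n w : ℕ) [NeZero n] (gens : List (ℕ × ℕ)) (b0 : ℕ) (tr : List Entry)
    (rest : List CLevel) (hwf : LevelsWF n w ((b0, tr) :: rest))
    (hcomp : ∀ z ∈ genGroup n w gens, Sifts (semLevels n w gens ((b0, tr) :: rest)) z)
    (tA : ℕ × ℕ) (hA : pairOK n w tA.1 tA.2 = true)
    (ks : List ℕ) (hbase : rest.map (fun lv => lv.1) = powImgs w tA.1 ks b0)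
    (t : ℕ) (hex : ∀ e ∈ tr, exclPt w rest tA.1 (ks.map (fun k => k * t)) [] e = true) :
    ∀ g ∈ genGroup n w gens,
      g * permOf n w tA.1 tA.2 * g⁻¹ ≠ permOf n w tA.1 tA.2 ^ t := by
  intro g hg hconj
  have hb0 : b0 < n := (hwf (b0, tr) List.mem_cons_self).1
  have hgpow : ∀ k : ℕ, g * permOf n w tA.1 tA.2 ^ k = permOf n w tA.1 tA.2 ^ (k * t) * g := by
    intro k
    have h1 : (g * permOf n w tA.1 tA.2 * g⁻¹) ^ k = g * permOf n w tA.1 tA.2 ^ k * g⁻¹ :=
      conj_pow
    rw [hconj, ← pow_mul, mul_comm t k] at h1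
    rw [h1]
    group
  have hgpt : ∀ k : ℕ, g (pt n (evalW w (List.replicate k tA.1) b0)) =
      (permOf n w tA.1 tA.2 ^ (k * t)) (g (pt n b0)) := by
    intro k
    rw [Helper21.pt_evalW n w hA k hb0, ← Equiv.Perm.mul_apply, hgpow k, Equiv.Perm.mul_apply]
  have hF : List.Forall₂ (fun (lv : CLevel) (k : ℕ) =>
      lv.1 = evalW w (List.replicate k tA.1) b0) rest ks :=
    Helper21.forall₂_of_map_eq (fun lv : CLevel => lv.1)
      (fun k => evalW w (List.replicate k tA.1) b0) rest ks hbase
  have himg : List.Forall₂ (fun (lv : CLevel) (y : ℕ) => (g (pt n lv.1)).val = y) rest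
      (powImgs w tA.1 (ks.map (fun k => k * t)) (g (pt n b0)).val) := by
    unfold powImgs
    rw [List.map_map, List.forall₂_map_right_iff]
    refine hF.imp ?_
    intro lv k hlk
    rw [hlk, hgpt k, Helper21.pow_val n w hA (k * t)]
    rfl
  have hmem := Helper21.excl_sound n w gens b0 tr rest hwf tA.1 (ks.map (fun k => k * t)) [] hex g
    (hcomp g hg) himg
  exact absurd hmem List.not_mem_nil

end Cfsg.Agent.Lib.Helper22.SuzOut
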