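import Cfsg.Agent.Lib.Helper28.BSGSPerm

/-!
# S2074-F6 (helper22's Out(Suz) front): a simple presented group acting by tables is isomorphic to
the group of the tables
-/

set_option autoImplicit false

namespace Cfsg.Agent.Lib.Helper22.SuzOut

open Cfsg.Agent.Lib.Helper28.BSGS

/-- [F6] a simple presented group acting by tables is isomorphic to the group of the tables -/
theorem presented_equiv_genGroup {α : Type} (Rs : Set (FreeGroup α))
    (hsimple : IsSimpleGroup (PresentedGroup Rs)) (n w : ℕ) (T : α → ℕ × ℕ) (L : List (ℕ × ℕ))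
    (hL : ∀ s, s ∈ L ↔ ∃ x, T x = s)
    (φ : PresentedGroup Rs →* Equiv.Perm (Fin n))
    (hφ : ∀ x, φ (PresentedGroup.of x) = permOf n w (T x).1 (T x).2)
    (x0 : α) (hne : permOf n w (T x0).1 (T x0).2 ≠ 1) :
    Nonempty (PresentedGroup Rs ≃* ↥(genGroup n w L)) := by
  have hinj : Function.Injective φ := by
    rw [← MonoidHom.ker_eq_bot_iff]
    rcases (MonoidHom.normal_ker φ).eq_bot_or_eq_top with h | h
    · exact h
    · exfalso
      apply hne
      rw [← hφ x0, ← MonoidHom.mem_ker, h]
      exact Subgroup.mem_top _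
  have hrange : φ.range = genGroup n w L := by
    rw [MonoidHom.range_eq_map, ← PresentedGroup.closure_range_of, MonoidHom.map_closure]
    unfold genGroup
    congr 1
    ext s
    constructor
    · rintro ⟨_, ⟨x, rfl⟩, rfl⟩
      show φ (PresentedGroup.of x) ∈ semGens n w L
      rw [hφ x]
      exact List.mem_map.mpr ⟨T x, (hL (T x)).mpr ⟨x, rfl⟩, rfl⟩
    · intro hs
      obtain ⟨g, hg, rfl⟩ := List.mem_map.mp hs
      obtain ⟨x, rfl⟩ := (hL g).mp hg
      exact ⟨PresentedGroup.of x, ⟨x, rfl⟩, hφ x⟩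
  exact ⟨(MonoidHom.ofInjective hinj).trans (MulEquiv.subgroupCongr hrange)⟩

end Cfsg.Agent.Lib.Helper22.SuzOut
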