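import Mathlib

/-!
# S2112-[S2] (helper7's front): odd-order lifts through a (central) `2`-group kernel
-/

set_option autoImplicit false

namespace Cfsg.Agent.Lib.Helper7.Sz8

universe u v

/-- [S2a] elements of odd order lift to elements of the same odd order -/
theorem exists_lift_pow_eq_one {Γ : Type u} {G : Type v} [Group Γ] [Finite Γ] [Group G] (σ : Γ →* G)
    (hs : Function.Surjective σ) (h2 : IsPGroup 2 σ.ker) (x : G) {n : ℕ} (hn : Odd n)
    (hx : x ^ n = 1) : ∃ y : Γ, σ y = x ∧ y ^ n = 1 := by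
  obtain ⟨y0, rfl⟩ := hs x
  have hker : y0 ^ n ∈ σ.ker := by rw [MonoidHom.mem_ker, map_pow, hx]
  obtain ⟨k, hk⟩ := h2 ⟨y0 ^ n, hker⟩
  have hk' : (y0 ^ n) ^ (2 ^ k) = 1 := by
    have := congrArg Subtype.val hk
    simpa using this
  have hcop : Nat.Coprime (2 ^ k) n := Nat.Coprime.pow_left k (Nat.coprime_two_left.mpr hn)
  have hb := Nat.gcd_eq_gcd_ab (2 ^ k) n
  rw [hcop.gcd_eq_one] at hb
  generalize Nat.gcdA (2 ^ k) n = A at hb
  generalize Nat.gcdB (2 ^ k) n = B at hb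
  generalize hm : 2 ^ k = m at hb hk'
  refine ⟨y0 ^ ((m : ℤ) * A), ?_, ?_⟩
  · rw [map_zpow]
    have h1 : (m : ℤ) * A = 1 - (n : ℤ) * B := by
      have : ((1 : ℕ) : ℤ) = 1 := Nat.cast_one
      rw [this] at hb
      linarith
    rw [h1, zpow_sub, zpow_one, zpow_mul, zpow_natCast, hx, one_zpow, inv_one, mul_one]
  · rw [← zpow_natCast, ← zpow_mul]
    have h1 : (m : ℤ) * A * (n : ℤ) = (n : ℤ) * (m : ℤ) * A := by ring
    rw [h1, zpow_mul, zpow_mul, zpow_natCast, zpow_natCast, hk', one_zpow]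

/-- [S2b] ... uniquely, when the kernel is central -/
theorem lift_unique {Γ : Type u} {G : Type v} [Group Γ] [Group G] (σ : Γ →* G)
    (hc : σ.ker ≤ Subgroup.center Γ) (h2 : IsPGroup 2 σ.ker) {n : ℕ} (hn : Odd n) {y y' : Γ}
    (hy : y ^ n = 1) (hy' : y' ^ n = 1) (h : σ y = σ y') : y = y' := by
  have hzker : y⁻¹ * y' ∈ σ.ker := by
    rw [MonoidHom.mem_ker, map_mul, map_inv, h, inv_mul_cancel]
  have hzc : ∀ g : Γ, g * (y⁻¹ * y') = (y⁻¹ * y') * g := Subgroup.mem_center_iff.mp (hc hzker)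
  obtain ⟨k, hk⟩ := h2 ⟨y⁻¹ * y', hzker⟩
  have hk' : (y⁻¹ * y') ^ (2 ^ k) = 1 := by
    have := congrArg Subtype.val hk
    simpa using this
  have hzn : (y⁻¹ * y') ^ n = 1 := by
    have hcomm : Commute y (y⁻¹ * y') := hzc y
    have h1 : y' = y * (y⁻¹ * y') := by group
    have h2' : y' ^ n = y ^ n * (y⁻¹ * y') ^ n := by
      conv_lhs => rw [h1]
      exact hcomm.mul_pow n
    rw [hy', hy, one_mul] at h2'
    exact h2'.symm
  have hcop : Nat.Coprime (2 ^ k) n := Nat.Coprime.pow_left k (Nat.coprime_two_left.mpr hn)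
  have hord : orderOf (y⁻¹ * y') ∣ Nat.gcd (2 ^ k) n :=
    Nat.dvd_gcd (orderOf_dvd_of_pow_eq_one hk') (orderOf_dvd_of_pow_eq_one hzn)
  rw [hcop.gcd_eq_one, Nat.dvd_one, orderOf_eq_one_iff] at hord
  exact (inv_mul_eq_one.mp hord)

end Cfsg.Agent.Lib.Helper7.Sz8
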