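import Mathlib

/-!
# S2112-[S4] (helper7's front): a central commutator `[a,b]` with `a²` central is an involution
-/

set_option autoImplicit false

namespace Cfsg.Agent.Lib.Helper7.Sz8

open scoped commutatorElement

universe u

/-- [S4] a central commutator `[a,b]` with `a²` central is an involution -/
theorem comm_sq_eq_one {Γ : Type u} [Group Γ] {a b : Γ} (hab : ⁅a, b⁆ ∈ Subgroup.center Γ)
    (ha : a * a ∈ Subgroup.center Γ) : ⁅a, b⁆ * ⁅a, b⁆ = 1 := by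
  rw [Subgroup.mem_center_iff] at hab ha
  have hz : ⁅a, b⁆ = a * b * a⁻¹ * b⁻¹ := commutatorElement_def a b
  calc ⁅a, b⁆ * ⁅a, b⁆ = ⁅a, b⁆ * (a * b * a⁻¹ * b⁻¹) := by rw [← hz]
    _ = (⁅a, b⁆ * a) * (b * a⁻¹ * b⁻¹) := by group
    _ = (a * ⁅a, b⁆) * (b * a⁻¹ * b⁻¹) := by rw [hab a]
    _ = (a * (a * b * a⁻¹ * b⁻¹)) * (b * a⁻¹ * b⁻¹) := by rw [← hz]
    _ = ((a * a) * b) * (a⁻¹ * a⁻¹ * b⁻¹) := by group
    _ = (b * (a * a)) * (a⁻¹ * a⁻¹ * b⁻¹) := by rw [ha b]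
    _ = 1 := by group

end Cfsg.Agent.Lib.Helper7.Sz8
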