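import Mathlib

/-!
# Sylow subgroups that are TI sets (helper21)
-/

set_option autoImplicit false

namespace Cfsg.Agent.Lib.Helper21

open scoped Pointwise

variable {G : Type*} [Group G] {p : ℕ}

theorem conj_smul_inf (g : G) (H K : Subgroup G) :
    MulAut.conj g • (H ⊓ K) = MulAut.conj g • H ⊓ MulAut.conj g • K := by
  ext x
  simp only [Subgroup.mem_inf, Subgroup.mem_pointwise_smul_iff_inv_smul_mem]

theorem conj_smul_bot (g : G) : MulAut.conj g • (⊥ : Subgroup G) = ⊥ := by
  simp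

/-- The TI condition on one Sylow `p`-subgroup `P` (phrased with conjugates by elements outside
`N_G(P)`) implies that any two distinct Sylow `p`-subgroups meet trivially. -/
theorem sylow_inf_eq_bot_of_ti [Finite G] [Fact p.Prime] (P : Sylow p G)
    (hTI : ∀ g : G, g ∉ Subgroup.normalizer ((P : Subgroup G) : Set G) →
      (P : Subgroup G) ⊓ (MulAut.conj g • (P : Subgroup G)) = ⊥)
    (P1 P2 : Sylow p G) (hne : P1 ≠ P2) : (P1 : Subgroup G) ⊓ (P2 : Subgroup G) = ⊥ := by
  obtain ⟨a, rfl⟩ := MulAction.exists_smul_eq G P P1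
  obtain ⟨b, rfl⟩ := MulAction.exists_smul_eq G P P2
  have hab : a⁻¹ * b ∉ Subgroup.normalizer ((P : Subgroup G) : Set G) := by
    intro h
    apply hne
    have h1 : (a⁻¹ * b) • P = P := Sylow.smul_eq_iff_mem_normalizer.mpr h
    rw [mul_smul] at h1
    have h2 := congrArg (fun Q : Sylow p G => a • Q) h1
    simp only [smul_inv_smul] at h2
    exact h2.symm
  have h1 := hTI _ hab
  have h2 : (↑(a • P) : Subgroup G) ⊓ ↑(b • P) = MulAut.conj a • ((P : Subgroup G) ⊓ MulAut.conj (a⁻¹ * b) • (P : Subgroup G)) := by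
    rw [conj_smul_inf, Sylow.coe_subgroup_smul, Sylow.coe_subgroup_smul, smul_smul, ← map_mul]
    congr 3
    group
  rw [h2, h1, conj_smul_bot]

/-- Conversely. -/
theorem ti_of_sylow_inf_eq_bot [Finite G] [Fact p.Prime]
    (h : ∀ P1 P2 : Sylow p G, P1 ≠ P2 → (P1 : Subgroup G) ⊓ (P2 : Subgroup G) = ⊥) (P : Sylow p G)
    (g : G) (hg : g ∉ Subgroup.normalizer ((P : Subgroup G) : Set G)) :
    (P : Subgroup G) ⊓ (MulAut.conj g • (P : Subgroup G)) = ⊥ := by
  have hne : P ≠ g • P := by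
    intro h1
    exact hg (Sylow.smul_eq_iff_mem_normalizer.mp h1.symm)
  have := h P (g • P) hne
  rwa [Sylow.coe_subgroup_smul] at this

end Cfsg.Agent.Lib.Helper21
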