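import Cfsg.Agent.Lib.Helper27.TreeDefs

/-!
# S2079-T2 (helper27's Out(Fi22) front): sifting base images through Schreier trees

`treeSift_sound`: for an element that sifts through the semantic chain, the base-image sifting succeeds
and returns a word of tables through which the inverse acts; `eq_of_imgs`: two sifting elements with
the same base images are equal.
-/

set_option autoImplicit false

namespace Cfsg.Agent.Lib.Helper27.TreeSift

open Cfsg.Agent.Lib.Helper28.BSGS Cfsg.Agent.Lib.Helper22.SuzOut MulAction

namespace Helper21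

theorem walkOK_zero (n w : ℕ) (gens : List (ℕ × ℕ)) (prev : List ℕ) (b sv x : ℕ) :
    walkOK n w gens prev b sv 0 x = false := rfl

theorem walkOK_succ (n w : ℕ) (gens : List (ℕ × ℕ)) (prev : List ℕ) (b sv f x : ℕ) :
    walkOK n w gens prev b sv (f + 1) x =
      Nat.casesOn (motive := fun _ => Bool) (look w sv x) false
      (fun k => Nat.casesOn (motive := fun _ => Bool) k (Nat.beq x b)
        (fun c => Nat.blt (c / 2) gens.length &&
          prev.all (fun p => Nat.beq (look w (fwdT gens c) p) p) &&
          Nat.blt (look w (bwdT gens c) x) n &&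
          walkOK n w gens prev b sv f (look w (bwdT gens c) x))) := rfl

theorem walkOK_succ_zero {n w : ℕ} {gens : List (ℕ × ℕ)} {prev : List ℕ} {b sv f x : ℕ}
    (h : look w sv x = 0) : walkOK n w gens prev b sv (f + 1) x = false := by
  rw [walkOK_succ, h]; rfl

theorem walkOK_succ_one {n w : ℕ} {gens : List (ℕ × ℕ)} {prev : List ℕ} {b sv f x : ℕ}
    (h : look w sv x = 1) : walkOK n w gens prev b sv (f + 1) x = Nat.beq x b := by
  rw [walkOK_succ, h]; rfl

theorem walkOK_succ_two {n w : ℕ} {gens : List (ℕ × ℕ)} {prev : List ℕ} {b sv f x c : ℕ}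
    (h : look w sv x = c + 2) : walkOK n w gens prev b sv (f + 1) x =
      (Nat.blt (c / 2) gens.length &&
          prev.all (fun p => Nat.beq (look w (fwdT gens c) p) p) &&
          Nat.blt (look w (bwdT gens c) x) n &&
          walkOK n w gens prev b sv f (look w (bwdT gens c) x)) := by
  rw [walkOK_succ, h]

theorem walk_zero (w : ℕ) (gens : List (ℕ × ℕ)) (sv x : ℕ) (ws : List ℕ) :
    walk w gens sv 0 x ws = none := rfl

theorem walk_succ (w : ℕ) (gens : List (ℕ × ℕ)) (sv f x : ℕ) (ws : List ℕ) :
    walk w gens sv (f + 1) x ws =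
      Nat.casesOn (motive := fun _ => Option (List ℕ)) (look w sv x) none
      (fun k => Nat.casesOn (motive := fun _ => Option (List ℕ)) k (some ws)
        (fun c => walk w gens sv f (look w (bwdT gens c) x) (bwdT gens c :: ws))) := rfl

theorem walk_succ_one {w : ℕ} {gens : List (ℕ × ℕ)} {sv f x : ℕ} {ws : List ℕ}
    (h : look w sv x = 1) : walk w gens sv (f + 1) x ws = some ws := by
  rw [walk_succ, h]; rfl

theorem walk_succ_two {w : ℕ} {gens : List (ℕ × ℕ)} {sv f x c : ℕ} {ws : List ℕ}
    (h : look w sv x = c + 2) : walk w gens sv (f + 1) x ws =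
      walk w gens sv f (look w (bwdT gens c) x) (bwdT gens c :: ws) := by
  rw [walk_succ, h]

theorem uT_succ_one {n w : ℕ} {gens : List (ℕ × ℕ)} {sv f x : ℕ}
    (h : look w sv x = 1) : uT n w gens sv (f + 1) x = 1 := by
  rw [uT, h]

theorem uT_succ_two {n w : ℕ} {gens : List (ℕ × ℕ)} {sv f x c : ℕ}
    (h : look w sv x = c + 2) : uT n w gens sv (f + 1) x =
      letterPerm n w gens c * uT n w gens sv f (look w (bwdT gens c) x) := by
  rw [uT, h]


/-- walking from a good point to the root: the word found acts as the inverse transversal element -/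
theorem walk_spec (n w : ℕ) [NeZero n] (gens : List (ℕ × ℕ)) (hg : gensOK n w gens = true)
    (prev : List ℕ) (b sv : ℕ) :
    ∀ (fuel x : ℕ) (ws : List ℕ) (q : Equiv.Perm (Fin n)),
      walkOK n w gens prev b sv fuel x = true → ActsByW n w q ws →
      ∃ ws', walk w gens sv fuel x ws = some ws' ∧
        ActsByW n w ((uT n w gens sv fuel x)⁻¹ * q) ws' := by
  intro fuel
  induction fuel with
  | zero =>
    intro x ws q h _
    rw [walkOK_zero] at h
    exact absurd h Bool.false_ne_true
  | succ f ih =>
    intro x ws q h hq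
    match hl : look w sv x with
    | 0 =>
      rw [walkOK_succ_zero hl] at h
      exact absurd h Bool.false_ne_true
    | 1 =>
      rw [walk_succ_one hl, uT_succ_one hl, inv_one, one_mul]
      exact ⟨ws, rfl, hq⟩
    | c + 2 =>
      rw [walkOK_succ_two hl] at h
      simp only [Bool.and_eq_true] at h
      obtain ⟨⟨⟨h1, _⟩, _⟩, h4⟩ := h
      have hc : c / 2 < gens.length := Nat.blt_eq.mp h1
      have hq' : ActsByW n w ((letterPerm n w gens c)⁻¹ * q) (bwdT gens c :: ws) :=
        actsByW_cons (fun a => (letterPerm_spec n w gens hg hc a).2) hq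
      obtain ⟨ws', hw, hact⟩ := ih (look w (bwdT gens c) x) (bwdT gens c :: ws) _ h4 hq'
      refine ⟨ws', ?_, ?_⟩
      · rw [walk_succ_two hl]
        exact hw
      · rw [uT_succ_two hl, mul_inv_rev, mul_assoc]
        exact hact

/-- the generalised induction: `q` is the product of the inverse transversal elements found so far -/
theorem treeSift_aux (n w : ℕ) [NeZero n] (gens : List (ℕ × ℕ)) (fuel : ℕ)
    (hg : gensOK n w gens = true) :
    ∀ (levels : List TLevel) (prev : List ℕ) (ws : List ℕ) (q z : Equiv.Perm (Fin n))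
      (imgs : List ℕ),
      chainOKT n w gens fuel prev levels = true → ActsByW n w q ws →
      Sifts (semTs n w gens fuel levels) (q * z) →
      List.Forall₂ (fun (lv : TLevel) (y : ℕ) => (z (pt n lv.1)).val = y) levels imgs →
      ∃ ws', treeSift w gens fuel levels imgs ws = some ws' ∧
        ∃ q' : Equiv.Perm (Fin n), ActsByW n w q' ws' ∧ q' * z = 1 := by
  intro levels
  induction levels with
  | nil =>
    intro prev ws q z imgs _ hq hs _
    exact ⟨ws, treeSift_nil w gens fuel imgs ws, q, hq, hs⟩
  | cons lv rest ih =>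
    intro prev ws q z imgs hc hq hs himg
    cases himg with
    | cons hy hrest =>
      rename_i y ys
      have hc' : (levelOKT n w gens fuel prev lv &&
          chainOKT n w gens fuel (lv.1 :: prev) rest) = true := hc
      rw [Bool.and_eq_true] at hc'
      obtain ⟨hlv, hrestc⟩ := hc'
      unfold levelOKT at hlv
      simp only [Bool.and_eq_true] at hlv
      obtain ⟨_, hall⟩ := hlv
      obtain ⟨hmem, hs'⟩ : (q * z) • (pt n lv.1) ∈ (orbT n w lv.2).map (pt n) ∧
          Sifts (semTs n w gens fuel rest)
            ((uT n w gens lv.2 fuel ((q * z) • (pt n lv.1)).val)⁻¹ * (q * z)) := hs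
      obtain ⟨v, hv, hvpt⟩ := List.mem_map.mp hmem
      unfold orbT at hv
      rw [List.mem_filter, List.mem_range] at hv
      obtain ⟨hvn, hvne⟩ := hv
      have hval : ((q * z) • (pt n lv.1)).val = evalW w ws y := by
        rw [Equiv.Perm.smul_def, Equiv.Perm.mul_apply, hq, hy]
      have hvx : v = evalW w ws y := by
        rw [← hval, ← hvpt, pt_val n hvn]
      have hwalk : walkOK n w gens prev lv.1 lv.2 fuel v = true := by
        have := allBelow_spec hall v hvn
        rw [Bool.or_eq_true] at this
        rcases this with h0 | h1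
        · rw [h0] at hvne
          exact absurd hvne (by decide)
        · exact h1
      obtain ⟨ws1, hw1, hact1⟩ := walk_spec n w gens hg prev lv.1 lv.2 fuel v ws q hwalk hq
      rw [hval, ← hvx, ← mul_assoc] at hs'
      obtain ⟨ws', hws', q', hq', hq'z⟩ := ih (lv.1 :: prev) ws1 _ z ys hrestc hact1 hs' hrest
      refine ⟨ws', ?_, q', hq', hq'z⟩
      rw [treeSift_cons_cons, ← hvx, hw1]
      exact hws'

end Helper21

/-- T2a: base-image sifting is complete for sifting elements and yields the inverse as a word -/
theorem treeSift_sound (n w : ℕ) [NeZero n] (gens : List (ℕ × ℕ)) (fuel : ℕ)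
    (hg : gensOK n w gens = true) (levels : List TLevel) (prev : List ℕ)
    (h : chainOKT n w gens fuel prev levels = true)
    (z : Equiv.Perm (Fin n)) (hs : Sifts (semTs n w gens fuel levels) z) (imgs : List ℕ)
    (himg : List.Forall₂ (fun (lv : TLevel) (y : ℕ) => (z (pt n lv.1)).val = y) levels imgs) :
    ∃ ws, treeSift w gens fuel levels imgs [] = some ws ∧ ActsByW n w z⁻¹ ws := by
  have hs' : Sifts (semTs n w gens fuel levels) (1 * z) := by rw [one_mul]; exact hs
  obtain ⟨ws, hws, q', hq', hq'z⟩ := Helper21.treeSift_aux n w gens fuel hg levels prev [] 1 z imgs h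
    (actsByW_one n w) hs' himg
  refine ⟨ws, hws, ?_⟩
  have : q' = z⁻¹ := eq_inv_of_mul_eq_one_left hq'z
  rw [← this]
  exact hq'

/-- T2b: two sifting elements with the same base images are equal -/
theorem eq_of_imgs (n w : ℕ) [NeZero n] (gens : List (ℕ × ℕ)) (fuel : ℕ)
    (hg : gensOK n w gens = true) (levels : List TLevel) (prev : List ℕ)
    (h : chainOKT n w gens fuel prev levels = true)
    (z z' : Equiv.Perm (Fin n)) (hs : Sifts (semTs n w gens fuel levels) z)
    (hs' : Sifts (semTs n w gens fuel levels) z') (imgs : List ℕ)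
    (himg : List.Forall₂ (fun (lv : TLevel) (y : ℕ) => (z (pt n lv.1)).val = y) levels imgs)
    (himg' : List.Forall₂ (fun (lv : TLevel) (y : ℕ) => (z' (pt n lv.1)).val = y) levels imgs) :
    z = z' := by
  obtain ⟨ws, hws, hact⟩ := treeSift_sound n w gens fuel hg levels prev h z hs imgs himg
  obtain ⟨ws', hws', hact'⟩ := treeSift_sound n w gens fuel hg levels prev h z' hs' imgs himg'
  rw [hws] at hws'
  have hww : ws = ws' := Option.some.inj hws'
  subst hww
  have hinv : z⁻¹ = z'⁻¹ := by
    apply Equiv.ext
    intro a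
    apply Fin.ext
    rw [hact a, hact' a]
  exact inv_injective hinv

end Cfsg.Agent.Lib.Helper27.TreeSift
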