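import Mathlib

/-!
# Two primes in `(n/2, n]` (a strengthening of Bertrand's postulate)

`exists_two_primes`: for `11 ≤ n` there are primes `p < q ≤ n < 2 * p`.
The proof follows Mathlib's proof of Bertrand's postulate, allowing one prime in `(n, 2n]`.
-/

namespace Cfsg.Agent.Lib.Helper21.TwoPrimes

open Nat

theorem pow_ineq (L : ℕ) (hL : 12 ≤ L) : (3 * L + 2) ^ 2 ≤ 2 ^ (L - 1) := by
  induction L, hL using Nat.le_induction with
  | base => norm_num
  | succ L hL ih =>
    have h1 : L + 1 - 1 = (L - 1) + 1 := by omega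
    rw [h1, pow_succ 2 (L - 1)]
    have h2 : 12 * L ≤ L * L := Nat.mul_le_mul_right L hL
    nlinarith [ih, h2]

/-- The main numeric inequality with one extra factor `2 * n`. -/
theorem main_ineq (n : ℕ) (hn : 1024 ≤ n) :
    n * ((2 * n) ^ Nat.sqrt (2 * n) * 4 ^ (2 * n / 3) * (2 * n)) ≤ 4 ^ n := by
  set s := Nat.sqrt (2 * n) with hs
  set k := 2 * n / 3 with hk
  set L := Nat.log 2 (2 * n) + 1 with hLdef
  have h2n : 2 * n ≠ 0 := by omega
  have hlt : 2 * n < 2 ^ L := Nat.lt_pow_succ_log_self (by norm_num) (2 * n)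
  have hle : 2 ^ (L - 1) ≤ 2 * n := by
    have : L - 1 = Nat.log 2 (2 * n) := by omega
    rw [this]; exact Nat.pow_log_le_self 2 h2n
  have hL12 : 12 ≤ L := by
    have : 11 ≤ Nat.log 2 (2 * n) := Nat.le_log_of_pow_le (by norm_num) (by norm_num; omega)
    omega
  have hpow := pow_ineq L hL12
  have hs1 : 2 * n < (s + 1) ^ 2 := Nat.lt_succ_sqrt' (2 * n)
  have hs2 : s ^ 2 ≤ 2 * n := Nat.sqrt_le' (2 * n)
  have hsL : 3 * L + 2 ≤ s := by
    by_contra hcon
    have h1 : s + 1 ≤ 3 * L + 2 := by omega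
    have h2 : (s + 1) ^ 2 ≤ (3 * L + 2) ^ 2 := Nat.pow_le_pow_left h1 2
    omega
  have hkey : 3 * (L * (s + 2)) ≤ 2 * n := by
    have : 3 * (L * (s + 2)) ≤ s ^ 2 := by nlinarith
    omega
  have hexp : L * (s + 2) + 2 * k ≤ 2 * n := by
    have h3k : 3 * k ≤ 2 * n := by rw [hk]; exact Nat.mul_div_le (2 * n) 3
    omega
  calc n * ((2 * n) ^ s * 4 ^ k * (2 * n))
      = (n * (2 * n) ^ s * (2 * n)) * 4 ^ k := by ring
    _ ≤ ((2 * n) * (2 * n) ^ s * (2 * n)) * 4 ^ k := by
        gcongr
        omega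
    _ = (2 * n) ^ (s + 2) * 4 ^ k := by ring
    _ ≤ (2 ^ L) ^ (s + 2) * 4 ^ k := by
        gcongr
    _ = 2 ^ (L * (s + 2) + 2 * k) := by
        rw [← pow_mul, show (4 : ℕ) = 2 ^ 2 by norm_num, ← pow_mul, ← pow_add]
    _ ≤ 2 ^ (2 * n) := Nat.pow_le_pow_right (by norm_num) hexp
    _ = 4 ^ n := by rw [pow_mul]; norm_num

/-- The part of the factorisation of the central binomial coefficient over primes `≤ 2n/3`
(copied from Mathlib's proof of Bertrand's postulate). -/
theorem small_part (n : ℕ) (n_pos : 0 < n) :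
    ∏ p ∈ Finset.range (2 * n / 3 + 1), p ^ (centralBinom n).factorization p ≤
      (2 * n) ^ Nat.sqrt (2 * n) * 4 ^ (2 * n / 3) := by
  have n2_pos : 1 ≤ 2 * n := mul_pos (zero_lt_two' ℕ) n_pos
  let S := {p ∈ Finset.range (2 * n / 3 + 1) | Nat.Prime p}
  let f x := x ^ n.centralBinom.factorization x
  have : ∏ x ∈ S, f x = ∏ x ∈ Finset.range (2 * n / 3 + 1), f x := by
    refine Finset.prod_filter_of_ne fun p _ h => ?_
    contrapose h; dsimp only [f]
    rw [factorization_eq_zero_of_not_prime n.centralBinom h, _root_.pow_zero]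
  change ∏ x ∈ Finset.range (2 * n / 3 + 1), f x ≤ _
  rw [← this, ← Finset.prod_filter_mul_prod_filter_not S (· ≤ Nat.sqrt (2 * n))]
  apply mul_le_mul'
  · refine (Finset.prod_le_prod' fun p _ => (?_ : f p ≤ 2 * n)).trans ?_
    · exact pow_factorization_choose_le (mul_pos two_pos n_pos)
    have : (Finset.Icc 1 (Nat.sqrt (2 * n))).card = Nat.sqrt (2 * n) := by
      rw [card_Icc, Nat.add_sub_cancel]
    rw [Finset.prod_const]
    refine pow_right_mono₀ n2_pos ((Finset.card_le_card fun x hx => ?_).trans this.le)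
    obtain ⟨h1, h2⟩ := Finset.mem_filter.1 hx
    exact Finset.mem_Icc.mpr ⟨(Finset.mem_filter.1 h1).2.one_lt.le, h2⟩
  · refine le_trans ?_ (primorial_le_four_pow (2 * n / 3))
    refine (Finset.prod_le_prod' fun p hp => (?_ : f p ≤ p)).trans ?_
    · obtain ⟨h1, h2⟩ := Finset.mem_filter.1 hp
      refine (pow_right_mono₀ (Finset.mem_filter.1 h1).2.one_lt.le ?_).trans (pow_one p).le
      exact Nat.factorization_choose_le_one (sqrt_lt'.mp <| not_le.1 h2)
    refine Finset.prod_le_prod_of_subset_of_one_le' (Finset.filter_subset _ _) ?_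
    exact fun p hp _ => (Finset.mem_filter.1 hp).2.one_lt.le

/-- If `p0` is the only prime in `(n, 2n]`, the central binomial coefficient is small. -/
theorem centralBinom_le_of_unique (n : ℕ) (n_large : 2 < n) (p0 : ℕ) (hp0 : n < p0) (hp0' : p0 ≤ 2 * n)
    (huniq : ∀ p : ℕ, p.Prime → n < p → p ≤ 2 * n → p = p0) :
    centralBinom n ≤ (2 * n) ^ Nat.sqrt (2 * n) * 4 ^ (2 * n / 3) * (2 * n) := by
  have n_pos : 0 < n := by omega
  let f : ℕ → ℕ := fun x => x ^ (centralBinom n).factorization x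
  have hsplit : (∏ x ∈ Finset.range (2 * n / 3 + 1), f x) * ∏ x ∈ Finset.Ico (2 * n / 3 + 1) (2 * n + 1), f x
      = centralBinom n := by
    rw [Finset.prod_range_mul_prod_Ico f (by omega : 2 * n / 3 + 1 ≤ 2 * n + 1)]
    exact n.prod_pow_factorization_centralBinom
  have hIco : ∏ x ∈ Finset.Ico (2 * n / 3 + 1) (2 * n + 1), f x = f p0 := by
    apply Finset.prod_eq_single p0
    · intro b hb hbne
      rw [Finset.mem_Ico] at hb
      show b ^ (centralBinom n).factorization b = 1
      by_cases hbp : b.Prime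
      · have hbn : b ≤ n := by
          by_contra hcon
          exact hbne (huniq b hbp (by omega) (by omega))
        have h3 : 2 * n < 3 * b := by omega
        rw [factorization_centralBinom_of_two_mul_self_lt_three_mul n_large hbn h3, pow_zero]
      · rw [factorization_eq_zero_of_not_prime n.centralBinom hbp, pow_zero]
    · intro hnot
      exfalso; apply hnot
      rw [Finset.mem_Ico]; omega
  have hf0 : f p0 ≤ 2 * n := pow_factorization_choose_le (mul_pos two_pos n_pos)
  rw [← hsplit, hIco]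
  exact Nat.mul_le_mul (small_part n n_pos) hf0

/-- Two primes in `(n, 2n]` for `n ≥ 1024`. -/
theorem two_primes_large (n : ℕ) (hn : 1024 ≤ n) :
    ∃ p q : ℕ, p.Prime ∧ q.Prime ∧ n < p ∧ p < q ∧ q ≤ 2 * n := by
  obtain ⟨p0, hp0, hlt, hle⟩ := Nat.exists_prime_lt_and_le_two_mul n (by omega)
  by_contra hcon
  push Not at hcon
  have huniq : ∀ p : ℕ, p.Prime → n < p → p ≤ 2 * n → p = p0 := by
    intro p hp h1 h2
    rcases lt_trichotomy p p0 with h | h | h
    · have := hcon p p0 hp hp0 h1 h; omega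
    · exact h
    · have := hcon p0 p hp0 hp hlt h; omega
  have key := centralBinom_le_of_unique n (by omega) p0 hlt hle huniq
  have h4 : 4 ^ n < n * centralBinom n := Nat.four_pow_lt_mul_centralBinom n (by omega)
  have h5 : n * centralBinom n ≤ 4 ^ n := (Nat.mul_le_mul_left n key).trans (main_ineq n hn)
  omega

theorem two_primes_small (n : ℕ) (h11 : 11 ≤ n) (h : n < 2186) :
    ∃ p q : ℕ, p.Prime ∧ q.Prime ∧ p < q ∧ q ≤ n ∧ n < 2 * p := by
  rcases Nat.lt_or_ge n 13 with h1 | h1
  · exact ⟨7, 11, by norm_num, by norm_num, by norm_num, by omega, by omega⟩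
  rcases Nat.lt_or_ge n 19 with h2 | h2
  · exact ⟨11, 13, by norm_num, by norm_num, by norm_num, by omega, by omega⟩
  rcases Nat.lt_or_ge n 23 with h3 | h3
  · exact ⟨13, 19, by norm_num, by norm_num, by norm_num, by omega, by omega⟩
  rcases Nat.lt_or_ge n 37 with h4 | h4
  · exact ⟨19, 23, by norm_num, by norm_num, by norm_num, by omega, by omega⟩
  rcases Nat.lt_or_ge n 43 with h5 | h5
  · exact ⟨23, 37, by norm_num, by norm_num, by norm_num, by omega, by omega⟩
  rcases Nat.lt_or_ge n 73 with h6 | h6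
  · exact ⟨37, 43, by norm_num, by norm_num, by norm_num, by omega, by omega⟩
  rcases Nat.lt_or_ge n 83 with h7 | h7
  · exact ⟨43, 73, by norm_num, by norm_num, by norm_num, by omega, by omega⟩
  rcases Nat.lt_or_ge n 139 with h8 | h8
  · exact ⟨73, 83, by norm_num, by norm_num, by norm_num, by omega, by omega⟩
  rcases Nat.lt_or_ge n 163 with h9 | h9
  · exact ⟨83, 139, by norm_num, by norm_num, by norm_num, by omega, by omega⟩
  rcases Nat.lt_or_ge n 277 with h10 | h10
  · exact ⟨139, 163, by norm_num, by norm_num, by norm_num, by omega, by omega⟩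
  rcases Nat.lt_or_ge n 317 with h12 | h12
  · exact ⟨163, 277, by norm_num, by norm_num, by norm_num, by omega, by omega⟩
  rcases Nat.lt_or_ge n 547 with h13 | h13
  · exact ⟨277, 317, by norm_num, by norm_num, by norm_num, by omega, by omega⟩
  rcases Nat.lt_or_ge n 631 with h14 | h14
  · exact ⟨317, 547, by norm_num, by norm_num, by norm_num, by omega, by omega⟩
  rcases Nat.lt_or_ge n 1093 with h15 | h15
  · exact ⟨547, 631, by norm_num, by norm_num, by norm_num, by omega, by omega⟩
  rcases Nat.lt_or_ge n 1259 with h16 | h16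
  · exact ⟨631, 1093, by norm_num, by norm_num, by norm_num, by omega, by omega⟩
  · exact ⟨1093, 1259, by norm_num, by norm_num, by norm_num, by omega, by omega⟩

/-- For `n ≥ 11` there are two primes `p < q` in `(n/2, n]`. -/
theorem exists_two_primes (n : ℕ) (hn : 11 ≤ n) :
    ∃ p q : ℕ, p.Prime ∧ q.Prime ∧ p < q ∧ q ≤ n ∧ n < 2 * p := by
  rcases Nat.lt_or_ge n 2186 with h | h
  · exact two_primes_small n hn h
  · obtain ⟨p, q, hp, hq, h1, h2, h3⟩ := two_primes_large (n / 2) (by omega)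
    exact ⟨p, q, hp, hq, h2, by omega, by omega⟩

end Cfsg.Agent.Lib.Helper21.TwoPrimes
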