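import Mathlib

/-!
# S2090 piece [PF] (helper21): a central extension of a perfect group generated by elements of order
dividing `m`, with `m` prime to the order of the kernel, is perfect
-/

set_option autoImplicit false

namespace Cfsg.Agent.Lib.Helper4.U43M

/-- [PF] a central extension of a perfect group, generated by elements of order dividing `m` prime to the
order of the kernel, is perfect; in particular the kernel lies in the commutator subgroup. -/
theorem ker_le_commutator_of_pow {W P : Type*} [Group W] [Group P] (τ : W →* P)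
    (hs : Function.Surjective τ) (hP : commutator P = ⊤) (hc : τ.ker ≤ Subgroup.center W)
    [Finite τ.ker] (m : ℕ) (hcop : Nat.Coprime (Nat.card τ.ker) m)
    (S : Set W) (hS : Subgroup.closure S = ⊤) (hm : ∀ s ∈ S, s ^ m = 1) :
    τ.ker ≤ commutator W := by
  have hmap : (commutator W).map τ = ⊤ := by
    rw [commutator_def, Subgroup.map_commutator, ← MonoidHom.range_eq_map,
      MonoidHom.range_eq_top.mpr hs, ← commutator_def, hP]
  have hSN : S ⊆ (commutator W : Set W) := by
    intro s hs'
    have hmem : τ s ∈ (commutator W).map τ := by rw [hmap]; exact Subgroup.mem_top _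
    obtain ⟨c, hcN, hcs⟩ := hmem
    have hz : s * c⁻¹ ∈ τ.ker := by
      rw [MonoidHom.mem_ker, map_mul, map_inv, hcs, mul_inv_cancel]
    have hzc : s * c⁻¹ ∈ Subgroup.center W := hc hz
    have hsz : s = (s * c⁻¹) * c := by group
    have hcomm : Commute (s * c⁻¹) c := (Subgroup.mem_center_iff.mp hzc c).symm
    have hpow : (s * c⁻¹) ^ m * c ^ m = 1 := by
      rw [← hcomm.mul_pow, ← hsz]; exact hm s hs'
    have hzm : (s * c⁻¹) ^ m ∈ commutator W := by
      have h1 : (s * c⁻¹) ^ m = (c ^ m)⁻¹ := eq_inv_of_mul_eq_one_left hpow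
      rw [h1]; exact Subgroup.inv_mem _ (Subgroup.pow_mem _ hcN m)
    have hzcard : (s * c⁻¹) ^ (Nat.card τ.ker) = 1 := by
      have h1 := pow_card_eq_one' (x := (⟨s * c⁻¹, hz⟩ : τ.ker))
      have h2 := congrArg Subtype.val h1
      simpa using h2
    have hzN : s * c⁻¹ ∈ commutator W := by
      have hg := Nat.gcd_eq_gcd_ab (Nat.card τ.ker) m
      rw [Nat.Coprime.gcd_eq_one hcop] at hg
      have h1 : s * c⁻¹ = ((s * c⁻¹) ^ m) ^ (Nat.gcdB (Nat.card τ.ker) m) := by
        rw [← zpow_natCast, ← zpow_mul]
        have h2 : (m : ℤ) * Nat.gcdB (Nat.card τ.ker) m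
            = 1 - (Nat.card τ.ker : ℤ) * Nat.gcdA (Nat.card τ.ker) m := by
          push_cast at hg
          linarith
        rw [h2, zpow_sub, zpow_one, zpow_mul, zpow_natCast, hzcard, one_zpow, inv_one, mul_one]
      rw [h1]
      exact Subgroup.zpow_mem _ hzm _
    rw [hsz]
    exact Subgroup.mul_mem _ hzN hcN
  have htop : commutator W = ⊤ := by
    rw [eq_top_iff, ← hS, Subgroup.closure_le]; exact hSN
  rw [htop]; exact le_top

end Cfsg.Agent.Lib.Helper4.U43M
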